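import Mathlib
import Cfsg.Prelude.Def_ChevG2
import Cfsg.Agent.Lib.Helper72.F4

/-!
# Data and definitions for S1679 (`<a,...,f> = G2(4)` in the presented Suzuki group)

Six involutions `A 0, ..., A 5` of `GL(14, F4)` (rows/columns: `h_1, h_2, e_0, ..., e_11`, the frozen basis of
`Cfsg.Lie.chevG2`) satisfying the relators of the Suzuki presentation on `a, ..., f`, and words in them for all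
root elements `x_r(t)`.
-/

set_option autoImplicit false
set_option maxRecDepth 100000

namespace Cfsg.Agent.Helper92.G24

/-- the field with four elements (helper72's computable model) -/
abbrev F : Type := Cfsg.Agent.Helper72.F4

/-- the Chevalley datum of type `G2` -/
abbrev D : Cfsg.Lie.ChevalleyDatum := Cfsg.Lie.chevG2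

/-- the element of `F4` with code `d` (`0, 1, 2, 3` for `0, 1, w, w + 1`) -/
def fc (d : ℕ) : F := Cfsg.Agent.Helper72.F4.ofCode d

/-- the position `0..13` of a coordinate index -/
def ix : D.Idx → ℕ := Sum.elim (fun i => i.val) (fun s => 2 + s.val)

/-- the matrix of the generator `a` (rows of codes) -/
def mat0 : List (List ℕ) := [[1, 0, 1, 1, 0, 0, 0, 0, 0, 0, 0, 0, 0, 0], [0, 1, 0, 1, 0, 0, 0, 0, 0, 0, 0, 0, 0, 0], [0, 0, 1, 0, 0, 0, 0, 0, 0, 0, 0, 0, 0, 0], [0, 0, 0, 1, 0, 0, 0, 0, 0, 0, 0, 0, 0, 0], [0, 0, 0, 0, 1, 0, 0, 0, 0, 0, 0, 0, 0, 0], [0, 0, 0, 0, 0, 1, 0, 0, 0, 0, 0, 0, 0, 0], [0, 0, 0, 0, 0, 0, 1, 0, 0, 0, 0, 0, 0, 0], [0,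 0, 1, 0, 0, 0, 0, 1, 0, 0, 0, 0, 0, 0], [0, 0, 0, 1, 0, 0, 0, 0, 1, 0, 0, 0, 0, 0], [0, 0, 0, 0, 1, 0, 0, 0, 0, 1, 0, 0, 0, 0], [0, 0, 0, 0, 1, 0, 0, 0, 0, 0, 1, 0, 0, 0], [0, 0, 0, 0, 0, 1, 1, 0, 0, 0, 0, 1, 0, 0], [1, 1, 1, 1, 0, 0, 0, 1, 0, 0, 0, 0, 1, 0], [0, 1, 1, 1, 0, 0, 0, 0, 1, 0, 0, 0, 0, 1]]

/-- the matrix of the generator `b` (rows of codes) -/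
def mat1 : List (List ℕ) := [[3, 3, 3, 3, 3, 1, 3, 3, 2, 0, 2, 1, 2, 3], [1, 3, 1, 0, 0, 0, 1, 0, 0, 0, 0, 0, 0, 1], [1, 3, 1, 0, 1, 1, 1, 1, 1, 0, 3, 3, 3, 1], [0, 2, 1, 1, 1, 1, 0, 1, 2, 0, 2, 2, 2, 3], [0, 1, 1, 2, 2, 1, 3, 1, 3, 3, 3, 2, 2, 3], [0, 2, 1, 3, 1, 3, 2, 1, 3, 0, 2, 3, 2, 3], [0, 0, 0, 2, 0, 2, 0, 0, 3, 0, 0, 3, 0, 0], [0, 2, 0, 1, 2, 3, 1, 1, 1, 3, 3, 3, 2, 1], [0, 3, 2, 3, 3, 3, 0, 3, 1, 0, 1, 1, 1, 1], [1, 3, 1, 1, 3, 2, 1, 0, 1, 0, 2, 3, 0, 1], [0, 1, 2, 2, 2, 3, 2, 3, 3, 2, 3, 1, 1, 1], [0, 3, 2, 2, 3, 2, 3, 3, 2, 0, 1, 2, 1, 1], [0, 3, 1, 1, 2, 2, 1, 3, 1, 2, 3, 2, 1, 0], [1, 3, 1, 1, 2, 2, 1, 2, 0, 0, 1, 1, 1, 1]]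

/-- the matrix of the generator `c` (rows of codes) -/
def mat2 : List (List ℕ) := [[1, 0, 1, 0, 0, 0, 0, 0, 0, 0, 0, 0, 0, 0], [0, 1, 0, 0, 0, 0, 0, 0, 0, 0, 0, 0, 0, 0], [0, 0, 1, 0, 0, 0, 0, 0, 0, 0, 0, 0, 0, 0], [0, 0, 0, 1, 0, 0, 0, 0, 0, 0, 0, 0, 0, 0], [0, 0, 0, 0, 1, 0, 0, 0, 0, 0, 0, 0, 0, 0], [0, 0, 0, 0, 0, 1, 0, 0, 0, 0, 0, 0, 0, 0], [0, 0, 0, 0, 0, 0, 1, 0, 0, 0, 0, 0, 0, 0], [0, 0, 0, 0, 0, 0, 0, 1, 0, 0, 0, 0, 0, 0], [0, 0, 0, 1, 0, 0, 0, 0, 1, 0, 0, 0, 0, 0], [0, 0, 0, 0, 0, 0, 0, 0, 0, 1, 0, 0, 0, 0], [0, 0, 0, 0, 1, 0, 0, 0, 0, 0, 1, 0, 0, 0], [0, 0, 0, 0, 0, 1, 0, 0, 0, 0, 0, 1, 0, 0], [0, 0, 0, 0, 0, 0, 0, 1, 0, 0, 0, 0,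 1, 0], [0, 1, 1, 0, 0, 0, 0, 0, 0, 0, 0, 0, 0, 1]]

/-- the matrix of the generator `d` (rows of codes) -/
def mat3 : List (List ℕ) := [[0, 1, 1, 1, 0, 0, 0, 1, 0, 0, 0, 0, 0, 0], [0, 0, 1, 1, 0, 0, 0, 1, 1, 0, 0, 0, 1, 1], [1, 0, 0, 0, 0, 0, 0, 1, 1, 0, 0, 0, 0, 0], [1, 0, 1, 1, 0, 0, 0, 1, 1, 0, 0, 0, 0, 0], [0, 0, 0, 0, 0, 1, 1, 0, 0, 0, 0, 0, 0, 0], [0, 0, 0, 0, 0, 0, 0, 0, 0, 1, 1, 0, 0, 0], [0, 0, 0, 0, 1, 0, 0, 0, 0, 1, 1, 0, 0, 0], [1, 0, 0, 0, 0, 0, 0, 1, 1, 0, 0, 0, 1, 1], [1, 1, 0, 1, 0, 0, 0, 0, 1, 0, 0, 0, 1, 1], [0, 0, 0, 0, 0, 1, 1, 0, 0, 0, 0, 1, 0, 0], [0, 0, 0, 0, 0, 0, 1, 0, 0, 0, 0, 1, 0, 0], [0, 0, 0, 0, 1, 0, 0, 0, 0, 1,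 0, 0, 0, 0], [1, 1, 1, 1, 0, 0, 0, 1, 0, 0, 0, 0, 1, 0], [1, 1, 0, 1, 0, 0, 0, 0, 0, 0, 0, 0, 1, 0]]

/-- the matrix of the generator `e` (rows of codes) -/
def mat4 : List (List ℕ) := [[1, 0, 3, 3, 0, 2, 3, 0, 0, 0, 0, 0, 0, 0], [0, 1, 2, 0, 1, 2, 0, 0, 0, 0, 0, 0, 0, 0], [0, 0, 1, 0, 0, 0, 0, 0, 0, 0, 0, 0, 0, 0], [0, 0, 0, 1, 0, 0, 0, 0, 0, 0, 0, 0, 0, 0], [0, 0, 2, 3, 1, 0, 0, 0, 0, 0, 0, 0, 0, 0], [0, 0, 1, 2, 0, 1, 0, 0, 0, 0, 0, 0, 0, 0], [0, 0, 3, 1, 0, 0, 1, 0, 0, 0, 0, 0, 0, 0], [0, 0, 0, 1, 2, 3, 0, 1, 0, 0, 0, 0, 0, 0], [0, 0, 1, 1, 3, 0, 2, 0, 1, 0, 0, 0, 0, 0], [0, 3, 1, 2, 3, 1, 2, 2, 0, 1, 0, 0, 0, 0], [2, 2, 1, 2, 3, 3, 1, 0,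 3, 0, 1, 0, 0, 0], [1, 0, 1, 2, 0, 3, 3, 3, 2, 0, 0, 1, 0, 0], [0, 3, 1, 3, 2, 2, 2, 1, 1, 1, 2, 3, 1, 0], [2, 3, 0, 1, 1, 1, 1, 1, 0, 3, 1, 2, 0, 1]]

/-- the matrix of the generator `f` (rows of codes) -/
def mat5 : List (List ℕ) := [[1, 0, 3, 3, 0, 0, 0, 0, 0, 0, 0, 0, 0, 0], [0, 1, 0, 3, 0, 0, 0, 0, 0, 0, 0, 0, 0, 0], [0, 0, 1, 0, 0, 0, 0, 0, 0, 0, 0, 0, 0, 0], [0, 0, 0, 1, 0, 0, 0, 0, 0, 0, 0, 0, 0, 0], [0, 0, 0, 0, 1, 0, 0, 0, 0, 0, 0, 0, 0, 0], [0, 0, 0, 0, 0, 1, 0, 0, 0, 0, 0, 0, 0, 0], [0, 0, 0, 0, 0, 0, 1, 0, 0, 0, 0, 0, 0, 0], [0, 0, 3, 0, 0, 0, 0, 1, 0, 0, 0, 0, 0, 0], [0, 0, 0, 3, 0, 0, 0, 0, 1, 0, 0, 0, 0, 0], [0, 0, 0, 0, 3, 0,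 0, 0, 0, 1, 0, 0, 0, 0], [0, 0, 0, 0, 3, 0, 0, 0, 0, 0, 1, 0, 0, 0], [0, 0, 0, 0, 0, 3, 3, 0, 0, 0, 0, 1, 0, 0], [3, 3, 2, 2, 0, 0, 0, 3, 0, 0, 0, 0, 1, 0], [0, 3, 2, 2, 0, 0, 0, 0, 3, 0, 0, 0, 0, 1]]

/-- the matrix tables -/
def matL : ℕ → List (List ℕ)
  | 0 => mat0 | 1 => mat1 | 2 => mat2 | 3 => mat3 | 4 => mat4 | 5 => mat5 | _ => []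

/-- the six generator matrices (`A k = 0` for `k ≥ 6`) -/
def A (k : ℕ) : Matrix D.Idx D.Idx F :=
  Matrix.of fun i j => fc (((matL k).getD (ix i) []).getD (ix j) 0)

/-- words in the generators for the root elements: entry `3 * r + (t - 1)` is the word of `x_r(fc t)` -/
def wdL : List (List ℕ) := [[4, 0, 1, 2, 3, 1, 2, 1, 3, 2, 1, 0, 4],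
  [4, 2, 3, 2, 1, 5, 1, 2, 1, 0, 1, 2, 1, 0, 1, 2, 1, 5, 1, 2, 3, 2, 4],
  [2, 1, 5, 4, 3, 0, 1, 2, 1, 0, 3, 4, 5, 1, 2],
  [2, 3, 4, 1, 2, 3, 1, 2, 1, 3, 2, 1, 4, 3, 2],
  [2, 1, 5, 3, 4, 2, 0, 1, 0, 1, 2, 3, 2, 3, 2, 1, 0, 1, 0, 2, 4, 3, 5, 1, 2],
  [2, 3, 2, 0, 1, 5, 4, 3, 0, 1, 2, 1, 0, 3, 4, 5, 1, 0, 2, 3, 2],
  [1, 5, 3, 4, 3, 0, 1, 0, 1, 2, 3, 0, 1, 2, 3, 2, 1, 0, 3, 2, 1, 0, 1, 0, 3, 4, 3, 5, 1],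
  [1, 5, 0, 1, 0, 1, 2, 3, 4, 3, 2, 3, 0, 1, 0, 1, 2, 3, 2, 1, 0, 1, 0, 3, 2, 3, 4, 3, 2, 1, 0, 1, 0, 5, 1],
  [1, 5, 4, 3, 1, 2, 3, 1, 0, 1, 2, 3, 4, 2, 3, 1, 2, 3, 2, 1, 3, 2, 4, 3, 2, 1, 0, 1, 3, 2, 1, 3, 4, 5, 1],
  [3, 2, 1, 5, 0, 1, 0, 1, 5, 3, 4, 3, 2, 3, 1, 2, 3, 2, 1, 3, 2, 3, 4, 3, 5, 1, 0, 1, 0, 5, 1, 2, 3],
  [3, 2, 1, 5, 0, 1, 0, 1, 5, 2, 3, 4, 3, 2, 3, 1, 0, 1, 2, 3, 2, 1, 0, 1, 3, 2, 3, 4, 3, 2, 5, 1, 0, 1, 0, 5, 1, 2, 3],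
  [0, 1, 5, 3, 4, 0, 1, 0, 1, 2, 3, 2, 1, 5, 4, 3, 0, 1, 2, 3, 2, 1, 0, 3, 4, 5, 1, 2, 3, 2, 1, 0, 1, 0, 4, 3, 5, 1, 0],
  [1, 5, 0, 1, 0, 1, 5, 4, 3, 2, 3, 1, 2, 3, 2, 1, 3, 2, 3, 4, 5, 1, 0, 1, 0, 5, 1],
  [1, 5, 0, 1, 0, 1, 5, 3, 2, 3, 4, 3, 2, 3, 1, 0, 1, 2, 3, 2, 1, 0, 1, 3, 2, 3, 4, 3, 2, 3, 5, 1, 0, 1, 0, 5, 1],
  [4, 1, 2, 3, 2, 1, 5, 3, 4, 2, 3, 2, 3, 4, 3, 1, 2, 3, 2, 1, 3, 4, 3, 2, 3, 2, 4, 3, 5, 1, 2, 3, 2, 1, 4],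
  [4, 0, 1, 0, 1, 2, 3, 0, 1, 2, 1, 0, 3, 2, 1, 0, 1, 0, 4],
  [5, 1, 0, 1, 5, 4, 2, 3, 1, 0, 1, 2, 1, 0, 1, 3, 2, 4, 5, 1, 0, 1, 5],
  [1, 2, 0, 1, 5, 4, 2, 3, 0, 1, 2, 1, 0, 3, 2, 4, 5, 1, 0, 2, 1],
  [3, 2, 3, 4, 0, 1, 0, 1, 2, 3, 0, 1, 2, 1, 0, 3, 2, 1, 0, 1, 0, 4, 3, 2, 3],
  [5, 3, 2, 1, 0, 1, 5, 3, 4, 2, 3, 1, 0, 1, 2, 1, 0, 1, 3, 2, 4, 3, 5, 1, 0, 1, 2, 3, 5],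
  [3, 2, 3, 1, 2, 0, 1, 5, 4, 2, 3, 0, 1, 2, 1, 0, 3, 2, 4, 5, 1, 0, 2, 1, 3, 2, 3],
  [1, 5, 3, 4, 3, 0, 1, 0, 1, 2, 3, 2, 1, 0, 1, 0, 3, 4, 3, 5, 1],
  [1, 5, 0, 1, 2, 3, 4, 3, 1, 0, 1, 2, 3, 2, 1, 0, 1, 3, 4, 3, 2, 1, 0, 5, 1],
  [1, 5, 2, 3, 4, 3, 1, 2, 3, 2, 1, 3, 4, 3, 2, 5, 1],
  [3, 2, 1, 5, 4, 3, 0, 1, 0, 1, 2, 3, 2, 1, 0, 1, 0, 3, 4, 5, 1, 2, 3],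
  [3, 2, 1, 5, 3, 0, 1, 2, 3, 4, 3, 1, 0, 1, 2, 3, 2, 1, 0, 1, 3, 4, 3, 2, 1, 0, 3, 5, 1, 2, 3],
  [3, 2, 1, 5, 3, 2, 3, 4, 3, 1, 2, 3, 2, 1, 3, 4, 3, 2, 3, 5, 1, 2, 3],
  [3, 4, 1, 2, 3, 2, 1, 5, 3, 2, 3, 4, 0, 1, 0, 1, 2, 3, 0, 1, 2, 3, 2, 1, 0, 3, 2, 1, 0, 1, 0, 4, 3, 2, 3, 5, 1, 2, 3, 2, 1, 4, 3],
  [4, 3, 2, 1, 0, 1, 5, 4, 2, 3, 0, 1, 2, 3, 2, 1, 5, 4, 3, 1, 0, 1, 2, 3, 2, 1, 0, 1, 3, 4, 5, 1, 2, 3, 2, 1, 0, 3, 2, 4, 5, 1, 0, 1, 2, 3, 4],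
  [1, 5, 3, 4, 3, 2, 3, 1, 0, 1, 2, 3, 2, 1, 5, 4, 3, 0, 1, 2, 3, 2, 1, 0, 3, 4, 5, 1, 2, 3, 2, 1, 0, 1, 3, 2, 3, 4, 3, 5, 1],
  [3, 2, 3, 2, 3, 2, 3],
  [1, 2, 0, 1, 5, 1, 2, 1, 0, 1, 2, 1, 0, 1, 2, 1, 5, 1, 0, 2, 1],
  [1, 0, 1, 5, 0, 1, 2, 1, 0, 5, 1, 0, 1],
  [2],
  [1, 5, 0, 1, 2, 1, 0, 1, 2, 1, 0, 1, 2, 1, 0, 5, 1],
  [1, 2, 0, 1, 5, 2, 0, 1, 2, 1, 0, 2, 5, 1, 0, 2, 1]]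

/-- the word of `x_r(fc t)`, `t = 1, 2, 3` -/
def wd (r t : ℕ) : List ℕ := wdL.getD (3 * r + (t - 1)) []

/-- the matrices of the root elements: entry `3 * r + (t - 1)` is the table of `x_r(fc t)` -/
def xmL : List (List (List ℕ)) := [[[1, 0, 0, 0, 0, 0, 0, 0, 0, 0, 0, 0, 0, 1], [0, 1, 0, 0, 0, 0, 0, 0, 0, 0, 0, 0, 0, 0], [0, 1, 1, 0, 0, 0, 0, 0, 0, 0, 0, 0, 0, 1], [0, 0, 0, 1, 0, 0, 0, 0, 1, 0, 0, 0, 0, 0], [0, 0, 0, 0, 1, 0, 0, 0, 0, 0, 1, 0, 0, 0], [0, 0, 0, 0, 0, 1, 0, 0, 0, 0, 0, 1, 0, 0], [0, 0, 0, 0, 0, 0, 1, 0, 0, 0, 0, 0, 0, 0], [0, 0, 0, 0, 0, 0, 0, 1, 0, 0, 0, 0, 1, 0], [0, 0, 0, 0, 0, 0, 0, 0, 1, 0, 0, 0, 0, 0], [0, 0, 0, 0, 0,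 0, 0, 0, 0, 1, 0, 0, 0, 0], [0, 0, 0, 0, 0, 0, 0, 0, 0, 0, 1, 0, 0, 0], [0, 0, 0, 0, 0, 0, 0, 0, 0, 0, 0, 1, 0, 0], [0, 0, 0, 0, 0, 0, 0, 0, 0, 0, 0, 0, 1, 0], [0, 0, 0, 0, 0, 0, 0, 0, 0, 0, 0, 0, 0, 1]],
  [[1, 0, 0, 0, 0, 0, 0, 0, 0, 0, 0, 0, 0, 2], [0, 1, 0, 0, 0, 0, 0, 0, 0, 0, 0, 0, 0, 0], [0, 2, 1, 0, 0, 0, 0, 0, 0, 0, 0, 0, 0, 3], [0, 0, 0, 1, 0, 0, 0, 0, 2, 0, 0, 0, 0, 0], [0, 0, 0, 0, 1, 0, 0, 0, 0, 0, 2, 0, 0, 0], [0, 0, 0, 0, 0, 1, 0, 0, 0, 0, 0, 2, 0, 0], [0, 0, 0, 0, 0, 0, 1, 0, 0, 0, 0, 0, 0, 0], [0, 0, 0, 0, 0, 0, 0, 1, 0, 0, 0, 0, 2, 0], [0, 0, 0, 0, 0, 0, 0, 0, 1, 0, 0, 0, 0, 0], [0, 0, 0, 0, 0, 0, 0, 0, 0, 1, 0, 0, 0, 0], [0,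 0, 0, 0, 0, 0, 0, 0, 0, 0, 1, 0, 0, 0], [0, 0, 0, 0, 0, 0, 0, 0, 0, 0, 0, 1, 0, 0], [0, 0, 0, 0, 0, 0, 0, 0, 0, 0, 0, 0, 1, 0], [0, 0, 0, 0, 0, 0, 0, 0, 0, 0, 0, 0, 0, 1]],
  [[1, 0, 0, 0, 0, 0, 0, 0, 0, 0, 0, 0, 0, 3], [0, 1, 0, 0, 0, 0, 0, 0, 0, 0, 0, 0, 0, 0], [0, 3, 1, 0, 0, 0, 0, 0, 0, 0, 0, 0, 0, 2], [0, 0, 0, 1, 0, 0, 0, 0, 3, 0, 0, 0, 0, 0], [0, 0, 0, 0, 1, 0, 0, 0, 0, 0, 3, 0, 0, 0], [0, 0, 0, 0, 0, 1, 0, 0, 0, 0, 0, 3, 0, 0], [0, 0, 0, 0, 0, 0, 1, 0, 0, 0, 0, 0, 0, 0], [0, 0, 0, 0, 0, 0, 0, 1, 0, 0, 0, 0, 3, 0], [0, 0, 0, 0, 0, 0, 0, 0, 1, 0, 0, 0, 0, 0], [0, 0, 0, 0, 0, 0, 0, 0, 0, 1, 0, 0, 0, 0], [0, 0, 0, 0, 0, 0, 0, 0, 0, 0, 1,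 0, 0, 0], [0, 0, 0, 0, 0, 0, 0, 0, 0, 0, 0, 1, 0, 0], [0, 0, 0, 0, 0, 0, 0, 0, 0, 0, 0, 0, 1, 0], [0, 0, 0, 0, 0, 0, 0, 0, 0, 0, 0, 0, 0, 1]],
  [[1, 0, 0, 0, 0, 0, 0, 0, 0, 0, 0, 0, 1, 0], [0, 1, 0, 0, 0, 0, 0, 0, 0, 0, 0, 0, 1, 0], [0, 0, 1, 0, 0, 0, 0, 1, 0, 0, 0, 0, 0, 0], [1, 1, 0, 1, 0, 0, 0, 0, 0, 0, 0, 0, 1, 0], [0, 0, 0, 0, 1, 0, 0, 0, 0, 1, 0, 0, 0, 0], [0, 0, 0, 0, 0, 1, 0, 0, 0, 0, 0, 0, 0, 0], [0, 0, 0, 0, 0, 0, 1, 0, 0, 0, 0, 1, 0, 0], [0, 0, 0, 0, 0, 0, 0, 1, 0, 0, 0, 0, 0, 0], [0, 0, 0, 0, 0, 0, 0, 0, 1, 0, 0, 0, 0, 1], [0, 0, 0, 0, 0, 0, 0, 0, 0, 1, 0, 0, 0, 0], [0, 0, 0, 0, 0, 0, 0, 0, 0, 0, 1, 0, 0, 0], [0, 0, 0, 0, 0, 0,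 0, 0, 0, 0, 0, 1, 0, 0], [0, 0, 0, 0, 0, 0, 0, 0, 0, 0, 0, 0, 1, 0], [0, 0, 0, 0, 0, 0, 0, 0, 0, 0, 0, 0, 0, 1]],
  [[1, 0, 0, 0, 0, 0, 0, 0, 0, 0, 0, 0, 2, 0], [0, 1, 0, 0, 0, 0, 0, 0, 0, 0, 0, 0, 2, 0], [0, 0, 1, 0, 0, 0, 0, 2, 0, 0, 0, 0, 0, 0], [2, 2, 0, 1, 0, 0, 0, 0, 0, 0, 0, 0, 3, 0], [0, 0, 0, 0, 1, 0, 0, 0, 0, 2, 0, 0, 0, 0], [0, 0, 0, 0, 0, 1, 0, 0, 0, 0, 0, 0, 0, 0], [0, 0, 0, 0, 0, 0, 1, 0, 0, 0, 0, 2, 0, 0], [0, 0, 0, 0, 0, 0, 0, 1, 0, 0, 0, 0, 0, 0], [0, 0, 0, 0, 0, 0, 0, 0, 1, 0, 0, 0, 0, 2], [0, 0, 0, 0, 0, 0, 0, 0, 0, 1, 0, 0, 0, 0], [0, 0, 0, 0, 0, 0, 0, 0, 0, 0, 1, 0, 0, 0], [0, 0, 0, 0, 0, 0, 0, 0, 0, 0, 0, 1, 0, 0], [0,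 0, 0, 0, 0, 0, 0, 0, 0, 0, 0, 0, 1, 0], [0, 0, 0, 0, 0, 0, 0, 0, 0, 0, 0, 0, 0, 1]],
  [[1, 0, 0, 0, 0, 0, 0, 0, 0, 0, 0, 0, 3, 0], [0, 1, 0, 0, 0, 0, 0, 0, 0, 0, 0, 0, 3, 0], [0, 0, 1, 0, 0, 0, 0, 3, 0, 0, 0, 0, 0, 0], [3, 3, 0, 1, 0, 0, 0, 0, 0, 0, 0, 0, 2, 0], [0, 0, 0, 0, 1, 0, 0, 0, 0, 3, 0, 0, 0, 0], [0, 0, 0, 0, 0, 1, 0, 0, 0, 0, 0, 0, 0, 0], [0, 0, 0, 0, 0, 0, 1, 0, 0, 0, 0, 3, 0, 0], [0, 0, 0, 0, 0, 0, 0, 1, 0, 0, 0, 0, 0, 0], [0, 0, 0, 0, 0, 0, 0, 0, 1, 0, 0, 0, 0, 3], [0, 0, 0, 0, 0, 0, 0, 0, 0, 1, 0, 0, 0, 0], [0, 0, 0, 0, 0, 0, 0, 0, 0, 0, 1, 0, 0, 0], [0, 0, 0, 0, 0, 0, 0, 0, 0, 0, 0, 1, 0, 0], [0, 0, 0, 0, 0, 0, 0, 0, 0, 0, 0,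 0, 1, 0], [0, 0, 0, 0, 0, 0, 0, 0, 0, 0, 0, 0, 0, 1]],
  [[1, 0, 0, 0, 0, 0, 0, 0, 0, 0, 0, 0, 0, 0], [0, 1, 0, 0, 0, 0, 0, 0, 0, 0, 0, 1, 0, 0], [0, 0, 1, 0, 0, 1, 0, 0, 0, 1, 0, 0, 1, 0], [0, 0, 0, 1, 0, 0, 1, 0, 0, 0, 1, 0, 0, 1], [1, 0, 0, 0, 1, 0, 0, 0, 0, 0, 0, 1, 0, 0], [0, 0, 0, 0, 0, 1, 0, 0, 0, 0, 0, 0, 1, 0], [0, 0, 0, 0, 0, 0, 1, 0, 0, 0, 0, 0, 0, 1], [0, 0, 0, 0, 0, 0, 0, 1, 0, 0, 0, 0, 0, 0], [0, 0, 0, 0, 0, 0, 0, 0, 1, 0, 0, 0, 0, 0], [0, 0, 0, 0, 0, 0, 0, 0, 0, 1, 0, 0, 1, 0], [0, 0, 0, 0, 0, 0, 0, 0, 0, 0, 1, 0, 0, 1], [0, 0, 0, 0, 0, 0, 0, 0, 0, 0, 0, 1, 0, 0], [0, 0, 0, 0, 0, 0, 0, 0, 0, 0, 0, 0, 1, 0], [0, 0, 0, 0, 0, 0,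 0, 0, 0, 0, 0, 0, 0, 1]],
  [[1, 0, 0, 0, 0, 0, 0, 0, 0, 0, 0, 0, 0, 0], [0, 1, 0, 0, 0, 0, 0, 0, 0, 0, 0, 2, 0, 0], [0, 0, 1, 0, 0, 2, 0, 0, 0, 3, 0, 0, 1, 0], [0, 0, 0, 1, 0, 0, 2, 0, 0, 0, 3, 0, 0, 1], [2, 0, 0, 0, 1, 0, 0, 0, 0, 0, 0, 3, 0, 0], [0, 0, 0, 0, 0, 1, 0, 0, 0, 0, 0, 0, 3, 0], [0, 0, 0, 0, 0, 0, 1, 0, 0, 0, 0, 0, 0, 3], [0, 0, 0, 0, 0, 0, 0, 1, 0, 0, 0, 0, 0, 0], [0, 0, 0, 0, 0, 0, 0, 0, 1, 0, 0, 0, 0, 0], [0, 0, 0, 0, 0, 0, 0, 0, 0, 1, 0, 0, 2, 0], [0, 0, 0, 0, 0, 0, 0, 0, 0, 0, 1, 0, 0, 2], [0, 0, 0, 0, 0, 0, 0, 0, 0, 0, 0, 1, 0, 0], [0, 0, 0, 0, 0, 0, 0, 0, 0, 0, 0, 0, 1, 0], [0, 0, 0, 0, 0, 0, 0, 0, 0, 0, 0, 0, 0, 1]],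
  [[1, 0, 0, 0, 0, 0, 0, 0, 0, 0, 0, 0, 0, 0], [0, 1, 0, 0, 0, 0, 0, 0, 0, 0, 0, 3, 0, 0], [0, 0, 1, 0, 0, 3, 0, 0, 0, 2, 0, 0, 1, 0], [0, 0, 0, 1, 0, 0, 3, 0, 0, 0, 2, 0, 0, 1], [3, 0, 0, 0, 1, 0, 0, 0, 0, 0, 0, 2, 0, 0], [0, 0, 0, 0, 0, 1, 0, 0, 0, 0, 0, 0, 2, 0], [0, 0, 0, 0, 0, 0, 1, 0, 0, 0, 0, 0, 0, 2], [0, 0, 0, 0, 0, 0, 0, 1, 0, 0, 0, 0, 0, 0], [0, 0, 0, 0, 0, 0, 0, 0, 1, 0, 0, 0, 0, 0], [0, 0, 0, 0, 0, 0, 0, 0, 0, 1, 0, 0, 3, 0], [0, 0, 0, 0, 0, 0, 0, 0, 0, 0, 1, 0, 0, 3], [0, 0, 0, 0, 0, 0, 0, 0, 0, 0, 0, 1, 0, 0], [0, 0, 0, 0, 0, 0, 0, 0, 0, 0, 0, 0, 1, 0], [0, 0, 0, 0, 0, 0, 0, 0, 0, 0, 0, 0, 0, 1]],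
  [[1, 0, 0, 0, 0, 0, 0, 0, 0, 0, 1, 0, 0, 0], [0, 1, 0, 0, 0, 0, 0, 0, 0, 0, 1, 0, 0, 0], [0, 0, 1, 0, 1, 0, 1, 0, 1, 0, 0, 0, 0, 0], [0, 0, 0, 1, 0, 0, 0, 0, 0, 0, 0, 0, 0, 0], [0, 0, 0, 0, 1, 0, 0, 0, 1, 0, 0, 0, 0, 0], [1, 1, 0, 0, 0, 1, 0, 0, 0, 0, 1, 0, 0, 0], [0, 0, 0, 0, 0, 0, 1, 0, 1, 0, 0, 0, 0, 0], [0, 0, 0, 0, 0, 0, 0, 1, 0, 1, 0, 1, 0, 1], [0, 0, 0, 0, 0, 0, 0, 0, 1, 0, 0, 0, 0, 0], [0, 0, 0, 0, 0, 0, 0, 0, 0, 1, 0, 0, 0, 1], [0, 0, 0, 0, 0, 0, 0, 0, 0, 0, 1, 0, 0, 0], [0, 0, 0, 0, 0, 0, 0, 0, 0, 0, 0, 1, 0, 1], [0, 0, 0, 0, 0, 0, 0, 0, 0, 0, 0, 0, 1, 0], [0, 0, 0, 0, 0, 0, 0, 0, 0, 0, 0, 0, 0, 1]],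
  [[1, 0, 0, 0, 0, 0, 0, 0, 0, 0, 2, 0, 0, 0], [0, 1, 0, 0, 0, 0, 0, 0, 0, 0, 2, 0, 0, 0], [0, 0, 1, 0, 2, 0, 3, 0, 1, 0, 0, 0, 0, 0], [0, 0, 0, 1, 0, 0, 0, 0, 0, 0, 0, 0, 0, 0], [0, 0, 0, 0, 1, 0, 0, 0, 3, 0, 0, 0, 0, 0], [2, 2, 0, 0, 0, 1, 0, 0, 0, 0, 3, 0, 0, 0], [0, 0, 0, 0, 0, 0, 1, 0, 2, 0, 0, 0, 0, 0], [0, 0, 0, 0, 0, 0, 0, 1, 0, 2, 0, 3, 0, 1], [0, 0, 0, 0, 0, 0, 0, 0, 1, 0, 0, 0, 0, 0], [0, 0, 0, 0, 0, 0, 0, 0, 0, 1, 0, 0, 0, 3], [0, 0, 0, 0, 0, 0, 0, 0, 0, 0, 1, 0, 0, 0], [0, 0, 0, 0, 0, 0, 0, 0, 0, 0, 0, 1, 0, 2], [0, 0, 0, 0, 0, 0, 0, 0, 0, 0, 0, 0, 1, 0], [0, 0, 0, 0, 0, 0, 0, 0, 0, 0, 0, 0, 0, 1]],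
  [[1, 0, 0, 0, 0, 0, 0, 0, 0, 0, 3, 0, 0, 0], [0, 1, 0, 0, 0, 0, 0, 0, 0, 0, 3, 0, 0, 0], [0, 0, 1, 0, 3, 0, 2, 0, 1, 0, 0, 0, 0, 0], [0, 0, 0, 1, 0, 0, 0, 0, 0, 0, 0, 0, 0, 0], [0, 0, 0, 0, 1, 0, 0, 0, 2, 0, 0, 0, 0, 0], [3, 3, 0, 0, 0, 1, 0, 0, 0, 0, 2, 0, 0, 0], [0, 0, 0, 0, 0, 0, 1, 0, 3, 0, 0, 0, 0, 0], [0, 0, 0, 0, 0, 0, 0, 1, 0, 3, 0, 2, 0, 1], [0, 0, 0, 0, 0, 0, 0, 0, 1, 0, 0, 0, 0, 0], [0, 0, 0, 0, 0, 0, 0, 0, 0, 1, 0, 0, 0, 2], [0, 0, 0, 0, 0, 0, 0, 0, 0, 0, 1, 0, 0, 0], [0, 0, 0, 0, 0, 0, 0, 0, 0, 0, 0, 1, 0, 3], [0, 0, 0, 0, 0, 0, 0, 0, 0, 0, 0, 0, 1, 0], [0, 0, 0, 0, 0, 0, 0, 0, 0, 0, 0, 0, 0, 1]],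
  [[1, 0, 0, 0, 0, 0, 0, 0, 0, 1, 0, 0, 0, 0], [0, 1, 0, 0, 0, 0, 0, 0, 0, 0, 0, 0, 0, 0], [0, 0, 1, 0, 0, 0, 0, 0, 0, 0, 0, 0, 0, 0], [0, 0, 0, 1, 1, 1, 0, 1, 0, 0, 0, 0, 0, 0], [0, 0, 0, 0, 1, 0, 0, 1, 0, 0, 0, 0, 0, 0], [0, 0, 0, 0, 0, 1, 0, 1, 0, 0, 0, 0, 0, 0], [0, 1, 0, 0, 0, 0, 1, 0, 0, 1, 0, 0, 0, 0], [0, 0, 0, 0, 0, 0, 0, 1, 0, 0, 0, 0, 0, 0], [0, 0, 0, 0, 0, 0, 0, 0, 1, 0, 1, 1, 1, 0], [0, 0, 0, 0, 0, 0, 0, 0, 0, 1, 0, 0, 0, 0], [0, 0, 0, 0, 0, 0, 0, 0, 0, 0, 1, 0, 1, 0], [0, 0, 0, 0, 0, 0, 0, 0, 0, 0, 0, 1, 1, 0], [0, 0, 0, 0, 0, 0, 0, 0, 0, 0, 0, 0, 1, 0], [0, 0, 0, 0, 0, 0, 0, 0, 0, 0, 0, 0, 0, 1]],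
  [[1, 0, 0, 0, 0, 0, 0, 0, 0, 2, 0, 0, 0, 0], [0, 1, 0, 0, 0, 0, 0, 0, 0, 0, 0, 0, 0, 0], [0, 0, 1, 0, 0, 0, 0, 0, 0, 0, 0, 0, 0, 0], [0, 0, 0, 1, 2, 3, 0, 1, 0, 0, 0, 0, 0, 0], [0, 0, 0, 0, 1, 0, 0, 3, 0, 0, 0, 0, 0, 0], [0, 0, 0, 0, 0, 1, 0, 2, 0, 0, 0, 0, 0, 0], [0, 2, 0, 0, 0, 0, 1, 0, 0, 3, 0, 0, 0, 0], [0, 0, 0, 0, 0, 0, 0, 1, 0, 0, 0, 0, 0, 0], [0, 0, 0, 0, 0, 0, 0, 0, 1, 0, 2, 3, 1, 0], [0, 0, 0, 0, 0, 0, 0, 0, 0, 1, 0, 0, 0, 0], [0, 0, 0, 0, 0, 0, 0, 0, 0, 0, 1, 0, 3, 0], [0, 0, 0, 0, 0, 0, 0, 0, 0, 0, 0, 1, 2, 0], [0, 0, 0, 0, 0, 0, 0, 0, 0, 0, 0, 0, 1, 0], [0, 0, 0, 0, 0, 0, 0, 0, 0, 0, 0, 0, 0, 1]],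
  [[1, 0, 0, 0, 0, 0, 0, 0, 0, 3, 0, 0, 0, 0], [0, 1, 0, 0, 0, 0, 0, 0, 0, 0, 0, 0, 0, 0], [0, 0, 1, 0, 0, 0, 0, 0, 0, 0, 0, 0, 0, 0], [0, 0, 0, 1, 3, 2, 0, 1, 0, 0, 0, 0, 0, 0], [0, 0, 0, 0, 1, 0, 0, 2, 0, 0, 0, 0, 0, 0], [0, 0, 0, 0, 0, 1, 0, 3, 0, 0, 0, 0, 0, 0], [0, 3, 0, 0, 0, 0, 1, 0, 0, 2, 0, 0, 0, 0], [0, 0, 0, 0, 0, 0, 0, 1, 0, 0, 0, 0, 0, 0], [0, 0, 0, 0, 0, 0, 0, 0, 1, 0, 3, 2, 1, 0], [0, 0, 0, 0, 0, 0, 0, 0, 0, 1, 0, 0, 0, 0], [0, 0, 0, 0, 0, 0, 0, 0, 0, 0, 1, 0, 2, 0], [0, 0, 0, 0, 0, 0, 0, 0, 0, 0, 0, 1, 3, 0], [0, 0, 0, 0, 0, 0, 0, 0, 0, 0, 0, 0, 1, 0], [0, 0, 0, 0, 0, 0, 0, 0, 0, 0, 0, 0, 0, 1]],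
  [[1, 0, 0, 0, 0, 0, 0, 0, 0, 0, 0, 0, 0, 0], [0, 1, 0, 0, 0, 0, 0, 0, 1, 0, 0, 0, 0, 0], [0, 0, 1, 1, 0, 0, 0, 0, 0, 0, 0, 0, 0, 0], [0, 0, 0, 1, 0, 0, 0, 0, 0, 0, 0, 0, 0, 0], [0, 0, 0, 0, 1, 0, 0, 0, 0, 0, 0, 0, 0, 0], [0, 0, 0, 0, 0, 1, 1, 0, 0, 0, 0, 0, 0, 0], [0, 0, 0, 0, 0, 0, 1, 0, 0, 0, 0, 0, 0, 0], [1, 0, 0, 0, 0, 0, 0, 1, 1, 0, 0, 0, 0, 0], [0, 0, 0, 0, 0, 0, 0, 0, 1, 0, 0, 0, 0, 0], [0, 0, 0, 0, 0, 0, 0, 0, 0, 1, 1, 0, 0, 0], [0, 0, 0, 0, 0, 0, 0, 0, 0, 0, 1, 0, 0, 0], [0, 0, 0, 0, 0, 0, 0, 0, 0, 0, 0, 1, 0, 0], [0, 0, 0, 0, 0, 0, 0, 0, 0, 0, 0, 0, 1, 1], [0, 0, 0, 0, 0, 0, 0, 0, 0, 0, 0, 0, 0, 1]],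
  [[1, 0, 0, 0, 0, 0, 0, 0, 0, 0, 0, 0, 0, 0], [0, 1, 0, 0, 0, 0, 0, 0, 2, 0, 0, 0, 0, 0], [0, 0, 1, 2, 0, 0, 0, 0, 0, 0, 0, 0, 0, 0], [0, 0, 0, 1, 0, 0, 0, 0, 0, 0, 0, 0, 0, 0], [0, 0, 0, 0, 1, 0, 0, 0, 0, 0, 0, 0, 0, 0], [0, 0, 0, 0, 0, 1, 2, 0, 0, 0, 0, 0, 0, 0], [0, 0, 0, 0, 0, 0, 1, 0, 0, 0, 0, 0, 0, 0], [2, 0, 0, 0, 0, 0, 0, 1, 3, 0, 0, 0, 0, 0], [0, 0, 0, 0, 0, 0, 0, 0, 1, 0, 0, 0, 0, 0], [0, 0, 0, 0, 0, 0, 0, 0, 0, 1, 2, 0, 0, 0], [0, 0, 0, 0, 0, 0, 0, 0, 0, 0, 1, 0, 0, 0], [0, 0, 0, 0, 0, 0, 0, 0, 0, 0, 0, 1, 0, 0], [0, 0, 0, 0, 0, 0, 0, 0, 0, 0, 0, 0, 1, 2], [0, 0, 0, 0, 0, 0, 0, 0, 0, 0, 0, 0, 0, 1]],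
  [[1, 0, 0, 0, 0, 0, 0, 0, 0, 0, 0, 0, 0, 0], [0, 1, 0, 0, 0, 0, 0, 0, 3, 0, 0, 0, 0, 0], [0, 0, 1, 3, 0, 0, 0, 0, 0, 0, 0, 0, 0, 0], [0, 0, 0, 1, 0, 0, 0, 0, 0, 0, 0, 0, 0, 0], [0, 0, 0, 0, 1, 0, 0, 0, 0, 0, 0, 0, 0, 0], [0, 0, 0, 0, 0, 1, 3, 0, 0, 0, 0, 0, 0, 0], [0, 0, 0, 0, 0, 0, 1, 0, 0, 0, 0, 0, 0, 0], [3, 0, 0, 0, 0, 0, 0, 1, 2, 0, 0, 0, 0, 0], [0, 0, 0, 0, 0, 0, 0, 0, 1, 0, 0, 0, 0, 0], [0, 0, 0, 0, 0, 0, 0, 0, 0, 1, 3, 0, 0, 0], [0, 0, 0, 0, 0, 0, 0, 0, 0, 0, 1, 0, 0, 0], [0, 0, 0, 0, 0, 0, 0, 0, 0, 0, 0, 1, 0, 0], [0, 0, 0, 0, 0, 0, 0, 0, 0, 0, 0, 0, 1, 3], [0, 0, 0, 0, 0, 0, 0, 0, 0, 0, 0, 0, 0, 1]],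
  [[1, 0, 0, 0, 0, 0, 0, 0, 0, 0, 0, 0, 0, 0], [0, 1, 0, 0, 0, 0, 0, 1, 0, 0, 0, 0, 0, 0], [0, 0, 1, 0, 0, 0, 0, 0, 0, 0, 0, 0, 0, 0], [0, 0, 1, 1, 0, 0, 0, 0, 0, 0, 0, 0, 0, 0], [0, 0, 0, 0, 1, 0, 0, 0, 0, 0, 0, 0, 0, 0], [0, 0, 0, 0, 0, 1, 0, 0, 0, 0, 0, 0, 0, 0], [0, 0, 0, 0, 0, 1, 1, 0, 0, 0, 0, 0, 0, 0], [0, 0, 0, 0, 0, 0, 0, 1, 0, 0, 0, 0, 0, 0], [1, 0, 0, 0, 0, 0, 0, 1, 1, 0, 0, 0, 0, 0], [0, 0, 0, 0, 0, 0, 0, 0, 0, 1, 0, 0, 0, 0], [0, 0, 0, 0, 0, 0, 0, 0, 0, 1, 1, 0, 0, 0], [0, 0, 0, 0, 0, 0, 0, 0, 0, 0, 0, 1, 0, 0], [0, 0, 0, 0, 0, 0, 0, 0, 0, 0, 0, 0, 1, 0], [0, 0, 0, 0, 0, 0, 0, 0, 0, 0, 0, 0, 1, 1]],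
  [[1, 0, 0, 0, 0, 0, 0, 0, 0, 0, 0, 0, 0, 0], [0, 1, 0, 0, 0, 0, 0, 2, 0, 0, 0, 0, 0, 0], [0, 0, 1, 0, 0, 0, 0, 0, 0, 0, 0, 0, 0, 0], [0, 0, 2, 1, 0, 0, 0, 0, 0, 0, 0, 0, 0, 0], [0, 0, 0, 0, 1, 0, 0, 0, 0, 0, 0, 0, 0, 0], [0, 0, 0, 0, 0, 1, 0, 0, 0, 0, 0, 0, 0, 0], [0, 0, 0, 0, 0, 2, 1, 0, 0, 0, 0, 0, 0, 0], [0, 0, 0, 0, 0, 0, 0, 1, 0, 0, 0, 0, 0, 0], [2, 0, 0, 0, 0, 0, 0, 3, 1, 0, 0, 0, 0, 0], [0, 0, 0, 0, 0, 0, 0, 0, 0, 1, 0, 0, 0, 0], [0, 0, 0, 0, 0, 0, 0, 0, 0, 2, 1, 0, 0, 0], [0, 0, 0, 0, 0, 0, 0, 0, 0, 0, 0, 1, 0, 0], [0, 0, 0, 0, 0, 0, 0, 0, 0, 0, 0, 0, 1, 0], [0, 0, 0, 0, 0, 0, 0, 0, 0, 0, 0, 0, 2, 1]],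
  [[1, 0, 0, 0, 0, 0, 0, 0, 0, 0, 0, 0, 0, 0], [0, 1, 0, 0, 0, 0, 0, 3, 0, 0, 0, 0, 0, 0], [0, 0, 1, 0, 0, 0, 0, 0, 0, 0, 0, 0, 0, 0], [0, 0, 3, 1, 0, 0, 0, 0, 0, 0, 0, 0, 0, 0], [0, 0, 0, 0, 1, 0, 0, 0, 0, 0, 0, 0, 0, 0], [0, 0, 0, 0, 0, 1, 0, 0, 0, 0, 0, 0, 0, 0], [0, 0, 0, 0, 0, 3, 1, 0, 0, 0, 0, 0, 0, 0], [0, 0, 0, 0, 0, 0, 0, 1, 0, 0, 0, 0, 0, 0], [3, 0, 0, 0, 0, 0, 0, 2, 1, 0, 0, 0, 0, 0], [0, 0, 0, 0, 0, 0, 0, 0, 0, 1, 0, 0, 0, 0], [0, 0, 0, 0, 0, 0, 0, 0, 0, 3, 1, 0, 0, 0], [0, 0, 0, 0, 0, 0, 0, 0, 0, 0, 0, 1, 0, 0], [0, 0, 0, 0, 0, 0, 0, 0, 0, 0, 0, 0, 1, 0], [0, 0, 0, 0, 0, 0, 0, 0, 0, 0, 0, 0, 3, 1]],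
  [[1, 0, 0, 0, 0, 0, 1, 0, 0, 0, 0, 0, 0, 0], [0, 1, 0, 0, 0, 0, 0, 0, 0, 0, 0, 0, 0, 0], [0, 0, 1, 0, 0, 0, 0, 0, 0, 0, 0, 0, 0, 0], [0, 0, 0, 1, 0, 0, 0, 0, 0, 0, 0, 0, 0, 0], [0, 0, 0, 1, 1, 0, 0, 0, 0, 0, 0, 0, 0, 0], [0, 0, 0, 1, 0, 1, 0, 0, 0, 0, 0, 0, 0, 0], [0, 0, 0, 0, 0, 0, 1, 0, 0, 0, 0, 0, 0, 0], [0, 0, 0, 1, 1, 1, 0, 1, 0, 0, 0, 0, 0, 0], [0, 0, 0, 0, 0, 0, 0, 0, 1, 0, 0, 0, 0, 0], [0, 1, 0, 0, 0, 0, 1, 0, 0, 1, 0, 0, 0, 0], [0, 0, 0, 0, 0, 0, 0, 0, 1, 0, 1, 0, 0, 0], [0, 0, 0, 0, 0, 0, 0, 0, 1, 0, 0, 1, 0, 0], [0, 0, 0, 0, 0, 0, 0, 0, 1, 0, 1, 1, 1, 0], [0, 0, 0, 0, 0, 0, 0, 0, 0, 0, 0, 0, 0, 1]],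
  [[1, 0, 0, 0, 0, 0, 2, 0, 0, 0, 0, 0, 0, 0], [0, 1, 0, 0, 0, 0, 0, 0, 0, 0, 0, 0, 0, 0], [0, 0, 1, 0, 0, 0, 0, 0, 0, 0, 0, 0, 0, 0], [0, 0, 0, 1, 0, 0, 0, 0, 0, 0, 0, 0, 0, 0], [0, 0, 0, 2, 1, 0, 0, 0, 0, 0, 0, 0, 0, 0], [0, 0, 0, 3, 0, 1, 0, 0, 0, 0, 0, 0, 0, 0], [0, 0, 0, 0, 0, 0, 1, 0, 0, 0, 0, 0, 0, 0], [0, 0, 0, 1, 3, 2, 0, 1, 0, 0, 0, 0, 0, 0], [0, 0, 0, 0, 0, 0, 0, 0, 1, 0, 0, 0, 0, 0], [0, 2, 0, 0, 0, 0, 3, 0, 0, 1, 0, 0, 0, 0], [0, 0, 0, 0, 0, 0, 0, 0, 2, 0, 1, 0, 0, 0], [0, 0, 0, 0, 0, 0, 0, 0, 3, 0, 0, 1, 0, 0], [0, 0, 0, 0, 0, 0, 0, 0, 1, 0, 3, 2, 1, 0], [0, 0, 0, 0, 0, 0, 0, 0, 0, 0, 0, 0, 0, 1]],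
  [[1, 0, 0, 0, 0, 0, 3, 0, 0, 0, 0, 0, 0, 0], [0, 1, 0, 0, 0, 0, 0, 0, 0, 0, 0, 0, 0, 0], [0, 0, 1, 0, 0, 0, 0, 0, 0, 0, 0, 0, 0, 0], [0, 0, 0, 1, 0, 0, 0, 0, 0, 0, 0, 0, 0, 0], [0, 0, 0, 3, 1, 0, 0, 0, 0, 0, 0, 0, 0, 0], [0, 0, 0, 2, 0, 1, 0, 0, 0, 0, 0, 0, 0, 0], [0, 0, 0, 0, 0, 0, 1, 0, 0, 0, 0, 0, 0, 0], [0, 0, 0, 1, 2, 3, 0, 1, 0, 0, 0, 0, 0, 0], [0, 0, 0, 0, 0, 0, 0, 0, 1, 0, 0, 0, 0, 0], [0, 3, 0, 0, 0, 0, 2, 0, 0, 1, 0, 0, 0, 0], [0, 0, 0, 0, 0, 0, 0, 0, 3, 0, 1, 0, 0, 0], [0, 0, 0, 0, 0, 0, 0, 0, 2, 0, 0, 1, 0, 0], [0, 0, 0, 0, 0, 0, 0, 0, 1, 0, 2, 3, 1, 0], [0, 0, 0, 0, 0, 0, 0, 0, 0, 0, 0, 0, 0, 1]],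
  [[1, 0, 0, 0, 0, 1, 0, 0, 0, 0, 0, 0, 0, 0], [0, 1, 0, 0, 0, 1, 0, 0, 0, 0, 0, 0, 0, 0], [0, 0, 1, 0, 0, 0, 0, 0, 0, 0, 0, 0, 0, 0], [0, 0, 0, 1, 0, 0, 0, 0, 0, 0, 0, 0, 0, 0], [0, 0, 1, 0, 1, 0, 0, 0, 0, 0, 0, 0, 0, 0], [0, 0, 0, 0, 0, 1, 0, 0, 0, 0, 0, 0, 0, 0], [0, 0, 1, 0, 0, 0, 1, 0, 0, 0, 0, 0, 0, 0], [0, 0, 0, 0, 0, 0, 0, 1, 0, 0, 0, 0, 0, 0], [0, 0, 1, 0, 1, 0, 1, 0, 1, 0, 0, 0, 0, 0], [0, 0, 0, 0, 0, 0, 0, 1, 0, 1, 0, 0, 0, 0], [1, 1, 0, 0, 0, 1, 0, 0, 0, 0, 1, 0, 0, 0], [0, 0, 0, 0, 0, 0, 0, 1, 0, 0, 0, 1, 0, 0], [0, 0, 0, 0, 0, 0, 0, 0, 0, 0, 0, 0, 1, 0], [0, 0, 0, 0, 0, 0, 0, 1, 0, 1, 0, 1, 0, 1]],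
  [[1, 0, 0, 0, 0, 2, 0, 0, 0, 0, 0, 0, 0, 0], [0, 1, 0, 0, 0, 2, 0, 0, 0, 0, 0, 0, 0, 0], [0, 0, 1, 0, 0, 0, 0, 0, 0, 0, 0, 0, 0, 0], [0, 0, 0, 1, 0, 0, 0, 0, 0, 0, 0, 0, 0, 0], [0, 0, 2, 0, 1, 0, 0, 0, 0, 0, 0, 0, 0, 0], [0, 0, 0, 0, 0, 1, 0, 0, 0, 0, 0, 0, 0, 0], [0, 0, 3, 0, 0, 0, 1, 0, 0, 0, 0, 0, 0, 0], [0, 0, 0, 0, 0, 0, 0, 1, 0, 0, 0, 0, 0, 0], [0, 0, 1, 0, 3, 0, 2, 0, 1, 0, 0, 0, 0, 0], [0, 0, 0, 0, 0, 0, 0, 2, 0, 1, 0, 0, 0, 0], [2, 2, 0, 0, 0, 3, 0, 0, 0, 0, 1, 0, 0, 0], [0, 0, 0, 0, 0, 0, 0, 3, 0, 0, 0, 1, 0, 0], [0, 0, 0, 0, 0, 0, 0, 0, 0, 0, 0, 0, 1, 0], [0, 0, 0, 0, 0, 0, 0, 1, 0, 3, 0, 2, 0, 1]],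
  [[1, 0, 0, 0, 0, 3, 0, 0, 0, 0, 0, 0, 0, 0], [0, 1, 0, 0, 0, 3, 0, 0, 0, 0, 0, 0, 0, 0], [0, 0, 1, 0, 0, 0, 0, 0, 0, 0, 0, 0, 0, 0], [0, 0, 0, 1, 0, 0, 0, 0, 0, 0, 0, 0, 0, 0], [0, 0, 3, 0, 1, 0, 0, 0, 0, 0, 0, 0, 0, 0], [0, 0, 0, 0, 0, 1, 0, 0, 0, 0, 0, 0, 0, 0], [0, 0, 2, 0, 0, 0, 1, 0, 0, 0, 0, 0, 0, 0], [0, 0, 0, 0, 0, 0, 0, 1, 0, 0, 0, 0, 0, 0], [0, 0, 1, 0, 2, 0, 3, 0, 1, 0, 0, 0, 0, 0], [0, 0, 0, 0, 0, 0, 0, 3, 0, 1, 0, 0, 0, 0], [3, 3, 0, 0, 0, 2, 0, 0, 0, 0, 1, 0, 0, 0], [0, 0, 0, 0, 0, 0, 0, 2, 0, 0, 0, 1, 0, 0], [0, 0, 0, 0, 0, 0, 0, 0, 0, 0, 0, 0, 1, 0], [0, 0, 0, 0, 0, 0, 0, 1, 0, 2, 0, 3, 0, 1]],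
  [[1, 0, 0, 0, 0, 0, 0, 0, 0, 0, 0, 0, 0, 0], [0, 1, 0, 0, 1, 0, 0, 0, 0, 0, 0, 0, 0, 0], [0, 0, 1, 0, 0, 0, 0, 0, 0, 0, 0, 0, 0, 0], [0, 0, 0, 1, 0, 0, 0, 0, 0, 0, 0, 0, 0, 0], [0, 0, 0, 0, 1, 0, 0, 0, 0, 0, 0, 0, 0, 0], [0, 0, 1, 0, 0, 1, 0, 0, 0, 0, 0, 0, 0, 0], [0, 0, 0, 1, 0, 0, 1, 0, 0, 0, 0, 0, 0, 0], [0, 0, 0, 0, 0, 0, 0, 1, 0, 0, 0, 0, 0, 0], [0, 0, 0, 0, 0, 0, 0, 0, 1, 0, 0, 0, 0, 0], [0, 0, 1, 0, 0, 0, 0, 0, 0, 1, 0, 0, 0, 0], [0, 0, 0, 1, 0, 0, 0, 0, 0, 0, 1, 0, 0, 0], [1, 0, 0, 0, 1, 0, 0, 0, 0, 0, 0, 1, 0, 0], [0, 0, 1, 0, 0, 1, 0, 0, 0, 1, 0, 0, 1, 0], [0, 0, 0, 1, 0, 0, 1, 0, 0, 0, 1, 0, 0, 1]],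
  [[1, 0, 0, 0, 0, 0, 0, 0, 0, 0, 0, 0, 0, 0], [0, 1, 0, 0, 2, 0, 0, 0, 0, 0, 0, 0, 0, 0], [0, 0, 1, 0, 0, 0, 0, 0, 0, 0, 0, 0, 0, 0], [0, 0, 0, 1, 0, 0, 0, 0, 0, 0, 0, 0, 0, 0], [0, 0, 0, 0, 1, 0, 0, 0, 0, 0, 0, 0, 0, 0], [0, 0, 2, 0, 0, 1, 0, 0, 0, 0, 0, 0, 0, 0], [0, 0, 0, 2, 0, 0, 1, 0, 0, 0, 0, 0, 0, 0], [0, 0, 0, 0, 0, 0, 0, 1, 0, 0, 0, 0, 0, 0], [0, 0, 0, 0, 0, 0, 0, 0, 1, 0, 0, 0, 0, 0], [0, 0, 3, 0, 0, 0, 0, 0, 0, 1, 0, 0, 0, 0], [0, 0, 0, 3, 0, 0, 0, 0, 0, 0, 1, 0, 0, 0], [2, 0, 0, 0, 3, 0, 0, 0, 0, 0, 0, 1, 0, 0], [0, 0, 1, 0, 0, 3, 0, 0, 0, 2, 0, 0, 1, 0], [0, 0, 0, 1, 0, 0, 3, 0, 0, 0, 2, 0, 0, 1]],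
  [[1, 0, 0, 0, 0, 0, 0, 0, 0, 0, 0, 0, 0, 0], [0, 1, 0, 0, 3, 0, 0, 0, 0, 0, 0, 0, 0, 0], [0, 0, 1, 0, 0, 0, 0, 0, 0, 0, 0, 0, 0, 0], [0, 0, 0, 1, 0, 0, 0, 0, 0, 0, 0, 0, 0, 0], [0, 0, 0, 0, 1, 0, 0, 0, 0, 0, 0, 0, 0, 0], [0, 0, 3, 0, 0, 1, 0, 0, 0, 0, 0, 0, 0, 0], [0, 0, 0, 3, 0, 0, 1, 0, 0, 0, 0, 0, 0, 0], [0, 0, 0, 0, 0, 0, 0, 1, 0, 0, 0, 0, 0, 0], [0, 0, 0, 0, 0, 0, 0, 0, 1, 0, 0, 0, 0, 0], [0, 0, 2, 0, 0, 0, 0, 0, 0, 1, 0, 0, 0, 0], [0, 0, 0, 2, 0, 0, 0, 0, 0, 0, 1, 0, 0, 0], [3, 0, 0, 0, 2, 0, 0, 0, 0, 0, 0, 1, 0, 0], [0, 0, 1, 0, 0, 2, 0, 0, 0, 3, 0, 0, 1, 0], [0, 0, 0, 1, 0, 0, 2, 0, 0, 0, 3, 0, 0, 1]],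
  [[1, 0, 0, 1, 0, 0, 0, 0, 0, 0, 0, 0, 0, 0], [0, 1, 0, 1, 0, 0, 0, 0, 0, 0, 0, 0, 0, 0], [0, 0, 1, 0, 0, 0, 0, 0, 0, 0, 0, 0, 0, 0], [0, 0, 0, 1, 0, 0, 0, 0, 0, 0, 0, 0, 0, 0], [0, 0, 0, 0, 1, 0, 0, 0, 0, 0, 0, 0, 0, 0], [0, 0, 0, 0, 0, 1, 0, 0, 0, 0, 0, 0, 0, 0], [0, 0, 0, 0, 0, 0, 1, 0, 0, 0, 0, 0, 0, 0], [0, 0, 1, 0, 0, 0, 0, 1, 0, 0, 0, 0, 0, 0], [0, 0, 0, 0, 0, 0, 0, 0, 1, 0, 0, 0, 0, 0], [0, 0, 0, 0, 1, 0, 0, 0, 0, 1, 0, 0, 0, 0], [0, 0, 0, 0, 0, 0, 0, 0, 0, 0, 1, 0, 0, 0], [0, 0, 0, 0, 0, 0, 1, 0, 0, 0, 0, 1, 0, 0], [1, 1, 0, 1, 0, 0, 0, 0, 0, 0, 0, 0, 1, 0], [0, 0, 0, 0, 0, 0, 0, 0, 1, 0, 0, 0, 0, 1]],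
  [[1, 0, 0, 2, 0, 0, 0, 0, 0, 0, 0, 0, 0, 0], [0, 1, 0, 2, 0, 0, 0, 0, 0, 0, 0, 0, 0, 0], [0, 0, 1, 0, 0, 0, 0, 0, 0, 0, 0, 0, 0, 0], [0, 0, 0, 1, 0, 0, 0, 0, 0, 0, 0, 0, 0, 0], [0, 0, 0, 0, 1, 0, 0, 0, 0, 0, 0, 0, 0, 0], [0, 0, 0, 0, 0, 1, 0, 0, 0, 0, 0, 0, 0, 0], [0, 0, 0, 0, 0, 0, 1, 0, 0, 0, 0, 0, 0, 0], [0, 0, 2, 0, 0, 0, 0, 1, 0, 0, 0, 0, 0, 0], [0, 0, 0, 0, 0, 0, 0, 0, 1, 0, 0, 0, 0, 0], [0, 0, 0, 0, 2, 0, 0, 0, 0, 1, 0, 0, 0, 0], [0, 0, 0, 0, 0, 0, 0, 0, 0, 0, 1, 0, 0, 0], [0, 0, 0, 0, 0, 0, 2, 0, 0, 0, 0, 1, 0, 0], [2, 2, 0, 3, 0, 0, 0, 0, 0, 0, 0, 0, 1, 0], [0, 0, 0, 0, 0, 0, 0, 0, 2, 0, 0, 0, 0, 1]],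
  [[1, 0, 0, 3, 0, 0, 0, 0, 0, 0, 0, 0, 0, 0], [0, 1, 0, 3, 0, 0, 0, 0, 0, 0, 0, 0, 0, 0], [0, 0, 1, 0, 0, 0, 0, 0, 0, 0, 0, 0, 0, 0], [0, 0, 0, 1, 0, 0, 0, 0, 0, 0, 0, 0, 0, 0], [0, 0, 0, 0, 1, 0, 0, 0, 0, 0, 0, 0, 0, 0], [0, 0, 0, 0, 0, 1, 0, 0, 0, 0, 0, 0, 0, 0], [0, 0, 0, 0, 0, 0, 1, 0, 0, 0, 0, 0, 0, 0], [0, 0, 3, 0, 0, 0, 0, 1, 0, 0, 0, 0, 0, 0], [0, 0, 0, 0, 0, 0, 0, 0, 1, 0, 0, 0, 0, 0], [0, 0, 0, 0, 3, 0, 0, 0, 0, 1, 0, 0, 0, 0], [0, 0, 0, 0, 0, 0, 0, 0, 0, 0, 1, 0, 0, 0], [0, 0, 0, 0, 0, 0, 3, 0, 0, 0, 0, 1, 0, 0], [3, 3, 0, 2, 0, 0, 0, 0, 0, 0, 0, 0, 1, 0], [0, 0, 0, 0, 0, 0, 0, 0, 3, 0, 0, 0, 0, 1]],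
  [[1, 0, 1, 0, 0, 0, 0, 0, 0, 0, 0, 0, 0, 0], [0, 1, 0, 0, 0, 0, 0, 0, 0, 0, 0, 0, 0, 0], [0, 0, 1, 0, 0, 0, 0, 0, 0, 0, 0, 0, 0, 0], [0, 0, 0, 1, 0, 0, 0, 0, 0, 0, 0, 0, 0, 0], [0, 0, 0, 0, 1, 0, 0, 0, 0, 0, 0, 0, 0, 0], [0, 0, 0, 0, 0, 1, 0, 0, 0, 0, 0, 0, 0, 0], [0, 0, 0, 0, 0, 0, 1, 0, 0, 0, 0, 0, 0, 0], [0, 0, 0, 0, 0, 0, 0, 1, 0, 0, 0, 0, 0, 0], [0, 0, 0, 1, 0, 0, 0, 0, 1, 0, 0, 0, 0, 0], [0, 0, 0, 0, 0, 0, 0, 0, 0, 1, 0, 0, 0, 0], [0, 0, 0, 0, 1, 0, 0, 0, 0, 0, 1, 0, 0, 0], [0, 0, 0, 0, 0, 1, 0, 0, 0, 0, 0, 1, 0, 0], [0, 0, 0, 0, 0, 0, 0, 1, 0, 0, 0, 0, 1, 0], [0, 1, 1, 0, 0, 0, 0, 0, 0, 0, 0, 0, 0, 1]],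
  [[1, 0, 2, 0, 0, 0, 0, 0, 0, 0, 0, 0, 0, 0], [0, 1, 0, 0, 0, 0, 0, 0, 0, 0, 0, 0, 0, 0], [0, 0, 1, 0, 0, 0, 0, 0, 0, 0, 0, 0, 0, 0], [0, 0, 0, 1, 0, 0, 0, 0, 0, 0, 0, 0, 0, 0], [0, 0, 0, 0, 1, 0, 0, 0, 0, 0, 0, 0, 0, 0], [0, 0, 0, 0, 0, 1, 0, 0, 0, 0, 0, 0, 0, 0], [0, 0, 0, 0, 0, 0, 1, 0, 0, 0, 0, 0, 0, 0], [0, 0, 0, 0, 0, 0, 0, 1, 0, 0, 0, 0, 0, 0], [0, 0, 0, 2, 0, 0, 0, 0, 1, 0, 0, 0, 0, 0], [0, 0, 0, 0, 0, 0, 0, 0, 0, 1, 0, 0, 0, 0], [0, 0, 0, 0, 2, 0, 0, 0, 0, 0, 1, 0, 0, 0], [0, 0, 0, 0, 0, 2, 0, 0, 0, 0, 0, 1, 0, 0], [0, 0, 0, 0, 0, 0, 0, 2, 0, 0, 0, 0, 1, 0], [0, 2, 3, 0, 0, 0, 0, 0, 0, 0, 0, 0, 0, 1]],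
  [[1, 0, 3, 0, 0, 0, 0, 0, 0, 0, 0, 0, 0, 0], [0, 1, 0, 0, 0, 0, 0, 0, 0, 0, 0, 0, 0, 0], [0, 0, 1, 0, 0, 0, 0, 0, 0, 0, 0, 0, 0, 0], [0, 0, 0, 1, 0, 0, 0, 0, 0, 0, 0, 0, 0, 0], [0, 0, 0, 0, 1, 0, 0, 0, 0, 0, 0, 0, 0, 0], [0, 0, 0, 0, 0, 1, 0, 0, 0, 0, 0, 0, 0, 0], [0, 0, 0, 0, 0, 0, 1, 0, 0, 0, 0, 0, 0, 0], [0, 0, 0, 0, 0, 0, 0, 1, 0, 0, 0, 0, 0, 0], [0, 0, 0, 3, 0, 0, 0, 0, 1, 0, 0, 0, 0, 0], [0, 0, 0, 0, 0, 0, 0, 0, 0, 1, 0, 0, 0, 0], [0, 0, 0, 0, 3, 0, 0, 0, 0, 0, 1, 0, 0, 0], [0, 0, 0, 0, 0, 3, 0, 0, 0, 0, 0, 1, 0, 0], [0, 0, 0, 0, 0, 0, 0, 3, 0, 0, 0, 0, 1, 0], [0, 3, 2, 0, 0, 0, 0, 0, 0, 0, 0, 0, 0, 1]]]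

/-- the table of `x_r(fc t)`, `t = 1, 2, 3`, as a matrix -/
def XT (r t : ℕ) : Matrix D.Idx D.Idx F :=
  Matrix.of fun i j => fc (((xmL.getD (3 * r + (t - 1)) []).getD (ix i) []).getD (ix j) 0)

/-- the 18 relators of the Suzuki presentation on `a, ..., f` (a copy of `Cfsg.Agent.Helper72.SuzPres.base4`) -/
def rel4 : List (List ℕ) := [[0, 1, 0, 1, 0, 1, 0, 1, 0, 1], [0, 2, 0, 2], [0, 3, 0, 3], [0, 4, 0, 4], [0, 5, 0, 5], [1, 2, 1, 2, 1, 2], [1, 3, 1, 3], [1, 4, 1, 4], [1, 5, 1, 5, 1, 5], [2, 3, 2, 3, 2, 3, 2, 3, 2, 3, 2, 3, 2, 3, 2, 3], [2, 4, 2, 4], [2, 5, 2, 5], [3, 4, 3, 4, 3, 4], [3, 5, 3, 5], [4, 5, 4, 5], [0, 3, 2, 3, 2, 3, 2, 3, 2],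 [0, 1, 2, 5, 0, 1, 2, 5, 0, 1, 2, 5, 0, 1, 2, 5, 0, 1, 2, 5], [1, 2, 3, 2, 3, 1, 2, 3, 2, 3, 1, 2, 3, 2, 3, 1, 2, 3, 2, 3, 1, 2, 3, 2, 3, 4, 1, 2, 3, 2, 3, 1, 2, 3, 2, 3, 1, 2, 3, 2, 3, 1, 2, 3, 2, 3, 1, 2, 3, 2, 3, 4, 1, 2, 3, 2, 3, 1, 2, 3, 2, 3, 1, 2, 3, 2, 3, 1, 2, 3, 2, 3, 1, 2, 3, 2, 3, 4]]

end Cfsg.Agent.Helper92.G24
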