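import Mathlib
import Cfsg.Prelude.Def_Spor_Fi22
import Cfsg.Prelude.Def_Spor_Fi23

/-!
# The presented groups `Fi22` and `Fi23` are perfect

All generators have the same image `t` in the abelianization (edges labelled `3`), `t * t = 1`, and
the relator `(a b c d e f h)^9` gives `t^63 = 1`, so `t = 1`.  (Adapted from helper28's `S1691`.)
-/

set_option autoImplicit false

namespace Cfsg.Agent.Helper92.FiPerfect

open Cfsg Cfsg.Spor

section Fi22

open Cfsg.Spor.Fi22

/-- image of a generator in the abelianization -/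
def ab22 (x : Fi22.Gen) : Abelianization Fi22 := Abelianization.of (PresentedGroup.of x)

theorem mem_rels_cox22 (x y : Fi22.Gen) (hx : x ∈ coxNodes Fi22.edges) (hy : y ∈ coxNodes Fi22.edges) :
    (FreeGroup.of x * FreeGroup.of y) ^ coxLabel Fi22.edges x y ∈
      (coxRelators Fi22.edges ∪ {r | r ∈ Fi22.extra} : Set (FreeGroup Fi22.Gen)) :=
  Or.inl ⟨x, hx, y, hy, rfl⟩

theorem all_nodes22 (x : Fi22.Gen) : x ∈ coxNodes Fi22.edges := by
  cases x <;> decide

theorem of_sq22 (x : Fi22.Gen) : (PresentedGroup.of x : Fi22) * PresentedGroup.of x = 1 := by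
  have := PresentedGroup.one_of_mem (mem_rels_cox22 x x (all_nodes22 x) (all_nodes22 x))
  have h : coxLabel Fi22.edges x x = 1 := by simp [coxLabel]
  rw [h, pow_one, map_mul] at this
  exact this

theorem of_cube22 (x y : Fi22.Gen) (h : coxLabel Fi22.edges x y = 3) :
    ((PresentedGroup.of x : Fi22) * PresentedGroup.of y) ^ 3 = 1 := by
  have := PresentedGroup.one_of_mem (mem_rels_cox22 x y (all_nodes22 x) (all_nodes22 y))
  rw [h, map_pow, map_mul] at this
  exact this

theorem ab_sq22 (x : Fi22.Gen) : ab22 x * ab22 x = 1 := by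
  unfold ab22
  rw [← map_mul, of_sq22, map_one]

theorem ab_eq22 (x y : Fi22.Gen) (h : coxLabel Fi22.edges x y = 3) : ab22 x = ab22 y := by
  have h3 : (ab22 x * ab22 y) ^ 3 = 1 := by
    unfold ab22
    rw [← map_mul, ← map_pow, of_cube22 x y h, map_one]
  have hx := ab_sq22 x
  have hy := ab_sq22 y
  rw [mul_pow] at h3
  have hx3 : ab22 x ^ 3 = ab22 x := by
    rw [pow_succ, pow_two, hx, one_mul]
  have hy3 : ab22 y ^ 3 = ab22 y := by
    rw [pow_succ, pow_two, hy, one_mul]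
  rw [hx3, hy3] at h3
  calc ab22 x = ab22 x * (ab22 y * ab22 y) := by rw [hy, mul_one]
    _ = (ab22 x * ab22 y) * ab22 y := by rw [mul_assoc]
    _ = ab22 y := by rw [h3, one_mul]

theorem ab_all22 (x : Fi22.Gen) : ab22 x = ab22 Fi22.Gen.d := by
  have hc : ab22 Fi22.Gen.c = ab22 Fi22.Gen.d := ab_eq22 _ _ (by decide)
  have hb : ab22 Fi22.Gen.b = ab22 Fi22.Gen.d := (ab_eq22 Fi22.Gen.b Fi22.Gen.c (by decide)).trans hc
  have ha : ab22 Fi22.Gen.a = ab22 Fi22.Gen.d := (ab_eq22 Fi22.Gen.a Fi22.Gen.b (by decide)).trans hb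
  have he : ab22 Fi22.Gen.e = ab22 Fi22.Gen.d := (ab_eq22 Fi22.Gen.d Fi22.Gen.e (by decide)).symm
  have hf : ab22 Fi22.Gen.f = ab22 Fi22.Gen.d :=
    (ab_eq22 Fi22.Gen.e Fi22.Gen.f (by decide)).symm.trans he
  have hg : ab22 Fi22.Gen.g = ab22 Fi22.Gen.d :=
    (ab_eq22 Fi22.Gen.f Fi22.Gen.g (by decide)).symm.trans hf
  have hh : ab22 Fi22.Gen.h = ab22 Fi22.Gen.d := (ab_eq22 Fi22.Gen.d Fi22.Gen.h (by decide)).symm
  have hi : ab22 Fi22.Gen.i = ab22 Fi22.Gen.d :=
    (ab_eq22 Fi22.Gen.h Fi22.Gen.i (by decide)).symm.trans hh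
  cases x <;> first | rfl | assumption

/-- the odd relator kills the common image -/
theorem ab_d22 : ab22 Fi22.Gen.d = 1 := by
  have hmem : (Fi22.a * Fi22.b * Fi22.c * Fi22.d * Fi22.e * Fi22.f * Fi22.h) ^ 9 ∈
      (coxRelators Fi22.edges ∪ {r | r ∈ Fi22.extra} : Set (FreeGroup Fi22.Gen)) := by
    right
    simp [Fi22.extra]
  have h1 := PresentedGroup.one_of_mem hmem
  have h2 := congrArg (Abelianization.of (G := Fi22)) h1
  simp only [map_pow, map_mul, map_one] at h2
  have e : ∀ x : Fi22.Gen, Abelianization.of (PresentedGroup.mk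
      (coxRelators Fi22.edges ∪ {r | r ∈ Fi22.extra}) (FreeGroup.of x)) = ab22 Fi22.Gen.d :=
    fun x => ab_all22 x
  rw [e, e, e, e, e, e, e] at h2
  set t := ab22 Fi22.Gen.d with ht
  have hsq : t * t = 1 := ab_sq22 _
  have h7 : t * t * t * t * t * t * t = t ^ 7 := by
    simp only [pow_succ, pow_zero, one_mul]
  have h63 : t ^ 63 = 1 := by
    rw [h7, ← pow_mul] at h2
    exact h2
  have : t ^ 63 = t := by
    rw [show 63 = 2 * 31 + 1 from rfl, pow_succ, pow_mul, pow_two, hsq, one_pow, one_mul]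
  rw [← this, h63]

theorem ab_mem22 (w : FreeGroup Fi22.Gen) :
    Abelianization.of (PresentedGroup.mk (coxRelators Fi22.edges ∪ {r | r ∈ Fi22.extra}) w) =
      (1 : Abelianization Fi22) := by
  induction w using FreeGroup.induction_on with
  | C1 => rw [MonoidHom.map_one, MonoidHom.map_one]
  | of x =>
    have : Abelianization.of (PresentedGroup.mk (coxRelators Fi22.edges ∪ {r | r ∈ Fi22.extra})
        (FreeGroup.of x)) = ab22 x := rfl
    rw [this, ab_all22 x, ab_d22]
  | inv_of x h =>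
    rw [MonoidHom.map_inv, MonoidHom.map_inv, h, inv_one]
  | mul x y hx hy =>
    rw [MonoidHom.map_mul, MonoidHom.map_mul, hx, hy, one_mul]

/-- the presented group `Fi22` is perfect -/
theorem commutator_Fi22 : commutator Cfsg.Spor.Fi22 = ⊤ := by
  rw [eq_top_iff]
  intro g _
  obtain ⟨w, rfl⟩ := PresentedGroup.mk_surjective _ g
  have h := ab_mem22 w
  rw [← QuotientGroup.eq_one_iff]
  exact h

end Fi22

section Fi23

open Cfsg.Spor.Fi23

/-- image of a generator in the abelianization -/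
def ab23 (x : Fi23.Gen) : Abelianization Fi23 := Abelianization.of (PresentedGroup.of x)

theorem mem_rels_cox23 (x y : Fi23.Gen) (hx : x ∈ coxNodes Fi23.edges) (hy : y ∈ coxNodes Fi23.edges) :
    (FreeGroup.of x * FreeGroup.of y) ^ coxLabel Fi23.edges x y ∈
      (coxRelators Fi23.edges ∪ {r | r ∈ Fi23.extra} : Set (FreeGroup Fi23.Gen)) :=
  Or.inl ⟨x, hx, y, hy, rfl⟩

theorem all_nodes23 (x : Fi23.Gen) : x ∈ coxNodes Fi23.edges := by
  cases x <;> decide

theorem of_sq23 (x : Fi23.Gen) : (PresentedGroup.of x : Fi23) * PresentedGroup.of x = 1 := by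
  have := PresentedGroup.one_of_mem (mem_rels_cox23 x x (all_nodes23 x) (all_nodes23 x))
  have h : coxLabel Fi23.edges x x = 1 := by simp [coxLabel]
  rw [h, pow_one, map_mul] at this
  exact this

theorem of_cube23 (x y : Fi23.Gen) (h : coxLabel Fi23.edges x y = 3) :
    ((PresentedGroup.of x : Fi23) * PresentedGroup.of y) ^ 3 = 1 := by
  have := PresentedGroup.one_of_mem (mem_rels_cox23 x y (all_nodes23 x) (all_nodes23 y))
  rw [h, map_pow, map_mul] at this
  exact this

theorem ab_sq23 (x : Fi23.Gen) : ab23 x * ab23 x = 1 := by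
  unfold ab23
  rw [← map_mul, of_sq23, map_one]

theorem ab_eq23 (x y : Fi23.Gen) (h : coxLabel Fi23.edges x y = 3) : ab23 x = ab23 y := by
  have h3 : (ab23 x * ab23 y) ^ 3 = 1 := by
    unfold ab23
    rw [← map_mul, ← map_pow, of_cube23 x y h, map_one]
  have hx := ab_sq23 x
  have hy := ab_sq23 y
  rw [mul_pow] at h3
  have hx3 : ab23 x ^ 3 = ab23 x := by
    rw [pow_succ, pow_two, hx, one_mul]
  have hy3 : ab23 y ^ 3 = ab23 y := by
    rw [pow_succ, pow_two, hy, one_mul]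
  rw [hx3, hy3] at h3
  calc ab23 x = ab23 x * (ab23 y * ab23 y) := by rw [hy, mul_one]
    _ = (ab23 x * ab23 y) * ab23 y := by rw [mul_assoc]
    _ = ab23 y := by rw [h3, one_mul]

theorem ab_all23 (x : Fi23.Gen) : ab23 x = ab23 Fi23.Gen.d := by
  have hc : ab23 Fi23.Gen.c = ab23 Fi23.Gen.d := ab_eq23 _ _ (by decide)
  have hb : ab23 Fi23.Gen.b = ab23 Fi23.Gen.d := (ab_eq23 Fi23.Gen.b Fi23.Gen.c (by decide)).trans hc
  have ha : ab23 Fi23.Gen.a = ab23 Fi23.Gen.d := (ab_eq23 Fi23.Gen.a Fi23.Gen.b (by decide)).trans hb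
  have he : ab23 Fi23.Gen.e = ab23 Fi23.Gen.d := (ab_eq23 Fi23.Gen.d Fi23.Gen.e (by decide)).symm
  have hf : ab23 Fi23.Gen.f = ab23 Fi23.Gen.d :=
    (ab_eq23 Fi23.Gen.e Fi23.Gen.f (by decide)).symm.trans he
  have hg : ab23 Fi23.Gen.g = ab23 Fi23.Gen.d :=
    (ab_eq23 Fi23.Gen.f Fi23.Gen.g (by decide)).symm.trans hf
  have hj : ab23 Fi23.Gen.j = ab23 Fi23.Gen.d :=
    (ab_eq23 Fi23.Gen.g Fi23.Gen.j (by decide)).symm.trans hg
  have hh : ab23 Fi23.Gen.h = ab23 Fi23.Gen.d := (ab_eq23 Fi23.Gen.d Fi23.Gen.h (by decide)).symm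
  have hi : ab23 Fi23.Gen.i = ab23 Fi23.Gen.d :=
    (ab_eq23 Fi23.Gen.h Fi23.Gen.i (by decide)).symm.trans hh
  cases x <;> first | rfl | assumption

/-- the odd relator kills the common image -/
theorem ab_d23 : ab23 Fi23.Gen.d = 1 := by
  have hmem : (Fi23.a * Fi23.b * Fi23.c * Fi23.d * Fi23.e * Fi23.f * Fi23.h) ^ 9 ∈
      (coxRelators Fi23.edges ∪ {r | r ∈ Fi23.extra} : Set (FreeGroup Fi23.Gen)) := by
    right
    simp [Fi23.extra]
  have h1 := PresentedGroup.one_of_mem hmem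
  have h2 := congrArg (Abelianization.of (G := Fi23)) h1
  simp only [map_pow, map_mul, map_one] at h2
  have e : ∀ x : Fi23.Gen, Abelianization.of (PresentedGroup.mk
      (coxRelators Fi23.edges ∪ {r | r ∈ Fi23.extra}) (FreeGroup.of x)) = ab23 Fi23.Gen.d :=
    fun x => ab_all23 x
  rw [e, e, e, e, e, e, e] at h2
  set t := ab23 Fi23.Gen.d with ht
  have hsq : t * t = 1 := ab_sq23 _
  have h7 : t * t * t * t * t * t * t = t ^ 7 := by
    simp only [pow_succ, pow_zero, one_mul]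
  have h63 : t ^ 63 = 1 := by
    rw [h7, ← pow_mul] at h2
    exact h2
  have : t ^ 63 = t := by
    rw [show 63 = 2 * 31 + 1 from rfl, pow_succ, pow_mul, pow_two, hsq, one_pow, one_mul]
  rw [← this, h63]

theorem ab_mem23 (w : FreeGroup Fi23.Gen) :
    Abelianization.of (PresentedGroup.mk (coxRelators Fi23.edges ∪ {r | r ∈ Fi23.extra}) w) =
      (1 : Abelianization Fi23) := by
  induction w using FreeGroup.induction_on with
  | C1 => rw [MonoidHom.map_one, MonoidHom.map_one]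
  | of x =>
    have : Abelianization.of (PresentedGroup.mk (coxRelators Fi23.edges ∪ {r | r ∈ Fi23.extra})
        (FreeGroup.of x)) = ab23 x := rfl
    rw [this, ab_all23 x, ab_d23]
  | inv_of x h =>
    rw [MonoidHom.map_inv, MonoidHom.map_inv, h, inv_one]
  | mul x y hx hy =>
    rw [MonoidHom.map_mul, MonoidHom.map_mul, hx, hy, one_mul]

/-- the presented group `Fi23` is perfect -/
theorem commutator_Fi23 : commutator Cfsg.Spor.Fi23 = ⊤ := by
  rw [eq_top_iff]
  intro g _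
  obtain ⟨w, rfl⟩ := PresentedGroup.mk_surjective _ g
  have h := ab_mem23 w
  rw [← QuotientGroup.eq_one_iff]
  exact h

end Fi23

end Cfsg.Agent.Helper92.FiPerfect
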