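import Mathlib

/-!
# Iwasawa criterion for a rank 3 action with subdegrees 1, 693, 2816

Abstract lemma for S1696 (presented `Fi22` simple), written for helper27.
-/

set_option autoImplicit false

namespace Cfsg.Agent.Helper92.Rank3Simple

open MulAction
open scoped Pointwise

variable {G : Type*} [Group G]

/-- An `H`-invariant set contains an `H`-orbit or is disjoint from it. -/
theorem orbit_subset_or_disjoint {X : Type*} [MulAction G X] (H : Subgroup G) (B : Set X)
    (hB : ∀ h : H, ∀ x ∈ B, h • x ∈ B) (q : X) :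
    MulAction.orbit H q ⊆ B ∨ Disjoint B (MulAction.orbit H q) := by
  by_cases hq : q ∈ B
  · left
    rintro _ ⟨h, rfl⟩
    exact hB h q hq
  · right
    rw [Set.disjoint_left]
    rintro x hx ⟨h, rfl⟩
    apply hq
    have := hB h⁻¹ _ hx
    simp at this
    exact this

/-- the `H`-orbit of the trivial coset is a point -/
theorem orbit_one (H : Subgroup G) :
    MulAction.orbit H ((1 : G) : G ⧸ H) = {((1 : G) : G ⧸ H)} := by
  ext x
  constructor
  · rintro ⟨h, rfl⟩
    rw [Set.mem_singleton_iff]
    change ((h : G) • ((1 : G) : G ⧸ H)) = _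
    rw [MulAction.Quotient.smul_mk, QuotientGroup.eq]
    simpa using H.inv_mem h.2
  · intro hx
    rw [Set.mem_singleton_iff] at hx
    rw [hx]
    exact MulAction.mem_orbit_self _

/-- the counting core: an `H`-invariant set through the base point whose size divides `3510` is a
point or everything -/
theorem trivial_of_invariant [Finite G] (H : Subgroup G) (hidx : H.index = 3510) (q₁ q₂ : G ⧸ H)
    (h1 : (MulAction.orbit H q₁).ncard = 693) (h2 : (MulAction.orbit H q₂).ncard = 2816)
    (B : Set (G ⧸ H)) (hB : ∀ h : H, ∀ x ∈ B, h • x ∈ B) (h0 : ((1 : G) : G ⧸ H) ∈ B)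
    (hdvd : B.ncard ∣ 3510) : B.Subsingleton ∨ B = Set.univ := by
  classical
  set a0 : G ⧸ H := ((1 : G) : G ⧸ H) with ha0
  set O1 := MulAction.orbit H q₁ with hO1
  set O2 := MulAction.orbit H q₂ with hO2
  have hcard : Nat.card (G ⧸ H) = 3510 := by rw [← hidx]; rfl
  have hfin : ∀ s : Set (G ⧸ H), s.Finite := fun s => Set.toFinite s
  -- the base point is in neither orbit
  have h01 : a0 ∉ O1 := by
    intro h
    have : MulAction.orbit H a0 = O1 := (MulAction.orbit_eq_iff).2 h
    rw [orbit_one] at this
    have hc := congrArg Set.ncard this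
    rw [Set.ncard_singleton, h1] at hc
    omega
  have h02 : a0 ∉ O2 := by
    intro h
    have : MulAction.orbit H a0 = O2 := (MulAction.orbit_eq_iff).2 h
    rw [orbit_one] at this
    have hc := congrArg Set.ncard this
    rw [Set.ncard_singleton, h2] at hc
    omega
  have h12 : Disjoint O1 O2 := by
    rcases MulAction.orbit.eq_or_disjoint (G := H) q₁ q₂ with h | h
    · exfalso
      have hc := congrArg Set.ncard h
      rw [h1, h2] at hc
      omega
    · exact h
  have hd01 : Disjoint ({a0} : Set (G ⧸ H)) O1 := Set.disjoint_singleton_left.2 h01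
  have hd02 : Disjoint ({a0} : Set (G ⧸ H)) O2 := Set.disjoint_singleton_left.2 h02
  have hd012 : Disjoint (({a0} : Set (G ⧸ H)) ∪ O1) O2 := Set.disjoint_union_left.2 ⟨hd02, h12⟩
  -- the three orbits exhaust the cosets
  have huniv : ({a0} : Set (G ⧸ H)) ∪ O1 ∪ O2 = Set.univ := by
    rw [Set.eq_univ_iff_ncard, Set.ncard_union_eq hd012 (hfin _) (hfin _),
      Set.ncard_union_eq hd01 (hfin _) (hfin _), Set.ncard_singleton, h1, h2, hcard]
  -- decompose `B`
  have hBdec : B = (B ∩ {a0}) ∪ (B ∩ O1) ∪ (B ∩ O2) := by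
    rw [← Set.inter_union_distrib_left, ← Set.inter_union_distrib_left, huniv, Set.inter_univ]
  have hB0 : B ∩ {a0} = {a0} := Set.inter_eq_right.2 (Set.singleton_subset_iff.2 h0)
  have hdB01 : Disjoint (B ∩ {a0}) (B ∩ O1) :=
    hd01.mono Set.inter_subset_right Set.inter_subset_right
  have hdB012 : Disjoint ((B ∩ {a0}) ∪ (B ∩ O1)) (B ∩ O2) :=
    hd012.mono (Set.union_subset_union Set.inter_subset_right Set.inter_subset_right)
      Set.inter_subset_right
  have hcount : B.ncard = 1 + (B ∩ O1).ncard + (B ∩ O2).ncard := by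
    conv_lhs => rw [hBdec]
    rw [Set.ncard_union_eq hdB012 (hfin _) (hfin _), Set.ncard_union_eq hdB01 (hfin _) (hfin _),
      hB0, Set.ncard_singleton]
  have hc1 : (B ∩ O1).ncard = 693 ∨ (B ∩ O1).ncard = 0 := by
    rcases orbit_subset_or_disjoint H B hB q₁ with h | h
    · left
      have h' : O1 ⊆ B := h
      rw [Set.inter_eq_right.2 h', h1]
    · right
      have h' : Disjoint B O1 := h
      rw [Set.disjoint_iff_inter_eq_empty.1 h', Set.ncard_empty]
  have hc2 : (B ∩ O2).ncard = 2816 ∨ (B ∩ O2).ncard = 0 := by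
    rcases orbit_subset_or_disjoint H B hB q₂ with h | h
    · left
      have h' : O2 ⊆ B := h
      rw [Set.inter_eq_right.2 h', h2]
    · right
      have h' : Disjoint B O2 := h
      rw [Set.disjoint_iff_inter_eq_empty.1 h', Set.ncard_empty]
  rcases hc1 with e1 | e1 <;> rcases hc2 with e2 | e2 <;> rw [e1, e2] at hcount
  · right
    rw [Set.eq_univ_iff_ncard, hcount, hcard]
  · exfalso
    rw [hcount] at hdvd
    revert hdvd
    norm_num
  · exfalso
    rw [hcount] at hdvd
    revert hdvd
    norm_num
  · left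
    have : B.ncard = 1 := by rw [hcount]
    obtain ⟨x, hx⟩ := Set.ncard_eq_one.1 this
    rw [hx]
    exact Set.subsingleton_singleton

/-- the action on the cosets of `H` is primitive -/
theorem isPreprimitive_of_rank3 [Finite G] (H : Subgroup G) (hidx : H.index = 3510)
    (q₁ q₂ : G ⧸ H)
    (h1 : (MulAction.orbit H q₁).ncard = 693) (h2 : (MulAction.orbit H q₂).ncard = 2816) :
    IsPreprimitive G (G ⧸ H) := by
  have hcard : Nat.card (G ⧸ H) = 3510 := by rw [← hidx]; rfl
  apply IsPreprimitive.of_isTrivialBlock_base ((1 : G) : G ⧸ H)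
  intro B h0 hB
  refine trivial_of_invariant H hidx q₁ q₂ h1 h2 B ?_ h0 ?_
  · intro h x hx
    have hst : (h : G) ∈ MulAction.stabilizer G B := by
      apply hB.stabilizer_le h0
      rw [MulAction.stabilizer_quotient]
      exact h.2
    have : (h : G) • B = B := hst
    rw [← this]
    exact Set.smul_mem_smul_set hx
  · rw [← hcard]
    exact hB.ncard_dvd_card ⟨_, h0⟩

/-- conjugating a cyclic subgroup -/
theorem conj_smul_zpowers (g x : G) :
    MulAut.conj g • Subgroup.zpowers x = Subgroup.zpowers (g * x * g⁻¹) := by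
  rw [Subgroup.zpowers_eq_closure, Subgroup.zpowers_eq_closure, Subgroup.smul_closure,
    Set.smul_set_singleton, MulAut.smul_def, MulAut.conj_apply]

/-- the Iwasawa structure given by the conjugates of `⟨a⟩`, `a` centralized by `H` -/
noncomputable def iwasawa (H : Subgroup G) (a : G) (haH : ∀ h ∈ H, h * a = a * h)
    (hgen : Subgroup.normalClosure ({a} : Set G) = ⊤) : IwasawaStructure G (G ⧸ H) where
  T := fun x => Quotient.liftOn' x (fun g => Subgroup.zpowers (g * a * g⁻¹)) (by
    intro g g' hgg'
    have hmem : g⁻¹ * g' ∈ H := QuotientGroup.leftRel_apply.1 hgg'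
    have hc := haH _ hmem
    have : g' * a * g'⁻¹ = g * a * g⁻¹ := by
      have h1 : g' = g * (g⁻¹ * g') := by group
      rw [h1, mul_assoc g, hc]
      group
    show Subgroup.zpowers (g * a * g⁻¹) = Subgroup.zpowers (g' * a * g'⁻¹)
    rw [this])
  is_comm := fun x => by
    induction x using Quotient.inductionOn' with
    | h g =>
      show IsMulCommutative (Subgroup.zpowers (g * a * g⁻¹))
      infer_instance
  is_conj := fun g x => by
    induction x using Quotient.inductionOn' with
    | h c =>
      show Subgroup.zpowers ((g * c) * a * (g * c)⁻¹) = MulAut.conj g • Subgroup.zpowers (c * a * c⁻¹)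
      rw [conj_smul_zpowers]
      congr 1
      simp [mul_assoc]
  is_generator := by
    rw [eq_top_iff, ← hgen, Subgroup.normalClosure, Subgroup.closure_le]
    intro x hx
    obtain ⟨b, hb, hconj⟩ := Group.mem_conjugatesOfSet_iff.1 hx
    rw [Set.mem_singleton_iff] at hb
    subst hb
    obtain ⟨c, hc⟩ := isConj_iff.1 hconj
    refine Subgroup.mem_iSup_of_mem (c : G ⧸ H) ?_
    show x ∈ Subgroup.zpowers (c * b * c⁻¹)
    rw [hc]
    exact Subgroup.mem_zpowers x

/-- **Iwasawa's criterion for a rank 3 action with subdegrees `1, 693, 2816`**: a finite perfect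
group `G` acting faithfully on the `3510` cosets of `H`, with `H`-orbits of sizes `693` and `2816`,
generated by the conjugates of an element `a` centralized by `H`, is simple. -/
theorem isSimpleGroup_of_rank3 {G : Type*} [Group G] [Finite G] (H : Subgroup G)
    (hidx : H.index = 3510) (q₁ q₂ : G ⧸ H)
    (h1 : (MulAction.orbit H q₁).ncard = 693) (h2 : (MulAction.orbit H q₂).ncard = 2816)
    (a : G) (haH : ∀ h ∈ H, h * a = a * h)
    (hgen : Subgroup.normalClosure ({a} : Set G) = ⊤) (hperf : commutator G = ⊤)
    (hcore : H.normalCore = ⊥) : IsSimpleGroup G := by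
  haveI : IsPreprimitive G (G ⧸ H) := isPreprimitive_of_rank3 H hidx q₁ q₂ h1 h2
  haveI : Nontrivial G := by
    by_contra hnt
    rw [not_nontrivial_iff_subsingleton] at hnt
    have : H = ⊤ := Subsingleton.elim _ _
    rw [this, Subgroup.index_top] at hidx
    omega
  have hfaith : FaithfulSMul G (G ⧸ H) := by
    refine ⟨fun {g g'} h => ?_⟩
    have hker : g'⁻¹ * g ∈ (MulAction.toPermHom G (G ⧸ H)).ker := by
      rw [MonoidHom.mem_ker]
      ext x
      simp only [MulAction.toPermHom_apply, MulAction.toPerm_apply, Equiv.Perm.coe_one, id_eq]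
      rw [mul_smul, h x, inv_smul_smul]
    rw [← Subgroup.normalCore_eq_ker, hcore, Subgroup.mem_bot] at hker
    exact (inv_mul_eq_one.1 hker).symm
  exact MulAction.IwasawaStructure.isSimpleGroup hperf (iwasawa H a haH hgen) hfaith

end Cfsg.Agent.Helper92.Rank3Simple
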