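import Mathlib
import Cfsg.Agent.Lib.Helper7.M11UDefs

/-!
# helper92: shared toolkit for the M11U pieces (C1), (C3), (G1) of helper7's lemma server (S0420)

Involutions inverting a Sylow 3-subgroup `R` form the coset `tR`, on which `R` acts transitively by
conjugation (`r t r⁻¹ = t r` as `r³ = 1`).
-/

set_option autoImplicit false

namespace Cfsg.Agent.Helper92.M11U

open Subgroup Cfsg.Agent.Helper7.M11U
open scoped Pointwise

section Tool

variable {G : Type*} [Group G]

theorem h92_mem_smul_sylow {p : ℕ} (g x : G) (P : Sylow p G) :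
    x ∈ ((g • P : Sylow p G) : Subgroup G) ↔ g⁻¹ * x * g ∈ (P : Subgroup G) := by
  rw [Sylow.smul_def, Sylow.pointwise_smul_def, Subgroup.mem_pointwise_smul_iff_inv_smul_mem]
  simp [MulAut.smul_def, mul_assoc]

/-- if `t` inverts `P` then `g t g⁻¹` inverts `g • P` -/
theorem h92_inverts_smul {t : G} {p : ℕ} {P : Sylow p G} (h : Inverts t (P : Subgroup G)) (g : G) :
    Inverts (g * t * g⁻¹) ((g • P : Sylow p G) : Subgroup G) := by
  intro x hx
  rw [h92_mem_smul_sylow] at hx
  have := h _ hx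
  calc g * t * g⁻¹ * x * (g * t * g⁻¹)⁻¹ = g * (t * (g⁻¹ * x * g) * t⁻¹) * g⁻¹ := by group
    _ = g * (g⁻¹ * x * g)⁻¹ * g⁻¹ := by rw [this]
    _ = x⁻¹ := by group

/-- two elements inverting `H` differ by an element centralising `H` -/
theorem h92_inv_mul_mem_centralizer {t u : G} {H : Subgroup G} (ht : Inverts t H)
    (hu : Inverts u H) : t⁻¹ * u ∈ centralizer (H : Set G) := by
  rw [Subgroup.mem_centralizer_iff]
  intro x hx
  have h1 := ht x hx
  have h2 := hu x hx
  have h3 : t * x * t⁻¹ = u * x * u⁻¹ := h1.trans h2.symm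
  calc x * (t⁻¹ * u) = t⁻¹ * (t * x * t⁻¹) * u := by group
    _ = t⁻¹ * (u * x * u⁻¹) * u := by rw [h3]
    _ = t⁻¹ * u * x := by group

theorem h92_conj_eq {t r : G} {H : Subgroup G} (ht : Inverts t H) (hr : r ∈ H) (h3 : r ^ 3 = 1) :
    r * t * r⁻¹ = t * r := by
  have h1 := ht r⁻¹ (H.inv_mem hr)
  rw [inv_inv] at h1
  have h2 : r * t = t * r⁻¹ := by
    calc r * t = (t * r⁻¹ * t⁻¹) * t := by rw [h1]
      _ = t * r⁻¹ := by group
  have h4 : r⁻¹ * r⁻¹ = r := by
    have h5 : r * r * r = 1 := by rw [← h3]; simp [pow_succ]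
    calc r⁻¹ * r⁻¹ = r⁻¹ * r⁻¹ * (r * r * r) := by rw [h5, mul_one]
      _ = r := by group
  rw [h2, mul_assoc, h4]

/-- any two elements inverting `R` are conjugate under `R` -/
theorem h92_exists_conj (L : Loc G) {t u : G} {R : Sylow 3 G} (ht : Inverts t (R : Subgroup G))
    (hu : Inverts u (R : Subgroup G)) : ∃ c ∈ (R : Subgroup G), u = c * t * c⁻¹ := by
  have hc := L.cent R _ (h92_inv_mul_mem_centralizer ht hu)
  refine ⟨t⁻¹ * u, hc, ?_⟩
  rw [h92_conj_eq ht hc (L.exp3 R _ hc)]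
  group

/-- an element inverting two distinct Sylow 3-subgroups is determined by them -/
theorem h92_eq_of_inverts_two (L : Loc G) {t u : G} {R R' : Sylow 3 G} (hne : R ≠ R')
    (ht : Inverts t (R : Subgroup G)) (hu : Inverts u (R : Subgroup G))
    (ht' : Inverts t (R' : Subgroup G)) (hu' : Inverts u (R' : Subgroup G)) : u = t := by
  have h1 := L.cent R _ (h92_inv_mul_mem_centralizer ht hu)
  have h2 := L.cent R' _ (h92_inv_mul_mem_centralizer ht' hu')
  have h3 := L.ti R R' hne _ h1 h2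
  exact (inv_mul_eq_one.mp h3).symm

/-- `n ∈ N(R)` conjugates inverting elements to inverting elements -/
theorem h92_inverts_conj_of_mem_normalizer {t n : G} {p : ℕ} {P : Sylow p G}
    (h : Inverts t (P : Subgroup G)) (hn : n ∈ normalizer ((P : Subgroup G) : Set G)) :
    Inverts (n * t * n⁻¹) (P : Subgroup G) := by
  have h1 := h92_inverts_smul h n
  rwa [Sylow.smul_eq_iff_mem_normalizer.mpr hn] at h1

theorem h92_orderOf_conj (g t : G) : orderOf (g * t * g⁻¹) = orderOf t := by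
  have := orderOf_injective (MulAut.conj g).toMonoidHom (MulAut.conj g).injective t
  simpa [MulAut.conj_apply] using this

/-- a type with three elements -/
theorem h92_card3 {α : Type*} [Finite α] (hc : Nat.card α = 3) (a b c x : α) (hab : a ≠ b)
    (hac : a ≠ c) (hbc : b ≠ c) : x = a ∨ x = b ∨ x = c := by
  classical
  by_contra hcon
  push Not at hcon
  obtain ⟨h1, h2, h3⟩ := hcon
  have := Fintype.ofFinite α
  have h4 : ({a, b, c, x} : Finset α).card = 4 := by
    rw [Finset.card_insert_of_notMem, Finset.card_insert_of_notMem,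
      Finset.card_insert_of_notMem, Finset.card_singleton]
    · simp [h3.symm]
    · simp [hbc, h2.symm]
    · simp [hab, hac, h1.symm]
  have h5 := Finset.card_le_univ ({a, b, c, x} : Finset α)
  rw [h4, ← Nat.card_eq_fintype_card, hc] at h5
  omega

/-- the Sylow 3-subgroups inverted by `t` are exactly `R, R2, R3` -/
theorem h92_three_cases [Finite G] (L : Loc G) {t : G} {R R2 R3 : Sylow 3 G} (T : Tri t R R2 R3)
    (X : Sylow 3 G) (hX : Inverts t (X : Subgroup G)) : X = R ∨ X = R2 ∨ X = R3 := by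
  have hc := L.three t T.ht
  have := h92_card3 hc (⟨R, T.i1⟩ : {P : Sylow 3 G // Inverts t (P : Subgroup G)}) ⟨R2, T.i2⟩
    ⟨R3, T.i3⟩ ⟨X, hX⟩ (by simpa using T.ne12) (by simpa using T.ne13) (by simpa using T.ne23)
  simpa [Subtype.ext_iff] using this

/-- a product decomposition of a subgroup gives a product of cardinalities -/
theorem h92_card_eq_mul [Finite G] (N H K : Subgroup G) (hH : H ≤ N) (hK : K ≤ N)
    (hdisj : ∀ x, x ∈ H → x ∈ K → x = 1) (hgen : ∀ n ∈ N, ∃ h ∈ H, ∃ k ∈ K, n = h * k) :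
    Nat.card N = Nat.card H * Nat.card K := by
  rw [← Nat.card_prod]
  symm
  apply Nat.card_eq_of_bijective
    (fun p : H × K => (⟨p.1 * p.2, N.mul_mem (hH p.1.2) (hK p.2.2)⟩ : N))
  constructor
  · rintro ⟨⟨h1, hh1⟩, ⟨k1, hk1⟩⟩ ⟨⟨h2, hh2⟩, ⟨k2, hk2⟩⟩ heq
    simp only [Subtype.mk.injEq] at heq
    have e1 : h2⁻¹ * h1 = k2 * k1⁻¹ := by
      calc h2⁻¹ * h1 = h2⁻¹ * (h1 * k1) * k1⁻¹ := by group
        _ = h2⁻¹ * (h2 * k2) * k1⁻¹ := by rw [heq]
        _ = k2 * k1⁻¹ := by group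
    have e2 := hdisj (h2⁻¹ * h1) (H.mul_mem (H.inv_mem hh2) hh1)
      (e1 ▸ K.mul_mem hk2 (K.inv_mem hk1))
    have e3 : h1 = h2 := by
      have := inv_mul_eq_one.mp e2
      exact this.symm
    have e4 : k1 = k2 := by
      rw [e2] at e1
      have := (mul_inv_eq_one.mp e1.symm)
      exact this.symm
    subst e3; subst e4; rfl
  · rintro ⟨n, hn⟩
    obtain ⟨h, hh, k, hk, rfl⟩ := hgen n hn
    exact ⟨(⟨h, hh⟩, ⟨k, hk⟩), rfl⟩

end Tool

end Cfsg.Agent.Helper92.M11U
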