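import Mathlib
import Cfsg.Agent.Lib.Helper7.M11UDefs
import Cfsg.Agent.Lib.Helper92.M11UTool

/-!
# M11U (C1) `conf_cS` (helper7's lemma server, S0420): `|N(R) ⊓ C(t)| = 16`
-/

set_option autoImplicit false

namespace Cfsg.Agent.Helper92.M11U

open Subgroup Cfsg.Agent.Helper7.M11U
open scoped Pointwise

section C

variable {G : Type*} [Group G] [Finite G] {t : G} {R R2 R3 : Sylow 3 G}

/-- `N(R) = R · (N(R) ⊓ C(t))` with trivial intersection, for any `t` inverting `R` -/
theorem h92_card_normalizer_eq (L : Loc G) {t : G} {R : Sylow 3 G}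
    (ht : Inverts t (R : Subgroup G)) :
    Nat.card (normalizer ((R : Subgroup G) : Set G)) =
      Nat.card (R : Subgroup G) *
        Nat.card (normalizer ((R : Subgroup G) : Set G) ⊓ centralizer ({t} : Set G) : Subgroup G) := by
  apply h92_card_eq_mul _ _ _ Subgroup.le_normalizer inf_le_left
  · intro x hxR hxS
    have h1 := ht x hxR
    have h2 : x * t = t * x := Subgroup.mem_centralizer_singleton_iff.mp hxS.2
    have h3 : x⁻¹ = x := by
      rw [← h1, ← h2]; group
    have h4 : x * x = 1 := by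
      nth_rewrite 1 [← h3]; group
    have h5 := L.exp3 R x hxR
    calc x = x ^ 3 * (x * x)⁻¹ := by group
      _ = 1 := by rw [h5, h4]; group
  · intro n hn
    have h1 := h92_inverts_conj_of_mem_normalizer ht hn
    obtain ⟨c, hc, hcu⟩ := h92_exists_conj L ht h1
    refine ⟨c, hc, c⁻¹ * n, ⟨?_, ?_⟩, by group⟩
    · exact (normalizer ((R : Subgroup G) : Set G)).mul_mem
        ((normalizer ((R : Subgroup G) : Set G)).inv_mem (Subgroup.le_normalizer hc)) hn
    · show c⁻¹ * n ∈ centralizer ({t} : Set G)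
      rw [Subgroup.mem_centralizer_singleton_iff]
      calc c⁻¹ * n * t = c⁻¹ * (n * t * n⁻¹) * n := by group
        _ = c⁻¹ * (c * t * c⁻¹) * n := by rw [hcu]
        _ = t * (c⁻¹ * n) := by group

/-- (C1) `S = N(R) ⊓ C(t)` has order 16. -/
theorem conf_cS (B : Base G) (L : Loc G) (T : Tri t R R2 R3) :
    Nat.card (normalizer ((R : Subgroup G) : Set G) ⊓ centralizer ({t} : Set G) : Subgroup G) = 16 := by
  have h1 := h92_card_normalizer_eq L T.i1
  rw [B.h144 R, L.card3 R] at h1
  omega

end C

end Cfsg.Agent.Helper92.M11U
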