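import Mathlib
import Cfsg.Agent.Lib.Helper7.M11UDefs
import Cfsg.Agent.Lib.Helper92.M11UTool

/-!
# M11U (C3) `conf_O` (helper7's lemma server, S0420): `O = N(R) ⊓ N(R2)` has order 8,
centralises `t` and normalises `R3`
-/

set_option autoImplicit false

namespace Cfsg.Agent.Helper92.M11U

open Subgroup Cfsg.Agent.Helper7.M11U
open scoped Pointwise

section C

variable {G : Type*} [Group G] [Finite G] {t : G} {R R2 R3 : Sylow 3 G}

/-- an element of `N(R) ⊓ N(R2)` centralises `t` and normalises `R3` -/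
theorem h92_O_props (L : Loc G) (T : Tri t R R2 R3) (o : G)
    (h1 : o ∈ normalizer ((R : Subgroup G) : Set G))
    (h2 : o ∈ normalizer ((R2 : Subgroup G) : Set G)) :
    o * t = t * o ∧ o ∈ normalizer ((R3 : Subgroup G) : Set G) := by
  have hu1 := h92_inverts_conj_of_mem_normalizer T.i1 h1
  have hu2 := h92_inverts_conj_of_mem_normalizer T.i2 h2
  have hut : o * t * o⁻¹ = t := h92_eq_of_inverts_two L T.ne12 T.i1 hu1 T.i2 hu2
  have hcomm : o * t = t * o := by
    calc o * t = (o * t * o⁻¹) * o := by group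
      _ = t * o := by rw [hut]
  refine ⟨hcomm, ?_⟩
  have h3 := h92_inverts_smul T.i3 o
  rw [hut] at h3
  rcases h92_three_cases L T (o • R3) h3 with h | h | h
  · exfalso
    have h4 : o • R3 = o • R := by rw [h, Sylow.smul_eq_iff_mem_normalizer.mpr h1]
    exact T.ne13 (smul_left_cancel o h4).symm
  · exfalso
    have h4 : o • R3 = o • R2 := by rw [h, Sylow.smul_eq_iff_mem_normalizer.mpr h2]
    exact T.ne23 (smul_left_cancel o h4).symm
  · exact Sylow.smul_eq_iff_mem_normalizer.mp h

/-- an element of `N(R) ⊓ C(t)` permutes `{R2, R3}` -/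
theorem h92_S_perm (L : Loc G) (T : Tri t R R2 R3) (b : G)
    (h1 : b ∈ normalizer ((R : Subgroup G) : Set G)) (h2 : b * t = t * b) (X : Sylow 3 G)
    (hX : Inverts t (X : Subgroup G)) (hXR : X ≠ R) : b • X = R2 ∨ b • X = R3 := by
  have hbt : b * t * b⁻¹ = t := by rw [h2]; group
  have h3 := h92_inverts_smul hX b
  rw [hbt] at h3
  rcases h92_three_cases L T (b • X) h3 with h | h | h
  · exfalso
    have h4 : b • X = b • R := by rw [h, Sylow.smul_eq_iff_mem_normalizer.mpr h1]
    exact hXR (smul_left_cancel b h4)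
  · exact Or.inl h
  · exact Or.inr h

/-- (C3) `O = N(R) ⊓ N(R2)` has order 8, centralises `t` and normalises `R3`. -/
theorem conf_O (B : Base G) (L : Loc G) (T : Tri t R R2 R3)
    (hS : Nat.card (normalizer ((R : Subgroup G) : Set G) ⊓ centralizer ({t} : Set G) : Subgroup G) = 16)
    (hsw : ∃ s : G, s ∈ normalizer ((R : Subgroup G) : Set G) ∧ s * t = t * s ∧ s • R2 = R3 ∧ s • R3 = R2) :
    Nat.card (normalizer ((R : Subgroup G) : Set G) ⊓ normalizer ((R2 : Subgroup G) : Set G) : Subgroup G) = 8 ∧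
    ∀ o : G, o ∈ normalizer ((R : Subgroup G) : Set G) → o ∈ normalizer ((R2 : Subgroup G) : Set G) →
      o * t = t * o ∧ o ∈ normalizer ((R3 : Subgroup G) : Set G) := by
  refine ⟨?_, fun o h1 h2 => h92_O_props L T o h1 h2⟩
  obtain ⟨s, hsN, hst, hs2, hs3⟩ := hsw
  have hOS : (normalizer ((R : Subgroup G) : Set G) ⊓ normalizer ((R2 : Subgroup G) : Set G) : Subgroup G) ≤
      normalizer ((R : Subgroup G) : Set G) ⊓ centralizer ({t} : Set G) := by
    intro o ho
    exact ⟨ho.1, Subgroup.mem_centralizer_singleton_iff.mpr (h92_O_props L T o ho.1 ho.2).1⟩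
  have hidx : (normalizer ((R : Subgroup G) : Set G) ⊓ normalizer ((R2 : Subgroup G) : Set G) : Subgroup G).relIndex
      (normalizer ((R : Subgroup G) : Set G) ⊓ centralizer ({t} : Set G)) = 2 := by
    rw [Subgroup.relIndex_eq_two_iff]
    refine ⟨s, ⟨hsN, Subgroup.mem_centralizer_singleton_iff.mpr hst⟩, ?_⟩
    intro b hb
    have hbN : b ∈ normalizer ((R : Subgroup G) : Set G) := hb.1
    have hbt : b * t = t * b := Subgroup.mem_centralizer_singleton_iff.mp hb.2
    have e1 : b * s ∈ (normalizer ((R : Subgroup G) : Set G) ⊓ normalizer ((R2 : Subgroup G) : Set G) : Subgroup G) ↔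
        b • R3 = R2 := by
      constructor
      · intro h
        have h5 := Sylow.smul_eq_iff_mem_normalizer.mpr h.2
        rwa [mul_smul, hs2] at h5
      · intro h
        refine ⟨(normalizer ((R : Subgroup G) : Set G)).mul_mem hbN hsN, ?_⟩
        apply Sylow.smul_eq_iff_mem_normalizer.mp
        rw [mul_smul, hs2, h]
    have e2 : b ∈ (normalizer ((R : Subgroup G) : Set G) ⊓ normalizer ((R2 : Subgroup G) : Set G) : Subgroup G) ↔
        b • R2 = R2 := by
      constructor
      · intro h
        exact Sylow.smul_eq_iff_mem_normalizer.mpr h.2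
      · intro h
        exact ⟨hbN, Sylow.smul_eq_iff_mem_normalizer.mp h⟩
    rw [e1, e2]
    have hne : b • R2 ≠ b • R3 := fun h => T.ne23 (smul_left_cancel b h)
    rcases h92_S_perm L T b hbN hbt R2 T.i2 T.ne12.symm with h2 | h2
    · right
      refine ⟨h2, fun h3 => hne (h2.trans h3.symm)⟩
    · left
      rcases h92_S_perm L T b hbN hbt R3 T.i3 T.ne13.symm with h3 | h3
      · exact ⟨h3, fun h4 => T.ne23 (h4.symm.trans h2)⟩
      · exact absurd (h2.trans h3.symm) hne
  have h1 := Subgroup.relIndex_mul_relIndex (⊥ : Subgroup G)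
    (normalizer ((R : Subgroup G) : Set G) ⊓ normalizer ((R2 : Subgroup G) : Set G) : Subgroup G)
    (normalizer ((R : Subgroup G) : Set G) ⊓ centralizer ({t} : Set G)) bot_le hOS
  rw [Subgroup.relIndex_bot_left, Subgroup.relIndex_bot_left, hidx, hS] at h1
  omega

end C

end Cfsg.Agent.Helper92.M11U
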