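import Cfsg.Agent.Lib.Helper92.CodeBasic

set_option autoImplicit false

namespace Cfsg.Agent.Helper92
open Cfsg Cfsg.Agent.Helper7
open scoped Pointwise

/-- residue-class sets modulo 4 of an integer vector -/
def resSet (x : GolayPt → ℤ) (k : ℤ) : Finset GolayPt :=
  Finset.univ.filter fun i => x i ≡ k [ZMOD 4]

theorem mem_resSet (x : GolayPt → ℤ) (k : ℤ) (i : GolayPt) :
    i ∈ resSet x k ↔ x i ≡ k [ZMOD 4] := by
  simp [resSet]

/-- the defining property of `leechSet` with an explicit parity witness -/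
def IsLeech (m : ℤ) (x : GolayPt → ℤ) : Prop :=
  (∀ i, x i ≡ m [ZMOD 2]) ∧ (∑ i, x i ≡ 4 * m [ZMOD 8]) ∧ ∀ k : ℤ, resSet x k ∈ Code

theorem mem_leechSet_iff (x : GolayPt → ℤ) : x ∈ leechSet ↔ ∃ m, IsLeech m x := Iff.rfl

theorem sum_on_code_modEq {m : ℤ} {x : GolayPt → ℤ} (hx : IsLeech m x) {c : Finset GolayPt}
    (hc : c ∈ Code) : ∑ j ∈ c, x j ≡ 0 [ZMOD 4] := by
  obtain ⟨h1, -, h3⟩ := hx
  set r : ℤ := m % 2 with hr
  have hr01 : r = 0 ∨ r = 1 := by omega
  have hS := h3 (r + 2)
  have key : ∀ j ∈ c, x j ≡ r + 2 * (if x j ≡ r + 2 [ZMOD 4] then 1 else 0) [ZMOD 4] := by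
    intro j _
    have := h1 j
    unfold Int.ModEq at this
    split_ifs with h
    · unfold Int.ModEq at h ⊢; omega
    · unfold Int.ModEq at h ⊢; omega
  have h := Int.ModEq.sum key
  have hfilt : c.filter (fun j => x j ≡ r + 2 [ZMOD 4]) = c ∩ resSet x (r + 2) := by
    ext j
    simp [mem_resSet]
  have hsum : ∑ j ∈ c, (r + 2 * (if x j ≡ r + 2 [ZMOD 4] then 1 else 0 : ℤ))
      = r * c.card + 2 * ((c ∩ resSet x (r + 2)).card : ℤ) := by
    rw [Finset.sum_add_distrib, Finset.sum_const, ← Finset.mul_sum, Finset.sum_boole, hfilt,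
      nsmul_eq_mul, mul_comm]
  rw [hsum] at h
  have d1 := four_dvd_card hc
  have d2 := two_dvd_card_inter hc hS
  obtain ⟨a, ha⟩ := d1
  obtain ⟨b, hb⟩ := d2
  rw [ha, hb] at h
  unfold Int.ModEq at h ⊢
  push_cast at h
  rcases hr01 with h0 | h0 <;> rw [h0] at h <;> omega

theorem mem_smul_iff (σ : Equiv.Perm GolayPt) (S : Finset GolayPt) (i : GolayPt) :
    i ∈ σ • S ↔ σ.symm i ∈ S := by
  rw [← Finset.inv_smul_mem_iff]
  rfl

theorem signedPerm_apply (σ : Equiv.Perm GolayPt) (c : Finset GolayPt) (x : GolayPt → ℤ)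
    (i : GolayPt) : signedPerm σ c x i = if i ∈ c then -x (σ.symm i) else x (σ.symm i) := rfl

theorem sum_signedPerm (σ : Equiv.Perm GolayPt) (c : Finset GolayPt) (x : GolayPt → ℤ) :
    ∑ i, signedPerm σ c x i = ∑ j, x j - 2 * ∑ j ∈ σ⁻¹ • c, x j := by
  have h1 : ∀ i, signedPerm σ c x i = x (σ.symm i) - 2 * (if i ∈ c then x (σ.symm i) else 0) := by
    intro i
    rw [signedPerm_apply]
    split_ifs <;> ring
  simp only [h1]
  rw [Finset.sum_sub_distrib, ← Finset.mul_sum, Equiv.sum_comp σ.symm x]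
  congr 2
  rw [← Finset.sum_filter, smul_finset_eq, Finset.sum_image (fun a _ b _ h => (σ⁻¹).injective h)]
  simp only [Finset.filter_mem_eq_inter, Finset.univ_inter]
  rfl

theorem signedPerm_isLeech {m : ℤ} {x : GolayPt → ℤ} (hx : IsLeech m x)
    {σ : Equiv.Perm GolayPt} (hσ : σ ∈ M24) {c : Finset GolayPt} (hc : c ∈ Code) :
    IsLeech m (signedPerm σ c x) := by
  have hx' := hx
  obtain ⟨h1, h2, h3⟩ := hx
  refine ⟨?_, ?_, ?_⟩
  · intro i
    rw [signedPerm_apply]
    have := h1 (σ.symm i)
    unfold Int.ModEq at this ⊢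
    split_ifs <;> omega
  · rw [sum_signedPerm]
    have hc' : σ⁻¹ • c ∈ Code := smul_mem (Subgroup.inv_mem _ hσ) hc
    have := sum_on_code_modEq hx' hc'
    unfold Int.ModEq at this h2 ⊢
    omega
  · intro k
    have hA : σ • resSet x k ∈ Code := smul_mem hσ (h3 k)
    rcases Int.emod_two_eq_zero_or_one m with hm | hm
    · -- even case
      have : resSet (signedPerm σ c x) k = σ • resSet x k := by
        ext i
        rw [mem_resSet, mem_smul_iff, mem_resSet, signedPerm_apply]
        have := h1 (σ.symm i)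
        unfold Int.ModEq at this ⊢
        split_ifs <;> omega
      rw [this]; exact hA
    · rcases Int.emod_two_eq_zero_or_one k with hk | hk
      · have : resSet (signedPerm σ c x) k = ∅ := by
          ext i
          rw [mem_resSet, signedPerm_apply]
          have := h1 (σ.symm i)
          unfold Int.ModEq at this ⊢
          simp only [Finset.notMem_empty, iff_false]
          split_ifs <;> omega
        rw [this]; exact empty_mem
      · have : resSet (signedPerm σ c x) k = symmDiff (σ • resSet x k) c := by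
          ext i
          rw [mem_resSet, Finset.mem_symmDiff, mem_smul_iff, mem_resSet, signedPerm_apply]
          have := h1 (σ.symm i)
          unfold Int.ModEq at this ⊢
          by_cases hi : i ∈ c
          · simp only [hi, if_true, not_true_eq_false, and_false, true_and, false_or]
            omega
          · simp only [hi, if_false, not_false_eq_true, and_true, false_and, or_false]
        rw [this]; exact symmDiff_mem hA hc

theorem signedPerm_mem_leechSet {x : GolayPt → ℤ} (hx : x ∈ leechSet)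
    {σ : Equiv.Perm GolayPt} (hσ : σ ∈ M24) {c : Finset GolayPt} (hc : c ∈ Code) :
    signedPerm σ c x ∈ leechSet := by
  obtain ⟨m, hm⟩ := hx
  exact ⟨m, signedPerm_isLeech hm hσ hc⟩

theorem signedPerm_add (σ : Equiv.Perm GolayPt) (c : Finset GolayPt) (x y : GolayPt → ℤ) :
    signedPerm σ c (x + y) = signedPerm σ c x + signedPerm σ c y := by
  funext i
  simp only [signedPerm_apply, Pi.add_apply]
  split_ifs <;> ring

theorem signedPerm_neg (σ : Equiv.Perm GolayPt) (c : Finset GolayPt) (x : GolayPt → ℤ) :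
    signedPerm σ c (-x) = -signedPerm σ c x := by
  funext i
  simp only [signedPerm_apply, Pi.neg_apply]
  split_ifs <;> ring

theorem signedPerm_zero (σ : Equiv.Perm GolayPt) (c : Finset GolayPt) :
    signedPerm σ c 0 = 0 := by
  funext i
  simp only [signedPerm_apply, Pi.zero_apply]
  split_ifs <;> ring

theorem signedPerm_mem_leechLattice {x : GolayPt → ℤ} (hx : x ∈ leechLattice)
    {σ : Equiv.Perm GolayPt} (hσ : σ ∈ M24) {c : Finset GolayPt} (hc : c ∈ Code) :
    signedPerm σ c x ∈ leechLattice := by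
  unfold leechLattice at hx ⊢
  induction hx using AddSubgroup.closure_induction with
  | mem y hy => exact AddSubgroup.subset_closure (signedPerm_mem_leechSet hy hσ hc)
  | zero => rw [signedPerm_zero]; exact AddSubgroup.zero_mem _
  | add y z _ _ hy hz => rw [signedPerm_add]; exact AddSubgroup.add_mem _ hy hz
  | neg y _ hy => rw [signedPerm_neg]; exact AddSubgroup.neg_mem _ hy

theorem sqNorm_signedPerm (σ : Equiv.Perm GolayPt) (c : Finset GolayPt) (x : GolayPt → ℤ) :
    sqNorm (signedPerm σ c x) = sqNorm x := by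
  unfold sqNorm
  have h1 : ∀ i, signedPerm σ c x i ^ 2 = (fun j => x j ^ 2) (σ.symm i) := by
    intro i
    rw [signedPerm_apply]
    split_ifs <;> ring
  simp only [h1]
  exact Equiv.sum_comp σ.symm (fun j => x j ^ 2)

end Cfsg.Agent.Helper92
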