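import Cfsg.Agent.Lib.Helper91.LeechPred
import Cfsg.Agent.Lib.Helper92.Monomial
import Cfsg.Agent.Lib.Helper26.GolayFacts

/-!
# A homomorphism from the Leech lattice onto the Golay code

`phi v = ((v i - v ∞)/2 mod 2) + (v ∞ mod 2)`: additive on the lattice, with image the code; its
kernel is `4 D₂₄ + 2 Λ`-like: the lattice vectors with all coordinates even and congruent mod 4.
-/

set_option autoImplicit false

namespace Cfsg.Agent.Helper92
open Cfsg Cfsg.Agent.Helper7 Cfsg.Agent.Helper91

def phiFun (v : GolayPt → ℤ) : GolayPt → ZMod 2 :=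
  fun i => (((v i - v none) / 2 : ℤ) : ZMod 2) + ((v none : ℤ) : ZMod 2)

theorem parity_of_mem {v : GolayPt → ℤ} (hv : v ∈ leechLattice) (i : GolayPt) :
    (2 : ℤ) ∣ v i - v none := by
  obtain ⟨m, a, h1, -, -⟩ := LP_of_mem_leechLattice hv
  rw [h1 i, h1 none]
  exact ⟨a i - a none, by ring⟩

theorem phiFun_add {v w : GolayPt → ℤ} (hv : ∀ i, (2 : ℤ) ∣ v i - v none)
    (hw : ∀ i, (2 : ℤ) ∣ w i - w none) : phiFun (v + w) = phiFun v + phiFun w := by
  funext i
  obtain ⟨a, ha⟩ := hv i
  obtain ⟨b, hb⟩ := hw i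
  simp only [phiFun, Pi.add_apply]
  have e : v i + w i - (v none + w none) = 2 * (a + b) := by rw [mul_add, ← ha, ← hb]; ring
  rw [e, ha, hb, Int.mul_ediv_cancel_left _ (by norm_num : (2 : ℤ) ≠ 0),
    Int.mul_ediv_cancel_left _ (by norm_num : (2 : ℤ) ≠ 0),
    Int.mul_ediv_cancel_left _ (by norm_num : (2 : ℤ) ≠ 0)]
  push_cast
  ring

theorem phiFun_zero : phiFun 0 = 0 := by
  funext i
  simp [phiFun]

/-- The reduction homomorphism on the lattice. -/
def phi : ↥leechLattice →+ (GolayPt → ZMod 2) where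
  toFun v := phiFun v.1
  map_zero' := phiFun_zero
  map_add' v w := phiFun_add (parity_of_mem v.2) (parity_of_mem w.2)

theorem phi_apply (v : ↥leechLattice) : phi v = phiFun v.1 := rfl

theorem phiFun_mem {v : GolayPt → ℤ} (hv : v ∈ leechLattice) : phiFun v ∈ golayCode := by
  obtain ⟨m, a, h1, h2, -⟩ := LP_of_mem_leechLattice hv
  have : phiFun v = red a + (((m + a none : ℤ) : ZMod 2)) • (1 : GolayPt → ZMod 2) := by
    funext i
    simp only [phiFun, Pi.add_apply, Pi.smul_apply, Pi.one_apply, smul_eq_mul, mul_one, red]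
    rw [h1 i, h1 none]
    have e : m + 2 * a i - (m + 2 * a none) = 2 * (a i - a none) := by ring
    rw [e, Int.mul_ediv_cancel_left _ (by norm_num : (2 : ℤ) ≠ 0)]
    push_cast
    have h2 : (2 : ZMod 2) = 0 := by decide
    have h3 : ∀ x : ZMod 2, -x = x := by decide
    rw [h2, zero_mul, add_zero, sub_eq_add_neg, h3]
    ring
  rw [this]
  exact golayCode.add_mem h2 (golayCode.smul_mem _ one_mem_golayCode)

/-! ### Surjectivity -/

/-- twice the indicator vector of a set -/
def twoInd (S : Finset GolayPt) : GolayPt → ℤ := fun i => if i ∈ S then 2 else 0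

theorem resSet_twoInd (S : Finset GolayPt) (k : ℤ) :
    resSet (twoInd S) k = if k % 4 = 0 then Sᶜ else if k % 4 = 2 then S else ∅ := by
  ext i
  rw [mem_resSet]
  unfold twoInd Int.ModEq
  by_cases hi : i ∈ S
  · rw [if_pos hi]
    split_ifs with h1 h2
    · simp only [Finset.mem_compl, hi, not_true_eq_false, iff_false]; omega
    · simp only [hi, iff_true]; omega
    · simp only [Finset.notMem_empty, iff_false]; omega
  · rw [if_neg hi]
    split_ifs with h1 h2
    · simp only [Finset.mem_compl, hi, not_false_eq_true, iff_true]; omega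
    · simp only [hi, iff_false]; omega
    · simp only [Finset.notMem_empty, iff_false]; omega

theorem twoInd_mem {S : Finset GolayPt} (hS : S ∈ Code) : twoInd S ∈ leechLattice := by
  apply AddSubgroup.subset_closure
  rw [mem_leechSet_iff]
  refine ⟨0, ?_, ?_, ?_⟩
  · intro i
    unfold twoInd Int.ModEq
    split_ifs <;> rfl
  · have : ∑ i, twoInd S i = 2 * (S.card : ℤ) := by
      unfold twoInd
      rw [Finset.sum_ite_mem, Finset.univ_inter, Finset.sum_const, nsmul_eq_mul, mul_comm]
    rw [this]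
    obtain ⟨c, hc⟩ := four_dvd_card hS
    rw [hc]
    unfold Int.ModEq
    push_cast
    omega
  · intro k
    rw [resSet_twoInd]
    split_ifs
    · exact compl_mem hS
    · exact hS
    · exact empty_mem

/-- the vector `(-3, 1, ..., 1)` -/
def oddVec : GolayPt → ℤ := fun i => if i = none then -3 else 1

theorem resSet_oddVec (k : ℤ) :
    resSet oddVec k = if k % 4 = 1 then Finset.univ else ∅ := by
  ext i
  rw [mem_resSet]
  unfold oddVec Int.ModEq
  by_cases hi : i = none
  · rw [if_pos hi]
    split_ifs with h1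
    · simp only [Finset.mem_univ, iff_true]; omega
    · simp only [Finset.notMem_empty, iff_false]; omega
  · rw [if_neg hi]
    split_ifs with h1
    · simp only [Finset.mem_univ, iff_true]; omega
    · simp only [Finset.notMem_empty, iff_false]; omega

theorem oddVec_mem : oddVec ∈ leechLattice := by
  apply AddSubgroup.subset_closure
  rw [mem_leechSet_iff]
  refine ⟨1, ?_, ?_, ?_⟩
  · intro i
    unfold oddVec Int.ModEq
    split_ifs <;> rfl
  · have : ∑ i, oddVec i = 20 := by
      unfold oddVec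
      rw [Fintype.sum_option]
      simp
    rw [this]
    decide
  · intro k
    rw [resSet_oddVec]
    split_ifs
    · exact univ_mem
    · exact empty_mem

theorem phiFun_oddVec : phiFun oddVec = 1 := by
  funext i
  unfold phiFun oddVec
  by_cases hi : i = none
  · rw [if_pos hi]
    simp only [if_true, sub_self, Pi.one_apply]
    decide
  · rw [if_neg hi]
    simp only [if_true, Pi.one_apply]
    decide

theorem phiFun_twoInd {w : GolayPt → ZMod 2} (h0 : w none = 0) :
    phiFun (twoInd (support₂ w)) = w := by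
  funext i
  unfold phiFun twoInd
  have hn : none ∉ support₂ w := by
    rw [mem_support₂]; simp [h0]
  rw [if_neg hn]
  by_cases hi : i ∈ support₂ w
  · rw [if_pos hi]
    rw [mem_support₂] at hi
    have : w i = 1 := by
      revert hi; generalize w i = x; revert x; decide
    rw [this]
    decide
  · rw [if_neg hi]
    rw [mem_support₂, not_not] at hi
    rw [hi]
    decide

theorem phi_range : (phi.range : Set (GolayPt → ZMod 2)) = (golayCode : Set (GolayPt → ZMod 2)) := by
  ext w
  constructor
  · rintro ⟨v, rfl⟩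
    exact phiFun_mem v.2
  · intro hw
    have hw : w ∈ golayCode := hw
    by_cases h0 : w none = 0
    · exact ⟨⟨_, twoInd_mem ⟨w, hw, rfl⟩⟩, phiFun_twoInd h0⟩
    · have h1 : w none = 1 := by
        revert h0; generalize w none = x; revert x; decide
      have hw' : w + 1 ∈ golayCode := golayCode.add_mem hw one_mem_golayCode
      have h0' : (w + 1) none = 0 := by
        rw [Pi.add_apply, h1]; decide
      refine ⟨⟨_, twoInd_mem ⟨w + 1, hw', rfl⟩⟩ + ⟨_, oddVec_mem⟩, ?_⟩
      rw [map_add, phi_apply, phi_apply]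
      simp only
      rw [phiFun_twoInd h0', phiFun_oddVec, add_assoc]
      have : (1 : GolayPt → ZMod 2) + 1 = 0 := by
        funext i; simp only [Pi.add_apply, Pi.one_apply, Pi.zero_apply]; decide
      rw [this, add_zero]

theorem card_phi_range : Nat.card ↥phi.range = 4096 := by
  have h : Nat.card ↥phi.range = (phi.range : Set (GolayPt → ZMod 2)).ncard :=
    Nat.card_coe_set_eq (phi.range : Set (GolayPt → ZMod 2))
  rw [h, phi_range, Cfsg.Agent.Helper26.golayCode_ncard]

theorem index_phi_ker : phi.ker.index = 2 ^ 12 := by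
  rw [AddSubgroup.index_ker, card_phi_range]
  norm_num

/-! ### Norms in the kernel -/

theorem kernel_desc {v : GolayPt → ℤ} (hv : v ∈ leechLattice) (h0 : phiFun v = 0) :
    (2 : ℤ) ∣ v none ∧ ∀ i, (4 : ℤ) ∣ v i - v none := by
  have hn := congrFun h0 none
  simp only [phiFun, sub_self, Int.zero_ediv, Int.cast_zero, zero_add, Pi.zero_apply] at hn
  have h2 : (2 : ℤ) ∣ v none := (ZMod.intCast_zmod_eq_zero_iff_dvd _ 2).mp hn
  refine ⟨h2, fun i => ?_⟩
  have hi := congrFun h0 i
  simp only [phiFun, hn, add_zero, Pi.zero_apply] at hi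
  have h3 : (2 : ℤ) ∣ (v i - v none) / 2 := (ZMod.intCast_zmod_eq_zero_iff_dvd _ 2).mp hi
  obtain ⟨a, ha⟩ := parity_of_mem hv i
  rw [ha, Int.mul_ediv_cancel_left _ (by norm_num : (2 : ℤ) ≠ 0)] at h3
  obtain ⟨b, hb⟩ := h3
  exact ⟨b, by rw [ha, hb]; ring⟩

theorem card_golayPt' : (Finset.univ : Finset GolayPt).card = 24 := by decide

theorem sqNorm_kernel {v : GolayPt → ℤ} (hv : v ∈ leechLattice) (h0 : phiFun v = 0) :
    (32 : ℤ) ∣ sqNorm v := by
  obtain ⟨⟨c, hc⟩, h4⟩ := kernel_desc hv h0
  choose b hb using h4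
  have hvi : ∀ i, v i = 2 * c + 4 * b i := by
    intro i
    have := hb i
    rw [hc] at this
    linarith
  -- the sum condition
  obtain ⟨m, a, h1, -, h3⟩ := LP_of_mem_leechLattice hv
  have hm : (2 : ℤ) ∣ m := by
    have := h1 none
    rw [hc] at this
    exact ⟨c - a none, by linarith⟩
  have hsum : ∑ i, v i = 48 * c + 4 * ∑ i, b i := by
    simp only [hvi]
    rw [Finset.sum_add_distrib, Finset.sum_const, ← Finset.mul_sum, card_golayPt']
    simp only [nsmul_eq_mul]
    push_cast
    ring
  have hb2 : (2 : ℤ) ∣ ∑ i, b i := by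
    obtain ⟨m', hm'⟩ := hm
    rw [hsum, hm'] at h3
    unfold Int.ModEq at h3
    omega
  have hsq : sqNorm v = 96 * c ^ 2 + 16 * c * ∑ i, b i + 16 * ∑ i, (b i) ^ 2 := by
    unfold sqNorm
    simp only [hvi]
    have : ∀ i, (2 * c + 4 * b i) ^ 2 = 4 * c ^ 2 + (16 * c) * b i + 16 * (b i) ^ 2 := by
      intro i; ring
    simp only [this]
    rw [Finset.sum_add_distrib, Finset.sum_add_distrib, Finset.sum_const, ← Finset.mul_sum,
      ← Finset.mul_sum, card_golayPt']
    simp only [nsmul_eq_mul]
    push_cast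
    ring
  have hb3 : (2 : ℤ) ∣ ∑ i, (b i) ^ 2 := by
    have h : (2 : ℤ) ∣ ∑ i, ((b i) ^ 2 - b i) := by
      apply Finset.dvd_sum
      intro i _
      have : (b i) ^ 2 - b i = b i * (b i - 1) := by ring
      rw [this]
      exact Int.even_mul_pred_self (b i) |>.two_dvd
    rw [Finset.sum_sub_distrib] at h
    have := dvd_add h hb2
    rwa [sub_add_cancel] at this
  rw [hsq]
  obtain ⟨s, hs⟩ := hb2
  obtain ⟨t, ht⟩ := hb3
  rw [hs, ht]
  exact ⟨3 * c ^ 2 + c * s + t, by ring⟩

end Cfsg.Agent.Helper92
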