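import Mathlib

/-!
# Generic glue lemmas for the order tower of a presented group (for helper27, S1696)

(G1) `finite_card_le_of_index`, (G2) `exists_hom_of_words`, (G3) `map_closure_le_range`,
(G4) `card_orbit_mul_le`.
-/

set_option autoImplicit false

namespace Cfsg.Agent.Helper92.Fi22Glue

/-- (G1) a subgroup of index `n ≠ 0` covered by the image of a finite group `K` bounds the order -/
theorem finite_card_le_of_index {G K : Type*} [Group G] [Group K] [Finite K] (H : Subgroup G)
    (n : ℕ) (hn : n ≠ 0) (hidx : H.index = n) (f : K →* G) (hH : H ≤ f.range) :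
    Finite G ∧ Nat.card G ≤ n * Nat.card K := by
  have hrange : Finite f.range := by
    have : Function.Surjective f.rangeRestrict := f.rangeRestrict_surjective
    exact Finite.of_surjective _ this
  have hHfin : Finite H := by
    have hinj : Function.Injective (Subgroup.inclusion hH) := Subgroup.inclusion_injective hH
    exact Finite.of_injective _ hinj
  have hq : Finite (G ⧸ H) := by
    rw [← Subgroup.index_ne_zero_iff_finite, hidx]
    exact hn
  have hG : Finite G := by
    have e : G ≃ (G ⧸ H) × H := Subgroup.groupEquivQuotientProdSubgroup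
    exact Finite.of_equiv _ e.symm
  refine ⟨hG, ?_⟩
  have h1 : Nat.card G = n * Nat.card H := by
    rw [← hidx, Subgroup.index_mul_card]
  have h2 : Nat.card H ≤ Nat.card f.range := Subgroup.card_le_of_le hH
  have h3 : Nat.card f.range ≤ Nat.card K :=
    Nat.card_le_card_of_surjective _ f.rangeRestrict_surjective
  rw [h1]
  exact Nat.mul_le_mul_left n (h2.trans h3)

/-- the presented-group image of a word whose letters are all live is the product of the images
of the letters under the "kill the dead generators" assignment -/
theorem lift_mk_of_live {α : Type} (rels : Set (FreeGroup α)) (live : α → Bool)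
    (w : List (α × Bool)) (hw : ∀ l ∈ w, live l.1 = true) :
    FreeGroup.lift (fun x => if live x = true then (PresentedGroup.of x : PresentedGroup rels) else 1)
      (FreeGroup.mk w) = PresentedGroup.mk rels (FreeGroup.mk w) := by
  induction w with
  | nil =>
    have : (FreeGroup.mk ([] : List (α × Bool))) = 1 := rfl
    rw [this, map_one, map_one]
  | cons l w ih =>
    have hsplit : FreeGroup.mk (l :: w) = FreeGroup.mk [l] * FreeGroup.mk w := rfl
    rw [hsplit, map_mul, map_mul, ih (fun m hm => hw m (List.mem_cons_of_mem _ hm))]
    congr 1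
    obtain ⟨x, b⟩ := l
    have hx : live x = true := hw (x, b) List.mem_cons_self
    cases b
    · have : FreeGroup.mk [(x, false)] = (FreeGroup.of x)⁻¹ := rfl
      rw [this, map_inv, map_inv, FreeGroup.lift_apply_of, if_pos hx]
      rfl
    · have : FreeGroup.mk [(x, true)] = FreeGroup.of x := rfl
      rw [this, FreeGroup.lift_apply_of, if_pos hx]
      rfl

/-- (G2) the group presented by a list of words (relators holding in `PresentedGroup rels` on the
live generators, and the dead generators themselves) maps to `PresentedGroup rels`, generator to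
generator on the live ones -/
theorem exists_hom_of_words {α : Type} (rels : Set (FreeGroup α))
    (relL : List (List (α × Bool))) (live : α → Bool)
    (h : ∀ w ∈ relL, (∃ x, live x = false ∧ w = [(x, true)]) ∨
      ((∀ l ∈ w, live l.1 = true) ∧ PresentedGroup.mk rels (FreeGroup.mk w) = 1)) :
    ∃ f : PresentedGroup {r : FreeGroup α | ∃ w ∈ relL, r = FreeGroup.mk w} →* PresentedGroup rels,
      ∀ x, live x = true → f (PresentedGroup.of x) = PresentedGroup.of x := by
  let g : α → PresentedGroup rels :=
    fun x => if live x = true then (PresentedGroup.of x : PresentedGroup rels) else 1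
  have hg : ∀ r ∈ {r : FreeGroup α | ∃ w ∈ relL, r = FreeGroup.mk w}, FreeGroup.lift g r = 1 := by
    rintro r ⟨w, hw, rfl⟩
    rcases h w hw with ⟨x, hx, rfl⟩ | ⟨hlive, hone⟩
    · have : FreeGroup.mk [(x, true)] = FreeGroup.of x := rfl
      rw [this, FreeGroup.lift_apply_of]
      show (if live x = true then (PresentedGroup.of x : PresentedGroup rels) else 1) = 1
      rw [if_neg (by rw [hx]; simp)]
    · rw [← hone]
      exact lift_mk_of_live rels live w hlive
  refine ⟨PresentedGroup.toGroup hg, ?_⟩
  intro x hx
  rw [PresentedGroup.toGroup.of]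
  show (if live x = true then (PresentedGroup.of x : PresentedGroup rels) else 1) = _
  rw [if_pos hx]

/-- (G3) the subgroup generated by live generators lies in the range of a homomorphism hitting
every live generator -/
theorem map_closure_le_range {α : Type} {K : Type*} [Group K] (rels : Set (FreeGroup α))
    (live : α → Bool) (f : K →* PresentedGroup rels) (g : α → K)
    (hf : ∀ x, live x = true → f (g x) = PresentedGroup.of x) (S : Set (FreeGroup α))
    (hS : ∀ s ∈ S, ∃ x, live x = true ∧ s = FreeGroup.of x) :
    (Subgroup.closure S).map (PresentedGroup.mk rels) ≤ f.range := by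
  rw [MonoidHom.map_closure, Subgroup.closure_le]
  rintro _ ⟨s, hs, rfl⟩
  obtain ⟨x, hx, rfl⟩ := hS s hs
  exact ⟨g x, hf x hx⟩

/-- (G4) orbit-stabilizer bound: points reached from `β` by elements of `R` -/
theorem card_orbit_mul_le {G X : Type*} [Group G] [MulAction G X] (R : Subgroup G) [Finite R]
    (β : X) (pts : Finset X) (h : ∀ x ∈ pts, ∃ r ∈ R, r • β = x) :
    pts.card * Nat.card ↥(R ⊓ MulAction.stabilizer G β) ≤ Nat.card ↥R := by
  classical
  -- the stabilizer of β in R
  have hstab : MulAction.stabilizer R β = (MulAction.stabilizer G β).subgroupOf R := by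
    ext r
    simp [MulAction.mem_stabilizer_iff, Subgroup.mem_subgroupOf, Subgroup.smul_def]
  have hcardstab : Nat.card (MulAction.stabilizer R β) =
      Nat.card ↥(R ⊓ MulAction.stabilizer G β) := by
    rw [hstab, inf_comm, ← Subgroup.inf_subgroupOf_right]
    exact Nat.card_congr (Subgroup.subgroupOfEquivOfLe inf_le_right).toEquiv
  have horb : Nat.card (MulAction.orbit R β) * Nat.card (MulAction.stabilizer R β) = Nat.card R := by
    have e := MulAction.orbitProdStabilizerEquivGroup R β
    rw [← Nat.card_congr e, Nat.card_prod]
  have hfin : Finite (MulAction.orbit R β) := by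
    have : Function.Surjective (fun r : R => (⟨r • β, MulAction.mem_orbit _ _⟩ : MulAction.orbit R β)) := by
      rintro ⟨_, r, rfl⟩
      exact ⟨r, rfl⟩
    exact Finite.of_surjective _ this
  have hsub : (pts : Set X) ⊆ MulAction.orbit R β := by
    intro x hx
    obtain ⟨r, hr, rfl⟩ := h x hx
    exact ⟨⟨r, hr⟩, rfl⟩
  have hle : pts.card ≤ Nat.card (MulAction.orbit R β) := by
    have h1 : (pts : Set X).ncard ≤ (MulAction.orbit R β).ncard :=
      Set.ncard_le_ncard hsub (Set.toFinite _)
    rw [Set.ncard_coe_finset] at h1
    rw [← Nat.card_coe_set_eq] at h1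
    exact h1
  rw [← horb, hcardstab]
  exact Nat.mul_le_mul_right _ hle

end Cfsg.Agent.Helper92.Fi22Glue
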