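import Cfsg.Agent.Lib.Helper92.Rank3Simple

/-!
# Iwasawa criterion for a rank 3 action, general subdegrees `1, k, l`

Generic version of `Rank3Simple` (which is the case `3510 = 1 + 693 + 2816` of `Fi22`), usable
e.g. for `Fi23` on `31671 = 1 + 3510 + 28160` points.
-/

set_option autoImplicit false

namespace Cfsg.Agent.Helper92.Rank3Simple

open MulAction
open scoped Pointwise

variable {G : Type*} [Group G]

/-- the counting core, general subdegrees -/
theorem trivial_of_invariant_gen [Finite G] (H : Subgroup G) (n k l : ℕ) (hidx : H.index = n)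
    (hsum : 1 + k + l = n) (hk1 : k ≠ 1) (hl1 : l ≠ 1) (hkl : k ≠ l)
    (hkd : ¬ (1 + k) ∣ n) (hld : ¬ (1 + l) ∣ n) (q₁ q₂ : G ⧸ H)
    (h1 : (MulAction.orbit H q₁).ncard = k) (h2 : (MulAction.orbit H q₂).ncard = l)
    (B : Set (G ⧸ H)) (hB : ∀ h : H, ∀ x ∈ B, h • x ∈ B) (h0 : ((1 : G) : G ⧸ H) ∈ B)
    (hdvd : B.ncard ∣ n) : B.Subsingleton ∨ B = Set.univ := by
  classical
  set a0 : G ⧸ H := ((1 : G) : G ⧸ H) with ha0
  set O1 := MulAction.orbit H q₁ with hO1
  set O2 := MulAction.orbit H q₂ with hO2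
  have hcard : Nat.card (G ⧸ H) = n := by rw [← hidx]; rfl
  have hfin : ∀ s : Set (G ⧸ H), s.Finite := fun s => Set.toFinite s
  have h01 : a0 ∉ O1 := by
    intro h
    have : MulAction.orbit H a0 = O1 := (MulAction.orbit_eq_iff).2 h
    rw [orbit_one] at this
    have hc := congrArg Set.ncard this
    rw [Set.ncard_singleton, h1] at hc
    exact hk1 hc.symm
  have h02 : a0 ∉ O2 := by
    intro h
    have : MulAction.orbit H a0 = O2 := (MulAction.orbit_eq_iff).2 h
    rw [orbit_one] at this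
    have hc := congrArg Set.ncard this
    rw [Set.ncard_singleton, h2] at hc
    exact hl1 hc.symm
  have h12 : Disjoint O1 O2 := by
    rcases MulAction.orbit.eq_or_disjoint (G := H) q₁ q₂ with h | h
    · exfalso
      have hc := congrArg Set.ncard h
      rw [h1, h2] at hc
      exact hkl hc
    · exact h
  have hd01 : Disjoint ({a0} : Set (G ⧸ H)) O1 := Set.disjoint_singleton_left.2 h01
  have hd02 : Disjoint ({a0} : Set (G ⧸ H)) O2 := Set.disjoint_singleton_left.2 h02
  have hd012 : Disjoint (({a0} : Set (G ⧸ H)) ∪ O1) O2 := Set.disjoint_union_left.2 ⟨hd02, h12⟩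
  have huniv : ({a0} : Set (G ⧸ H)) ∪ O1 ∪ O2 = Set.univ := by
    rw [Set.eq_univ_iff_ncard, Set.ncard_union_eq hd012 (hfin _) (hfin _),
      Set.ncard_union_eq hd01 (hfin _) (hfin _), Set.ncard_singleton, h1, h2, hcard, hsum]
  have hBdec : B = (B ∩ {a0}) ∪ (B ∩ O1) ∪ (B ∩ O2) := by
    rw [← Set.inter_union_distrib_left, ← Set.inter_union_distrib_left, huniv, Set.inter_univ]
  have hB0 : B ∩ {a0} = {a0} := Set.inter_eq_right.2 (Set.singleton_subset_iff.2 h0)
  have hdB01 : Disjoint (B ∩ {a0}) (B ∩ O1) :=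
    hd01.mono Set.inter_subset_right Set.inter_subset_right
  have hdB012 : Disjoint ((B ∩ {a0}) ∪ (B ∩ O1)) (B ∩ O2) :=
    hd012.mono (Set.union_subset_union Set.inter_subset_right Set.inter_subset_right)
      Set.inter_subset_right
  have hcount : B.ncard = 1 + (B ∩ O1).ncard + (B ∩ O2).ncard := by
    conv_lhs => rw [hBdec]
    rw [Set.ncard_union_eq hdB012 (hfin _) (hfin _), Set.ncard_union_eq hdB01 (hfin _) (hfin _),
      hB0, Set.ncard_singleton]
  have hc1 : (B ∩ O1).ncard = k ∨ (B ∩ O1).ncard = 0 := by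
    rcases orbit_subset_or_disjoint H B hB q₁ with h | h
    · left
      have h' : O1 ⊆ B := h
      rw [Set.inter_eq_right.2 h', h1]
    · right
      have h' : Disjoint B O1 := h
      rw [Set.disjoint_iff_inter_eq_empty.1 h', Set.ncard_empty]
  have hc2 : (B ∩ O2).ncard = l ∨ (B ∩ O2).ncard = 0 := by
    rcases orbit_subset_or_disjoint H B hB q₂ with h | h
    · left
      have h' : O2 ⊆ B := h
      rw [Set.inter_eq_right.2 h', h2]
    · right
      have h' : Disjoint B O2 := h
      rw [Set.disjoint_iff_inter_eq_empty.1 h', Set.ncard_empty]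
  rcases hc1 with e1 | e1 <;> rcases hc2 with e2 | e2 <;> rw [e1, e2] at hcount
  · right
    rw [Set.eq_univ_iff_ncard, hcount, hcard, hsum]
  · exfalso
    rw [hcount] at hdvd
    exact hkd (by simpa using hdvd)
  · exfalso
    rw [hcount] at hdvd
    exact hld (by simpa using hdvd)
  · left
    have : B.ncard = 1 := by rw [hcount]
    obtain ⟨x, hx⟩ := Set.ncard_eq_one.1 this
    rw [hx]
    exact Set.subsingleton_singleton

/-- the action on the cosets of `H` is primitive, general subdegrees -/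
theorem isPreprimitive_of_rank3_gen [Finite G] (H : Subgroup G) (n k l : ℕ) (hidx : H.index = n)
    (hsum : 1 + k + l = n) (hk1 : k ≠ 1) (hl1 : l ≠ 1) (hkl : k ≠ l)
    (hkd : ¬ (1 + k) ∣ n) (hld : ¬ (1 + l) ∣ n) (q₁ q₂ : G ⧸ H)
    (h1 : (MulAction.orbit H q₁).ncard = k) (h2 : (MulAction.orbit H q₂).ncard = l) :
    IsPreprimitive G (G ⧸ H) := by
  have hcard : Nat.card (G ⧸ H) = n := by rw [← hidx]; rfl
  apply IsPreprimitive.of_isTrivialBlock_base ((1 : G) : G ⧸ H)
  intro B h0 hB
  refine trivial_of_invariant_gen H n k l hidx hsum hk1 hl1 hkl hkd hld q₁ q₂ h1 h2 B ?_ h0 ?_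
  · intro h x hx
    have hst : (h : G) ∈ MulAction.stabilizer G B := by
      apply hB.stabilizer_le h0
      rw [MulAction.stabilizer_quotient]
      exact h.2
    have : (h : G) • B = B := hst
    rw [← this]
    exact Set.smul_mem_smul_set hx
  · rw [← hcard]
    exact hB.ncard_dvd_card ⟨_, h0⟩

/-- **Iwasawa's criterion for a rank 3 action with subdegrees `1, k, l`**: a finite perfect group
`G` acting faithfully on the `n = 1 + k + l` cosets of `H` (`n ≠ 1`), with `H`-orbits of sizes
`k ≠ l` (both `≠ 1`, neither `1 + k` nor `1 + l` dividing `n`), generated by the conjugates of an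
element `a` centralized by `H`, is simple. -/
theorem isSimpleGroup_of_rank3_gen {G : Type*} [Group G] [Finite G] (H : Subgroup G)
    (n k l : ℕ) (hidx : H.index = n) (hn : n ≠ 1)
    (hsum : 1 + k + l = n) (hk1 : k ≠ 1) (hl1 : l ≠ 1) (hkl : k ≠ l)
    (hkd : ¬ (1 + k) ∣ n) (hld : ¬ (1 + l) ∣ n) (q₁ q₂ : G ⧸ H)
    (h1 : (MulAction.orbit H q₁).ncard = k) (h2 : (MulAction.orbit H q₂).ncard = l)
    (a : G) (haH : ∀ h ∈ H, h * a = a * h)
    (hgen : Subgroup.normalClosure ({a} : Set G) = ⊤) (hperf : commutator G = ⊤)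
    (hcore : H.normalCore = ⊥) : IsSimpleGroup G := by
  have : IsPreprimitive G (G ⧸ H) :=
    isPreprimitive_of_rank3_gen H n k l hidx hsum hk1 hl1 hkl hkd hld q₁ q₂ h1 h2
  have : Nontrivial G := by
    by_contra hnt
    rw [not_nontrivial_iff_subsingleton] at hnt
    have : H = ⊤ := Subsingleton.elim _ _
    rw [this, Subgroup.index_top] at hidx
    exact hn hidx.symm
  have hfaith : FaithfulSMul G (G ⧸ H) := by
    refine ⟨fun {g g'} h => ?_⟩
    have hker : g'⁻¹ * g ∈ (MulAction.toPermHom G (G ⧸ H)).ker := by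
      rw [MonoidHom.mem_ker]
      ext x
      simp only [MulAction.toPermHom_apply, MulAction.toPerm_apply, Equiv.Perm.coe_one, id_eq]
      rw [mul_smul, h x, inv_smul_smul]
    rw [← Subgroup.normalCore_eq_ker, hcore, Subgroup.mem_bot] at hker
    exact (inv_mul_eq_one.1 hker).symm
  exact MulAction.IwasawaStructure.isSimpleGroup hperf (iwasawa H a haH hgen) hfaith

end Cfsg.Agent.Helper92.Rank3Simple
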