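import Mathlib

/-!
# Generic glue lemmas with renamed generators (for helper27, S1697)

(K3) `exists_hom_rename`, (K4) `map_closure_le_range_rename`.
-/

set_option autoImplicit false

namespace Cfsg.Agent.Helper92.Fi23Glue

/-- the lift of the renaming assignment agrees with `PresentedGroup.mk` on renamed words -/
theorem lift_mk_rename {α β : Type} (ι : α → β) (rels' : Set (FreeGroup β))
    (w : List (α × Bool)) :
    FreeGroup.lift (fun x => (PresentedGroup.of (ι x) : PresentedGroup rels')) (FreeGroup.mk w) =
      PresentedGroup.mk rels' (FreeGroup.mk (w.map (fun l => (ι l.1, l.2)))) := by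
  induction w with
  | nil =>
    have h1 : (FreeGroup.mk ([] : List (α × Bool))) = 1 := rfl
    have h2 : (FreeGroup.mk ([] : List (β × Bool))) = 1 := rfl
    rw [List.map_nil, h1, h2, map_one, map_one]
  | cons l w ih =>
    have hs1 : FreeGroup.mk (l :: w) = FreeGroup.mk [l] * FreeGroup.mk w := rfl
    have hs2 : FreeGroup.mk ((l :: w).map (fun l => (ι l.1, l.2))) =
        FreeGroup.mk [(ι l.1, l.2)] * FreeGroup.mk (w.map (fun l => (ι l.1, l.2))) := rfl
    rw [hs1, hs2, map_mul, map_mul, ih]
    congr 1
    obtain ⟨x, b⟩ := l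
    cases b
    · have e1 : FreeGroup.mk [(x, false)] = (FreeGroup.of x)⁻¹ := rfl
      have e2 : FreeGroup.mk [(ι x, false)] = (FreeGroup.of (ι x))⁻¹ := rfl
      rw [e1, map_inv, FreeGroup.lift_apply_of]
      show _ = PresentedGroup.mk rels' (FreeGroup.mk [(ι x, false)])
      rw [e2, map_inv]
      rfl
    · have e1 : FreeGroup.mk [(x, true)] = FreeGroup.of x := rfl
      have e2 : FreeGroup.mk [(ι x, true)] = FreeGroup.of (ι x) := rfl
      rw [e1, FreeGroup.lift_apply_of]
      show _ = PresentedGroup.mk rels' (FreeGroup.mk [(ι x, true)])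
      rw [e2]
      rfl

/-- (K3) the group presented by a list of words over `α` maps to `PresentedGroup rels'` (over `β`)
along a renaming `ι` of the generators, as soon as the renamed words are trivial there -/
theorem exists_hom_rename {α β : Type} (ι : α → β) (rels' : Set (FreeGroup β))
    (relL : List (List (α × Bool)))
    (h : ∀ w ∈ relL,
      PresentedGroup.mk rels' (FreeGroup.mk (w.map (fun l => (ι l.1, l.2)))) = 1) :
    ∃ f : PresentedGroup {r : FreeGroup α | ∃ w ∈ relL, r = FreeGroup.mk w} →*
        PresentedGroup rels',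
      ∀ x, f (PresentedGroup.of x) = PresentedGroup.of (ι x) := by
  have hg : ∀ r ∈ {r : FreeGroup α | ∃ w ∈ relL, r = FreeGroup.mk w},
      FreeGroup.lift (fun x => (PresentedGroup.of (ι x) : PresentedGroup rels')) r = 1 := by
    rintro r ⟨w, hw, rfl⟩
    rw [lift_mk_rename, h w hw]
  refine ⟨PresentedGroup.toGroup hg, ?_⟩
  intro x
  rw [PresentedGroup.toGroup.of]

/-- (K4) the subgroup generated by renamed generators lies in the range of a homomorphism hitting
each of them -/
theorem map_closure_le_range_rename {α β : Type} {K : Type*} [Group K] (ι : α → β)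
    (rels' : Set (FreeGroup β)) (f : K →* PresentedGroup rels') (g : α → K)
    (hf : ∀ x, f (g x) = PresentedGroup.of (ι x)) (S : Set (FreeGroup β))
    (hS : ∀ s ∈ S, ∃ x, s = FreeGroup.of (ι x)) :
    (Subgroup.closure S).map (PresentedGroup.mk rels') ≤ f.range := by
  rw [MonoidHom.map_closure, Subgroup.closure_le]
  rintro _ ⟨s, hs, rfl⟩
  obtain ⟨x, rfl⟩ := hS s hs
  exact ⟨g x, hf x⟩

end Cfsg.Agent.Helper92.Fi23Glue
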