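import Mathlib
import Cfsg.Prelude.Def_Spor_Fi23
import Cfsg.Agent.Lib.Helper92.FiPerfect

/-!
# Pure presented-group facts on `Fi23` (for helper27, S1697)

`commutator_eq_top`, `normalClosure_j` (K1), `commute_of_not_adj` (K2), `of_mul_self`, `of_inv`,
`conj_of_adj`.
-/

set_option autoImplicit false

namespace Cfsg.Agent.Helper92.Fi23Perf

open Cfsg Cfsg.Spor Cfsg.Spor.Fi23

/-- (H1) the presented group `Fi23` is perfect -/
theorem commutator_eq_top : commutator Cfsg.Spor.Fi23 = ⊤ :=
  Cfsg.Agent.Helper92.FiPerfect.commutator_Fi23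

/-- (H3) the generators are involutions -/
theorem of_mul_self (x : Cfsg.Spor.Fi23.Gen) :
    (PresentedGroup.of x : Cfsg.Spor.Fi23) * PresentedGroup.of x = 1 :=
  Cfsg.Agent.Helper92.FiPerfect.of_sq23 x

theorem of_inv (x : Cfsg.Spor.Fi23.Gen) :
    (PresentedGroup.of x : Cfsg.Spor.Fi23)⁻¹ = PresentedGroup.of x :=
  inv_eq_of_mul_eq_one_left (of_mul_self x)

/-- the Coxeter relator of a pair of generators -/
theorem of_pow_label (x y : Cfsg.Spor.Fi23.Gen) :
    ((PresentedGroup.of x : Cfsg.Spor.Fi23) * PresentedGroup.of y) ^ coxLabel Fi23.edges x y = 1 := by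
  have := PresentedGroup.one_of_mem (Cfsg.Agent.Helper92.FiPerfect.mem_rels_cox23 x y
    (Cfsg.Agent.Helper92.FiPerfect.all_nodes23 x) (Cfsg.Agent.Helper92.FiPerfect.all_nodes23 y))
  rw [map_pow, map_mul] at this
  exact this

/-- (H4) generators not joined in the diagram commute -/
theorem commute_of_not_adj (x y : Cfsg.Spor.Fi23.Gen) (h : coxLabel Fi23.edges x y = 2) :
    (PresentedGroup.of x : Cfsg.Spor.Fi23) * PresentedGroup.of y =
      PresentedGroup.of y * PresentedGroup.of x := by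
  have h2 := of_pow_label x y
  rw [h, pow_two] at h2
  -- x y x y = 1, so x y = (x y)⁻¹ = y⁻¹ x⁻¹ = y x
  have h3 : (PresentedGroup.of x : Cfsg.Spor.Fi23) * PresentedGroup.of y =
      ((PresentedGroup.of x : Cfsg.Spor.Fi23) * PresentedGroup.of y)⁻¹ :=
    eq_inv_of_mul_eq_one_left h2
  rw [mul_inv_rev, of_inv, of_inv] at h3
  exact h3

/-- generators joined by an edge (label `3`) are conjugate: `y = (x y) x (x y)⁻¹` -/
theorem conj_of_adj (x y : Cfsg.Spor.Fi23.Gen) (h : coxLabel Fi23.edges x y = 3) :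
    (PresentedGroup.of y : Cfsg.Spor.Fi23) =
      (PresentedGroup.of x * PresentedGroup.of y) * PresentedGroup.of x *
        (PresentedGroup.of x * PresentedGroup.of y)⁻¹ := by
  have h3 := of_pow_label x y
  rw [h] at h3
  set X : Cfsg.Spor.Fi23 := PresentedGroup.of x with hX
  set Y : Cfsg.Spor.Fi23 := PresentedGroup.of y with hY
  have hx : X * X = 1 := of_mul_self x
  have hy : Y * Y = 1 := of_mul_self y
  have hxi : X⁻¹ = X := of_inv x
  have hyi : Y⁻¹ = Y := of_inv y
  -- (XY)^3 = 1
  have e : X * Y * (X * Y) * (X * Y) = 1 := by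
    rw [← h3, pow_succ, pow_two]
  rw [mul_inv_rev, hxi, hyi]
  -- goal: Y = X * Y * X * (Y * X)
  have : X * Y * X * (Y * X) = X * Y * (X * Y) * (X * Y) * Y := by
    simp only [mul_assoc]
    rw [hy, mul_one]
  rw [this, e, one_mul]

/-- (K1) the conjugates of the generator `j` generate `Fi23` -/
theorem normalClosure_j :
    Subgroup.normalClosure ({(PresentedGroup.of Cfsg.Spor.Fi23.Gen.j : Cfsg.Spor.Fi23)} :
      Set Cfsg.Spor.Fi23) = ⊤ := by
  set N := Subgroup.normalClosure ({(PresentedGroup.of Cfsg.Spor.Fi23.Gen.j : Cfsg.Spor.Fi23)} :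
      Set Cfsg.Spor.Fi23) with hN
  have hnorm : N.Normal := Subgroup.normalClosure_normal
  have step : ∀ x y : Cfsg.Spor.Fi23.Gen, coxLabel Fi23.edges x y = 3 →
      (PresentedGroup.of x : Cfsg.Spor.Fi23) ∈ N → (PresentedGroup.of y : Cfsg.Spor.Fi23) ∈ N := by
    intro x y h hx
    rw [conj_of_adj x y h]
    exact hnorm.conj_mem _ hx _
  have hj : (PresentedGroup.of Gen.j : Cfsg.Spor.Fi23) ∈ N :=
    Subgroup.subset_normalClosure (Set.mem_singleton _)
  have hg := step Gen.j Gen.g (by decide) hj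
  have hf := step Gen.g Gen.f (by decide) hg
  have he := step Gen.f Gen.e (by decide) hf
  have hd := step Gen.e Gen.d (by decide) he
  have hc := step Gen.d Gen.c (by decide) hd
  have hb := step Gen.c Gen.b (by decide) hc
  have ha := step Gen.b Gen.a (by decide) hb
  have hh := step Gen.d Gen.h (by decide) hd
  have hi := step Gen.h Gen.i (by decide) hh
  rw [eq_top_iff, ← PresentedGroup.closure_range_of, Subgroup.closure_le]
  rintro _ ⟨x, rfl⟩
  cases x <;> assumption

end Cfsg.Agent.Helper92.Fi23Perf
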