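import Mathlib
import Cfsg.Prelude.Def_Solvable
import Cfsg.Agent.Lib.Helper70.Fitting

set_option autoImplicit false

namespace Cfsg.Agent.Helper92
open Cfsg

variable {G : Type*} [Group G]

/-- the `p`-core of a subgroup `H`, as a subgroup of the ambient group -/
def coreIn (p : ℕ) (H : Subgroup G) : Subgroup G := (pCore p ↥H).map H.subtype

theorem coreIn_le (p : ℕ) (H : Subgroup G) : coreIn p H ≤ H := Subgroup.map_subtype_le _

theorem coreIn_conj_mem (p : ℕ) (H : Subgroup G) {h a : G} (hh : h ∈ H) (ha : a ∈ coreIn p H) :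
    h * a * h⁻¹ ∈ coreIn p H := by
  obtain ⟨a', ha', rfl⟩ := ha
  have hn : (pCore p ↥H).Normal := Helper70.pCore_normal p ↥H
  exact ⟨⟨h, hh⟩ * a' * ⟨h, hh⟩⁻¹, hn.conj_mem a' ha' ⟨h, hh⟩, rfl⟩

theorem coreIn_isPGroup [Finite G] (p : ℕ) [Fact p.Prime] (H : Subgroup G) :
    IsPGroup p (coreIn p H) :=
  (Helper70.pCore_isPGroup (G := ↥H) (p := p)).map _

/-- a `p`-subgroup of `H` normalized by `H` lies in the `p`-core of `H` -/
theorem le_coreIn {p : ℕ} {H N : Subgroup G} (hNH : N ≤ H)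
    (hnorm : ∀ h ∈ H, ∀ a ∈ N, h * a * h⁻¹ ∈ N) (hN : IsPGroup p N) : N ≤ coreIn p H := by
  intro q hq
  have hnormal : (N.subgroupOf H).Normal := by
    constructor
    intro a ha h
    exact hnorm h h.2 a ha
  have hp : IsPGroup p (N.subgroupOf H) := hN.comap_subtype
  have hle : N.subgroupOf H ≤ pCore p ↥H := le_sSup ⟨hnormal, hp⟩
  exact ⟨⟨q, hNH hq⟩, hle hq, rfl⟩

theorem mem_coreIn_iff [Finite G] {p : ℕ} [Fact p.Prime] {H : Subgroup G} {q : G} :
    q ∈ coreIn p H ↔ ∃ N : Subgroup G, N ≤ H ∧ (∀ h ∈ H, ∀ a ∈ N, h * a * h⁻¹ ∈ N) ∧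
      IsPGroup p N ∧ q ∈ N := by
  constructor
  · intro hq
    exact ⟨coreIn p H, coreIn_le p H, fun h hh a ha => coreIn_conj_mem p H hh ha,
      coreIn_isPGroup p H, hq⟩
  · rintro ⟨N, hNH, hnorm, hN, hq⟩
    exact le_coreIn hNH hnorm hN hq

/-- the centralizer of a conjugate -/
theorem mem_centralizer_conj {x n c : G} (hc : c ∈ Subgroup.centralizer ({x} : Set G)) :
    n * c * n⁻¹ ∈ Subgroup.centralizer ({n * x * n⁻¹} : Set G) := by
  rw [Subgroup.mem_centralizer_singleton_iff] at hc ⊢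
  calc n * c * n⁻¹ * (n * x * n⁻¹) = n * (c * x) * n⁻¹ := by group
    _ = n * (x * c) * n⁻¹ := by rw [hc]
    _ = n * x * n⁻¹ * (n * c * n⁻¹) := by group

/-- conjugation equivariance of the core of the centralizer -/
theorem conj_mem_coreIn_centralizer [Finite G] {p : ℕ} [Fact p.Prime] {x q : G} (n : G)
    (hq : q ∈ coreIn p (Subgroup.centralizer ({x} : Set G))) :
    n * q * n⁻¹ ∈ coreIn p (Subgroup.centralizer ({n * x * n⁻¹} : Set G)) := by
  obtain ⟨N, hNH, hnorm, hN, hqN⟩ := mem_coreIn_iff.mp hq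
  refine mem_coreIn_iff.mpr ⟨N.map (MulAut.conj n).toMonoidHom, ?_, ?_, hN.map _, ?_⟩
  · rintro _ ⟨a, ha, rfl⟩
    exact mem_centralizer_conj (hNH ha)
  · rintro h hh _ ⟨a, ha, rfl⟩
    have h1 : n⁻¹ * h * n ∈ Subgroup.centralizer ({x} : Set G) := by
      have := mem_centralizer_conj (n := n⁻¹) hh
      have e : n⁻¹ * (n * x * n⁻¹) * n⁻¹⁻¹ = x := by group
      rw [e] at this
      simpa using this
    refine ⟨(n⁻¹ * h * n) * a * (n⁻¹ * h * n)⁻¹, hnorm _ h1 a ha, ?_⟩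
    simp only [MulEquiv.coe_toMonoidHom, MulAut.conj_apply]
    group
  · exact ⟨q, hqN, rfl⟩

end Cfsg.Agent.Helper92
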