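import Mathlib
import Cfsg.Prelude.Def_Classical
import Cfsg.Prelude.Def_SporadicB
import Cfsg.Agent.Lib.Helper72.F4
import Cfsg.Agent.Lib.Helper92.U6Data

/-!
# Definitions for S1684 (`C(a) = 2.U6(2)` in the presented Fi22): unitary transvections over `F4`
-/

set_option autoImplicit false

namespace Cfsg.Agent.Helper92.U6

/-- the field with four elements (helper72's computable model) -/
abbrev F : Type := Cfsg.Agent.Helper72.F4

/-- `SU(6, F4)` as in the frozen definition of `PSU` -/
abbrev SU6 : Subgroup (Matrix.SpecialLinearGroup (Fin 6) F) := Cfsg.SU 6 F 2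

/-- the Hermitian form `Σ u_i v_i^2` -/
abbrev hf (u v : Fin 6 → F) : F := Cfsg.hermForm 6 F 2 u v

/-- the matrix `1 + v v̄ᵀ` of the unitary transvection in `v` -/
def tv (v : Fin 6 → F) : Matrix (Fin 6) (Fin 6) F :=
  1 + Matrix.vecMulVec v (fun j => v j ^ 2)

/-- the transvection in `v` applied to `x` -/
def tvA (v x : Fin 6 → F) : Fin 6 → F := x + hf x v • v

/-- the element of `F4` with code `d` (`0, 1, 2, 3` for `0, 1, w, w + 1`) -/
def fc (d : ℕ) : F := Cfsg.Agent.Helper72.F4.ofCode d

/-- the isotropic vector number `i` -/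
def vec (i : ℕ) : Fin 6 → F := fun k => fc (vecL.getD i 0 / 4 ^ k.val % 4)

/-- the vector with code `c < 4096` -/
def vecOfCode (c : ℕ) : Fin 6 → F := fun k => fc (c / 4 ^ k.val % 4)

/-- the point (in helper27's numbering of `Fin 3510`) number `i` -/
def om (i : ℕ) : ℕ := omL.getD i 0

/-- the index action tables of the nine generators `a, c, d, e, f, g, h, i, t` -/
def actL : ℕ → List ℕ
  | 0 => act0 | 1 => act1 | 2 => act2 | 3 => act3 | 4 => act4 | 5 => act5 | 6 => act6
  | 7 => act7 | 8 => act8 | _ => []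

/-- the scalar tables -/
def lamL : ℕ → List ℕ
  | 0 => lam0 | 1 => lam1 | 2 => lam2 | 3 => lam3 | 4 => lam4 | 5 => lam5 | 6 => lam6
  | 7 => lam7 | 8 => lam8 | _ => []

/-- generator number `k` maps index `i` to index `act k i` -/
def act (k i : ℕ) : ℕ := (actL k).getD i 0

/-- the scalar: `genA k (vec i) = fc (lam k i) • vec (act k i)` -/
def lam (k i : ℕ) : ℕ := (lamL k).getD i 0

/-- the action of generator number `k` on vectors: `a` is the identity, `c, …, i` are the transvections in
`vec (genIdx k)`, and `t` is the product of the five commuting transvections in `vec 0, 10, 13, 17, 19` -/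
def genA : ℕ → (Fin 6 → F) → (Fin 6 → F)
  | 0 => fun x => x
  | 8 => fun x => tvA (vec 19) (tvA (vec 17) (tvA (vec 13) (tvA (vec 10) (tvA (vec 0) x))))
  | k => fun x => tvA (vec (genIdx.getD k 0)) x

end Cfsg.Agent.Helper92.U6
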