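import Mathlib
import Cfsg.Prelude.Def_SporadicCombinatorics
import Cfsg.Agent.Lib.Helper7.Weights

set_option autoImplicit false

namespace Cfsg.Agent.Helper92
open Cfsg Cfsg.Agent.Helper7
open scoped Pointwise

/-- the code as a family of supports -/
abbrev Code : Set (Finset GolayPt) := supports (golayCode : Set W)

theorem support₂_add (v w : W) : support₂ (v + w) = symmDiff (support₂ v) (support₂ w) := by
  ext p
  simp only [mem_support₂, Finset.mem_symmDiff, Pi.add_apply]
  generalize v p = a
  generalize w p = b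
  revert a b
  decide

theorem symmDiff_mem {b b' : Finset GolayPt} (hb : b ∈ Code) (hb' : b' ∈ Code) :
    symmDiff b b' ∈ Code := by
  obtain ⟨v, hv, rfl⟩ := hb
  obtain ⟨w, hw, rfl⟩ := hb'
  exact ⟨v + w, golayCode.add_mem hv hw, support₂_add v w⟩

theorem empty_mem : (∅ : Finset GolayPt) ∈ Code :=
  ⟨0, golayCode.zero_mem, by ext p; simp [mem_support₂]⟩

theorem univ_mem : (Finset.univ : Finset GolayPt) ∈ Code :=
  ⟨1, Submodule.subset_span (Or.inr rfl), by ext p; simp [mem_support₂]⟩

theorem compl_mem {b : Finset GolayPt} (hb : b ∈ Code) : bᶜ ∈ Code := by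
  have h := symmDiff_mem hb univ_mem
  rwa [← Finset.top_eq_univ, symmDiff_top] at h

theorem four_dvd_card {b : Finset GolayPt} (hb : b ∈ Code) : 4 ∣ b.card := by
  rcases weight_cases b hb with h | h | h | h | h <;> rw [h] <;> decide

theorem card_symmDiff_add (b b' : Finset GolayPt) :
    (symmDiff b b').card + 2 * (b ∩ b').card = b.card + b'.card := by
  have h1 := Finset.card_sdiff_add_card_inter b b'
  have h2 := Finset.card_sdiff_add_card_inter b' b
  rw [Finset.inter_comm b' b] at h2
  have h3 : (symmDiff b b').card = (b \ b').card + (b' \ b).card := by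
    rw [symmDiff_def, Finset.sup_eq_union, Finset.card_union_of_disjoint]
    exact disjoint_sdiff_sdiff
  omega

theorem two_dvd_card_inter {b b' : Finset GolayPt} (hb : b ∈ Code) (hb' : b' ∈ Code) :
    2 ∣ (b ∩ b').card := by
  have h1 := four_dvd_card hb
  have h2 := four_dvd_card hb'
  have h3 := four_dvd_card (symmDiff_mem hb hb')
  have h4 := card_symmDiff_add b b'
  omega

theorem smul_mem {σ : Equiv.Perm GolayPt} (hσ : σ ∈ M24) {b : Finset GolayPt} (hb : b ∈ Code) :
    σ • b ∈ Code := smul_mem_supports hσ hb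

end Cfsg.Agent.Helper92
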