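import Cfsg.Agent.Lib.Helper92.LargeExtra

set_option autoImplicit false

namespace Cfsg.Agent.Helper92
open Cfsg

variable {G : Type*} [Group G] [Finite G]

/-- for `q ∈ S ≤ pairStab z t` with `q t q⁻¹ = z t`, the centralizer of `t` in `S` has index 2 -/
theorem relIndex_two_of_swap {z t : G} (hz2 : z * z = 1) (hz1 : z ≠ 1) {q : G}
    (hqt : cjg q t = z * t) {S : Subgroup G} (hqS : q ∈ S) (hSB : S ≤ pairStab z t hz2) :
    (S ⊓ Subgroup.centralizer ({t} : Set G)).relIndex S = 2 := by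
  have hne : z * t ≠ t := by
    intro h
    apply hz1
    calc z = z * t * t⁻¹ := by group
      _ = t * t⁻¹ := by rw [h]
      _ = 1 := by group
  rw [Subgroup.relIndex_eq_two_iff]
  refine ⟨q, hqS, fun b hb => ?_⟩
  have hbB := mem_pairStab.mp (hSB hb)
  rcases hbB.2 with h | h
  · right
    refine ⟨Subgroup.mem_inf.mpr ⟨hb, mem_centralizer_iff_cjg.mpr h⟩, ?_⟩
    intro h2
    have h2 := (Subgroup.mem_inf.mp h2).2
    rw [mem_centralizer_iff_cjg, ← cjg_cjg, hqt, cjg_mul, hbB.1, h] at h2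
    exact hne h2
  · left
    refine ⟨Subgroup.mem_inf.mpr ⟨S.mul_mem hb hqS, ?_⟩, ?_⟩
    · rw [mem_centralizer_iff_cjg, ← cjg_cjg, hqt, cjg_mul, hbB.1, h, ← mul_assoc, hz2,
        one_mul]
    · intro h2
      have h2 := (Subgroup.mem_inf.mp h2).2
      rw [mem_centralizer_iff_cjg, h] at h2
      exact hne h2

theorem large_extra_symm (Q : G → Subgroup G)
    (P1 : ∀ x, ∀ a ∈ Q x, cjg a x = x)
    (P2 : ∀ x, IsPGroup 2 (Q x))
    (P3 : ∀ x c, cjg c x = x → ∀ a ∈ Q x, cjg c a ∈ Q x)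
    (P4 : ∀ x n a, a ∈ Q x → cjg n a ∈ Q (cjg n x))
    (z : G) (hz2 : z * z = 1) (hz1 : z ≠ 1)
    (E1 : ∀ a ∈ Q z, ∀ b ∈ Q z, cjg a b = b ∨ cjg a b = z * b)
    (E2 : ∀ w ∈ Q z, (∀ a ∈ Q z, cjg a w = w) → w = 1 ∨ w = z)
    (E3 : ∀ w, (∀ a ∈ Q z, cjg a w = w) → w ∈ Q z)
    (g : G) (ht : cjg g z ∈ Q z) : z ∈ Q (cjg g z) := by
  haveI : Fact (Nat.Prime 2) := ⟨Nat.prime_two⟩
  set t := cjg g z with ht_def
  have hzQ : z ∈ Q z := E3 z (fun a ha => P1 z a ha)
  have htt : t * t = 1 := by rw [ht_def, ← cjg_mul, hz2, cjg_one]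
  have ht1 : t ≠ 1 := by
    intro h
    apply hz1
    have := cjg_eq_iff.mp h
    rw [this, cjg_one]
  by_cases htz : t = z
  · rw [htz]; exact hzQ
  have hzinv : z⁻¹ = z := inv_eq_of_mul_eq_one_left hz2
  have htinv : t⁻¹ = t := inv_eq_of_mul_eq_one_left htt
  have hzzt : z * (z * t) = t := by rw [← mul_assoc, hz2, one_mul]
  have hztt : z * t * t = z := by rw [mul_assoc, htt, mul_one]
  -- facts about Q t
  have htQ : t ∈ Q t := P4 z g z hzQ
  have hCt : ∀ w, (∀ a ∈ Q t, cjg a w = w) → w ∈ Q t := by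
    intro w hw
    have h1 : cjg g⁻¹ w ∈ Q z := by
      apply E3
      intro a ha
      have h2 := hw (cjg g a) (P4 z g a ha)
      have h3 : cjg a (cjg g⁻¹ w) = cjg g⁻¹ (cjg (cjg g a) w) := by
        unfold cjg; group
      rw [h3, h2]
    have h4 := P4 z g _ h1
    have h5 : cjg g (cjg g⁻¹ w) = w := by unfold cjg; group
    rwa [h5] at h4
  -- Step A
  obtain ⟨q, hq, hqt⟩ : ∃ q ∈ Q z, cjg q t = z * t := by
    by_contra hne
    push_neg at hne
    have : ∀ a ∈ Q z, cjg a t = t := fun a ha => (E1 a ha t ht).resolve_right (hne a ha)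
    rcases E2 t ht this with h | h
    · exact ht1 h
    · exact htz h
  have hqz : cjg q z = z := P1 z q hq
  have hqzt : cjg q (z * t) = t := by rw [cjg_mul, hqz, hqt, hzzt]
  have hqinvt : cjg q⁻¹ t = z * t := by
    have := cjg_eq_iff.mp hqzt
    exact this.symm
  have hqinvz : cjg q⁻¹ z = z := (cjg_eq_iff.mp hqz).symm
  -- Step B
  set B := pairStab z t hz2 with hB
  have hQB : Q z ≤ B := fun a ha => mem_pairStab.mpr ⟨P1 z a ha, E1 a ha t ht⟩
  obtain ⟨T1, hQT1, hT1B, hT1p, hT1card, -⟩ := exists_sylowIn (P2 z) hQB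
  set T := T1 ⊓ Subgroup.centralizer ({t} : Set G) with hT
  have hTp : IsPGroup 2 T := hT1p.to_le inf_le_left
  have hTz : ∀ a ∈ T, cjg a z = z := fun a ha =>
    (mem_pairStab.mp (hT1B (Subgroup.mem_inf.mp ha).1)).1
  have hTt : ∀ a ∈ T, cjg a t = t := fun a ha =>
    mem_centralizer_iff_cjg.mp (Subgroup.mem_inf.mp ha).2
  have hzT : z ∈ T := Subgroup.mem_inf.mpr ⟨hQT1 hzQ, mem_centralizer_iff_cjg.mpr
    (cjg_of_comm (comm_of_cjg (P1 z t ht)).symm)⟩
  have htT : t ∈ T := Subgroup.mem_inf.mpr ⟨hQT1 ht, mem_centralizer_iff_cjg.mpr (cjg_of_comm rfl)⟩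
  have hqT1 : q ∈ T1 := hQT1 hq
  -- q normalizes T
  have hqT : ∀ a ∈ T, cjg q a ∈ T := by
    intro a ha
    refine Subgroup.mem_inf.mpr ⟨T1.mul_mem (T1.mul_mem hqT1 (Subgroup.mem_inf.mp ha).1)
      (T1.inv_mem hqT1), ?_⟩
    rw [mem_centralizer_iff_cjg]
    have h1 : cjg (cjg q a) t = cjg q (cjg a (cjg q⁻¹ t)) := by unfold cjg; group
    rw [h1, hqinvt, cjg_mul, hTz a ha, hTt a ha, hqzt]
  have hqinvT : ∀ a ∈ T, cjg q⁻¹ a ∈ T := by
    intro a ha
    refine Subgroup.mem_inf.mpr ⟨T1.mul_mem (T1.mul_mem (T1.inv_mem hqT1)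
      (Subgroup.mem_inf.mp ha).1) (T1.inv_mem (T1.inv_mem hqT1)), ?_⟩
    rw [mem_centralizer_iff_cjg]
    have h1 : cjg (cjg q⁻¹ a) t = cjg q⁻¹ (cjg a (cjg q t)) := by unfold cjg; group
    rw [h1, hqt, cjg_mul, hTz a ha, hTt a ha, cjg_mul, hqinvz, hqinvt, hzzt]
  -- Step C
  obtain ⟨Tt, hTTt, hTtC, hTtp, -, hTtN⟩ := exists_sylowIn (H := Subgroup.centralizer ({t} : Set G)) hTp inf_le_right
  have hQtTt : Q t ≤ Tt := by
    apply hTtN (Q t)
    · intro a ha
      rw [mem_centralizer_iff_cjg]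
      have := P1 t a ha
      exact this
    · exact P2 t
    · intro h hh a ha
      exact P3 t h (mem_centralizer_iff_cjg.mp hh) a ha
  by_cases hle : Tt ≤ T
  · apply hCt
    intro a ha
    exact hTz a (hle (hQtTt ha))
  have hlt : T < Tt := lt_of_le_of_ne hTTt (fun h => hle h.ge)
  obtain ⟨y, hyTt, hyT, hyN⟩ := Helper67.exists_mem_normalizer_not_mem hTtp hlt
  have hyt : cjg y t = t := mem_centralizer_iff_cjg.mp (hTtC hyTt)
  have hyNT : ∀ a ∈ T, cjg y a ∈ T := fun a ha => (Subgroup.mem_normalizer_iff.mp hyN a).mp ha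
  have hyinvNT : ∀ a ∈ T, cjg y⁻¹ a ∈ T := by
    intro a ha
    rw [Subgroup.mem_normalizer_iff.mp hyN (cjg y⁻¹ a)]
    have : y * cjg y⁻¹ a * y⁻¹ = a := by unfold cjg; group
    rw [this]; exact ha
  -- Step D
  have hyz : cjg y z ≠ z := by
    intro h
    set Y := T ⊔ Subgroup.zpowers y with hY
    have hYTt : Y ≤ Tt := sup_le hTTt (Subgroup.zpowers_le.mpr hyTt)
    have hYp : IsPGroup 2 Y := hTtp.to_le hYTt
    have hyB : y ∈ B := mem_pairStab.mpr ⟨h, Or.inl hyt⟩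
    have hYCE : Y ≤ B ⊓ Subgroup.centralizer ({t} : Set G) := by
      apply sup_le
      · intro a ha
        exact Subgroup.mem_inf.mpr ⟨hT1B (Subgroup.mem_inf.mp ha).1, (Subgroup.mem_inf.mp ha).2⟩
      · rw [Subgroup.zpowers_le]
        exact Subgroup.mem_inf.mpr ⟨hyB, mem_centralizer_iff_cjg.mpr hyt⟩
    have hTY : T < Y := by
      refine lt_of_le_of_ne le_sup_left ?_
      intro heq
      apply hyT
      rw [heq]
      exact Subgroup.mem_sup_right (Subgroup.mem_zpowers y)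
    have hcardlt : Nat.card T < Nat.card Y := Helper67.card_lt_card_of_lt hTY
    have c1 := card_mul_relIndex (inf_le_left : B ⊓ Subgroup.centralizer ({t} : Set G) ≤ B)
    rw [relIndex_two_of_swap hz2 hz1 hqt (hQB hq) le_rfl] at c1
    have c2 : Nat.card T * 2 = Nat.card T1 := by
      have := card_mul_relIndex (inf_le_left : T1 ⊓ Subgroup.centralizer ({t} : Set G) ≤ T1)
      rw [relIndex_two_of_swap hz2 hz1 hqt hqT1 hT1B] at this
      exact this
    obtain ⟨k, hk⟩ := hYp.exists_card_eq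
    have d1 : Nat.card Y ∣ Nat.card ↥(B ⊓ Subgroup.centralizer ({t} : Set G)) :=
      Subgroup.card_dvd_of_le hYCE
    have d2 : 2 ^ (k + 1) ∣ Nat.card B := by
      rw [← c1, pow_succ, ← hk]
      exact Nat.mul_dvd_mul_right d1 2
    have d3 : k + 1 ≤ (Nat.card B).factorization 2 :=
      (Nat.prime_two.pow_dvd_iff_le_factorization Nat.card_pos.ne').mp d2
    have d4 : 2 ^ (k + 1) ≤ Nat.card T1 := by
      rw [hT1card]
      exact Nat.pow_le_pow_right (by norm_num) d3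
    have d5 : Nat.card Y * 2 ≤ Nat.card T * 2 := by
      rw [c2, hk, ← pow_succ]
      exact d4
    omega
  -- Step E
  set b := cjg y z with hb_def
  have hbT : b ∈ T := hyNT z hzT
  have hbb : b * b = 1 := by rw [hb_def, ← cjg_mul, hz2, cjg_one]
  have hb1 : b ≠ 1 := by
    intro h
    apply hz1
    have := cjg_eq_iff.mp h
    rw [this, cjg_one]
  have CTb : ∀ a ∈ T, cjg a b = b := by
    intro a ha
    have h1 : cjg a (cjg y z) = cjg y (cjg (cjg y⁻¹ a) z) := by unfold cjg; group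
    rw [hb_def, h1, hTz _ (hyinvNT a ha)]
  have CTq : ∀ w, (∀ a ∈ T, cjg a w = w) → ∀ a ∈ T, cjg a (cjg q w) = cjg q w := by
    intro w hw a ha
    have h1 : cjg a (cjg q w) = cjg q (cjg (cjg q⁻¹ a) w) := by unfold cjg; group
    rw [h1, hw _ (hqinvT a ha)]
  have K : ∀ w, (∀ a ∈ T, cjg a w = w) → cjg q w = w → w = 1 ∨ w = z := by
    intro w hw hqw
    have hall : ∀ a ∈ Q z, cjg a w = w := by
      intro a ha
      rcases E1 a ha t ht with h | h
      · exact hw a (Subgroup.mem_inf.mpr ⟨hQT1 ha, mem_centralizer_iff_cjg.mpr h⟩)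
      · have ha' : q⁻¹ * a ∈ T := by
          refine Subgroup.mem_inf.mpr ⟨T1.mul_mem (T1.inv_mem hqT1) (hQT1 ha), ?_⟩
          rw [mem_centralizer_iff_cjg, ← cjg_cjg, h, cjg_mul, hqinvz, hqinvt, hzzt]
        have h1 : cjg a w = cjg q (cjg (q⁻¹ * a) w) := by unfold cjg; group
        rw [h1, hw _ ha', hqw]
    exact E2 w (E3 w hall) hall
  have hqbT : cjg q b ∈ T := hqT b hbT
  have hcomm : b * cjg q b = cjg q b * b := (comm_of_cjg (CTb _ hqbT)).symm
  have hqq : q * q ∈ T := by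
    refine Subgroup.mem_inf.mpr ⟨T1.mul_mem hqT1 hqT1, ?_⟩
    rw [mem_centralizer_iff_cjg, ← cjg_cjg, hqt, hqzt]
  have hqqb : cjg q (cjg q b) = b := by
    rw [cjg_cjg]
    exact CTb _ hqq
  have CTc : ∀ a ∈ T, cjg a (b * cjg q b) = b * cjg q b := by
    intro a ha
    rw [cjg_mul, CTb a ha, CTq b CTb a ha]
  have hqc : cjg q (b * cjg q b) = b * cjg q b := by
    rw [cjg_mul, hqqb, hcomm]
  have hbinv : b⁻¹ = b := inv_eq_of_mul_eq_one_left hbb
  rcases K _ CTc hqc with hc | hc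
  · have h1 : cjg q b = b := by
      have : cjg q b = b⁻¹ := eq_inv_of_mul_eq_one_right hc
      rw [this, hbinv]
    rcases K b CTb h1 with h | h
    · exact absurd h hb1
    · exact absurd h hyz
  · have h1 : cjg q b = b * z := by
      have : cjg q b = b⁻¹ * z := by rw [← hc]; group
      rw [this, hbinv]
    have CTbt : ∀ a ∈ T, cjg a (b * t) = b * t := by
      intro a ha
      rw [cjg_mul, CTb a ha, hTt a ha]
    have hqbt : cjg q (b * t) = b * t := by
      rw [cjg_mul, h1, hqt, mul_assoc, hzzt]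
    rcases K _ CTbt hqbt with h | h
    · have hbt : b = t := by
        have : b = t⁻¹ := eq_inv_of_mul_eq_one_left h
        rw [this, htinv]
      exfalso
      apply htz
      have : cjg y z = cjg y t := by rw [← hb_def, hbt, hyt]
      exact (cjg_injective y this).symm
    · have hbzt : b = z * t := by
        calc b = b * t * t := by rw [mul_assoc, htt, mul_one]
          _ = z * t := by rw [h]
      have hn_z : cjg (q * y) z = t := by rw [← cjg_cjg, ← hb_def, hbzt, hqzt]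
      have hn_t : cjg (q * y) t = z * t := by rw [← cjg_cjg, hyt, hqt]
      have h5 := P4 z (q * y) t ht
      rw [hn_z, hn_t] at h5
      have h6 := (Q t).mul_mem h5 htQ
      rwa [hztt] at h6

end Cfsg.Agent.Helper92
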