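import Mathlib
import Cfsg.Prelude.Def_Transfer
import Cfsg.Agent.Lib.Helper92.LargeExtra2

set_option autoImplicit false

namespace Cfsg.Agent.Helper92
open Cfsg
open scoped commutatorElement

variable {G : Type*} [Group G]

/-- the package of facts about `Q x = O₂(C(x))` and an involution `z` with `Q z` extraspecial and
self-centralizing, in conjugation form -/
structure LESetting (Q : G → Subgroup G) (z : G) : Prop where
  P1 : ∀ x, ∀ a ∈ Q x, cjg a x = x
  P2 : ∀ x, IsPGroup 2 (Q x)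
  P3 : ∀ x c, cjg c x = x → ∀ a ∈ Q x, cjg c a ∈ Q x
  P4 : ∀ x n a, a ∈ Q x → cjg n a ∈ Q (cjg n x)
  hz2 : z * z = 1
  hz1 : z ≠ 1
  E1 : ∀ a ∈ Q z, ∀ b ∈ Q z, cjg a b = b ∨ cjg a b = z * b
  E2 : ∀ w ∈ Q z, (∀ a ∈ Q z, cjg a w = w) → w = 1 ∨ w = z
  E3 : ∀ w, (∀ a ∈ Q z, cjg a w = w) → w ∈ Q z

theorem LESetting.mem_self {Q : G → Subgroup G} {z : G} (h : LESetting Q z) : z ∈ Q z :=
  h.E3 z (fun a ha => h.P1 z a ha)

theorem setting_of_hyps [Finite G] (Q : G → Subgroup G)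
    (hQ : ∀ x : G, Q x = (Cfsg.pCore 2 ↥(Subgroup.centralizer ({x} : Set G))).map (Subgroup.centralizer ({x} : Set G)).subtype)
    (z : G) (hz : orderOf z = 2) (hE : Cfsg.IsExtraspecial 2 ↥(Q z))
    (hC : Subgroup.centralizer ((Q z : Subgroup G) : Set G) ≤ Q z) : LESetting Q z := by
  have : Fact (Nat.Prime 2) := ⟨Nat.prime_two⟩
  have hQ' : ∀ x, Q x = coreIn 2 (Subgroup.centralizer ({x} : Set G)) := hQ
  have hz2 : z * z = 1 := by rw [← pow_two, ← hz, pow_orderOf_eq_one]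
  have hz1 : z ≠ 1 := by
    intro h
    rw [h, orderOf_one] at hz
    exact absurd hz (by norm_num)
  have P1 : ∀ x, ∀ a ∈ Q x, cjg a x = x := by
    intro x a ha
    rw [hQ'] at ha
    exact mem_centralizer_iff_cjg.mp (coreIn_le 2 _ ha)
  have P2 : ∀ x, IsPGroup 2 (Q x) := by
    intro x
    rw [hQ']
    exact coreIn_isPGroup 2 _
  have P3 : ∀ x c, cjg c x = x → ∀ a ∈ Q x, cjg c a ∈ Q x := by
    intro x c hc a ha
    rw [hQ'] at ha ⊢
    exact coreIn_conj_mem 2 _ (mem_centralizer_iff_cjg.mpr hc) ha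
  have P4 : ∀ x n a, a ∈ Q x → cjg n a ∈ Q (cjg n x) := by
    intro x n a ha
    rw [hQ'] at ha ⊢
    exact conj_mem_coreIn_centralizer n ha
  have E3 : ∀ w, (∀ a ∈ Q z, cjg a w = w) → w ∈ Q z := by
    intro w hw
    apply hC
    rw [Subgroup.mem_centralizer_iff]
    intro a ha
    exact comm_of_cjg (hw a ha)
  have hzQ : z ∈ Q z := E3 z (fun a ha => P1 z a ha)
  obtain ⟨⟨-, -, hcomm⟩, hcard⟩ := hE
  set ζ : ↥(Q z) := ⟨z, hzQ⟩ with hζ
  have hζc : ζ ∈ Subgroup.center ↥(Q z) := by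
    rw [Subgroup.mem_center_iff]
    intro k
    apply Subtype.ext
    exact comm_of_cjg (P1 z k k.2)
  have hζ1 : (⟨ζ, hζc⟩ : Subgroup.center ↥(Q z)) ≠ 1 := by
    intro h
    apply hz1
    have h2 : ζ = 1 := congrArg Subtype.val h
    exact congrArg Subtype.val h2
  have hcen : ∀ w ∈ Subgroup.center ↥(Q z), w = 1 ∨ w = ζ := by
    intro w hw
    obtain ⟨y, -, hy⟩ := (Nat.card_eq_two_iff' (1 : Subgroup.center ↥(Q z))).mp hcard
    by_cases h1 : w = 1
    · exact Or.inl h1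
    · right
      have e1 : (⟨w, hw⟩ : Subgroup.center ↥(Q z)) = y := hy _ (by
        intro h
        apply h1
        exact congrArg Subtype.val h)
      have e2 : (⟨ζ, hζc⟩ : Subgroup.center ↥(Q z)) = y := hy _ hζ1
      exact congrArg Subtype.val (e1.trans e2.symm)
  have E1 : ∀ a ∈ Q z, ∀ b ∈ Q z, cjg a b = b ∨ cjg a b = z * b := by
    intro a ha b hb
    have hmem : ⁅(⟨a, ha⟩ : ↥(Q z)), ⟨b, hb⟩⁆ ∈ Subgroup.center ↥(Q z) := by
      rw [← hcomm, commutator_def]
      exact Subgroup.commutator_mem_commutator (Subgroup.mem_top _) (Subgroup.mem_top _)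
    rcases hcen _ hmem with h | h
    · left
      have := congrArg (fun w : ↥(Q z) => (w : G)) h
      simp only [commutatorElement_def, Subgroup.coe_mul, Subgroup.coe_inv, Subgroup.coe_one] at this
      unfold cjg
      calc a * b * a⁻¹ = a * b * a⁻¹ * b⁻¹ * b := by group
        _ = b := by rw [this, one_mul]
    · right
      have := congrArg (fun w : ↥(Q z) => (w : G)) h
      simp only [commutatorElement_def, Subgroup.coe_mul, Subgroup.coe_inv, hζ] at this
      unfold cjg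
      calc a * b * a⁻¹ = a * b * a⁻¹ * b⁻¹ * b := by group
        _ = z * b := by rw [this]
  have E2 : ∀ w ∈ Q z, (∀ a ∈ Q z, cjg a w = w) → w = 1 ∨ w = z := by
    intro w hw hall
    have hmem : (⟨w, hw⟩ : ↥(Q z)) ∈ Subgroup.center ↥(Q z) := by
      rw [Subgroup.mem_center_iff]
      intro k
      apply Subtype.ext
      exact comm_of_cjg (hall k k.2)
    rcases hcen _ hmem with h | h
    · left; exact congrArg (fun w : ↥(Q z) => (w : G)) h
    · right; exact congrArg (fun w : ↥(Q z) => (w : G)) h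
  exact ⟨P1, P2, P3, P4, hz2, hz1, E1, E2, E3⟩

/-- the setting is conjugation invariant -/
theorem LESetting.conj {Q : G → Subgroup G} {z : G} (h : LESetting Q z) (g : G) :
    LESetting Q (cjg g z) := by
  have hback : cjg g⁻¹ (cjg g z) = z := by unfold cjg; group
  have hin : ∀ a ∈ Q (cjg g z), cjg g⁻¹ a ∈ Q z := by
    intro a ha
    have := h.P4 (cjg g z) g⁻¹ a ha
    rwa [hback] at this
  have hfw : ∀ a, cjg g (cjg g⁻¹ a) = a := by intro a; unfold cjg; group
  refine ⟨h.P1, h.P2, h.P3, h.P4, ?_, ?_, ?_, ?_, ?_⟩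
  · rw [← cjg_mul, h.hz2, cjg_one]
  · intro hh
    apply h.hz1
    have := cjg_eq_iff.mp hh
    rw [this, cjg_one]
  · intro a ha b hb
    have key : cjg a b = cjg g (cjg (cjg g⁻¹ a) (cjg g⁻¹ b)) := by unfold cjg; group
    rcases h.E1 _ (hin a ha) _ (hin b hb) with e | e
    · left; rw [key, e, hfw]
    · right; rw [key, e, cjg_mul, hfw]
  · intro w hw hall
    have h1 : ∀ a ∈ Q z, cjg a (cjg g⁻¹ w) = cjg g⁻¹ w := by
      intro a ha
      have h2 := hall (cjg g a) (h.P4 z g a ha)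
      have h3 : cjg a (cjg g⁻¹ w) = cjg g⁻¹ (cjg (cjg g a) w) := by unfold cjg; group
      rw [h3, h2]
    rcases h.E2 _ (hin w hw) h1 with e | e
    · left
      have := cjg_eq_iff.mp e
      rw [this]; unfold cjg; group
    · right
      have := cjg_eq_iff.mp e
      rw [this]; unfold cjg; group
  · intro w hall
    have h1 : ∀ a ∈ Q z, cjg a (cjg g⁻¹ w) = cjg g⁻¹ w := by
      intro a ha
      have h2 := hall (cjg g a) (h.P4 z g a ha)
      have h3 : cjg a (cjg g⁻¹ w) = cjg g⁻¹ (cjg (cjg g a) w) := by unfold cjg; group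
      rw [h3, h2]
    have h4 := h.P4 z g _ (h.E3 _ h1)
    rwa [hfw] at h4

/-- symmetry of orthogonality (the content of `large_extra_symm`) -/
theorem LESetting.symm [Finite G] {Q : G → Subgroup G} {z : G} (h : LESetting Q z) (g : G)
    (ht : cjg g z ∈ Q z) : z ∈ Q (cjg g z) :=
  large_extra_symm Q h.P1 h.P2 h.P3 h.P4 z h.hz2 h.hz1 h.E1 h.E2 h.E3 g ht

/-- key lemma: `Q s ⊓ Q t ≤ Q (s t)` for `t ∈ Q s` noncentral and `s ∈ Q (s t)` -/
theorem LESetting.inf_le_mul {Q : G → Subgroup G} {s : G} (h : LESetting Q s) {t x : G}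
    (hts : t ∈ Q s) (ht1 : t ≠ 1) (hts' : t ≠ s) (hs : s ∈ Q (s * t))
    (hxs : x ∈ Q s) (hxt : x ∈ Q t) : x ∈ Q (s * t) := by
  obtain ⟨q, hq, hqt⟩ : ∃ q ∈ Q s, cjg q t = s * t := by
    by_contra hne
    push_neg at hne
    have : ∀ a ∈ Q s, cjg a t = t := fun a ha => (h.E1 a ha t hts).resolve_right (hne a ha)
    rcases h.E2 t hts this with e | e
    · exact ht1 e
    · exact hts' e
  have hx' := h.P4 t q x hxt
  rw [hqt] at hx'
  rcases h.E1 q hq x hxs with e | e
  · rwa [e] at hx'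
  · rw [e] at hx'
    have := (Q (s * t)).mul_mem ((Q (s * t)).inv_mem hs) hx'
    rwa [inv_mul_cancel_left] at this

end Cfsg.Agent.Helper92
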