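import Cfsg.Agent.Lib.Helper92.G5
import Cfsg.Agent.Lib.Helper7.M24Trans

/-!
# Tools for permutations of the 24 points given by tables
-/

set_option autoImplicit false

namespace Cfsg.Agent.Helper92
open Cfsg Cfsg.Agent.Helper7
open scoped Pointwise

theorem tab_getD_eq {σ : Equiv.Perm GolayPt} {l : List ℕ} (h : Tab σ l) {i j : ℕ} (hi : i < 24)
    (hj : j < 24) (hσ : σ (pt i) = pt j) : l.getD i 0 = j := by
  have := h (pt i)
  rw [hσ, idx_pt i hi, idx_pt j hj] at this
  exact this.symm

theorem tab_apply_idx {σ : Equiv.Perm GolayPt} {l : List ℕ} (h : Tab σ l) (p : GolayPt) :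
    σ p = pt (l.getD (idx p) 0) := by
  rw [← h p, pt_idx]

theorem tab_ext {σ : Equiv.Perm GolayPt} {l l' : List ℕ} (h : Tab σ l) (h' : Tab σ l')
    (hl : l.length = 24) (hl' : l'.length = 24) : l = l' := by
  apply List.ext_getElem (by rw [hl, hl'])
  intro i h1 h2
  have hi : i < 24 := by omega
  have e1 := h (pt i)
  have e2 := h' (pt i)
  rw [idx_pt i hi, List.getD_eq_getElem _ _ h1] at e1
  rw [idx_pt i hi, List.getD_eq_getElem _ _ h2] at e2
  rw [← e1, ← e2]

theorem mulTab_getD (l1 l2 : List ℕ) (i : ℕ) (hi : i < l2.length) :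
    (mulTab l1 l2).getD i 0 = l1.getD (l2.getD i 0) 0 := by
  unfold mulTab
  rw [List.getD_eq_getElem _ _ (by rw [List.length_map]; exact hi), List.getElem_map,
    List.getD_eq_getElem _ _ hi]

/-- Conjugation on the level of tables: if `c σ = σ₀ c` on tables then `c σ c⁻¹` has table `l₀`. -/
theorem tab_conj {c σ : Equiv.Perm GolayPt} {lc l l0 : List ℕ} (hc : Tab c lc) (hσ : Tab σ l)
    (hlc : lc.length = 24) (hl : l.length = 24) (h : mulTab lc l = mulTab l0 lc) :
    Tab (c * σ * c⁻¹) l0 := by
  intro p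
  have e1 := (hc.mul hσ hl) (c⁻¹ p)
  rw [h, mulTab_getD _ _ _ (by rw [hlc]; exact idx_lt _), ← hc (c⁻¹ p)] at e1
  simp only [Equiv.Perm.mul_apply] at e1 ⊢
  have e2 : c (c⁻¹ p) = p := by simp
  rw [e2] at e1
  exact e1

/-- Number of fixed indices of a table. -/
def fixCount (l : List ℕ) : ℕ := ((List.range 24).filter fun i => Nat.beq (l.getD i 0) i).length

theorem fixCount_def (l : List ℕ) :
    fixCount l = ((List.range 24).filter fun i => Nat.beq (l.getD i 0) i).length := rfl

theorem tab_fix_iff {σ : Equiv.Perm GolayPt} {l : List ℕ} (h : Tab σ l) (p : GolayPt) :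
    σ p = p ↔ l.getD (idx p) 0 = idx p := by
  constructor
  · intro hp
    rw [← h p, hp]
  · intro hp
    apply idx_injective
    rw [h p, hp]

theorem card_fixed {σ : Equiv.Perm GolayPt} {l : List ℕ} (h : Tab σ l) :
    (Finset.univ.filter fun p => σ p = p).card = fixCount l := by
  rw [fixCount_def]
  have hnd : ((List.range 24).filter fun i => Nat.beq (l.getD i 0) i).Nodup :=
    List.nodup_range.filter _
  rw [← List.toFinset_card_of_nodup hnd]
  apply Finset.card_bij (fun p _ => idx p)
  · intro p hp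
    rw [Finset.mem_filter] at hp
    rw [List.mem_toFinset, List.mem_filter, List.mem_range, Nat.beq_eq]
    exact ⟨idx_lt p, (tab_fix_iff h p).mp hp.2⟩
  · intro p _ q _ hpq
    exact idx_injective hpq
  · intro i hi
    rw [List.mem_toFinset, List.mem_filter, List.mem_range, Nat.beq_eq] at hi
    refine ⟨pt i, ?_, idx_pt i hi.1⟩
    rw [Finset.mem_filter]
    refine ⟨Finset.mem_univ _, ?_⟩
    rw [tab_fix_iff h, idx_pt i hi.1]
    exact hi.2

theorem tab_ne_of_fpf {σ : Equiv.Perm GolayPt} {l : List ℕ} (h : Tab σ l)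
    (hf : ∀ p, σ p ≠ p) : ∀ i < 24, l.getD i 0 ≠ i := by
  intro i hi heq
  apply hf (pt i)
  rw [tab_fix_iff h, idx_pt i hi]
  exact heq

theorem tab_sq_eq {σ : Equiv.Perm GolayPt} {l : List ℕ} (h : Tab σ l) (hl : l.length = 24)
    (h2 : σ * σ = 1) : mulTab l l = idTab := by
  have := h.mul h hl
  rw [h2] at this
  exact tab_ext this tab_one (by rw [mulTab_length, hl]) rfl

theorem tab_cube_eq {σ : Equiv.Perm GolayPt} {l : List ℕ} (h : Tab σ l) (hl : l.length = 24)
    (h3 : σ * σ * σ = 1) : mulTab (mulTab l l) l = idTab := by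
  have := (h.mul h hl).mul h hl
  rw [h3] at this
  exact tab_ext this tab_one (by rw [mulTab_length, hl]) rfl

theorem tab_id_eq_one {σ : Equiv.Perm GolayPt} (h : Tab σ idTab) : σ = 1 := by
  apply Equiv.ext
  intro p
  apply idx_injective
  rw [h p]
  have : idTab.getD (idx p) 0 = idx p := by
    have := idx_lt p
    revert this
    generalize idx p = i
    intro hi
    interval_cases i <;> rfl
  rw [this]
  rfl

theorem tab_ne_idTab {σ : Equiv.Perm GolayPt} {l : List ℕ} (h : Tab σ l) (h1 : σ ≠ 1) :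
    l ≠ idTab := by
  rintro rfl
  exact h1 (tab_id_eq_one h)

/-! ### Moving five points to the base -/

theorem exists_to_base (xs : List GolayPt) (hnd : xs.Nodup) (hlen : xs.length = 5) :
    ∃ h ∈ M24, xs.map h = base5.map pt := by
  apply m24_five_trans xs (base5.map pt) hnd
  · decide
  · rw [hlen]; rfl
  · omega

/-- Conjugation preserves the number of fixed points. -/
theorem card_fixed_conj (h g : Equiv.Perm GolayPt) :
    (Finset.univ.filter fun p => (h * g * h⁻¹) p = p).card =
      (Finset.univ.filter fun p => g p = p).card := by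
  symm
  apply Finset.card_bij (fun p _ => h p)
  · intro p hp
    rw [Finset.mem_filter] at hp ⊢
    refine ⟨Finset.mem_univ _, ?_⟩
    have e : h⁻¹ (h p) = p := by simp
    simp only [Equiv.Perm.mul_apply, e, hp.2]
  · intro p _ q _ hpq
    exact h.injective hpq
  · intro q hq
    rw [Finset.mem_filter] at hq
    refine ⟨h⁻¹ q, ?_, by simp⟩
    rw [Finset.mem_filter]
    refine ⟨Finset.mem_univ _, ?_⟩
    have := hq.2
    simp only [Equiv.Perm.mul_apply] at this
    have e := congrArg (fun x => h⁻¹ x) this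
    simpa using e

theorem orderOf_conj' (h g : Equiv.Perm GolayPt) : orderOf (h * g * h⁻¹) = orderOf g := by
  have : h * g * h⁻¹ = MulAut.conj h g := rfl
  rw [this, MulEquiv.orderOf_eq]

theorem conj_conj (k h g : Equiv.Perm GolayPt) :
    k * (h * g * h⁻¹) * k⁻¹ = (k * h) * g * (k * h)⁻¹ := by
  rw [mul_inv_rev]; group

end Cfsg.Agent.Helper92
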