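import Cfsg.Agent.Lib.Helper92.Classes2
import Cfsg.Agent.Lib.Helper92.Counts

/-!
# The centraliser of the tabulated fixed-point-free involution `l2B` of `M24`

Certified elements of the centraliser (a transversal chain), and the unique sextet all of
whose tetrads are invariant under the involution.
-/

set_option autoImplicit false

namespace Cfsg.Agent.Helper92
open Cfsg Cfsg.Agent.Helper7
open scoped Pointwise

def centProg : List (ℕ × ℕ) := [(0, 3), (0, 0), (0, 6), (0, 7), (0, 8), (0, 9), (0, 10), (0, 11), (0, 12), (0, 13), (0, 14), (0, 15), (0, 16), (0, 17), (0, 18), (0, 19), (0, 20), (0, 21), (0, 22), (0, 23), (0, 24), (0, 1), (0, 26), (1, 26), (0, 27), (1, 27), (0, 30), (0, 31), (1, 31), (0, 32), (1, 32), (0, 35), (0, 36), (1, 36), (0, 37), (1, 37), (0, 40), (1, 41), (1, 39), (0, 43), (0, 44), (1, 44), (0, 34), (31, 3), (48, 1), (49, 3), (50, 3), (51, 3), (52, 1), (53, 3), (54, 1), (0,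 29), (55, 56), (9, 57), (58, 58), (58, 59), (58, 60), (58, 61), (58, 62), (58, 63), (58, 64), (58, 65), (58, 66), (54, 3), (64, 2), (69, 69), (69, 70), (69, 71), (69, 0), (3, 73), (74, 66), (58, 75), (69, 75), (58, 77), (74, 77), (58, 79), (74, 80), (69, 81), (74, 82), (58, 83), (58, 84), (3, 72), (86, 0), (59, 87), (88, 72), (89, 74), (90, 72), (69, 91), (69, 92), (90, 92), (90, 94), (69, 95), (90, 95), (69, 97), (69, 98), (90, 98), (69, 100), (69, 99), (69, 102), (69, 93), (87, 77), (69, 105), (106, 72), (107, 105), (108, 105), (109, 105), (110, 72), (111, 90), (112, 112), (109, 72), (90, 69), (114, 115), (116, 113), (112, 117), (112, 118), (116, 118), (112, 120), (116, 120), (112, 122), (112, 123), (116, 124), (112, 125), (116, 125), (112, 121), (128, 116), (129, 129), (72, 105), (131, 96), (112, 132), (133, 113), (134, 132), (135, 132), (136, 113), (137, 113), (138, 132), (133, 132), (129,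 117), (129, 118), (116, 119), (116, 123), (129, 126), (129, 128), (112, 69), (71, 147), (139, 148), (130, 149), (150, 129), (130, 151), (152, 150), (152, 125), (112, 154), (116, 154), (150, 112), (152, 112), (140, 158), (130, 159), (160, 152), (150, 161), (150, 160), (160, 129), (130, 164), (165, 163), (160, 166), (152, 167), (150, 168), (160, 169), (150, 123), (111, 72), (172, 72), (114, 72), (116, 91), (174, 175), (89, 87), (177, 67), (116, 59), (61, 179), (114, 180), (74, 61), (67, 182), (106, 183), (112, 63), (88, 185), (90, 75), (62, 187), (69, 188), (152, 12), (17, 190), (66, 191), (106, 192), (90, 24), (18, 194), (64, 195), (173, 196), (165, 42), (68, 198), (19, 199), (178, 200), (172, 201), (141, 150), (144, 150), (65, 96), (205, 122), (206, 130), (27, 0), (208, 85), (209, 72), (210, 113), (211, 150), (26, 3), (213, 65), (214, 96), (215, 121), (216, 129), (40, 17), (218, 150), (43, 24),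 (220, 65), (221, 93), (29, 15), (223, 76), (224, 102), (225, 123), (226, 130), (227, 150), (35, 15), (229, 84), (230, 72), (231, 155), (41, 9), (233, 60), (234, 96), (235, 156), (31, 6), (237, 67), (238, 123), (39, 15), (240, 63), (241, 93), (242, 123), (243, 129), (37, 25), (245, 84), (246, 101), (247, 118), (248, 129), (45, 19), (250, 78), (251, 97), (252, 128), (253, 130), (36, 83), (255, 103), (28, 23), (257, 76), (258, 95), (259, 127), (44, 3), (261, 78), (262, 97), (263, 154), (264, 130), (265, 150), (38, 19), (267, 77), (268, 104), (269, 122), (270, 129), (46, 19), (272, 78), (273, 104), (274, 129), (34, 14), (276, 58), (277, 96), (278, 121), (279, 129), (280, 150), (30, 25), (282, 67), (283, 96), (284, 155), (285, 130), (33, 17), (287, 59), (288, 122), (289, 129), (290, 150), (47, 24), (292, 67), (293, 93), (294, 156), (295, 150), (42, 16), (297, 79), (298, 93), (299, 155), (300, 150),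 (32, 23), (302, 64), (303, 93), (304, 128), (1, 78), (306, 96), (307, 118), (308, 130)]

def centTabs : List (List ℕ) := [[0, 1, 2, 3, 4, 5, 6, 7, 8, 9, 10, 11, 12, 13, 14, 15, 16, 17, 18, 19, 20, 21, 22, 23], [0, 1, 2, 3, 8, 5, 20, 15, 4, 21, 19, 13, 16, 11, 14, 7, 12, 17, 22, 10, 6, 9, 18, 23], [0, 1, 2, 3, 11, 5, 10, 9, 13, 7, 6, 4, 22, 8, 14, 21, 18, 17, 16, 20, 19, 15, 12, 23], [0, 1, 2, 3, 12, 5, 9, 10, 16, 6, 7, 22, 4, 18, 14, 19, 8, 17, 13, 15, 21, 20, 11, 23], [0, 1, 2, 3, 13, 5, 19, 21, 11, 15, 20, 8, 18, 4, 14, 9, 22, 17, 12, 6, 10, 7, 16, 23], [0, 1, 2, 3, 16, 5, 21, 19, 12, 20, 15, 18, 8, 22, 14, 10, 4, 17, 11, 7, 9, 6, 13, 23], [0, 1, 2, 3, 18, 5, 15, 20, 22, 19, 21, 16, 13, 12, 14, 6, 11, 17, 4, 9, 7, 10, 8, 23], [0, 1, 2, 3, 22, 5, 7, 6, 18, 10, 9, 12, 11, 16, 14, 20, 13, 17, 8, 21, 15, 19, 4, 23], [0, 1, 2, 4, 3, 16, 6, 7, 9, 8, 12, 20, 10, 17, 22, 18, 5, 13, 15, 19, 11, 21, 14,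 23], [0, 1, 2, 5, 4, 3, 21, 19, 11, 10, 9, 8, 18, 13, 17, 20, 16, 14, 12, 7, 15, 6, 22, 23], [0, 1, 2, 6, 10, 7, 14, 17, 11, 4, 16, 8, 18, 15, 19, 22, 9, 21, 12, 3, 13, 5, 20, 23], [0, 1, 2, 7, 20, 6, 3, 5, 18, 4, 16, 12, 11, 9, 21, 22, 15, 19, 8, 14, 13, 17, 10, 23], [0, 1, 2, 8, 5, 12, 9, 10, 19, 13, 22, 7, 21, 14, 18, 16, 3, 11, 6, 15, 4, 20, 17, 23], [0, 1, 2, 9, 13, 10, 12, 8, 6, 14, 17, 21, 7, 4, 15, 3, 22, 20, 19, 11, 5, 18, 16, 23], [0, 1, 2, 10, 13, 9, 18, 11, 21, 17, 14, 6, 19, 4, 20, 5, 22, 15, 7, 8, 3, 12, 16, 23], [0, 1, 2, 11, 3, 18, 10, 9, 7, 13, 22, 19, 6, 17, 12, 16, 5, 8, 21, 20, 4, 15, 14, 23], [0, 1, 2, 12, 17, 8, 15, 20, 21, 13, 22, 6, 19, 3, 11, 16, 14, 18, 7, 9, 4, 10, 5, 23], [0, 1, 2, 13, 20, 22, 11, 18, 5, 19, 21, 14, 3, 9, 16, 6, 15, 4, 17, 12, 7, 8, 10, 23], [0, 1, 2, 14, 4, 17, 7, 6, 12, 15, 20, 18, 8, 13, 3, 9, 16, 5, 11, 21, 10, 19, 22, 23], [0, 1, 2, 15, 13, 20,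 8, 12, 7, 3, 5, 19, 6, 4, 9, 14, 22, 10, 21, 18, 17, 11, 16, 23], [0, 1, 2, 16, 17, 4, 7, 6, 9, 11, 18, 20, 10, 3, 13, 12, 14, 22, 15, 21, 8, 19, 5, 23], [0, 1, 2, 17, 4, 14, 19, 21, 18, 20, 15, 12, 11, 13, 5, 10, 16, 3, 8, 6, 9, 7, 22, 23], [0, 1, 2, 18, 14, 11, 20, 15, 6, 13, 22, 21, 7, 5, 8, 16, 17, 12, 19, 10, 4, 9, 3, 23], [0, 1, 2, 19, 15, 21, 5, 3, 12, 4, 16, 18, 8, 10, 6, 22, 20, 7, 11, 17, 13, 14, 9, 23], [0, 1, 2, 20, 13, 15, 11, 18, 19, 5, 3, 7, 21, 4, 10, 17, 22, 9, 6, 12, 14, 8, 16, 23], [0, 1, 2, 21, 9, 19, 17, 14, 8, 4, 16, 11, 12, 20, 7, 22, 10, 6, 18, 5, 13, 3, 15, 23], [0, 1, 2, 22, 5, 13, 19, 21, 9, 12, 8, 20, 10, 14, 4, 11, 3, 16, 15, 6, 18, 7, 17, 23], [0, 2, 1, 3, 6, 5, 18, 11, 10, 13, 22, 20, 9, 19, 17, 4, 7, 14, 15, 12, 16, 8, 21, 23], [1, 0, 23, 3, 22, 5, 19, 21, 8, 20, 15, 11, 12, 16, 14, 10, 13, 17, 18, 6, 9, 7, 4, 2], [2, 0, 23, 3, 9, 5, 16, 4, 19, 12, 8, 6, 21, 15,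 17, 18, 10, 14, 7, 22, 11, 13, 20, 1], [3, 14, 17, 0, 21, 23, 16, 4, 15, 8, 12, 9, 20, 7, 1, 11, 19, 2, 10, 22, 18, 13, 6, 5], [4, 13, 22, 0, 17, 23, 8, 12, 20, 6, 7, 9, 15, 3, 2, 19, 14, 1, 10, 18, 21, 11, 5, 16], [5, 14, 17, 0, 4, 23, 20, 15, 11, 7, 6, 8, 18, 13, 2, 21, 16, 1, 12, 10, 19, 9, 22, 3], [6, 19, 21, 0, 4, 23, 18, 11, 17, 10, 9, 5, 14, 22, 1, 15, 16, 2, 3, 12, 20, 8, 13, 7], [7, 19, 21, 0, 10, 23, 13, 22, 8, 17, 14, 11, 12, 15, 2, 5, 9, 1, 18, 16, 3, 4, 20, 6], [8, 11, 18, 0, 17, 23, 4, 16, 6, 20, 15, 21, 7, 3, 2, 10, 14, 1, 19, 22, 9, 13, 5, 12], [9, 15, 20, 0, 8, 23, 16, 4, 14, 21, 19, 3, 17, 18, 1, 6, 12, 2, 5, 22, 7, 13, 11, 10], [10, 15, 20, 0, 21, 23, 11, 18, 13, 14, 17, 4, 22, 6, 2, 3, 19, 1, 16, 12, 5, 8, 7, 9], [11, 8, 12, 0, 21, 23, 10, 9, 14, 13, 22, 5, 17, 6, 2, 16, 19, 1, 3, 20, 4, 15, 7, 18], [12, 11, 18, 0, 10, 23, 14, 17, 16, 21, 19, 13, 4, 20, 1, 6, 9, 2, 22, 5, 7,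 3, 15, 8], [13, 4, 16, 0, 20, 23, 6, 7, 5, 12, 8, 14, 3, 9, 2, 11, 15, 1, 17, 19, 18, 21, 10, 22], [14, 3, 5, 0, 7, 23, 4, 16, 20, 8, 12, 10, 15, 21, 1, 11, 6, 2, 9, 13, 18, 22, 19, 17], [15, 9, 10, 0, 17, 23, 7, 6, 18, 22, 13, 8, 11, 5, 1, 16, 14, 2, 12, 19, 4, 21, 3, 20], [16, 13, 22, 0, 6, 23, 5, 3, 11, 20, 15, 12, 18, 19, 1, 9, 7, 2, 8, 14, 10, 17, 21, 4], [17, 3, 5, 0, 22, 23, 9, 10, 8, 7, 6, 11, 12, 16, 2, 21, 13, 1, 18, 15, 19, 20, 4, 14], [18, 8, 12, 0, 16, 23, 19, 21, 9, 5, 3, 15, 10, 13, 1, 14, 4, 2, 20, 7, 17, 6, 22, 11], [19, 6, 7, 0, 4, 23, 8, 12, 3, 15, 20, 14, 5, 22, 1, 10, 16, 2, 17, 11, 9, 18, 13, 21], [20, 9, 10, 0, 4, 23, 5, 3, 7, 11, 18, 19, 6, 13, 2, 12, 16, 1, 21, 17, 8, 14, 22, 15], [21, 6, 7, 0, 15, 23, 13, 22, 18, 3, 5, 12, 11, 10, 2, 14, 20, 1, 8, 16, 17, 4, 9, 19], [22, 4, 16, 0, 21, 23, 17, 14, 12, 20, 15, 11, 8, 7, 1, 9, 19, 2, 18, 3, 10, 5, 6, 13], [23, 1, 2, 3, 20,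 5, 13, 22, 6, 12, 8, 19, 7, 10, 17, 18, 15, 14, 21, 4, 11, 16, 9, 0]]


theorem centTabs_sub : ∀ l ∈ centTabs, l ∈ slpTabs centProg m24InitTabs := by decide +kernel

theorem goodTabs_cent : GoodTabs M24 centTabs :=
  (goodTabs_slp centProg _ (goodTabs_init M24 shift_mem projInv_mem cubeTwist_mem)).subset
    centTabs_sub

theorem centTabs_comm :
    centTabs.all (fun l => eqTab (mulTab l l2B) (mulTab l2B l)) = true := by decide +kernel

theorem tab_unique {σ τ : Equiv.Perm GolayPt} {l : List ℕ} (h : Tab σ l) (h' : Tab τ l) :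
    σ = τ := by
  apply Equiv.ext
  intro p
  apply idx_injective
  rw [h p, h' p]

/-- Some certified centraliser element fixes the points `fixed` and maps `b` to `q`. -/
def certB (fixed : List ℕ) (b q : ℕ) : Bool :=
  centTabs.any fun l => fixed.all (fun f => Nat.beq (l.getD f 0) f) && Nat.beq (l.getD b 0) q

theorem certB_def (fixed : List ℕ) (b q : ℕ) : certB fixed b q =
    centTabs.any fun l => fixed.all (fun f => Nat.beq (l.getD f 0) f) && Nat.beq (l.getD b 0) q :=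
  rfl

theorem comm_of_tabs {c t0 : Equiv.Perm GolayPt} {l : List ℕ} (ht : Tab c l) (hlen : l.length = 24)
    (ht0 : Tab t0 l2B) (h : eqTab (mulTab l l2B) (mulTab l2B l) = true) : c * t0 = t0 * c := by
  have e := eq_of_eqTab (by rw [mulTab_length]; rfl) h
  have t1 := ht.mul ht0 rfl
  rw [e] at t1
  exact tab_unique t1 (ht0.mul ht hlen)

theorem tabs_of_comm {c t0 : Equiv.Perm GolayPt} {l : List ℕ} (ht : Tab c l) (hlen : l.length = 24)
    (ht0 : Tab t0 l2B) (h : c * t0 = t0 * c) : eqTab (mulTab l l2B) (mulTab l2B l) = true := by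
  apply eqTab_of_eq
  have t1 := ht.mul ht0 rfl
  rw [h] at t1
  exact tab_ext t1 (ht0.mul ht hlen) (by rw [mulTab_length]; rfl) (by rw [mulTab_length, hlen])

theorem cert_spec {t0 : Equiv.Perm GolayPt} (ht0 : Tab t0 l2B) {fixed : List ℕ} {b q : ℕ}
    (hb : b < 24) (hfixed : ∀ f ∈ fixed, f < 24) (h : certB fixed b q = true) :
    ∃ c ∈ M24, c * t0 = t0 * c ∧ (∀ f ∈ fixed, c (pt f) = pt f) ∧ c (pt b) = pt q := by
  rw [certB_def, List.any_eq_true] at h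
  obtain ⟨l, hl, h⟩ := h
  rw [Bool.and_eq_true, List.all_eq_true] at h
  obtain ⟨c, hc, ht, hlen⟩ := goodTabs_cent l hl
  have hcomm := List.all_eq_true.mp centTabs_comm l hl
  refine ⟨c, hc, comm_of_tabs ht hlen ht0 hcomm, ?_, ?_⟩
  · intro f hf
    have := h.1 f hf
    rw [Nat.beq_eq] at this
    rw [tab_apply_idx ht, idx_pt f (hfixed f hf), this]
  · have := h.2
    rw [Nat.beq_eq] at this
    rw [tab_apply_idx ht, idx_pt b hb, this]

/-! ### The invariant sextet -/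

/-- The sextet all of whose tetrads are invariant under `l2B`. -/
def sext2B : List ℕ := [147496, 268544, 1082880, 2621632, 4268048, 8388615]

theorem filt_sext2B : (sextetData.filter fun e => e.all (fixM l2B)) = [sext2B] := by
  decide +kernel

theorem sext2B_mem : sext2B ∈ sextetData := by
  have : sext2B ∈ sextetData.filter (fun e => e.all (fixM l2B)) := by
    rw [filt_sext2B]; exact List.mem_singleton.mpr rfl
  exact (List.mem_filter.mp this).1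

theorem sext2B_fix : sext2B.all (fixM l2B) = true := by
  have : sext2B ∈ sextetData.filter (fun e => e.all (fixM l2B)) := by
    rw [filt_sext2B]; exact List.mem_singleton.mpr rfl
  exact (List.mem_filter.mp this).2

theorem sext2B_sextet : dec sext2B ∈ sextets := dec_mem_sextets sext2B_mem

theorem sext2B_tetrad_fix {t0 : Equiv.Perm GolayPt} (ht0 : Tab t0 l2B) :
    ∀ T ∈ dec sext2B, t0 • T = T := by
  intro T hT
  obtain ⟨m, hm, rfl⟩ := mem_dec.mp hT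
  have := List.all_eq_true.mp sext2B_fix m hm
  exact (fixM_spec ht0 rfl ((incrB_spec sext2B (sextetData_incr sext2B_mem)).2 m hm)).mp this

theorem sext2B_unique {t0 : Equiv.Perm GolayPt} (ht0 : Tab t0 l2B)
    {S : Finset (Finset GolayPt)} (hS : S ∈ sextets) (hfix : ∀ T ∈ S, t0 • T = T) :
    S = dec sext2B := by
  obtain ⟨e, he, rfl⟩ := sextet_complete hS
  have : e ∈ sextetData.filter (fun e => e.all (fixM l2B)) := by
    rw [List.mem_filter]
    refine ⟨he, ?_⟩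
    rw [List.all_eq_true]
    intro m hm
    exact (fixM_spec ht0 rfl ((incrB_spec e (sextetData_incr he)).2 m hm)).mpr
      (hfix _ (mem_dec.mpr ⟨m, hm, rfl⟩))
  rw [filt_sext2B, List.mem_singleton] at this
  rw [this]

theorem smul_family_of_fix {g : Equiv.Perm GolayPt} {S : Finset (Finset GolayPt)}
    (h : ∀ T ∈ S, g • T = T) : g • S = S := by
  ext T
  rw [Finset.mem_smul_finset]
  constructor
  · rintro ⟨T', hT', rfl⟩
    rw [h T' hT']; exact hT'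
  · intro hT
    exact ⟨T, hT, h T hT⟩

theorem cent_sext2B {t0 c : Equiv.Perm GolayPt} (ht0 : Tab t0 l2B) (hc : c ∈ M24)
    (hcomm : c * t0 = t0 * c) : c • dec sext2B = dec sext2B := by
  apply sext2B_unique ht0 (smul_mem_sextets hc sext2B_sextet)
  intro T hT
  obtain ⟨T', hT', rfl⟩ := Finset.mem_smul_finset.mp hT
  rw [← mul_smul, ← hcomm, mul_smul, sext2B_tetrad_fix ht0 T' hT']

end Cfsg.Agent.Helper92
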