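import Cfsg.Agent.Lib.Helper92.TabTools

/-!
# Conjugacy classes of elements of order 2 and 3 in `M24`

Every involution with 8 fixed points, every fixed-point-free involution, every element of order 3
with 6 fixed points and every fixed-point-free element of order 3 of `M24` is conjugate in `M24`
to a fixed tabulated representative.
-/

set_option autoImplicit false

namespace Cfsg.Agent.Helper92
open Cfsg Cfsg.Agent.Helper7
open scoped Pointwise

def clsProg : List (ℕ × ℕ) := [(0, 3), (0, 0), (0, 6), (0, 7), (0, 8), (0, 9), (0, 10), (0, 11), (0, 12), (0, 13), (0, 14), (0, 15), (0, 16), (0, 17), (0, 18), (0, 19), (0, 20), (0, 21), (0, 22), (0, 23), (0, 24), (0, 1), (0, 26), (0, 27), (1, 27), (0, 29), (0, 30), (1, 31), (0, 32), (0, 33), (0, 34), (1, 34), (1, 35), (0, 37), (1, 38), (1, 3), (30, 3), (41, 1), (42, 3), (43, 3), (44, 3), (45, 1), (46, 3), (47, 1), (0, 28), (48, 49), (9, 50), (51, 51),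 (51, 52), (51, 53), (51, 54), (51, 55), (51, 56), (51, 57), (51, 58), (51, 59), (44, 1), (57, 2), (62, 62), (62, 63), (62, 64), (62, 0), (3, 66), (67, 59), (62, 68), (67, 69), (51, 70), (67, 71), (62, 72), (67, 73), (51, 74), (51, 75), (3, 65), (77, 0), (52, 78), (79, 65), (80, 67), (81, 65), (62, 82), (81, 83), (81, 84), (62, 85), (81, 85), (62, 87), (62, 88), (81, 88), (62, 90), (62, 89), (78, 69), (62, 93), (94, 65), (95, 93), (96, 93), (97, 93), (98, 65), (99, 81), (100, 100), (97, 65), (81, 62), (102, 103), (104, 101), (100, 105), (104, 105), (100, 106), (104, 106), (100, 109), (104, 109), (100, 111), (100, 112), (104, 113), (100, 114), (100, 110), (116, 104), (117, 117), (65, 93), (119, 86), (100, 120), (121, 101), (122, 120), (123, 120), (124, 101), (125, 101), (126, 120), (121, 120), (117, 105), (127, 101), (100, 62), (64, 131), (127, 132), (118, 133), (134, 117), (118, 135), (136, 134),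 (136, 117), (134, 118), (136, 118), (136, 114), (136, 100), (128, 142), (118, 143), (134, 144), (144, 117), (118, 146), (147, 145), (136, 148), (144, 148), (136, 150), (134, 151), (144, 118), (127, 136), (154, 101), (155, 101), (154, 120), (144, 101), (126, 158), (144, 105), (157, 160), (99, 65), (99, 93), (162, 65), (95, 65), (165, 65), (163, 65), (102, 65), (164, 65), (169, 93), (79, 60), (80, 78), (172, 60), (173, 78), (80, 60), (174, 65), (176, 78), (177, 60), (178, 60), (39, 56), (180, 91), (181, 109), (21, 48), (79, 183), (95, 184), (100, 185), (182, 134), (182, 117), (182, 133), (189, 186), (18, 48), (171, 191), (168, 192), (116, 193), (189, 194), (7, 48), (52, 196), (94, 197), (125, 198), (188, 199), (39, 16), (15, 48), (179, 202), (99, 203), (100, 204), (189, 205), (24, 48), (174, 207), (65, 208), (182, 209), (39, 6), (25, 48), (176, 212), (167, 213), (124, 214), (187, 215), (39, 18),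 (54, 217), (169, 218), (122, 219), (189, 220), (6, 48), (53, 222), (102, 223), (122, 224), (182, 118), (226, 225), (12, 48), (59, 228), (163, 229), (128, 230), (188, 231), (0, 48), (165, 233), (157, 234), (188, 235), (16, 48), (58, 237), (64, 238), (155, 239), (182, 139), (241, 240), (17, 48), (60, 243), (95, 244), (124, 245), (189, 246), (3, 48), (175, 248), (95, 249), (126, 250), (187, 251), (11, 48), (80, 253), (165, 254), (155, 255), (226, 256), (36, 18), (258, 92), (259, 107), (12, 61), (175, 261), (170, 262), (101, 263), (260, 134), (260, 137), (260, 136), (260, 133), (260, 138), (260, 135), (260, 118), (260, 140), (260, 139), (260, 159), (274, 264), (175, 48), (169, 276), (101, 277), (265, 278), (176, 48), (157, 280), (270, 281), (173, 183), (170, 283), (125, 284), (272, 285), (55, 183), (162, 287), (155, 288), (273, 289), (179, 191), (95, 291), (108, 292), (260, 293), (178, 191), (169,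 295), (127, 296), (266, 297), (56, 196), (130, 299), (260, 300), (58, 196), (62, 302), (122, 303), (269, 304), (79, 202), (168, 306), (101, 307), (260, 308), (201, 51), (168, 310), (154, 311), (271, 312), (80, 207), (168, 314), (154, 315), (271, 316), (59, 207), (64, 318), (124, 319), (265, 320), (177, 212), (166, 322), (108, 323), (268, 324), (211, 55), (167, 326), (126, 327), (265, 328), (53, 217), (95, 330), (116, 331), (269, 332), (169, 223), (116, 334), (265, 335), (95, 222), (129, 337), (265, 338), (97, 228), (121, 340), (269, 341), (175, 228), (170, 343), (101, 344), (274, 345), (175, 233), (62, 347), (128, 348), (266, 349), (64, 233), (268, 351), (178, 237), (99, 353), (108, 354), (268, 355), (175, 237), (156, 357), (272, 358), (167, 243), (154, 360), (269, 361), (51, 243), (163, 363), (108, 364), (267, 365), (59, 248), (102, 367), (123, 368), (269, 369), (173, 248), (167, 371), (157, 372),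 (269, 373), (176, 253), (95, 375), (271, 376), (175, 253), (162, 378), (122, 379), (267, 380), (1, 76), (382, 65), (383, 105), (383, 111), (175, 1), (102, 386), (122, 387), (1, 75), (389, 62), (390, 110), (391, 118), (392, 388), (391, 139), (394, 388), (390, 111), (396, 149), (397, 388), (396, 161), (399, 388), (396, 153), (401, 388), (390, 106), (403, 388), (403, 137), (405, 388), (40, 65), (407, 115), (407, 141), (102, 26), (116, 410), (409, 152), (412, 411), (40, 91), (414, 108), (415, 134), (416, 411)]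

def clsTabs : List (List ℕ) := [[0, 1, 2, 3, 4, 5, 6, 7, 8, 9, 10, 11, 12, 13, 14, 15, 16, 17, 18, 19, 20, 21, 22, 23], [0, 1, 2, 3, 20, 5, 8, 18, 6, 16, 13, 19, 21, 10, 14, 22, 9, 17, 7, 11, 4, 12, 15, 23], [0, 1, 3, 4, 2, 19, 18, 7, 21, 8, 10, 22, 12, 14, 20, 6, 5, 11, 15, 16, 13, 9, 17, 23], [0, 1, 4, 2, 3, 22, 6, 12, 21, 8, 7, 14, 10, 19, 16, 15, 11, 13, 18, 17, 5, 9, 20, 23], [0, 2, 3, 23, 4, 5, 6, 9, 19, 20, 21, 16, 8, 7, 17, 18, 10, 14, 15, 22, 13, 11, 12, 1], [0, 3, 5, 1, 7, 2, 12, 13, 15, 8, 22, 9, 19, 21, 14, 11, 10, 17, 6, 18, 16, 4, 20, 23], [0, 3, 5, 1, 16, 2, 15, 6, 12, 10, 21, 18, 4, 22, 14, 20, 8, 17, 13, 9, 7, 19, 11, 23], [0, 3, 5, 4, 16, 12, 19, 6, 20, 14, 1, 10, 21, 11, 18, 2, 22, 13, 7, 15, 17, 9, 8, 23], [0, 3, 5, 4, 16, 13, 7, 21, 14, 9, 6, 17, 1, 22, 12, 19, 8, 18, 2, 10, 15, 20, 11, 23], [0, 3, 5, 4, 16, 18, 2, 1, 9, 20, 21, 15, 6, 8, 13, 7, 11, 12, 19, 17, 10, 14, 22,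 23], [0, 3, 5, 14, 7, 17, 13, 12, 19, 11, 16, 6, 15, 21, 1, 8, 10, 2, 9, 4, 22, 18, 20, 23], [0, 3, 5, 14, 22, 17, 19, 9, 13, 10, 21, 4, 18, 16, 1, 20, 11, 2, 12, 6, 7, 15, 8, 23], [1, 0, 23, 17, 4, 14, 7, 6, 8, 10, 9, 11, 12, 13, 5, 20, 16, 3, 18, 21, 15, 19, 22, 2], [1, 2, 3, 4, 5, 6, 7, 8, 9, 10, 11, 12, 13, 14, 15, 16, 17, 18, 19, 20, 21, 22, 0, 23], [1, 2, 3, 23, 5, 6, 16, 17, 22, 10, 0, 21, 14, 13, 18, 7, 8, 15, 19, 20, 12, 9, 11, 4], [1, 2, 17, 23, 4, 14, 7, 8, 6, 12, 19, 16, 10, 21, 5, 20, 11, 3, 18, 13, 22, 9, 15, 0], [1, 2, 23, 3, 5, 6, 19, 17, 22, 9, 14, 13, 0, 21, 15, 7, 20, 18, 16, 8, 11, 10, 12, 4], [1, 3, 4, 2, 5, 6, 19, 11, 12, 21, 13, 14, 8, 9, 15, 7, 10, 18, 16, 0, 17, 20, 22, 23], [1, 4, 3, 23, 5, 6, 19, 22, 17, 0, 10, 20, 9, 8, 15, 7, 13, 18, 16, 21, 12, 14, 11, 2], [1, 4, 23, 3, 5, 6, 16, 22, 17, 14, 9, 8, 10, 20, 18, 7, 21, 15, 19, 13, 11, 0, 12, 2], [1, 14, 17, 5, 4, 3, 7,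 8, 16, 11, 21, 13, 9, 22, 0, 12, 20, 2, 10, 6, 19, 18, 15, 23], [1, 23, 3, 4, 10, 19, 17, 5, 12, 7, 9, 21, 22, 6, 20, 16, 8, 11, 15, 14, 18, 2, 13, 0], [1, 23, 3, 5, 4, 2, 12, 22, 16, 6, 10, 7, 9, 19, 14, 13, 20, 17, 18, 15, 8, 21, 11, 0], [2, 1, 4, 23, 5, 6, 9, 20, 19, 7, 12, 14, 21, 13, 18, 10, 8, 15, 22, 17, 0, 16, 11, 3], [2, 3, 1, 23, 5, 6, 22, 14, 12, 20, 17, 7, 0, 11, 18, 9, 13, 15, 10, 19, 16, 21, 8, 4], [2, 3, 4, 1, 5, 6, 10, 13, 21, 12, 11, 0, 8, 16, 18, 22, 19, 15, 9, 14, 17, 20, 7, 23], [2, 3, 4, 23, 5, 6, 22, 19, 20, 12, 7, 17, 16, 8, 15, 10, 13, 18, 9, 14, 0, 21, 11, 1], [2, 3, 23, 1, 5, 6, 10, 14, 12, 21, 0, 11, 17, 7, 15, 9, 19, 18, 22, 13, 8, 20, 16, 4], [2, 3, 23, 4, 5, 6, 9, 19, 20, 21, 16, 8, 7, 17, 18, 10, 14, 15, 22, 13, 11, 12, 0, 1], [2, 4, 3, 1, 5, 6, 22, 11, 0, 14, 13, 21, 8, 16, 15, 10, 7, 18, 9, 12, 20, 17, 19, 23], [2, 4, 23, 1, 5, 6, 22, 12, 14, 0, 21, 13, 20, 19,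 18, 9, 7, 15, 10, 11, 8, 17, 16, 3], [2, 5, 1, 3, 4, 23, 7, 8, 22, 21, 11, 9, 13, 10, 17, 18, 16, 0, 20, 12, 6, 19, 15, 14], [2, 23, 1, 3, 5, 6, 22, 0, 11, 8, 17, 7, 14, 12, 15, 10, 21, 18, 9, 16, 19, 13, 20, 4], [2, 23, 1, 17, 4, 0, 7, 8, 9, 16, 10, 12, 19, 6, 14, 21, 18, 5, 13, 22, 11, 20, 15, 3], [2, 23, 3, 1, 5, 6, 9, 0, 11, 13, 14, 12, 17, 7, 18, 10, 16, 15, 22, 21, 20, 8, 19, 4], [3, 0, 1, 17, 4, 5, 7, 8, 10, 6, 18, 20, 22, 13, 2, 19, 9, 23, 16, 21, 12, 11, 15, 14], [3, 1, 4, 2, 5, 6, 20, 11, 7, 16, 8, 17, 13, 22, 18, 12, 10, 15, 21, 0, 14, 19, 9, 23], [3, 1, 23, 4, 5, 6, 21, 10, 19, 7, 22, 13, 9, 14, 18, 20, 0, 15, 12, 11, 8, 16, 17, 2], [3, 5, 1, 2, 4, 23, 7, 8, 20, 9, 13, 21, 11, 12, 14, 6, 19, 0, 22, 10, 18, 16, 15, 17], [3, 17, 2, 23, 4, 1, 7, 22, 8, 9, 12, 10, 11, 19, 14, 18, 13, 5, 20, 16, 15, 21, 6, 0], [3, 23, 2, 4, 5, 6, 20, 7, 11, 13, 19, 10, 16, 0, 18, 12, 17, 15, 21, 22, 9, 8,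 14, 1], [3, 23, 4, 2, 5, 6, 21, 7, 11, 8, 16, 0, 19, 10, 15, 12, 22, 18, 20, 17, 14, 13, 9, 1], [3, 23, 5, 17, 4, 1, 7, 8, 16, 22, 20, 18, 6, 11, 2, 12, 21, 0, 10, 9, 19, 13, 15, 14], [4, 1, 3, 23, 5, 6, 14, 22, 7, 16, 9, 12, 10, 11, 18, 17, 13, 15, 0, 21, 20, 19, 8, 2], [4, 1, 23, 2, 5, 6, 17, 21, 16, 19, 20, 8, 12, 9, 18, 0, 22, 15, 14, 13, 11, 7, 10, 3], [4, 2, 23, 1, 5, 6, 17, 12, 9, 10, 20, 8, 21, 16, 15, 14, 7, 18, 0, 11, 13, 22, 19, 3], [4, 23, 1, 2, 5, 6, 0, 20, 8, 13, 21, 16, 12, 9, 15, 17, 10, 18, 14, 19, 7, 11, 22, 3], [4, 23, 3, 1, 5, 6, 14, 10, 11, 8, 9, 12, 22, 7, 15, 0, 19, 18, 17, 20, 21, 13, 16, 2], [4, 23, 3, 2, 5, 6, 0, 19, 13, 8, 16, 21, 7, 22, 18, 14, 10, 15, 17, 20, 12, 11, 9, 1], [14, 1, 0, 2, 4, 23, 7, 8, 16, 18, 6, 22, 20, 13, 17, 12, 9, 5, 10, 21, 19, 11, 15, 3], [14, 23, 1, 3, 4, 0, 7, 8, 11, 10, 16, 19, 12, 20, 2, 13, 22, 5, 21, 18, 9, 6, 15, 17], [17, 0, 1, 3, 4, 5,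 7, 8, 16, 20, 22, 6, 18, 21, 14, 12, 11, 23, 10, 13, 19, 9, 15, 2], [17, 0, 23, 14, 4, 1, 7, 8, 18, 9, 13, 21, 11, 10, 2, 22, 16, 5, 6, 12, 20, 19, 15, 3], [17, 5, 0, 2, 4, 1, 7, 8, 9, 10, 16, 19, 12, 18, 3, 21, 6, 23, 13, 20, 11, 22, 15, 14], [23, 1, 3, 4, 5, 6, 13, 9, 16, 7, 22, 21, 10, 0, 15, 8, 14, 18, 11, 12, 20, 19, 17, 2], [23, 2, 1, 4, 5, 6, 11, 21, 22, 9, 12, 7, 20, 17, 15, 13, 0, 18, 8, 16, 19, 10, 14, 3], [23, 2, 1, 4, 21, 16, 17, 5, 18, 10, 20, 8, 12, 7, 22, 15, 6, 13, 11, 3, 9, 14, 19, 0], [23, 2, 1, 5, 6, 3, 13, 16, 20, 18, 8, 10, 9, 19, 17, 12, 21, 14, 15, 4, 11, 22, 7, 0], [23, 4, 3, 1, 5, 6, 13, 10, 0, 17, 22, 21, 9, 16, 18, 11, 19, 15, 8, 20, 12, 14, 7, 2], [23, 4, 3, 2, 5, 6, 11, 19, 14, 17, 7, 12, 16, 9, 15, 13, 10, 18, 8, 20, 21, 0, 22, 1]]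

def l2A : List ℕ := [0, 1, 2, 3, 6, 5, 4, 22, 20, 12, 11, 10, 9, 19, 14, 18, 21, 17, 15, 13, 8, 16, 7, 23]
def l3A : List ℕ := [0, 1, 2, 3, 4, 14, 15, 10, 21, 8, 12, 19, 7, 22, 17, 18, 13, 5, 6, 20, 11, 9, 16, 23]
def l2B : List ℕ := [23, 2, 1, 5, 16, 3, 7, 6, 12, 10, 9, 18, 8, 22, 17, 20, 4, 14, 11, 21, 15, 19, 13, 0]
def l3B : List ℕ := [1, 23, 3, 4, 2, 19, 8, 6, 7, 12, 15, 16, 18, 5, 20, 21, 17, 11, 9, 13, 22, 10, 14, 0]
def r2B_5 : List ℕ := [23, 2, 1, 5, 6, 3, 13, 16, 20, 18, 8, 10, 9, 19, 17, 12, 21, 14, 15, 4, 11, 22, 7, 0]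
def r2B_4 : List ℕ := [23, 2, 1, 4, 21, 16, 17, 5, 18, 10, 20, 8, 12, 7, 22, 15, 6, 13, 11, 3, 9, 14, 19, 0]
def r3B_5 : List ℕ := [1, 23, 3, 5, 4, 2, 12, 22, 16, 6, 10, 7, 9, 19, 14, 13, 20, 17, 18, 15, 8, 21, 11, 0]
def r3B_4 : List ℕ := [1, 23, 3, 4, 10, 19, 17, 5, 12, 7, 9, 21, 22, 6, 20, 16, 8, 11, 15, 14, 18, 2, 13, 0]

theorem clsTabs_sub : ∀ l ∈ clsTabs, l ∈ slpTabs clsProg m24InitTabs := by decide +kernel

theorem goodTabs_cls : GoodTabs M24 clsTabs :=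
  (goodTabs_slp clsProg _ (goodTabs_init M24 shift_mem projInv_mem cubeTwist_mem)).subset
    clsTabs_sub

/-- Boolean equality of tables. -/
def eqTab (l l' : List ℕ) : Bool :=
  Nat.beq l.length l'.length &&
    (List.range 24).all fun i => Nat.beq (l.getD i 0) (l'.getD i 0)

theorem eqTab_of_eq {l l' : List ℕ} (h : l = l') : eqTab l l' = true := by
  subst h
  simp [eqTab]

theorem eq_of_eqTab {l l' : List ℕ} (hl : l.length = 24) (h : eqTab l l' = true) : l = l' := by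
  simp only [eqTab, Bool.and_eq_true, Nat.beq_eq, List.all_eq_true, List.mem_range] at h
  apply List.ext_getElem h.1
  intro i h1 h2
  have := h.2 i (by omega)
  rwa [List.getD_eq_getElem _ _ h1, List.getD_eq_getElem _ _ h2] at this

/-- Some tabulated conjugator carries the table `l` to the table `l0`. -/
def conjB (l0 l : List ℕ) : Bool := clsTabs.any fun c => eqTab (mulTab c l) (mulTab l0 c)

theorem conjB_def (l0 l : List ℕ) :
    conjB l0 l = clsTabs.any fun c => eqTab (mulTab c l) (mulTab l0 c) := rfl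

theorem conj_of_conjB {g : Equiv.Perm GolayPt} {l l0 : List ℕ} (hg : Tab g l)
    (hl : l.length = 24) (h : conjB l0 l = true) : ∃ c ∈ M24, Tab (c * g * c⁻¹) l0 := by
  rw [conjB_def, List.any_eq_true] at h
  obtain ⟨lc, hlc, he⟩ := h
  obtain ⟨c, hc, htc, hlen⟩ := goodTabs_cls lc hlc
  refine ⟨c, hc, tab_conj htc hg hlen hl ?_⟩
  exact eq_of_eqTab (by rw [mulTab_length, hl]) he

/-! ### Elements of the five-point stabiliser -/

theorem g5_len {l : List ℕ} (hl : l ∈ g5Tabs) : l.length = 24 := by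
  obtain ⟨_, _, _, h⟩ := goodTabs_g5 l hl
  exact h

theorem g5_class2A : g5Tabs.all (fun l =>
    eqTab l idTab || !(eqTab (mulTab l l) idTab) || conjB l2A l) = true := by decide +kernel

theorem g5_class3A : g5Tabs.all (fun l =>
    !(Nat.beq (fixCount l) 6) || conjB l3A l) = true := by decide +kernel

theorem exists_five {s : Finset GolayPt} (h : 5 ≤ s.card) :
    ∃ xs : List GolayPt, xs.Nodup ∧ xs.length = 5 ∧ ∀ x ∈ xs, x ∈ s := by
  obtain ⟨t, hts, htc⟩ := Finset.exists_subset_card_eq h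
  exact ⟨t.toList, t.nodup_toList, by rw [Finset.length_toList, htc],
    fun x hx => hts (Finset.mem_toList.mp hx)⟩

/-- An element of `M24` with at least five fixed points is conjugate into the five-point
stabiliser. -/
theorem conj_into_G5 {g : Equiv.Perm GolayPt} (hg : g ∈ M24)
    (h5 : 5 ≤ (Finset.univ.filter fun p => g p = p).card) :
    ∃ h ∈ M24, h * g * h⁻¹ ∈ G5 := by
  obtain ⟨xs, hnd, hlen, hxs⟩ := exists_five h5
  obtain ⟨h, hh, hmap⟩ := exists_to_base xs hnd hlen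
  refine ⟨h, hh, ?_⟩
  rw [mem_G5]
  refine ⟨M24.mul_mem (M24.mul_mem hh hg) (M24.inv_mem hh), ?_⟩
  intro b hb
  have : pt b ∈ xs.map h := by rw [hmap]; exact List.mem_map_of_mem hb
  obtain ⟨x, hx, hxb⟩ := List.mem_map.mp this
  have hfix : g x = x := (Finset.mem_filter.mp (hxs x hx)).2
  rw [← hxb]
  simp [hfix]

theorem sq_eq_one_of_orderOf {g : Equiv.Perm GolayPt} (h : orderOf g = 2) : g * g = 1 := by
  have := pow_orderOf_eq_one g
  rwa [h, pow_two] at this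

theorem cube_eq_one_of_orderOf {g : Equiv.Perm GolayPt} (h : orderOf g = 3) : g * g * g = 1 := by
  have := pow_orderOf_eq_one g
  rwa [h, pow_succ, pow_two] at this

theorem ne_one_of_orderOf {g : Equiv.Perm GolayPt} {n : ℕ} (h : orderOf g = n) (hn : n ≠ 1) :
    g ≠ 1 := by
  rintro rfl
  rw [orderOf_one] at h
  exact hn h.symm

/-- Involutions with eight fixed points form one class. -/
theorem class2A {g : Equiv.Perm GolayPt} (hg : g ∈ M24) (h2 : orderOf g = 2)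
    (h8 : (Finset.univ.filter fun p => g p = p).card = 8) :
    ∃ h ∈ M24, Tab (h * g * h⁻¹) l2A := by
  obtain ⟨h, hh, hG5⟩ := conj_into_G5 hg (by rw [h8]; norm_num)
  obtain ⟨l, hl, ht⟩ := g5_elem hG5
  have hlen := g5_len hl
  have hord : orderOf (h * g * h⁻¹) = 2 := by rw [orderOf_conj', h2]
  have hne : l ≠ idTab := tab_ne_idTab ht (ne_one_of_orderOf hord (by norm_num))
  have hsq : mulTab l l = idTab := tab_sq_eq ht hlen (sq_eq_one_of_orderOf hord)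
  have := List.all_eq_true.mp g5_class2A l hl
  simp only [Bool.or_eq_true, Bool.not_eq_true'] at this
  rcases this with (h1 | h1) | h1
  · exact absurd (eq_of_eqTab hlen h1) hne
  · rw [eqTab_of_eq hsq] at h1
    exact absurd h1 (by decide)
  · obtain ⟨c, hc, hct⟩ := conj_of_conjB ht hlen h1
    refine ⟨c * h, M24.mul_mem hc hh, ?_⟩
    rwa [← conj_conj]

/-- Elements of order three with six fixed points form one class. -/
theorem class3A {g : Equiv.Perm GolayPt} (hg : g ∈ M24)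
    (h6 : (Finset.univ.filter fun p => g p = p).card = 6) :
    ∃ h ∈ M24, Tab (h * g * h⁻¹) l3A := by
  obtain ⟨h, hh, hG5⟩ := conj_into_G5 hg (by rw [h6]; norm_num)
  obtain ⟨l, hl, ht⟩ := g5_elem hG5
  have hlen := g5_len hl
  have hfix : fixCount l = 6 := by rw [← card_fixed ht, card_fixed_conj, h6]
  have := List.all_eq_true.mp g5_class3A l hl
  rw [hfix] at this
  simp only [Nat.beq_refl, Bool.not_true, Bool.false_or] at this
  obtain ⟨c, hc, hct⟩ := conj_of_conjB ht hlen this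
  refine ⟨c * h, M24.mul_mem hc hh, ?_⟩
  rwa [← conj_conj]

end Cfsg.Agent.Helper92
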