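import Cfsg.Agent.Lib.Helper92.Classes

/-!
# Fixed-point-free elements of order 2 and 3 in `M24`
-/

set_option autoImplicit false

namespace Cfsg.Agent.Helper92
open Cfsg Cfsg.Agent.Helper7
open scoped Pointwise

theorem reps_mem : ∀ l ∈ [r2B_5, r2B_4, r3B_5, r3B_4], l ∈ clsTabs := by decide +kernel

/-- No fixed index. -/
def fpfB (l : List ℕ) : Bool := (List.range 24).all fun i => !(Nat.beq (l.getD i 0) i)

theorem fpfB_of {l : List ℕ} (h : ∀ i < 24, l.getD i 0 ≠ i) : fpfB l = true := by
  unfold fpfB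
  rw [List.all_eq_true]
  intro i hi
  rw [List.mem_range] at hi
  have : Nat.beq (l.getD i 0) i = false := by
    cases hb : Nat.beq (l.getD i 0) i
    · rfl
    · exact absurd (Nat.eq_of_beq_eq_true hb) (h i hi)
  rw [this]
  rfl

theorem cls2B_5 : g5Tabs.all (fun l => !(fpfB (mulTab r2B_5 l)) ||
    !(eqTab (mulTab (mulTab r2B_5 l) (mulTab r2B_5 l)) idTab) || conjB l2B (mulTab r2B_5 l)) = true := by
  decide +kernel

theorem cls2B_4 : g5Tabs.all (fun l => !(fpfB (mulTab r2B_4 l)) ||
    !(eqTab (mulTab (mulTab r2B_4 l) (mulTab r2B_4 l)) idTab) || conjB l2B (mulTab r2B_4 l)) = true := by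
  decide +kernel

theorem cls3B_5 : g5Tabs.all (fun l => !(fpfB (mulTab r3B_5 l)) ||
    !(eqTab (mulTab (mulTab (mulTab r3B_5 l) (mulTab r3B_5 l)) (mulTab r3B_5 l)) idTab) ||
      conjB l3B (mulTab r3B_5 l)) = true := by
  decide +kernel

theorem cls3B_4 : g5Tabs.all (fun l => !(fpfB (mulTab r3B_4 l)) ||
    !(eqTab (mulTab (mulTab (mulTab r3B_4 l) (mulTab r3B_4 l)) (mulTab r3B_4 l)) idTab) ||
      conjB l3B (mulTab r3B_4 l)) = true := by
  decide +kernel

/-- Moving a point outside the base to `5` or `4` by an element of the five-point stabiliser. -/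
theorem g5_move_bool : (List.range 24).all (fun q => base5.contains q ||
    g5Tabs.any (fun l => Nat.beq (l.getD q 0) (if baseOct.testBit q then 5 else 4))) = true := by
  decide +kernel

theorem g5_move {Y : GolayPt} (hY : Y ∉ base5.map pt) :
    ∃ k ∈ G5, k Y = pt 5 ∨ k Y = pt 4 := by
  have h := List.all_eq_true.mp g5_move_bool (idx Y) (List.mem_range.mpr (idx_lt Y))
  rw [Bool.or_eq_true, List.contains_iff_mem, List.any_eq_true] at h
  rcases h with h | ⟨l, hl, hq⟩
  · exfalso
    apply hY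
    have := List.mem_map_of_mem (f := pt) h
    rwa [pt_idx] at this
  · obtain ⟨k, hk, htk, _⟩ := goodTabs_g5 l hl
    rw [Nat.beq_eq] at hq
    refine ⟨k, hk, ?_⟩
    rw [tab_apply_idx htk Y, hq]
    split_ifs
    · exact Or.inl rfl
    · exact Or.inr rfl

theorem mem_base_iff (p : GolayPt) :
    p ∈ base5.map pt ↔ p = pt 23 ∨ p = pt 0 ∨ p = pt 1 ∨ p = pt 2 ∨ p = pt 3 := by
  simp [base5]

/-- Data for the normalisation of a fixed-point-free element: five points mapped to the base,
so that the conjugate has the prescribed images on the base. -/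
theorem normalize {g : Equiv.Perm GolayPt} (hg : g ∈ M24) (xs : List GolayPt) (hnd : xs.Nodup)
    (hlen : xs.length = 5) :
    ∃ h ∈ M24, xs.map h = base5.map pt ∧ h * g * h⁻¹ ∈ M24 :=  by
  obtain ⟨h, hh, hmap⟩ := exists_to_base xs hnd hlen
  exact ⟨h, hh, hmap, M24.mul_mem (M24.mul_mem hh hg) (M24.inv_mem hh)⟩

theorem conj_apply (h g : Equiv.Perm GolayPt) (x : GolayPt) : (h * g * h⁻¹) (h x) = h (g x) := by
  simp

theorem exists_not_mem (s : Finset GolayPt) (hs : s.card < 24) : ∃ x, x ∉ s := by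
  by_contra hcon
  have hall : ∀ x, x ∈ s := fun x => by
    by_contra hx
    exact hcon ⟨x, hx⟩
  have : s = Finset.univ := Finset.eq_univ_iff_forall.mpr hall
  rw [this] at hs
  have h24 : (Finset.univ : Finset GolayPt).card = 24 := by decide
  omega

/-- The coset step: an element with prescribed images on the base is tabulated. -/
theorem coset_tab {g : Equiv.Perm GolayPt} (hg : g ∈ M24) {lr : List ℕ} (hlr : lr ∈ clsTabs)
    (h : ∀ b ∈ base5, g (pt b) = pt (lr.getD b 0)) :
    ∃ l ∈ g5Tabs, Tab g (mulTab lr l) ∧ (mulTab lr l).length = 24 := by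
  obtain ⟨r, hr, htr, _⟩ := goodTabs_cls lr hlr
  have hb : ∀ b ∈ base5, g (pt b) = r (pt b) := by
    intro b hb
    have hb24 : b < 24 := by
      simp only [base5, List.mem_cons, List.not_mem_nil, or_false] at hb
      omega
    rw [h b hb, htr.apply b hb24]
  obtain ⟨l, hl, ht⟩ := coset_elem hg hr htr hb
  exact ⟨l, hl, ht, by rw [mulTab_length, g5_len hl]⟩

/-- Fixed-point-free involutions form one class. -/
theorem class2B {g : Equiv.Perm GolayPt} (hg : g ∈ M24) (h2 : orderOf g = 2)
    (h0 : ∀ p, g p ≠ p) : ∃ h ∈ M24, Tab (h * g * h⁻¹) l2B := by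
  have hsq := sq_eq_one_of_orderOf h2
  have hgg : ∀ p, g (g p) = p := fun p => by
    have := congrArg (fun f : Equiv.Perm GolayPt => f p) hsq
    simpa using this
  -- choose the points
  set a1 : GolayPt := pt 0 with ha1
  set b1 := g a1 with hb1
  obtain ⟨a2, ha2⟩ := exists_not_mem {a1, b1} (by
    refine lt_of_le_of_lt (Finset.card_insert_le _ _) ?_
    rw [Finset.card_singleton]; norm_num)
  set b2 := g a2 with hb2
  obtain ⟨a3, ha3⟩ := exists_not_mem {a1, b1, a2, b2} (by
    refine lt_of_le_of_lt (Finset.card_le_four) ?_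
    norm_num)
  simp only [Finset.mem_insert, Finset.mem_singleton, not_or] at ha2 ha3
  have n1 : a1 ≠ b1 := fun h => h0 a1 h.symm
  have n2 : a2 ≠ b2 := fun h => h0 a2 h.symm
  have n3 : b2 ≠ a1 := fun h => ha2.2 (by rw [hb1, ← h, hb2, hgg])
  have n4 : b2 ≠ b1 := fun h => ha2.1 (g.injective h)
  have hnd : [a1, b1, a2, b2, a3].Nodup := by
    simp only [List.nodup_cons, List.mem_cons, List.not_mem_nil, or_false, not_or,
      List.nodup_nil, and_true, not_false_eq_true]
    refine ⟨⟨n1, Ne.symm ha2.1, Ne.symm n3, Ne.symm ha3.1⟩, ⟨Ne.symm ha2.2, Ne.symm n4,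
      Ne.symm ha3.2.1⟩, ⟨n2, Ne.symm ha3.2.2.1⟩, Ne.symm ha3.2.2.2⟩
  obtain ⟨h, hh, hmap, hmem⟩ := normalize hg [a1, b1, a2, b2, a3] hnd rfl
  simp only [List.map_cons, List.map_nil, base5, List.cons.injEq, and_true] at hmap
  obtain ⟨e1, e2, e3, e4, e5⟩ := hmap
  set g1 := h * g * h⁻¹ with hg1
  have i1 : g1 (pt 23) = pt 0 := by rw [← e1, hg1, conj_apply, ← hb1, e2]
  have i2 : g1 (pt 0) = pt 23 := by rw [← e2, hg1, conj_apply, hb1, hgg, e1]
  have i3 : g1 (pt 1) = pt 2 := by rw [← e3, hg1, conj_apply, ← hb2, e4]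
  have i4 : g1 (pt 2) = pt 1 := by rw [← e4, hg1, conj_apply, hb2, hgg, e3]
  have hfpf1 : ∀ p, g1 p ≠ p := by
    intro p hp
    apply h0 (h⁻¹ p)
    have := congrArg (fun x => h⁻¹ x) hp
    simpa [hg1] using this
  have hsq1 : g1 * g1 = 1 := by
    have : orderOf g1 = 2 := by rw [hg1, orderOf_conj', h2]
    exact sq_eq_one_of_orderOf this
  have hgg1 : ∀ p, g1 (g1 p) = p := fun p => by
    have := congrArg (fun f : Equiv.Perm GolayPt => f p) hsq1
    simpa using this
  -- the image of the fifth base point is outside the base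
  have hY : g1 (pt 3) ∉ base5.map pt := by
    rw [mem_base_iff]
    rintro (hY | hY | hY | hY | hY)
    · have := hgg1 (pt 3); rw [hY, i1] at this; revert this; decide
    · have := hgg1 (pt 3); rw [hY, i2] at this; revert this; decide
    · have := hgg1 (pt 3); rw [hY, i3] at this; revert this; decide
    · have := hgg1 (pt 3); rw [hY, i4] at this; revert this; decide
    · exact hfpf1 _ hY
  obtain ⟨k, hk, hkY⟩ := g5_move hY
  have hk' := mem_G5.mp hk
  set g2 := k * g1 * k⁻¹ with hg2
  have hg2mem : g2 ∈ M24 := M24.mul_mem (M24.mul_mem hk'.1 hmem) (M24.inv_mem hk'.1)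
  have kfix : ∀ b ∈ base5, k (pt b) = pt b := hk'.2
  have j1 : g2 (pt 23) = pt 0 := by
    have := conj_apply k g1 (pt 23)
    rwa [kfix 23 (by decide), i1, kfix 0 (by decide)] at this
  have j2 : g2 (pt 0) = pt 23 := by
    have := conj_apply k g1 (pt 0)
    rwa [kfix 0 (by decide), i2, kfix 23 (by decide)] at this
  have j3 : g2 (pt 1) = pt 2 := by
    have := conj_apply k g1 (pt 1)
    rwa [kfix 1 (by decide), i3, kfix 2 (by decide)] at this
  have j4 : g2 (pt 2) = pt 1 := by
    have := conj_apply k g1 (pt 2)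
    rwa [kfix 2 (by decide), i4, kfix 1 (by decide)] at this
  have j5 : g2 (pt 3) = k (g1 (pt 3)) := by
    have := conj_apply k g1 (pt 3)
    rwa [kfix 3 (by decide)] at this
  have hfpf2 : ∀ p, g2 p ≠ p := by
    intro p hp
    apply hfpf1 (k⁻¹ p)
    have := congrArg (fun x => k⁻¹ x) hp
    simpa [hg2] using this
  have hsq2 : g2 * g2 = 1 := by
    have : orderOf g2 = 2 := by rw [hg2, orderOf_conj', hg1, orderOf_conj', h2]
    exact sq_eq_one_of_orderOf this
  have hfin : ∀ (lr : List ℕ), lr ∈ clsTabs → (∀ b ∈ base5, g2 (pt b) = pt (lr.getD b 0)) →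
      g5Tabs.all (fun l => !(fpfB (mulTab lr l)) ||
        !(eqTab (mulTab (mulTab lr l) (mulTab lr l)) idTab) || conjB l2B (mulTab lr l)) = true →
      ∃ c ∈ M24, Tab (c * g2 * c⁻¹) l2B := by
    intro lr hlr himg hall
    obtain ⟨l, hl, ht, hlen⟩ := coset_tab hg2mem hlr himg
    have := List.all_eq_true.mp hall l hl
    simp only [Bool.or_eq_true, Bool.not_eq_true'] at this
    rcases this with (h1 | h1) | h1
    · rw [fpfB_of (tab_ne_of_fpf ht hfpf2)] at h1
      exact absurd h1 (by decide)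
    · rw [eqTab_of_eq (tab_sq_eq ht hlen hsq2)] at h1
      exact absurd h1 (by decide)
    · exact conj_of_conjB ht hlen h1
  have hres : ∃ c ∈ M24, Tab (c * g2 * c⁻¹) l2B := by
    rcases hkY with hkY | hkY
    · apply hfin r2B_5 (reps_mem _ (by simp)) _ cls2B_5
      intro b hb
      simp only [base5, List.mem_cons, List.not_mem_nil, or_false] at hb
      rcases hb with rfl | rfl | rfl | rfl | rfl
      · exact j1
      · exact j2
      · exact j3
      · exact j4
      · rw [j5, hkY]; rfl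
    · apply hfin r2B_4 (reps_mem _ (by simp)) _ cls2B_4
      intro b hb
      simp only [base5, List.mem_cons, List.not_mem_nil, or_false] at hb
      rcases hb with rfl | rfl | rfl | rfl | rfl
      · exact j1
      · exact j2
      · exact j3
      · exact j4
      · rw [j5, hkY]; rfl
  obtain ⟨c, hc, hct⟩ := hres
  refine ⟨c * (k * h), M24.mul_mem hc (M24.mul_mem hk'.1 hh), ?_⟩
  rw [← conj_conj, ← conj_conj]
  exact hct

/-- Fixed-point-free elements of order three form one class. -/
theorem class3B {g : Equiv.Perm GolayPt} (hg : g ∈ M24) (h3 : orderOf g = 3)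
    (h0 : ∀ p, g p ≠ p) : ∃ h ∈ M24, Tab (h * g * h⁻¹) l3B := by
  have hcube := cube_eq_one_of_orderOf h3
  have hggg : ∀ p, g (g (g p)) = p := fun p => by
    have := congrArg (fun f : Equiv.Perm GolayPt => f p) hcube
    simpa using this
  set a1 : GolayPt := pt 0 with ha1
  set a2 := g a1 with ha2
  set a3 := g a2 with ha3
  have hga3 : g a3 = a1 := hggg a1
  obtain ⟨b1, hb1⟩ := exists_not_mem {a1, a2, a3} (by
    refine lt_of_le_of_lt (Finset.card_le_three) ?_
    norm_num)
  set b2 := g b1 with hb2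
  simp only [Finset.mem_insert, Finset.mem_singleton, not_or] at hb1
  have n12 : a1 ≠ a2 := fun h => h0 a1 h.symm
  have n23 : a2 ≠ a3 := fun h => h0 a2 h.symm
  have n13 : a1 ≠ a3 := fun h => h0 a3 (by rw [hga3]; exact h)
  have m1 : b2 ≠ b1 := h0 b1
  have m2 : b2 ≠ a1 := fun h => hb1.2.2 (g.injective (by rw [hga3]; exact h))
  have m3 : b2 ≠ a2 := fun h => hb1.1 (g.injective h)
  have m4 : b2 ≠ a3 := fun h => hb1.2.1 (g.injective h)
  have hnd : [a1, a2, a3, b1, b2].Nodup := by
    simp only [List.nodup_cons, List.mem_cons, List.not_mem_nil, or_false, not_or,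
      List.nodup_nil, and_true, not_false_eq_true]
    refine ⟨⟨n12, n13, Ne.symm hb1.1, Ne.symm m2⟩, ⟨n23, Ne.symm hb1.2.1, Ne.symm m3⟩,
      ⟨Ne.symm hb1.2.2, Ne.symm m4⟩, Ne.symm m1⟩
  obtain ⟨h, hh, hmap, hmem⟩ := normalize hg [a1, a2, a3, b1, b2] hnd rfl
  simp only [List.map_cons, List.map_nil, base5, List.cons.injEq, and_true] at hmap
  obtain ⟨e1, e2, e3, e4, e5⟩ := hmap
  set g1 := h * g * h⁻¹ with hg1
  have i1 : g1 (pt 23) = pt 0 := by rw [← e1, hg1, conj_apply, ← ha2, e2]
  have i2 : g1 (pt 0) = pt 1 := by rw [← e2, hg1, conj_apply, ← ha3, e3]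
  have i3 : g1 (pt 1) = pt 23 := by rw [← e3, hg1, conj_apply, hga3, e1]
  have i4 : g1 (pt 2) = pt 3 := by rw [← e4, hg1, conj_apply, ← hb2, e5]
  have hfpf1 : ∀ p, g1 p ≠ p := by
    intro p hp
    apply h0 (h⁻¹ p)
    have := congrArg (fun x => h⁻¹ x) hp
    simpa [hg1] using this
  have hcube1 : g1 * g1 * g1 = 1 := by
    have : orderOf g1 = 3 := by rw [hg1, orderOf_conj', h3]
    exact cube_eq_one_of_orderOf this
  have hggg1 : ∀ p, g1 (g1 (g1 p)) = p := fun p => by
    have := congrArg (fun f : Equiv.Perm GolayPt => f p) hcube1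
    simpa using this
  have hY : g1 (pt 3) ∉ base5.map pt := by
    rw [mem_base_iff]
    rintro (hY | hY | hY | hY | hY)
    · have := g1.injective (hY.trans i3.symm); revert this; decide
    · have := g1.injective (hY.trans i1.symm); revert this; decide
    · have := g1.injective (hY.trans i2.symm); revert this; decide
    · have := hggg1 (pt 2); rw [i4, hY, i4] at this; revert this; decide
    · exact hfpf1 _ hY
  obtain ⟨k, hk, hkY⟩ := g5_move hY
  have hk' := mem_G5.mp hk
  set g2 := k * g1 * k⁻¹ with hg2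
  have hg2mem : g2 ∈ M24 := M24.mul_mem (M24.mul_mem hk'.1 hmem) (M24.inv_mem hk'.1)
  have kfix : ∀ b ∈ base5, k (pt b) = pt b := hk'.2
  have j1 : g2 (pt 23) = pt 0 := by
    have := conj_apply k g1 (pt 23)
    rwa [kfix 23 (by decide), i1, kfix 0 (by decide)] at this
  have j2 : g2 (pt 0) = pt 1 := by
    have := conj_apply k g1 (pt 0)
    rwa [kfix 0 (by decide), i2, kfix 1 (by decide)] at this
  have j3 : g2 (pt 1) = pt 23 := by
    have := conj_apply k g1 (pt 1)
    rwa [kfix 1 (by decide), i3, kfix 23 (by decide)] at this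
  have j4 : g2 (pt 2) = pt 3 := by
    have := conj_apply k g1 (pt 2)
    rwa [kfix 2 (by decide), i4, kfix 3 (by decide)] at this
  have j5 : g2 (pt 3) = k (g1 (pt 3)) := by
    have := conj_apply k g1 (pt 3)
    rwa [kfix 3 (by decide)] at this
  have hfpf2 : ∀ p, g2 p ≠ p := by
    intro p hp
    apply hfpf1 (k⁻¹ p)
    have := congrArg (fun x => k⁻¹ x) hp
    simpa [hg2] using this
  have hcube2 : g2 * g2 * g2 = 1 := by
    have : orderOf g2 = 3 := by rw [hg2, orderOf_conj', hg1, orderOf_conj', h3]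
    exact cube_eq_one_of_orderOf this
  have hfin : ∀ (lr : List ℕ), lr ∈ clsTabs → (∀ b ∈ base5, g2 (pt b) = pt (lr.getD b 0)) →
      g5Tabs.all (fun l => !(fpfB (mulTab lr l)) ||
        !(eqTab (mulTab (mulTab (mulTab lr l) (mulTab lr l)) (mulTab lr l)) idTab) ||
          conjB l3B (mulTab lr l)) = true →
      ∃ c ∈ M24, Tab (c * g2 * c⁻¹) l3B := by
    intro lr hlr himg hall
    obtain ⟨l, hl, ht, hlen⟩ := coset_tab hg2mem hlr himg
    have := List.all_eq_true.mp hall l hl
    simp only [Bool.or_eq_true, Bool.not_eq_true'] at this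
    rcases this with (h1 | h1) | h1
    · rw [fpfB_of (tab_ne_of_fpf ht hfpf2)] at h1
      exact absurd h1 (by decide)
    · rw [eqTab_of_eq (tab_cube_eq ht hlen hcube2)] at h1
      exact absurd h1 (by decide)
    · exact conj_of_conjB ht hlen h1
  have hres : ∃ c ∈ M24, Tab (c * g2 * c⁻¹) l3B := by
    rcases hkY with hkY | hkY
    · apply hfin r3B_5 (reps_mem _ (by simp)) _ cls3B_5
      intro b hb
      simp only [base5, List.mem_cons, List.not_mem_nil, or_false] at hb
      rcases hb with rfl | rfl | rfl | rfl | rfl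
      · exact j1
      · exact j2
      · exact j3
      · exact j4
      · rw [j5, hkY]; rfl
    · apply hfin r3B_4 (reps_mem _ (by simp)) _ cls3B_4
      intro b hb
      simp only [base5, List.mem_cons, List.not_mem_nil, or_false] at hb
      rcases hb with rfl | rfl | rfl | rfl | rfl
      · exact j1
      · exact j2
      · exact j3
      · exact j4
      · rw [j5, hkY]; rfl
  obtain ⟨c, hc, hct⟩ := hres
  refine ⟨c * (k * h), M24.mul_mem hc (M24.mul_mem hk'.1 hh), ?_⟩
  rw [← conj_conj, ← conj_conj]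
  exact hct

end Cfsg.Agent.Helper92
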