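import Cfsg.Agent.Lib.Helper92.Classes2

/-!
# Fixed point counts of elements of order 2 and 3 in `M24`
-/

set_option autoImplicit false

namespace Cfsg.Agent.Helper92
open Cfsg Cfsg.Agent.Helper7
open scoped Pointwise

def cls3Prog : List (ℕ × ℕ) := [(0, 0), (0, 5), (0, 6), (0, 7), (0, 1), (0, 9), (0, 10), (1, 10), (0, 12), (13, 3), (14, 1), (15, 3), (16, 3), (17, 3), (18, 1), (19, 3), (20, 1), (0, 11), (21, 22), (8, 23), (24, 24), (24, 25), (24, 26), (24, 27), (24, 28), (24, 29), (24, 30), (24, 31), (30, 2), (33, 33), (33, 34), (33, 35), (33, 0), (3, 37), (38, 32), (33, 39), (24, 40), (3, 36), (42, 0), (25, 43), (44, 36), (45, 38), (46, 36), (33, 47), (33, 48), (46, 48), (46, 50), (43, 40), (33, 52), (53, 36), (54, 52), (55, 52), (56, 52), (57, 36), (58, 46), (59, 59), (56, 36), (46, 33), (61, 62), (63, 60), (59, 64), (63, 65), (63, 66), (59, 67), (59, 68), (63, 69), (59, 70), (0, 41), (72, 51), (0, 49), (74, 70), (74, 71)]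

def rInv : List ℕ := [1, 0, 3, 2, 12, 17, 20, 4, 9, 13, 10, 18, 7, 15, 5, 6, 22, 14, 16, 11, 8, 19, 21, 23]
def rTri_5 : List ℕ := [1, 2, 0, 5, 18, 3, 16, 4, 6, 20, 9, 7, 19, 8, 17, 15, 12, 14, 21, 13, 10, 22, 11, 23]
def rTri_4 : List ℕ := [1, 2, 0, 4, 11, 22, 10, 15, 19, 3, 17, 7, 21, 8, 13, 5, 18, 16, 6, 9, 14, 20, 12, 23]

def cls3Tabs : List (List ℕ) := [rInv, rTri_5, rTri_4]

theorem cls3Tabs_sub : ∀ l ∈ cls3Tabs, l ∈ slpTabs cls3Prog m24InitTabs := by decide +kernel

theorem goodTabs_cls3 : GoodTabs M24 cls3Tabs :=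
  (goodTabs_slp cls3Prog _ (goodTabs_init M24 shift_mem projInv_mem cubeTwist_mem)).subset
    cls3Tabs_sub

/-- The coset step for an arbitrary tabulated representative. -/
theorem coset_tab' {g : Equiv.Perm GolayPt} (hg : g ∈ M24) {lr : List ℕ}
    (hlr : ∃ r ∈ M24, Tab r lr)
    (h : ∀ b ∈ base5, g (pt b) = pt (lr.getD b 0)) :
    ∃ l ∈ g5Tabs, Tab g (mulTab lr l) ∧ (mulTab lr l).length = 24 := by
  obtain ⟨r, hr, htr⟩ := hlr
  have hb : ∀ b ∈ base5, g (pt b) = r (pt b) := by
    intro b hb
    have hb24 : b < 24 := by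
      simp only [base5, List.mem_cons, List.not_mem_nil, or_false] at hb
      omega
    rw [h b hb, htr.apply b hb24]
  obtain ⟨l, hl, ht⟩ := coset_elem hg hr htr hb
  exact ⟨l, hl, ht, by rw [mulTab_length, g5_len hl]⟩

theorem g5_invol_fix : g5Tabs.all (fun l =>
    eqTab l idTab || !(eqTab (mulTab l l) idTab) || Nat.beq (fixCount l) 8) = true := by
  decide +kernel

theorem g5_ord3_fix : g5Tabs.all (fun l =>
    eqTab l idTab || !(eqTab (mulTab (mulTab l l) l) idTab) || Nat.beq (fixCount l) 6) = true := by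
  decide +kernel

theorem rInv_fix : g5Tabs.all (fun l =>
    !(eqTab (mulTab (mulTab rInv l) (mulTab rInv l)) idTab) ||
      Nat.beq (fixCount (mulTab rInv l)) 8) = true := by
  decide +kernel

theorem rTri5_fix : g5Tabs.all (fun l =>
    !(eqTab (mulTab (mulTab (mulTab rTri_5 l) (mulTab rTri_5 l)) (mulTab rTri_5 l)) idTab) ||
      Nat.beq (fixCount (mulTab rTri_5 l)) 6) = true := by
  decide +kernel

theorem rTri4_fix : g5Tabs.all (fun l =>
    !(eqTab (mulTab (mulTab (mulTab rTri_4 l) (mulTab rTri_4 l)) (mulTab rTri_4 l)) idTab) ||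
      Nat.beq (fixCount (mulTab rTri_4 l)) 6) = true := by
  decide +kernel

theorem card_moved (g : Equiv.Perm GolayPt) :
    (Finset.univ.filter fun p => g p ≠ p).card = 24 - (Finset.univ.filter fun p => g p = p).card := by
  have h := Finset.card_filter_add_card_filter_not (s := (Finset.univ : Finset GolayPt))
    (fun p => g p = p)
  have h24 : (Finset.univ : Finset GolayPt).card = 24 := by decide
  rw [h24] at h
  have e : (Finset.univ.filter fun p => g p ≠ p) = Finset.univ.filter (fun p => ¬ g p = p) := rfl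
  rw [e]
  omega

/-- A moved point outside a small set. -/
theorem exists_moved (g : Equiv.Perm GolayPt) (s : Finset GolayPt)
    (h : s.card < (Finset.univ.filter fun p => g p ≠ p).card) : ∃ a, a ∉ s ∧ g a ≠ a := by
  obtain ⟨a, ha, has⟩ := Finset.exists_mem_notMem_of_card_lt_card h
  exact ⟨a, has, (Finset.mem_filter.mp ha).2⟩

/-- An involution of `M24` has no or exactly eight fixed points. -/
theorem invol_fix {g : Equiv.Perm GolayPt} (hg : g ∈ M24) (h2 : orderOf g = 2) :
    (Finset.univ.filter fun p => g p = p).card = 0 ∨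
      (Finset.univ.filter fun p => g p = p).card = 8 := by
  by_cases h5 : 5 ≤ (Finset.univ.filter fun p => g p = p).card
  · right
    obtain ⟨h, hh, hG5⟩ := conj_into_G5 hg h5
    obtain ⟨l, hl, ht⟩ := g5_elem hG5
    have hlen := g5_len hl
    have hord : orderOf (h * g * h⁻¹) = 2 := by rw [orderOf_conj', h2]
    have hne : l ≠ idTab := tab_ne_idTab ht (ne_one_of_orderOf hord (by norm_num))
    have hsq : mulTab l l = idTab := tab_sq_eq ht hlen (sq_eq_one_of_orderOf hord)
    have := List.all_eq_true.mp g5_invol_fix l hl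
    simp only [Bool.or_eq_true, Bool.not_eq_true', Nat.beq_eq] at this
    rcases this with (h1 | h1) | h1
    · exact absurd (eq_of_eqTab hlen h1) hne
    · rw [eqTab_of_eq hsq] at h1
      exact absurd h1 (by decide)
    · rw [← card_fixed_conj h g, card_fixed ht, h1]
  · by_cases h0 : (Finset.univ.filter fun p => g p = p).card = 0
    · exact Or.inl h0
    exfalso
    have hsq := sq_eq_one_of_orderOf h2
    have hgg : ∀ p, g (g p) = p := fun p => by
      have := congrArg (fun f : Equiv.Perm GolayPt => f p) hsq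
      simpa using this
    have hpos : 0 < (Finset.univ.filter fun p => g p = p).card := Nat.pos_of_ne_zero h0
    obtain ⟨p1, hp1⟩ := Finset.card_pos.mp hpos
    have hp1 : g p1 = p1 := (Finset.mem_filter.mp hp1).2
    have hmoved := card_moved g
    obtain ⟨a1, -, ha1⟩ := exists_moved g ∅ (by rw [hmoved, Finset.card_empty]; omega)
    set b1 := g a1 with hb1
    obtain ⟨a2, ha2s, ha2⟩ := exists_moved g {p1, a1, b1} (by
      rw [hmoved]
      have := Finset.card_le_three (a := p1) (b := a1) (c := b1)
      omega)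
    set b2 := g a2 with hb2
    simp only [Finset.mem_insert, Finset.mem_singleton, not_or] at ha2s
    have n1 : p1 ≠ a1 := fun h => ha1 (by rw [hb1, ← h]; exact hp1)
    have n2 : p1 ≠ b1 := fun h => n1 (by
      have : g p1 = g b1 := by rw [h]
      rw [hp1, hb1, hgg] at this
      exact this)
    have n3 : a1 ≠ b1 := fun h => ha1 h.symm
    have n4 : b2 ≠ p1 := fun h => ha2s.1 (by
      have : g b2 = g p1 := by rw [h]
      rw [hb2, hgg, hp1] at this
      exact this)
    have n5 : b2 ≠ a1 := fun h => ha2s.2.2 (by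
      have : g b2 = g a1 := by rw [h]
      rw [hb2, hgg] at this
      exact this)
    have n6 : b2 ≠ b1 := fun h => ha2s.2.1 (g.injective h)
    have n7 : a2 ≠ b2 := fun h => ha2 h.symm
    have hnd : [p1, a1, b1, a2, b2].Nodup := by
      simp only [List.nodup_cons, List.mem_cons, List.not_mem_nil, or_false, not_or,
        List.nodup_nil, and_true, not_false_eq_true]
      exact ⟨⟨n1, n2, Ne.symm ha2s.1, Ne.symm n4⟩, ⟨n3, Ne.symm ha2s.2.1, Ne.symm n5⟩,
        ⟨Ne.symm ha2s.2.2, Ne.symm n6⟩, n7⟩
    obtain ⟨h, hh, hmap, hmem⟩ := normalize hg [p1, a1, b1, a2, b2] hnd rfl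
    simp only [List.map_cons, List.map_nil, base5, List.cons.injEq, and_true] at hmap
    obtain ⟨e1, e2, e3, e4, e5⟩ := hmap
    set g1 := h * g * h⁻¹ with hg1
    have i1 : g1 (pt 23) = pt 23 := by rw [← e1, hg1, conj_apply, hp1]
    have i2 : g1 (pt 0) = pt 1 := by rw [← e2, hg1, conj_apply, ← hb1, e3]
    have i3 : g1 (pt 1) = pt 0 := by rw [← e3, hg1, conj_apply, hb1, hgg, e2]
    have i4 : g1 (pt 2) = pt 3 := by rw [← e4, hg1, conj_apply, ← hb2, e5]
    have i5 : g1 (pt 3) = pt 2 := by rw [← e5, hg1, conj_apply, hb2, hgg, e4]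
    have hsq1 : g1 * g1 = 1 := by
      have : orderOf g1 = 2 := by rw [hg1, orderOf_conj', h2]
      exact sq_eq_one_of_orderOf this
    obtain ⟨l, hl, ht, hlen⟩ := coset_tab' hmem (lr := rInv)
      (by
        obtain ⟨r, hr, htr, _⟩ := goodTabs_cls3 rInv (by simp [cls3Tabs])
        exact ⟨r, hr, htr⟩)
      (by
        intro b hb
        simp only [base5, List.mem_cons, List.not_mem_nil, or_false] at hb
        rcases hb with rfl | rfl | rfl | rfl | rfl
        · exact i1
        · exact i2
        · exact i3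
        · exact i4
        · exact i5)
    have := List.all_eq_true.mp rInv_fix l hl
    simp only [Bool.or_eq_true, Bool.not_eq_true', Nat.beq_eq] at this
    rcases this with h1 | h1
    · rw [eqTab_of_eq (tab_sq_eq ht hlen hsq1)] at h1
      exact absurd h1 (by decide)
    · have : (Finset.univ.filter fun p => g p = p).card = 8 := by
        rw [← card_fixed_conj h g, card_fixed ht, h1]
      omega

/-- An element of order three of `M24` has no or exactly six fixed points. -/
theorem ord3_fix {g : Equiv.Perm GolayPt} (hg : g ∈ M24) (h3 : orderOf g = 3) :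
    (Finset.univ.filter fun p => g p = p).card = 0 ∨
      (Finset.univ.filter fun p => g p = p).card = 6 := by
  by_cases h5 : 5 ≤ (Finset.univ.filter fun p => g p = p).card
  · right
    obtain ⟨h, hh, hG5⟩ := conj_into_G5 hg h5
    obtain ⟨l, hl, ht⟩ := g5_elem hG5
    have hlen := g5_len hl
    have hord : orderOf (h * g * h⁻¹) = 3 := by rw [orderOf_conj', h3]
    have hne : l ≠ idTab := tab_ne_idTab ht (ne_one_of_orderOf hord (by norm_num))
    have hcube : mulTab (mulTab l l) l = idTab :=
      tab_cube_eq ht hlen (cube_eq_one_of_orderOf hord)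
    have := List.all_eq_true.mp g5_ord3_fix l hl
    simp only [Bool.or_eq_true, Bool.not_eq_true', Nat.beq_eq] at this
    rcases this with (h1 | h1) | h1
    · exact absurd (eq_of_eqTab hlen h1) hne
    · rw [eqTab_of_eq hcube] at h1
      exact absurd h1 (by decide)
    · rw [← card_fixed_conj h g, card_fixed ht, h1]
  · by_cases h0 : (Finset.univ.filter fun p => g p = p).card = 0
    · exact Or.inl h0
    exfalso
    have hcube := cube_eq_one_of_orderOf h3
    have hggg : ∀ p, g (g (g p)) = p := fun p => by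
      have := congrArg (fun f : Equiv.Perm GolayPt => f p) hcube
      simpa using this
    have hpos : 0 < (Finset.univ.filter fun p => g p = p).card := Nat.pos_of_ne_zero h0
    obtain ⟨p1, hp1⟩ := Finset.card_pos.mp hpos
    have hp1 : g p1 = p1 := (Finset.mem_filter.mp hp1).2
    have hmoved := card_moved g
    obtain ⟨a1, -, ha1⟩ := exists_moved g ∅ (by rw [hmoved, Finset.card_empty]; omega)
    set a2 := g a1 with ha2
    set a3 := g a2 with ha3
    have hga3 : g a3 = a1 := hggg a1
    obtain ⟨b1, hb1s, hb1⟩ := exists_moved g {p1, a1, a2, a3} (by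
      rw [hmoved]
      have := Finset.card_le_four (a := p1) (b := a1) (c := a2) (d := a3)
      omega)
    set b2 := g b1 with hb2
    simp only [Finset.mem_insert, Finset.mem_singleton, not_or] at hb1s
    have n12 : a1 ≠ a2 := fun h => ha1 h.symm
    have n23 : a2 ≠ a3 := fun h => ha1 (g.injective (by
      show g a2 = g a1
      rw [← ha3, ← ha2]; exact h.symm))
    have n13 : a1 ≠ a3 := fun h => by
      have h' : g a1 = a1 := by
        have := hga3
        rw [← h] at this
        exact this
      exact ha1 (ha2.trans h')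
    have q1 : p1 ≠ a1 := fun h => ha1 (ha2.trans (h ▸ hp1))
    have q2 : p1 ≠ a2 := fun h => q1 (g.injective (by rw [hp1, ← ha2]; exact h))
    have q3 : p1 ≠ a3 := fun h => q2 (g.injective (by rw [hp1, ← ha3]; exact h))
    have m0 : b2 ≠ p1 := fun h => hb1s.1 (g.injective (by rw [hp1, ← hb2]; exact h))
    have m1 : b2 ≠ b1 := hb1
    have m2 : b2 ≠ a1 := fun h => hb1s.2.2.2 (g.injective (by rw [hga3, ← hb2]; exact h))
    have m3 : b2 ≠ a2 := fun h => hb1s.2.1 (g.injective (by rw [← hb2, ← ha2]; exact h))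
    have m4 : b2 ≠ a3 := fun h => hb1s.2.2.1 (g.injective (by rw [← hb2, ← ha3]; exact h))
    have hnd : [p1, a1, a2, a3, b1].Nodup := by
      simp only [List.nodup_cons, List.mem_cons, List.not_mem_nil, or_false, not_or,
        List.nodup_nil, and_true, not_false_eq_true]
      exact ⟨⟨q1, q2, q3, Ne.symm hb1s.1⟩, ⟨n12, n13, Ne.symm hb1s.2.1⟩,
        ⟨n23, Ne.symm hb1s.2.2.1⟩, Ne.symm hb1s.2.2.2⟩
    obtain ⟨h, hh, hmap, hmem⟩ := normalize hg [p1, a1, a2, a3, b1] hnd rfl
    simp only [List.map_cons, List.map_nil, base5, List.cons.injEq, and_true] at hmap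
    obtain ⟨e1, e2, e3, e4, e5⟩ := hmap
    set g1 := h * g * h⁻¹ with hg1
    have i1 : g1 (pt 23) = pt 23 := by rw [← e1, hg1, conj_apply, hp1]
    have i2 : g1 (pt 0) = pt 1 := by rw [← e2, hg1, conj_apply, ← ha2, e3]
    have i3 : g1 (pt 1) = pt 2 := by rw [← e3, hg1, conj_apply, ← ha3, e4]
    have i4 : g1 (pt 2) = pt 0 := by rw [← e4, hg1, conj_apply, hga3, e2]
    have i5 : g1 (pt 3) = h b2 := by rw [← e5, hg1, conj_apply]
    have hY : g1 (pt 3) ∉ base5.map pt := by
      rw [i5, mem_base_iff]
      rintro (hY | hY | hY | hY | hY)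
      · exact m0 (h.injective (hY.trans e1.symm))
      · exact m2 (h.injective (hY.trans e2.symm))
      · exact m3 (h.injective (hY.trans e3.symm))
      · exact m4 (h.injective (hY.trans e4.symm))
      · exact m1 (h.injective (hY.trans e5.symm))
    obtain ⟨k, hk, hkY⟩ := g5_move hY
    have hk' := mem_G5.mp hk
    set g2 := k * g1 * k⁻¹ with hg2
    have hg2mem : g2 ∈ M24 := M24.mul_mem (M24.mul_mem hk'.1 hmem) (M24.inv_mem hk'.1)
    have kfix : ∀ b ∈ base5, k (pt b) = pt b := hk'.2
    have j1 : g2 (pt 23) = pt 23 := by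
      have := conj_apply k g1 (pt 23)
      rwa [kfix 23 (by decide), i1, kfix 23 (by decide)] at this
    have j2 : g2 (pt 0) = pt 1 := by
      have := conj_apply k g1 (pt 0)
      rwa [kfix 0 (by decide), i2, kfix 1 (by decide)] at this
    have j3 : g2 (pt 1) = pt 2 := by
      have := conj_apply k g1 (pt 1)
      rwa [kfix 1 (by decide), i3, kfix 2 (by decide)] at this
    have j4 : g2 (pt 2) = pt 0 := by
      have := conj_apply k g1 (pt 2)
      rwa [kfix 2 (by decide), i4, kfix 0 (by decide)] at this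
    have j5 : g2 (pt 3) = k (g1 (pt 3)) := by
      have := conj_apply k g1 (pt 3)
      rwa [kfix 3 (by decide)] at this
    have hcube2 : g2 * g2 * g2 = 1 := by
      have : orderOf g2 = 3 := by rw [hg2, orderOf_conj', hg1, orderOf_conj', h3]
      exact cube_eq_one_of_orderOf this
    have hcard2 : (Finset.univ.filter fun p => g2 p = p).card =
        (Finset.univ.filter fun p => g p = p).card := by
      rw [hg2, card_fixed_conj, hg1, card_fixed_conj]
    have hfin : ∀ (lr : List ℕ), lr ∈ cls3Tabs → (∀ b ∈ base5, g2 (pt b) = pt (lr.getD b 0)) →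
        g5Tabs.all (fun l =>
          !(eqTab (mulTab (mulTab (mulTab lr l) (mulTab lr l)) (mulTab lr l)) idTab) ||
            Nat.beq (fixCount (mulTab lr l)) 6) = true → False := by
      intro lr hlr himg hall
      obtain ⟨l, hl, ht, hlen⟩ := coset_tab' hg2mem (lr := lr)
        (by
          obtain ⟨r, hr, htr, _⟩ := goodTabs_cls3 lr hlr
          exact ⟨r, hr, htr⟩) himg
      have := List.all_eq_true.mp hall l hl
      simp only [Bool.or_eq_true, Bool.not_eq_true', Nat.beq_eq] at this
      rcases this with h1 | h1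
      · rw [eqTab_of_eq (tab_cube_eq ht hlen hcube2)] at h1
        exact absurd h1 (by decide)
      · have : (Finset.univ.filter fun p => g p = p).card = 6 := by
          rw [← hcard2, card_fixed ht, h1]
        omega
    rcases hkY with hkY | hkY
    · apply hfin rTri_5 (by simp [cls3Tabs]) _ rTri5_fix
      intro b hb
      simp only [base5, List.mem_cons, List.not_mem_nil, or_false] at hb
      rcases hb with rfl | rfl | rfl | rfl | rfl
      · exact j1
      · exact j2
      · exact j3
      · exact j4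
      · rw [j5, hkY]; rfl
    · apply hfin rTri_4 (by simp [cls3Tabs]) _ rTri4_fix
      intro b hb
      simp only [base5, List.mem_cons, List.not_mem_nil, or_false] at hb
      rcases hb with rfl | rfl | rfl | rfl | rfl
      · exact j1
      · exact j2
      · exact j3
      · exact j4
      · rw [j5, hkY]; rfl

end Cfsg.Agent.Helper92
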