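import Cfsg.Agent.Lib.Helper7.Steiner
import Cfsg.Agent.Lib.Helper7.Count

/-!
# Families of point sets coded by sorted lists of bitmasks

Generic tools for the sextets and the trios: decoding, injectivity, the action of a tabulated
permutation, and counting members of a family by filtering a list.
-/

set_option autoImplicit false

namespace Cfsg.Agent.Helper92
open Cfsg Cfsg.Agent.Helper7
open scoped Pointwise

/-- Decode a list of masks into a family of point sets. -/
def dec (e : List ℕ) : Finset (Finset GolayPt) := (e.map ofMask).toFinset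

theorem mem_dec {e : List ℕ} {s : Finset GolayPt} : s ∈ dec e ↔ ∃ m ∈ e, ofMask m = s := by
  simp [dec]

/-- Strictly increasing list of masks below `2 ^ 24`. -/
def incrB : List ℕ → Bool
  | [] => true
  | [a] => Nat.blt a 16777216
  | a :: b :: l => Nat.blt a b && incrB (b :: l)

theorem incrB_spec : ∀ l : List ℕ, incrB l = true →
    l.Pairwise (· < ·) ∧ ∀ m ∈ l, m < 2 ^ 24
  | [], _ => ⟨List.Pairwise.nil, by simp⟩
  | [a], h => by
    simp only [incrB, Nat.blt_eq] at h
    refine ⟨List.pairwise_singleton _ _, ?_⟩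
    intro m hm
    rw [List.mem_singleton.mp hm]
    omega
  | a :: b :: l, h => by
    simp only [incrB, Bool.and_eq_true, Nat.blt_eq] at h
    obtain ⟨ih1, ih2⟩ := incrB_spec (b :: l) h.2
    refine ⟨?_, ?_⟩
    · rw [List.pairwise_cons]
      refine ⟨?_, ih1⟩
      intro x hx
      rcases List.mem_cons.mp hx with rfl | hx
      · exact h.1
      · exact lt_trans h.1 ((List.pairwise_cons.mp ih1).1 x hx)
    · intro m hm
      rcases List.mem_cons.mp hm with rfl | hm
      · exact lt_trans h.1 (ih2 b List.mem_cons_self)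
      · exact ih2 m hm

theorem incrB_nodup {l : List ℕ} (h : incrB l = true) : l.Nodup :=
  (incrB_spec l h).1.imp (fun h => ne_of_lt h)

theorem ofMask_inj_of_incrB {e : List ℕ} (h : incrB e = true) {x y : ℕ} (hx : x ∈ e) (hy : y ∈ e)
    (hxy : ofMask x = ofMask y) : x = y :=
  ofMask_injOn x y ((incrB_spec e h).2 x hx) ((incrB_spec e h).2 y hy) hxy

theorem card_dec {e : List ℕ} (h : incrB e = true) : (dec e).card = e.length := by
  unfold dec
  rw [List.toFinset_card_of_nodup, List.length_map]
  exact (List.nodup_map_iff_inj_on (incrB_nodup h)).mpr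
    (fun x hx y hy hxy => ofMask_inj_of_incrB h hx hy hxy)

theorem dec_inj {e e' : List ℕ} (he : incrB e = true) (he' : incrB e' = true)
    (h : dec e = dec e') : e = e' := by
  have hsub : ∀ {a b : List ℕ}, incrB a = true → incrB b = true → dec a = dec b →
      ∀ x ∈ a, x ∈ b := by
    intro a b ha hb hab x hx
    have : ofMask x ∈ dec b := by rw [← hab]; exact mem_dec.mpr ⟨x, hx, rfl⟩
    obtain ⟨y, hy, hyx⟩ := mem_dec.mp this
    have : y = x :=
      ofMask_injOn y x ((incrB_spec b hb).2 y hy) ((incrB_spec a ha).2 x hx) hyx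
    rwa [← this]
  have hperm : e.Perm e' := by
    rw [List.perm_ext_iff_of_nodup (incrB_nodup he) (incrB_nodup he')]
    intro x
    exact ⟨hsub he he' h x, hsub he' he h.symm x⟩
  exact hperm.eq_of_pairwise (fun a b _ _ h1 h2 => absurd h1 (lt_asymm h2))
    (incrB_spec e he).1 (incrB_spec e' he').1

theorem smul_dec {σ : Equiv.Perm GolayPt} {l : List ℕ} (h : Tab σ l) (hlen : l.length = 24)
    (e : List ℕ) : σ • dec e = dec (e.map (pm l)) := by
  ext s
  rw [mem_dec, Finset.mem_smul_finset]
  constructor
  · rintro ⟨t, ht, rfl⟩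
    obtain ⟨m, hm, rfl⟩ := mem_dec.mp ht
    refine ⟨pm l m, List.mem_map_of_mem hm, ?_⟩
    rw [pm_eq l hlen, ← smul_ofMask h]
  · rintro ⟨m', hm', rfl⟩
    obtain ⟨m, hm, rfl⟩ := List.mem_map.mp hm'
    refine ⟨ofMask m, mem_dec.mpr ⟨m, hm, rfl⟩, ?_⟩
    rw [pm_eq l hlen, ← smul_ofMask h]

/-- Boolean test that the tabulated permutation maps the coded family to itself. -/
def memB (e : List ℕ) (x : ℕ) : Bool := e.any fun y => Nat.beq y x

theorem memB_iff {e : List ℕ} {x : ℕ} : memB e x = true ↔ x ∈ e := by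
  unfold memB
  rw [List.any_eq_true]
  constructor
  · rintro ⟨y, hy, h⟩
    rw [Nat.beq_eq] at h
    rwa [← h]
  · intro h
    exact ⟨x, h, by rw [Nat.beq_eq]⟩

def fixB (l : List ℕ) (e : List ℕ) : Bool := (e.map (pm l)).all fun x => memB e x

theorem card_smul_family (σ : Equiv.Perm GolayPt) (S : Finset (Finset GolayPt)) :
    (σ • S).card = S.card := Finset.card_smul_finset σ S

theorem fixB_spec {σ : Equiv.Perm GolayPt} {l : List ℕ} (h : Tab σ l) (hlen : l.length = 24)
    {e : List ℕ} (he : incrB e = true) : fixB l e = true ↔ σ • dec e = dec e := by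
  rw [smul_dec h hlen]
  unfold fixB
  rw [List.all_eq_true]
  constructor
  · intro hall
    have hsub : dec (e.map (pm l)) ⊆ dec e := by
      intro s hs
      obtain ⟨m, hm, rfl⟩ := mem_dec.mp hs
      have := hall m hm
      rw [memB_iff] at this
      exact mem_dec.mpr ⟨m, this, rfl⟩
    apply Finset.eq_of_subset_of_card_le hsub
    rw [← smul_dec h hlen, card_smul_family]
  · intro heq x hx
    rw [memB_iff]
    have : ofMask x ∈ dec e := by rw [← heq]; exact mem_dec.mpr ⟨x, hx, rfl⟩
    obtain ⟨y, hy, hyx⟩ := mem_dec.mp this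
    obtain ⟨m, hm, rfl⟩ := List.mem_map.mp hx
    have hlt : pm l m < 2 ^ 24 := by rw [pm_eq l hlen]; exact permMask_lt h m
    have : y = pm l m := ofMask_injOn y _ ((incrB_spec e he).2 y hy) hlt hyx
    rwa [← this]

/-- Counting the members of a family with a property by filtering the list of codes. -/
theorem ncard_family (X : Set (Finset (Finset GolayPt))) (D : List (List ℕ)) (hD : D.Nodup)
    (hinc : ∀ e ∈ D, incrB e = true) (hmem : ∀ e ∈ D, dec e ∈ X)
    (hall : ∀ S ∈ X, ∃ e ∈ D, dec e = S)
    (P : Finset (Finset GolayPt) → Prop) (f : List ℕ → Bool)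
    (hf : ∀ e ∈ D, (f e = true ↔ P (dec e))) :
    {S | S ∈ X ∧ P S}.ncard = (D.filter f).length := by
  have hnd : ((D.filter f).map dec).Nodup := by
    rw [List.nodup_map_iff_inj_on (hD.filter _)]
    intro a ha b hb hab
    exact dec_inj (hinc a (List.mem_filter.mp ha).1) (hinc b (List.mem_filter.mp hb).1) hab
  have hset : {S | S ∈ X ∧ P S} = (((D.filter f).map dec).toFinset : Set _) := by
    ext S
    simp only [Set.mem_ofPred_eq, Finset.mem_coe, List.mem_toFinset, List.mem_map, List.mem_filter]
    constructor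
    · rintro ⟨hX, hP⟩
      obtain ⟨e, he, rfl⟩ := hall S hX
      exact ⟨e, ⟨he, (hf e he).mpr hP⟩, rfl⟩
    · rintro ⟨e, ⟨he, hfe⟩, rfl⟩
      exact ⟨hmem e he, (hf e he).mp hfe⟩
  rw [hset, Set.ncard_coe_finset, List.toFinset_card_of_nodup hnd, List.length_map]

/-- Strictly increasing keys give a duplicate-free list. -/
def incrKeys (key : List ℕ → ℕ) : List (List ℕ) → Bool
  | [] => true
  | [_] => true
  | a :: b :: l => Nat.blt (key a) (key b) && incrKeys key (b :: l)

theorem incrKeys_pairwise (key : List ℕ → ℕ) : ∀ l : List (List ℕ), incrKeys key l = true →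
    l.Pairwise (fun a b => key a < key b)
  | [], _ => List.Pairwise.nil
  | [_], _ => List.pairwise_singleton _ _
  | a :: b :: l, h => by
    simp only [incrKeys, Bool.and_eq_true, Nat.blt_eq] at h
    have ih := incrKeys_pairwise key (b :: l) h.2
    rw [List.pairwise_cons]
    refine ⟨?_, ih⟩
    intro x hx
    rcases List.mem_cons.mp hx with rfl | hx
    · exact h.1
    · exact lt_trans h.1 ((List.pairwise_cons.mp ih).1 x hx)

theorem nodup_of_incrKeys (key : List ℕ → ℕ) (l : List (List ℕ)) (h : incrKeys key l = true) :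
    l.Nodup :=
  (incrKeys_pairwise key l h).imp (fun hab heq => by rw [heq] at hab; exact lt_irrefl _ hab)

end Cfsg.Agent.Helper92
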