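import Cfsg.Agent.Lib.Helper72.SuzPres
import Cfsg.Agent.Lib.Helper92.G24Defs
import Cfsg.Agent.Lib.Helper66.G24X0
import Cfsg.Agent.Lib.Helper91.G24XE
import Cfsg.Agent.Lib.Helper85.G24SQ
import Cfsg.Agent.Lib.Helper85.G24REL
import Cfsg.Agent.Lib.Helper60.G24XW
import Cfsg.Agent.Lib.Helper72.G24TOW
import Cfsg.Agent.Lib.Helper34.G24ABS

/-!
# S1679, assembly: `<a, ..., f>` in the presented Suzuki group is isomorphic to `chevG2.group F4`
-/

set_option autoImplicit false
set_option maxRecDepth 100000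

namespace Cfsg.Agent.Helper92.G24A

open Cfsg.Agent.Helper92.G24
open Cfsg.Agent.Helper72.SuzPres (x hx hrelAll hbase4 base4 Hk Hsub Hsub_le index_Hsub fin6)
open Cfsg.Agent.Helper66.G24 (xMat_zero)
open Cfsg.Agent.Helper91.G24 (xMat_eq_table)
open Cfsg.Agent.Helper85.G24 (A_sq A_rel)
open Cfsg.Agent.Helper60.G24 (table_word)
open Cfsg.Agent.Helper72.G24 (tower_bound)
open Cfsg.Agent.Helper34.G24 (iso_of_diagonal)

theorem rel4_eq : rel4 = base4 := rfl

theorem base4_lt : ∀ r ∈ rel4, ∀ g ∈ r, g < 6 := by decide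

theorem wdL_lt : ∀ w ∈ wdL, ∀ g ∈ w, g < 6 := by decide

theorem wd_lt (r t : ℕ) : ∀ g ∈ wd r t, g < 6 := by
  intro g hg
  unfold wd at hg
  by_cases h : 3 * r + (t - 1) < wdL.length
  · rw [List.getD_eq_getElem _ _ h] at hg
    exact wdL_lt _ (List.getElem_mem h) g hg
  · rw [List.getD_eq_default _ _ (by omega)] at hg
    simp at hg

/-- the six matrices as elements of the general linear group (`1` beyond) -/
noncomputable def y (k : ℕ) : GL D.Idx F :=
  if h : k < 6 then ⟨A k, A k, A_sq k h, A_sq k h⟩ else 1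

theorem y_val {k : ℕ} (hk : k < 6) : ((y k : GL D.Idx F) : Matrix D.Idx D.Idx F) = A k := by
  unfold y
  rw [dif_pos hk]

theorem hy (g : ℕ) : y g * y g = 1 := by
  by_cases h : g < 6
  · apply Units.ext
    rw [Units.val_mul, y_val h, Units.val_one]
    exact A_sq g h
  · unfold y
    rw [dif_neg h, one_mul]

theorem prod_val (w : List ℕ) (hw : ∀ g ∈ w, g < 6) :
    (((w.map y).prod : GL D.Idx F) : Matrix D.Idx D.Idx F) = (w.map A).prod := by
  induction w with
  | nil => simp
  | cons a w ih =>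
    rw [List.map_cons, List.prod_cons, Units.val_mul, List.map_cons, List.prod_cons,
      y_val (hw a (by simp)), ih (fun g hg => hw g (List.mem_cons_of_mem _ hg))]

theorem hyrel : ∀ r ∈ base4, (r.map y).prod = 1 := by
  intro r hr
  have hr' : r ∈ rel4 := by rw [rel4_eq]; exact hr
  apply Units.ext
  rw [prod_val r (base4_lt r hr'), Units.val_one]
  exact A_rel r hr'

/-- the group generated by the six matrices -/
noncomputable def S' : Subgroup (GL D.Idx F) := Subgroup.closure (y '' {g | g < 6})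

theorem S'_bound : Finite ↥S' ∧ Nat.card ↥S' ≤ 251596800 := tower_bound y hy hyrel

theorem y_mem {g : ℕ} (hg : g < 6) : y g ∈ S' := Subgroup.subset_closure ⟨g, hg, rfl⟩

theorem word_mem (w : List ℕ) (hw : ∀ g ∈ w, g < 6) : (w.map y).prod ∈ S' := by
  apply Subgroup.list_prod_mem
  intro z hz
  obtain ⟨g, hg, rfl⟩ := List.mem_map.1 hz
  exact y_mem (hw g hg)

theorem F_cases (t : F) : t = 0 ∨ t = fc 1 ∨ t = fc 2 ∨ t = fc 3 := by
  revert t
  decide

theorem group_le : D.group F ≤ S' := by
  unfold Cfsg.Lie.ChevalleyDatum.group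
  rw [Subgroup.closure_le]
  rintro g ⟨r, t, hg⟩
  have key : ∀ k, 1 ≤ k → k ≤ 3 → t = fc k → g ∈ S' := by
    intro k h1 h3 ht
    have h2 : g = ((wd r.val k).map y).prod := by
      apply Units.ext
      rw [hg, ht, xMat_eq_table r k h1 h3, table_word r.val r.2 k h1 h3,
        prod_val _ (wd_lt r.val k)]
    rw [h2]
    exact word_mem _ (wd_lt r.val k)
  rcases F_cases t with rfl | ht | ht | ht
  · have h2 : g = 1 := by
      apply Units.ext
      rw [hg, xMat_zero, Units.val_one]
    rw [h2]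
    exact Subgroup.one_mem _
  · exact key 1 (by norm_num) (by norm_num) ht
  · exact key 2 (by norm_num) (by norm_num) ht
  · exact key 3 (by norm_num) (by norm_num) ht

theorem S'_eq (hS : Nat.card ↥(D.group F) = 251596800) : D.group F = S' := by
  haveI := S'_bound.1
  apply Subgroup.eq_of_le_of_card_ge group_le
  rw [hS]
  exact S'_bound.2

theorem card_P : Nat.card Cfsg.Spor.Suz = 448345497600 := Cfsg.Agent.Helper72.SuzPres.main.2

theorem card_Hsub : Nat.card ↥Hsub = 251596800 := by
  have h := Hsub.index_mul_card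
  rw [index_Hsub, card_P] at h
  generalize Nat.card ↥Hsub = n at h ⊢
  omega

theorem Hsub_eq : Hsub = Hk 6 := by
  haveI := fin6.1
  apply Subgroup.eq_of_le_of_card_ge Hsub_le
  rw [card_Hsub]
  exact fin6.2

theorem card_Hk : Nat.card ↥(Subgroup.closure (x '' {g | g < 6})) = 251596800 := by
  have h : Subgroup.closure (x '' {g | g < 6}) = Hsub := by
    rw [Hsub_eq]
    rfl
  rw [h]
  exact card_Hsub

theorem prod_pair {P G : Type*} [Monoid P] [Monoid G] (u : ℕ → P) (v : ℕ → G) (w : List ℕ) :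
    (w.map (fun g => ((u g, v g) : P × G))).prod = ((w.map u).prod, (w.map v).prod) := by
  induction w with
  | nil => rfl
  | cons a w ih =>
    rw [List.map_cons, List.prod_cons, ih, List.map_cons, List.prod_cons, List.map_cons,
      List.prod_cons]
    rfl

theorem main (hS : Nat.card ↥(D.group F) = 251596800) : Nonempty (↥Hsub ≃* ↥(D.group F)) := by
  have hz : ∀ g, ((x g, y g) : Cfsg.Spor.Suz × GL D.Idx F) * (x g, y g) = 1 := by
    intro g
    exact Prod.ext (hx g) (hy g)
  have hzrel : ∀ r ∈ base4,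
      (r.map (fun g => ((x g, y g) : Cfsg.Spor.Suz × GL D.Idx F))).prod = 1 := by
    intro r hr
    rw [prod_pair, hrelAll r (hbase4 r hr), hyrel r hr]
    rfl
  obtain ⟨hfin, hbound⟩ := tower_bound (fun g => ((x g, y g) : Cfsg.Spor.Suz × GL D.Idx F)) hz hzrel
  have hS' : Nat.card ↥(Subgroup.closure (y '' {g | g < 6})) = 251596800 := by
    have h : Subgroup.closure (y '' {g | g < 6}) = D.group F := (S'_eq hS).symm
    rw [h]
    exact hS
  obtain ⟨e⟩ := iso_of_diagonal 251596800 (by norm_num) x y 6 hfin hbound card_Hk hS'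
  have h1 : Hsub = Subgroup.closure (x '' {g | g < 6}) := by
    rw [Hsub_eq]
    rfl
  have h2 : Subgroup.closure (y '' {g | g < 6}) = D.group F := (S'_eq hS).symm
  exact ⟨(MulEquiv.subgroupCongr h1).trans (e.trans (MulEquiv.subgroupCongr h2))⟩

end Cfsg.Agent.Helper92.G24A
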