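import Cfsg.Agent.Lib.Helper7.M24Order

/-!
# The pointwise stabiliser of five points in `M24`

The 48 elements of `M24` fixing the five base points `∞, 0, 1, 2, 3`, as explicit tables, and the
coset tool: every element of `M24` with prescribed images of the five base points is a product of
any fixed such element with one of the 48 tables.
-/

set_option autoImplicit false

namespace Cfsg.Agent.Helper92
open Cfsg Cfsg.Agent.Helper7
open scoped Pointwise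

/-- The five base points (as indices). -/
def base5 : List ℕ := [23, 0, 1, 2, 3]

/-- The pointwise stabiliser of the five base points. -/
abbrev G5 : Subgroup (Equiv.Perm GolayPt) := stabL M24 (base5.map pt)

theorem mem_G5 {g : Equiv.Perm GolayPt} : g ∈ G5 ↔ g ∈ M24 ∧ ∀ b ∈ base5, g (pt b) = pt b := by
  rw [mem_stabL]
  constructor
  · rintro ⟨h1, h2⟩
    exact ⟨h1, fun b hb => h2 _ (List.mem_map_of_mem hb)⟩
  · rintro ⟨h1, h2⟩
    refine ⟨h1, fun p hp => ?_⟩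
    obtain ⟨b, hb, rfl⟩ := List.mem_map.mp hp
    exact h2 b hb

def g5Prog : List (ℕ × ℕ) := [(0, 3), (0, 0), (0, 6), (0, 7), (0, 8), (0, 1), (0, 10), (0, 11), (1, 11), (0, 13), (14, 3), (15, 1), (16, 3), (17, 3), (18, 3), (19, 1), (20, 3), (21, 1), (0, 12), (22, 23), (9, 24), (25, 25), (25, 26), (25, 27), (25, 28), (25, 29), (25, 30), (25, 31), (25, 32), (31, 2), (34, 34), (34, 35), (34, 36), (34, 0), (3, 38), (39, 33), (34, 40), (3, 37), (42, 0), (26, 43), (44, 37), (45, 39), (46, 37), (34, 47), (34, 48), (46, 48), (46, 50), (34, 51), (46, 51), (34, 53), (43, 41), (34, 55), (56, 37), (57, 55), (58, 55), (59, 55), (60, 37), (61, 46), (62, 62), (59, 37), (46, 34), (64, 65), (66, 63), (62, 67), (66, 68), (62, 69), (66, 69), (62, 71), (62, 72), (66, 73), (66, 74), (62, 70), (76, 66), (77, 77), (37, 55), (79, 52), (62, 80), (81, 63), (82, 80), (83, 80), (84, 63), (85,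 63), (86, 80), (81, 80), (77, 67), (87, 63), (83, 63), (62, 34), (36, 92), (87, 93), (78, 94), (95, 77), (78, 96), (97, 95), (97, 77), (95, 78), (97, 78), (97, 74), (62, 102), (66, 102), (62, 103), (97, 62), (88, 106), (78, 107), (108, 97), (95, 109), (95, 108), (108, 77), (78, 112), (113, 111), (95, 114), (97, 114), (108, 114), (97, 117), (95, 118), (108, 119), (113, 77), (108, 78), (113, 78), (87, 97), (124, 63), (125, 63), (113, 62), (87, 127), (124, 80), (108, 63), (86, 130), (108, 67), (129, 132), (97, 70), (125, 134), (108, 71), (87, 136), (113, 71), (126, 138), (97, 72), (89, 140), (108, 74), (84, 142), (97, 75), (85, 144), (66, 103), (124, 146), (97, 103), (91, 148), (108, 104), (81, 150), (66, 105), (126, 152), (61, 55), (57, 37), (155, 37), (154, 37), (95, 36), (34, 158), (90, 159), (62, 47), (37, 161), (76, 162), (113, 47), (56, 164), (90, 165), (113, 48),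 (156, 167), (83, 168), (62, 49), (155, 170), (90, 171), (62, 50), (35, 173), (91, 174), (66, 54), (157, 176), (83, 177)]

def g5Tabs : List (List ℕ) := [[0, 1, 2, 3, 4, 5, 6, 7, 8, 9, 10, 11, 12, 13, 14, 15, 16, 17, 18, 19, 20, 21, 22, 23], [0, 1, 2, 3, 4, 14, 15, 10, 21, 8, 12, 19, 7, 22, 17, 18, 13, 5, 6, 20, 11, 9, 16, 23], [0, 1, 2, 3, 4, 17, 18, 12, 9, 21, 7, 20, 10, 16, 5, 6, 22, 14, 15, 11, 19, 8, 13, 23], [0, 1, 2, 3, 6, 5, 4, 22, 20, 12, 11, 10, 9, 19, 14, 18, 21, 17, 15, 13, 8, 16, 7, 23], [0, 1, 2, 3, 6, 14, 18, 11, 16, 20, 9, 13, 22, 7, 17, 15, 19, 5, 4, 8, 10, 12, 21, 23], [0, 1, 2, 3, 6, 17, 15, 9, 12, 16, 22, 8, 11, 21, 5, 4, 7, 14, 18, 10, 13, 20, 19, 23], [0, 1, 2, 3, 7, 5, 22, 4, 15, 11, 12, 9, 10, 21, 14, 8, 19, 17, 20, 16, 18, 13, 6, 23], [0, 1, 2, 3, 7, 14, 8, 12, 13, 15, 10, 16, 4, 6, 17, 20, 21, 5, 22, 18, 9, 11, 19, 23], [0, 1, 2, 3, 7, 17,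 20, 10, 11, 13, 4, 18, 12, 19, 5, 22, 6, 14, 8, 9, 16, 15, 21, 23], [0, 1, 2, 3, 8, 5, 20, 15, 4, 21, 19, 13, 16, 11, 14, 7, 12, 17, 22, 10, 6, 9, 18, 23], [0, 1, 2, 3, 8, 14, 7, 19, 9, 4, 16, 10, 15, 18, 17, 22, 11, 5, 20, 6, 13, 21, 12, 23], [0, 1, 2, 3, 8, 17, 22, 16, 21, 9, 15, 6, 19, 12, 5, 20, 18, 14, 7, 13, 10, 4, 11, 23], [0, 1, 2, 3, 9, 5, 12, 11, 21, 4, 22, 7, 6, 15, 14, 13, 20, 17, 19, 18, 16, 8, 10, 23], [0, 1, 2, 3, 9, 14, 13, 22, 8, 21, 6, 18, 11, 10, 17, 19, 15, 5, 12, 16, 7, 4, 20, 23], [0, 1, 2, 3, 9, 17, 19, 6, 4, 8, 11, 16, 22, 20, 5, 12, 10, 14, 13, 7, 18, 21, 15, 23], [0, 1, 2, 3, 10, 5, 11, 12, 19, 22, 4, 6, 7, 20, 14, 16, 15, 17, 21, 8, 13, 18, 9, 23], [0, 1, 2, 3, 10, 14, 16, 4, 18, 19, 7, 8, 12, 9, 17, 21, 20, 5, 11, 13, 6, 22, 15, 23], [0, 1, 2, 3, 10, 17, 21, 7, 22, 18, 12, 13, 4, 15, 5, 11, 9, 14, 16, 6, 8, 19, 20, 23], [0, 1, 2, 3, 11,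 5, 10, 9, 13, 7, 6, 4, 22, 8, 14, 21, 18, 17, 16, 20, 19, 15, 12, 23], [0, 1, 2, 3, 11, 14, 21, 6, 15, 13, 22, 20, 9, 12, 17, 16, 8, 5, 10, 19, 4, 7, 18, 23], [0, 1, 2, 3, 11, 17, 16, 22, 7, 15, 9, 19, 6, 18, 5, 10, 12, 14, 21, 4, 20, 13, 8, 23], [0, 1, 2, 3, 12, 5, 9, 10, 16, 6, 7, 22, 4, 18, 14, 19, 8, 17, 13, 15, 21, 20, 11, 23], [0, 1, 2, 3, 12, 14, 19, 7, 20, 16, 4, 15, 10, 11, 17, 13, 18, 5, 9, 21, 22, 6, 8, 23], [0, 1, 2, 3, 12, 17, 13, 4, 6, 20, 10, 21, 7, 8, 5, 9, 11, 14, 19, 22, 15, 16, 18, 23], [0, 1, 2, 3, 13, 5, 19, 21, 11, 15, 20, 8, 18, 4, 14, 9, 22, 17, 12, 6, 10, 7, 16, 23], [0, 1, 2, 3, 13, 14, 9, 20, 7, 11, 18, 6, 21, 16, 17, 12, 4, 5, 19, 10, 8, 15, 22, 23], [0, 1, 2, 3, 13, 17, 12, 18, 15, 7, 21, 10, 20, 22, 5, 19, 16, 14, 9, 8, 6, 11, 4, 23], [0, 1, 2, 3, 15, 5, 18, 8, 7, 13, 16, 21, 19, 9, 14, 4, 10, 17, 6, 12, 22, 11, 20, 23], [0, 1, 2, 3, 15,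 14, 4, 16, 11, 7, 19, 12, 8, 20, 17, 6, 9, 5, 18, 22, 21, 13, 10, 23], [0, 1, 2, 3, 15, 17, 6, 19, 13, 11, 8, 22, 16, 10, 5, 18, 20, 14, 4, 21, 12, 7, 9, 23], [0, 1, 2, 3, 16, 5, 21, 19, 12, 20, 15, 18, 8, 22, 14, 10, 4, 17, 11, 7, 9, 6, 13, 23], [0, 1, 2, 3, 16, 14, 10, 15, 6, 12, 8, 7, 19, 13, 17, 11, 22, 5, 21, 9, 18, 20, 4, 23], [0, 1, 2, 3, 16, 17, 11, 8, 20, 6, 19, 9, 15, 4, 5, 21, 13, 14, 10, 18, 7, 12, 22, 23], [0, 1, 2, 3, 18, 5, 15, 20, 22, 19, 21, 16, 13, 12, 14, 6, 11, 17, 4, 9, 7, 10, 8, 23], [0, 1, 2, 3, 18, 14, 6, 21, 10, 22, 13, 9, 20, 8, 17, 4, 12, 5, 15, 7, 16, 19, 11, 23], [0, 1, 2, 3, 18, 17, 4, 13, 19, 10, 20, 7, 21, 11, 5, 15, 8, 14, 6, 16, 9, 22, 12, 23], [0, 1, 2, 3, 19, 5, 13, 16, 10, 18, 8, 20, 15, 6, 14, 12, 7, 17, 9, 4, 11, 22, 21, 23], [0, 1, 2, 3, 19, 14, 12, 8, 22, 10, 15, 4, 16, 21, 17, 9, 6, 5, 13, 11, 20, 18, 7, 23], [0, 1, 2, 3, 19,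 17, 9, 15, 18, 22, 16, 11, 8, 7, 5, 13, 21, 14, 12, 20, 4, 10, 6, 23], [0, 1, 2, 3, 20, 5, 8, 18, 6, 16, 13, 19, 21, 10, 14, 22, 9, 17, 7, 11, 4, 12, 15, 23], [0, 1, 2, 3, 20, 14, 22, 13, 12, 6, 21, 11, 18, 15, 17, 7, 10, 5, 8, 4, 19, 16, 9, 23], [0, 1, 2, 3, 20, 17, 7, 21, 16, 12, 18, 4, 13, 9, 5, 8, 15, 14, 22, 19, 11, 6, 10, 23], [0, 1, 2, 3, 21, 5, 16, 13, 9, 8, 18, 15, 20, 7, 14, 11, 6, 17, 10, 22, 12, 4, 19, 23], [0, 1, 2, 3, 21, 14, 11, 18, 4, 9, 20, 22, 13, 19, 17, 10, 7, 5, 16, 12, 15, 8, 6, 23], [0, 1, 2, 3, 21, 17, 10, 20, 8, 4, 13, 12, 18, 6, 5, 16, 19, 14, 11, 15, 22, 9, 7, 23], [0, 1, 2, 3, 22, 5, 7, 6, 18, 10, 9, 12, 11, 16, 14, 20, 13, 17, 8, 21, 15, 19, 4, 23], [0, 1, 2, 3, 22, 14, 20, 9, 19, 18, 11, 21, 6, 4, 17, 8, 16, 5, 7, 15, 12, 10, 13, 23], [0, 1, 2, 3, 22, 17, 8, 11, 10, 19, 6, 15, 9, 13, 5, 7, 4, 14, 20, 12, 21, 18, 16, 23]]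

theorem g5Tabs_sub : ∀ l ∈ g5Tabs, l ∈ slpTabs g5Prog m24InitTabs := by decide +kernel

theorem g5Tabs_fix : ∀ l ∈ g5Tabs, ∀ b ∈ base5, l.getD b 0 = b := by decide +kernel

theorem goodTabs_g5M : GoodTabs M24 g5Tabs :=
  (goodTabs_slp g5Prog _ (goodTabs_init M24 shift_mem projInv_mem cubeTwist_mem)).subset g5Tabs_sub

theorem goodTabs_g5 : GoodTabs G5 g5Tabs :=
  goodTabs_g5M.stabL base5 (by decide) g5Tabs_fix

theorem g5_targets_bool : (List.range 24).all (fun q5 => (List.range 24).all (fun q4 =>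
    !(baseOct.testBit q5) || base5.contains q5 || baseOct.testBit q4 ||
      g5Tabs.any (fun l => Nat.beq (l.getD 5 0) q5 && Nat.beq (l.getD 4 0) q4))) = true := by
  decide +kernel

theorem g5_targets : ∀ q5 < 24, ∀ q4 < 24, baseOct.testBit q5 = true → q5 ∉ base5 →
    baseOct.testBit q4 = false → ∃ l ∈ g5Tabs, l.getD 5 0 = q5 ∧ l.getD 4 0 = q4 := by
  intro q5 h5 q4 h4 a1 a2 a3
  have h := List.all_eq_true.mp g5_targets_bool q5 (List.mem_range.mpr h5)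
  have h' := List.all_eq_true.mp h q4 (List.mem_range.mpr h4)
  simp only [a1, a3, Bool.not_true, Bool.false_or, Bool.or_false, Bool.or_eq_true,
    List.contains_iff_mem, List.any_eq_true, Bool.and_eq_true, Nat.beq_eq] at h'
  rcases h' with h' | h'
  · exact absurd h' a2
  · exact h'

theorem mem_ofMask' (n : ℕ) (p : GolayPt) : p ∈ ofMask n ↔ n.testBit (idx p) = true := by
  simp [ofMask]

theorem g5_smul_baseOct {g : Equiv.Perm GolayPt} (hg : g ∈ G5) :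
    g • ofMask baseOct = ofMask baseOct := by
  rw [mem_stabL] at hg
  exact smul_baseOct hg.1 hg.2

theorem g5_apply_mem {g : Equiv.Perm GolayPt} (hg : g ∈ G5) (p : GolayPt) :
    g p ∈ ofMask baseOct ↔ p ∈ ofMask baseOct := by
  have h := g5_smul_baseOct hg
  constructor
  · intro hp
    rw [← h, smul_finset_eq, Finset.mem_image] at hp
    obtain ⟨q, hq, hgq⟩ := hp
    rwa [← g.injective hgq]
  · intro hp
    rw [← h, smul_finset_eq]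
    exact Finset.mem_image_of_mem _ hp

/-- Every element of the five-point stabiliser is tabulated in `g5Tabs`. -/
theorem g5_elem {g : Equiv.Perm GolayPt} (hg : g ∈ G5) : ∃ l ∈ g5Tabs, Tab g l := by
  have hg' := hg
  rw [mem_stabL] at hg'
  have h5 : g (pt 5) ∈ ofMask baseOct := (g5_apply_mem hg _).mpr (by decide +kernel)
  have h5' : g (pt 5) ∉ base5.map pt := not_mem_of_fix hg'.2 (by decide)
  have h4 : g (pt 4) ∉ ofMask baseOct := fun h => by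
    have := (g5_apply_mem hg _).mp h
    revert this
    decide +kernel
  rw [mem_ofMask'] at h5 h4
  have h5'' : idx (g (pt 5)) ∉ base5 := by
    intro h
    apply h5'
    have := List.mem_map_of_mem (f := pt) h
    rwa [pt_idx] at this
  obtain ⟨l, hl, hl5, hl4⟩ := g5_targets (idx (g (pt 5))) (idx_lt _) (idx (g (pt 4))) (idx_lt _) h5
    h5'' (by simpa using h4)
  obtain ⟨σ, hσ, ht, _⟩ := goodTabs_g5 l hl
  refine ⟨l, hl, ?_⟩
  have hσ5 : σ (pt 5) = g (pt 5) := by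
    rw [ht.apply 5 (by norm_num), hl5, pt_idx]
  have hσ4 : σ (pt 4) = g (pt 4) := by
    rw [ht.apply 4 (by norm_num), hl4, pt_idx]
  have hmem : σ⁻¹ * g ∈ stabL M24 ([23, 0, 1, 2, 3, 5, 4].map pt) := by
    have hσ' := hσ
    rw [mem_stabL] at hσ'
    rw [mem_stabL]
    refine ⟨M24.mul_mem (M24.inv_mem hσ'.1) hg'.1, ?_⟩
    intro p hp
    rw [Equiv.Perm.mul_apply, Equiv.Perm.inv_eq_iff_eq]
    simp only [List.map_cons, List.map_nil, List.mem_cons, List.not_mem_nil, or_false] at hp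
    rcases hp with rfl | rfl | rfl | rfl | rfl | rfl | rfl
    · rw [hg'.2 _ (by decide), hσ'.2 _ (by decide)]
    · rw [hg'.2 _ (by decide), hσ'.2 _ (by decide)]
    · rw [hg'.2 _ (by decide), hσ'.2 _ (by decide)]
    · rw [hg'.2 _ (by decide), hσ'.2 _ (by decide)]
    · rw [hg'.2 _ (by decide), hσ'.2 _ (by decide)]
    · exact hσ5.symm
    · exact hσ4.symm
  rw [m24_stab7, Subgroup.mem_bot, inv_mul_eq_one] at hmem
  rw [← hmem]
  exact ht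

/-- Coset tool: an element of `M24` agreeing with `r` on the five base points is `r` times a
tabulated element. -/
theorem coset_elem {g r : Equiv.Perm GolayPt} {lr : List ℕ} (hg : g ∈ M24) (hr : r ∈ M24)
    (hlr : Tab r lr) (h : ∀ b ∈ base5, g (pt b) = r (pt b)) :
    ∃ l ∈ g5Tabs, Tab g (mulTab lr l) := by
  have hmem : r⁻¹ * g ∈ G5 := by
    rw [mem_G5]
    refine ⟨M24.mul_mem (M24.inv_mem hr) hg, fun b hb => ?_⟩
    rw [Equiv.Perm.mul_apply, h b hb]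
    simp
  obtain ⟨l, hl, ht⟩ := g5_elem hmem
  obtain ⟨_, _, _, hlen⟩ := goodTabs_g5 l hl
  refine ⟨l, hl, ?_⟩
  have := hlr.mul ht hlen
  rwa [mul_inv_cancel_left] at this

end Cfsg.Agent.Helper92
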