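import Cfsg.Agent.Lib.Helper92.J1Sym

/-! Block 1 of the whole-group check for the Janko group. -/

set_option autoImplicit false

namespace Cfsg.Agent.Helper92.J1Out

set_option maxHeartbeats 0 in
theorem chk_block_b : chkBlock 1 = true := by decide +kernel

end Cfsg.Agent.Helper92.J1Out
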