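import Cfsg.Agent.Lib.Helper92.J1Chk_a
import Cfsg.Agent.Lib.Helper92.J1Chk_b
import Cfsg.Agent.Lib.Helper92.J1Chk_c
import Cfsg.Agent.Lib.Helper92.J1Chk_d

/-! The whole-group check for the Janko group, assembled. -/

set_option autoImplicit false

namespace Cfsg.Agent.Helper92.J1Out
open Cfsg.Agent.Helper72.J1

theorem chk_of_block {s : ℕ} (h : chkBlock s = true) {j k : ℕ} (hj : j < 165) (hk : k < 266) :
    chk (T1.getD k 0) (U (j + 165 * s)) = true :=
  List.all_eq_true.mp (List.all_eq_true.mp h j (List.mem_range.mpr hj)) k (List.mem_range.mpr hk)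

theorem main_chk {k j : ℕ} (hk : k < 266) (hj : j < 660) : chk (T1.getD k 0) (U j) = true := by
  have h4 : j / 165 < 4 := by omega
  have e : j = j % 165 + 165 * (j / 165) := by omega
  have hm : j % 165 < 165 := Nat.mod_lt _ (by norm_num)
  rw [e]
  generalize j % 165 = r at hm
  generalize j / 165 = s at h4
  interval_cases s
  · exact chk_of_block chk_block_a hm hk
  · exact chk_of_block chk_block_b hm hk
  · exact chk_of_block chk_block_c hm hk
  · exact chk_of_block chk_block_d hm hk

end Cfsg.Agent.Helper92.J1Out
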