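import Cfsg.Agent.Lib.Helper92.J1All
import Cfsg.Prelude.Def_KGroupFacts

/-!
# Every automorphism of the Janko group `J₁` is inner
-/

set_option autoImplicit false

namespace Cfsg.Agent.Helper92.J1Out
open Cfsg Cfsg.Spor Cfsg.Agent.Helper72.J1

/-! ### Explicit elements -/

/-- The chosen involution, as a word in the generators. -/
def zW : GL (Fin 7) (ZMod 11) :=
  jankoY * jankoX * jankoY * jankoX * jankoY * jankoX ^ 5 * jankoY * jankoX ^ 6 * jankoY ^ 4 *
    jankoX * jankoY ^ 4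

/-- Code of the chosen involution. -/
def zE : ℕ := 175118249819019790891209957245136967550073763938069

set_option maxHeartbeats 0 in
theorem rep_z : Rep zW zE :=
  ((((((((((rep_y.mul rep_x).mul rep_y).mul rep_x).mul rep_y).mul (rep_x.pow 5)).mul rep_y).mul
    (rep_x.pow 6)).mul (rep_y.pow 4)).mul rep_x).mul (rep_y.pow 4)).congr (by decide +kernel)

/-- An element normalising `⟨X⟩`, as a word in the generators. -/
def nuW : GL (Fin 7) (ZMod 11) :=
  jankoY * jankoX * jankoY * jankoX * jankoY ^ 2 * jankoX * jankoY ^ 4 * jankoX ^ 6 * jankoY ^ 4 *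
    jankoX ^ 2 * jankoY ^ 4 * jankoX * jankoY ^ 3

/-- Code of the normalising element. -/
def nuE : ℕ := 179027532650089564806048376162019253350041892672627

set_option maxHeartbeats 0 in
theorem rep_nu : Rep nuW nuE :=
  ((((((((((((rep_y.mul rep_x).mul rep_y).mul rep_x).mul (rep_y.pow 2)).mul rep_x).mul
    (rep_y.pow 4)).mul (rep_x.pow 6)).mul (rep_y.pow 4)).mul (rep_x.pow 2)).mul (rep_y.pow 4)).mul
    rep_x).mul (rep_y.pow 3)).congr (by decide +kernel)

theorem nu_conj : nuW * jankoX * nuW⁻¹ = jankoX ^ 3 :=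
  (Rep.conj rep_nu rep_x (f := x3E) (by decide +kernel)).eq ((rep_x.pow 3).congr x3E_eq)

theorem z_sq : zW * zW = 1 := (rep_z.mul rep_z).eq (rep_one.congr (by decide +kernel))

theorem z_rel3 : (jankoX * zW) ^ 3 = 1 :=
  ((rep_x.mul rep_z).pow 3).eq (rep_one.congr (by decide +kernel))

set_option maxHeartbeats 0 in
theorem z_rel19 : (jankoX ^ 3 * zW) ^ 19 = 1 :=
  (((rep_x.pow 3).mul rep_z).pow 19).eq (rep_one.congr (by decide +kernel))

set_option maxHeartbeats 0 in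
theorem y_word : jankoX * zW * jankoX ^ 4 * zW * jankoX ^ 3 * zW * jankoX ^ 5 * zW * jankoX ^ 3 * zW *
    jankoX ^ 3 * zW * jankoX ^ 5 * zW * jankoX ^ 3 * zW * jankoX ^ 4 * zW = jankoY :=
  ((((((((((((((((((rep_x.mul rep_z).mul (rep_x.pow 4)).mul rep_z).mul (rep_x.pow 3)).mul rep_z).mul
    (rep_x.pow 5)).mul rep_z).mul (rep_x.pow 3)).mul rep_z).mul (rep_x.pow 3)).mul rep_z).mul
    (rep_x.pow 5)).mul rep_z).mul (rep_x.pow 3)).mul rep_z).mul (rep_x.pow 4)).mul rep_z).congr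
    (by decide +kernel)).eq rep_y

set_option maxHeartbeats 0 in
theorem conj_codes : (List.range 7).all (fun i =>
    mulE (powE xE i) zE == mulE (conjs.getD i 0) (powE xE i)) = true := by decide +kernel

theorem rep_conj {i : ℕ} (hi : i < 7) :
    Rep (jankoX ^ i * zW * (jankoX ^ i)⁻¹) (conjs.getD i 0) := by
  apply Rep.conj (rep_x.pow i) rep_z
  have := List.all_eq_true.mp conj_codes i (List.mem_range.mpr hi)
  exact beq_iff_eq.mp this

/-- An involution of `J₁` satisfying the two relations with `X` is one of the seven conjugates of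
the chosen involution under the powers of `X`. -/
theorem key {W : GL (Fin 7) (ZMod 11)} (hW : W ∈ G) (hsq : W * W = 1)
    (h3 : (jankoX * W) ^ 3 = 1) (h19 : (jankoX ^ 3 * W) ^ 19 = 1) :
    ∃ i < 7, W = jankoX ^ i * zW * (jankoX ^ i)⁻¹ := by
  obtain ⟨k, hk, j, hj, e⟩ := exists_code hW
  have hc := main_chk hk hj
  have hsym : (dec (mulE (T1.getD k 0) (U j))).transpose = dec (mulE (T1.getD k 0) (U j)) := by
    rw [← e]
    exact symm_of_sq hW hsq
  rw [chk, symT_of_symm hsym] at hc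
  simp only [Bool.not_true, Bool.false_or] at hc
  generalize mulE (T1.getD k 0) (U j) = w at e hc
  have hx : (jankoX : Mat) = dec xE := rep_x.2
  have r3 : neqE (rel3 w) idE = false := by
    apply neqE_of_dec_eq
    rw [dec_rel3, dec_idE, ← e, ← hx, ← Units.val_mul, ← Units.val_pow_eq_pow_val, h3,
      Units.val_one]
  have r19 : neqE (rel19 w) idE = false := by
    apply neqE_of_dec_eq
    rw [dec_rel19, dec_idE, ← e, ← hx, ← Units.val_pow_eq_pow_val, ← Units.val_mul,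
      ← Units.val_pow_eq_pow_val, h19, Units.val_one]
  rw [full, r3, r19] at hc
  simp only [Bool.false_or] at hc
  obtain ⟨i, hi, hci⟩ := List.any_eq_true.mp hc
  rw [List.mem_range] at hi
  refine ⟨i, hi, ?_⟩
  have hdec : dec w = dec (conjs.getD i 0) := dec_eq_of_neqE (by simpa using hci)
  have hrep := rep_conj hi
  exact Units.ext (by rw [e, hdec, hrep.2])

/-! ### The abstract group -/

abbrev Γ : Type := ↥G

def X : Γ := ⟨jankoX, x_mem⟩
def Yg : Γ := ⟨jankoY, y_mem⟩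
def Z : Γ := ⟨zW, rep_z.1⟩
def N : Γ := ⟨nuW, rep_nu.1⟩

theorem closure_XZ : Subgroup.closure ({X, Z} : Set Γ) = ⊤ := by
  rw [eq_top_iff, ← closure_xy, Subgroup.closure_le]
  have hX : X ∈ Subgroup.closure ({X, Z} : Set Γ) := Subgroup.subset_closure (by simp)
  have hZ : Z ∈ Subgroup.closure ({X, Z} : Set Γ) := Subgroup.subset_closure (by simp)
  intro g hg
  rcases hg with rfl | rfl
  · exact hX
  · have e : (⟨jankoY, y_mem⟩ : Γ) = X * Z * X ^ 4 * Z * X ^ 3 * Z * X ^ 5 * Z * X ^ 3 * Z *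
        X ^ 3 * Z * X ^ 5 * Z * X ^ 3 * Z * X ^ 4 * Z := Subtype.ext y_word.symm
    rw [e]
    have mz : ∀ {a : Γ}, a ∈ Subgroup.closure ({X, Z} : Set Γ) →
        a * Z ∈ Subgroup.closure ({X, Z} : Set Γ) := fun h => Subgroup.mul_mem _ h hZ
    have mx : ∀ {a : Γ} (n : ℕ), a ∈ Subgroup.closure ({X, Z} : Set Γ) →
        a * X ^ n ∈ Subgroup.closure ({X, Z} : Set Γ) :=
      fun n h => Subgroup.mul_mem _ h (Subgroup.pow_mem _ hX n)
    exact mz (mx 4 (mz (mx 3 (mz (mx 5 (mz (mx 3 (mz (mx 3 (mz (mx 5 (mz (mx 3 (mz (mx 4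
      (mz hX))))))))))))))))

theorem X_pow7 : X ^ 7 = 1 := Subtype.ext x_pow

theorem X_ne_one : X ≠ 1 := fun h => x_ne (congrArg Subtype.val h)

theorem orderOf_X : orderOf X = 7 := by
  have : Fact (Nat.Prime 7) := ⟨by norm_num⟩
  exact orderOf_eq_prime X_pow7 X_ne_one

theorem Z_sq : Z * Z = 1 := Subtype.ext z_sq

theorem rel3_XZ : (X * Z) ^ 3 = 1 := Subtype.ext z_rel3

theorem rel19_XZ : (X ^ 3 * Z) ^ 19 = 1 := Subtype.ext z_rel19

theorem N_conj : N * X * N⁻¹ = X ^ 3 := Subtype.ext nu_conj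

/-! ### Inner automorphisms -/

/-- The automorphism is inner. -/
def Inner (φ : Γ ≃* Γ) : Prop := ∃ g : Γ, ∀ t, φ t = g * t * g⁻¹

/-- Follow an automorphism by a conjugation. -/
def tw (a : Γ) (φ : Γ ≃* Γ) : Γ ≃* Γ := φ.trans (MulAut.conj a)

theorem tw_apply (a : Γ) (φ : Γ ≃* Γ) (t : Γ) : tw a φ t = a * φ t * a⁻¹ := rfl

theorem inner_of_tw (a : Γ) (φ : Γ ≃* Γ) (h : Inner (tw a φ)) : Inner φ := by
  obtain ⟨g, hg⟩ := h
  refine ⟨a⁻¹ * g, fun t => ?_⟩
  have := hg t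
  rw [tw_apply] at this
  have h2 : φ t = a⁻¹ * (g * t * g⁻¹) * a := by rw [← this]; group
  rw [h2]; group

/-- An automorphism fixing the element of order seven is inner. -/
theorem inner_of_fixX (φ : Γ ≃* Γ) (hX : φ X = X) : Inner φ := by
  have hsq : φ Z * φ Z = 1 := by rw [← map_mul, Z_sq, map_one]
  have hsq' : (φ Z).1 * (φ Z).1 = 1 := congrArg Subtype.val hsq
  have hr1 : (X * φ Z) ^ 3 = 1 := by
    have := congrArg φ rel3_XZ
    simpa only [map_pow, map_mul, map_one, hX] using this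
  have hr2 : (X ^ 3 * φ Z) ^ 19 = 1 := by
    have := congrArg φ rel19_XZ
    simpa only [map_pow, map_mul, map_one, hX] using this
  have hr1' : (jankoX * (φ Z).1) ^ 3 = 1 := congrArg Subtype.val hr1
  have hr2' : (jankoX ^ 3 * (φ Z).1) ^ 19 = 1 := congrArg Subtype.val hr2
  obtain ⟨i, -, hi⟩ := key (φ Z).2 hsq' hr1' hr2'
  have hZ : φ Z = X ^ i * Z * (X ^ i)⁻¹ := Subtype.ext hi
  refine ⟨X ^ i, fun t => ?_⟩
  have h : φ.toMonoidHom = (MulAut.conj (X ^ i)).toMonoidHom :=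
    MonoidHom.eq_of_eqOn_dense closure_XZ (by
      intro t ht
      rcases ht with rfl | rfl
      · show φ X = X ^ i * X * (X ^ i)⁻¹
        rw [hX]; group
      · exact hZ)
  have h2 := congrArg (fun f : Γ →* Γ => f t) h
  exact h2

theorem inner_of_pow (φ : Γ ≃* Γ) (m : ℕ) (hX : φ X = X ^ m) : Inner φ := by
  have hνj : ∀ j : ℕ, N ^ j * X * (N ^ j)⁻¹ = X ^ (3 ^ j) := by
    intro j
    induction j with
    | zero => simp
    | succ j ih =>
      have : N ^ (j + 1) * X * (N ^ (j + 1))⁻¹ = N * (N ^ j * X * (N ^ j)⁻¹) * N⁻¹ := by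
        rw [pow_succ']; group
      rw [this, ih, ← conj_pow, N_conj, ← pow_mul, pow_succ']
  have hm0 : m % 7 ≠ 0 := by
    intro h
    have h1 : X ^ m = 1 := by
      rw [← pow_mod_orderOf, orderOf_X, h, pow_zero]
    rw [h1] at hX
    have : φ X = φ 1 := by rw [hX, map_one]
    exact X_ne_one (φ.injective this)
  have hdec : ∀ m < 7, m ≠ 0 → ∃ j < 6, (3 ^ j * m) % 7 = 1 := by
    decide
  obtain ⟨j, _, hj⟩ := hdec (m % 7) (Nat.mod_lt _ (by norm_num)) hm0
  have e : (3 ^ j * m) % 7 = (3 ^ j * (m % 7)) % 7 := by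
    rw [Nat.mul_mod, Nat.mul_mod (3 ^ j) (m % 7), Nat.mod_mod]
  rw [← e] at hj
  apply inner_of_tw (N ^ j) φ
  apply inner_of_fixX
  have h1 : tw (N ^ j) φ X = X ^ ((3 ^ j * m) % 7) := by
    have h7 := pow_mod_orderOf X (3 ^ j * m)
    rw [orderOf_X] at h7
    rw [tw_apply, hX, ← conj_pow, hνj j, ← pow_mul, h7]
  rw [h1, hj, pow_one]

theorem card_Γ : Nat.card Γ = 175560 := card_G

theorem exists_sylow (t : Γ) (ht : orderOf t = 7) :
    ∃ Q : Sylow 7 Γ, (Q : Subgroup Γ) = Subgroup.zpowers t := by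
  have : Fact (Nat.Prime 7) := ⟨by norm_num⟩
  have hP : IsPGroup 7 (Subgroup.zpowers t) :=
    IsPGroup.of_card (n := 1) (by rw [Nat.card_zpowers, ht]; rfl)
  obtain ⟨Q, hQ⟩ := hP.exists_le_sylow
  refine ⟨Q, ?_⟩
  obtain ⟨n, hn⟩ := IsPGroup.iff_card.mp Q.isPGroup'
  have h1 : Nat.card (Q : Subgroup Γ) ∣ 175560 := by
    rw [← card_Γ]
    exact Subgroup.card_subgroup_dvd_card _
  have h2 : 7 ∣ Nat.card (Q : Subgroup Γ) := by
    have := Subgroup.card_dvd_of_le hQ
    rwa [Nat.card_zpowers, ht] at this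
  have hn1 : n = 1 := by
    rw [hn] at h1 h2
    have hn0 : n ≠ 0 := by
      rintro rfl
      norm_num at h2
    have hn2 : n < 2 := by
      by_contra hcon
      push Not at hcon
      have : 7 ^ 2 ∣ 175560 := (pow_dvd_pow 7 hcon).trans h1
      norm_num at this
    omega
  symm
  apply Subgroup.eq_of_le_of_card_ge hQ
  rw [hn, hn1, Nat.card_zpowers, ht]
  norm_num

theorem all_inner (φ : Γ ≃* Γ) : Inner φ := by
  have : Fact (Nat.Prime 7) := ⟨by norm_num⟩
  obtain ⟨Q, hQ⟩ := exists_sylow X orderOf_X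
  obtain ⟨Q', hQ'⟩ := exists_sylow (φ X) (by rw [MulEquiv.orderOf_eq, orderOf_X])
  obtain ⟨g, hg⟩ := MulAction.exists_smul_eq Γ Q' Q
  have hmem : φ X ∈ (Q' : Subgroup Γ) := by rw [hQ']; exact Subgroup.mem_zpowers _
  have h2 := Subgroup.smul_mem_pointwise_smul (φ X) (MulAut.conj g) (Q' : Subgroup Γ) hmem
  rw [← Sylow.coe_subgroup_smul, hg, hQ, MulAut.smul_def, MulAut.conj_apply,
    Subgroup.mem_zpowers_iff] at h2
  obtain ⟨k, hk⟩ := h2
  apply inner_of_tw g φ
  apply inner_of_pow _ (k % 7).toNat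
  rw [tw_apply, ← hk, ← zpow_natCast, Int.toNat_of_nonneg (Int.emod_nonneg _ (by norm_num))]
  have := zpow_mod_orderOf X k
  rw [orderOf_X] at this
  exact this.symm

theorem mem_inn_iff (φ : MulAut Γ) : φ ∈ Cfsg.Inn Γ ↔ Inner φ := by
  constructor
  · rintro ⟨g, rfl⟩
    exact ⟨g, fun t => rfl⟩
  · rintro ⟨g, hg⟩
    exact ⟨g, MulEquiv.ext (fun t => by rw [MulAut.conj_apply, hg])⟩

/-- The outer automorphism group of `J₁` is trivial. -/
theorem card_out : Nat.card (Cfsg.Out Γ) = 1 := by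
  show (Cfsg.Inn Γ).index = 1
  rw [Subgroup.index_eq_one, eq_top_iff]
  intro φ _
  exact (mem_inn_iff φ).mpr (all_inner φ)

end Cfsg.Agent.Helper92.J1Out
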