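import Cfsg.Agent.Lib.Helper72.J1Elts

/-!
# The Janko group `J₁`: a whole-group check on involutions

Every element of `J₁ = ⟨X, Y⟩ ≤ GL₇(11)` is orthogonal, so an involution is a symmetric matrix.
Running over the `266 × 660` products of coset representatives (Helper72's chain), we test the
symmetry of a few entries, and for the survivors the relations `(X W)^3 = 1`, `(X^3 W)^19 = 1`.
-/

set_option autoImplicit false

namespace Cfsg.Agent.Helper92.J1Out
open Cfsg Cfsg.Spor Cfsg.Agent.Helper72.J1

/-! ### Orthogonality -/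

theorem val_inv_X : ((jankoX⁻¹ : GL (Fin 7) (ZMod 11)) : Mat) = (jankoX : Mat).transpose := rfl
theorem val_inv_Y : ((jankoY⁻¹ : GL (Fin 7) (ZMod 11)) : Mat) = (jankoY : Mat).transpose := rfl

theorem orth : ∀ g ∈ G, ((g⁻¹ : GL (Fin 7) (ZMod 11)) : Mat) = (g : Mat).transpose := by
  intro g hg
  induction hg using Subgroup.closure_induction with
  | mem g hg =>
    rcases hg with rfl | rfl
    · exact val_inv_X
    · exact val_inv_Y
  | one => simp
  | mul a b _ _ ha hb =>
    rw [mul_inv_rev, Units.val_mul, Units.val_mul, Matrix.transpose_mul, ha, hb]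
  | inv a _ ha =>
    rw [inv_inv, ha, Matrix.transpose_transpose]

theorem symm_of_sq {W : GL (Fin 7) (ZMod 11)} (hW : W ∈ G) (hsq : W * W = 1) :
    (W : Mat).transpose = (W : Mat) := by
  rw [← orth W hW, inv_eq_of_mul_eq_one_left hsq]

/-! ### Codes -/

/-- The code of the product of the `j`-th pair of inner coset representatives. -/
def U (j : ℕ) : ℕ := mulE (T2.getD (j / 55) 0) (T3.getD (j % 55) 0)

theorem exists_code {g : GL (Fin 7) (ZMod 11)} (hg : g ∈ G) :
    ∃ k < 266, ∃ j < 660, (g : Mat) = dec (mulE (T1.getD k 0) (U j)) := by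
  obtain ⟨k, hk, l, hl, e1⟩ := L1_cover _ (val_mem_L1 g hg)
  obtain ⟨a, ha, l', hl', e2⟩ := L2_cover l hl
  obtain ⟨m, hm, e3⟩ := L3_eq_T3 l' hl'
  refine ⟨k, hk, a * 55 + m, by omega, ?_⟩
  have h1 : (a * 55 + m) / 55 = a := by omega
  have h2 : (a * 55 + m) % 55 = m := by omega
  rw [U, h1, h2, dec_mulE, dec_mulE, e1, e2, e3]

/-- An entry of the product of two encoded matrices. -/
def ent (t u i j : ℕ) : ℕ := mulCoef t u i j % 11

theorem ent_eq (t u : ℕ) (i j : Fin 7) :
    dec (mulE t u) i j = ((ent t u i.val j.val : ℕ) : ZMod 11) := by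
  rw [dec_apply, dg_mulE t u i.val j.val i.2 j.2, ent]

theorem ent_lt (t u i j : ℕ) : ent t u i j < 11 := Nat.mod_lt _ (by norm_num)

theorem ent_symm {t u : ℕ} (h : (dec (mulE t u)).transpose = dec (mulE t u)) (i j : Fin 7) :
    ent t u i.val j.val = ent t u j.val i.val := by
  have h1 : dec (mulE t u) j i = dec (mulE t u) i j := by
    conv_rhs => rw [← h]
    rfl
  rw [ent_eq, ent_eq] at h1
  have h3 := (ZMod.natCast_eq_natCast_iff' _ _ _).1 h1
  rw [Nat.mod_eq_of_lt (ent_lt _ _ _ _), Nat.mod_eq_of_lt (ent_lt _ _ _ _)] at h3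
  exact h3.symm

/-- Symmetry test on five pairs of entries. -/
def symT (t u : ℕ) : Bool :=
  (ent t u 0 1 == ent t u 1 0) && ((ent t u 0 2 == ent t u 2 0) && ((ent t u 1 2 == ent t u 2 1) &&
    ((ent t u 0 3 == ent t u 3 0) && (ent t u 1 3 == ent t u 3 1))))

theorem symT_of_symm {t u : ℕ} (h : (dec (mulE t u)).transpose = dec (mulE t u)) :
    symT t u = true := by
  have e01 := ent_symm h 0 1
  have e02 := ent_symm h 0 2
  have e12 := ent_symm h 1 2
  have e03 := ent_symm h 0 3
  have e13 := ent_symm h 1 3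
  simp only [Fin.val_zero, Fin.val_one, Fin.val_two] at e01 e02 e12 e03 e13
  have v3 : ((3 : Fin 7) : ℕ) = 3 := rfl
  rw [v3] at e03 e13
  simp only [symT, e01, e02, e12, e03, e13, beq_self_eq_true, Bool.and_self]

/-! ### Equality of codes -/

theorem dec_eq_of_neqE {a b : ℕ} (h : neqE a b = false) : dec a = dec b := by
  unfold neqE at h
  rw [List.any_eq_false] at h
  ext i j
  rw [dec_apply, dec_apply]
  have := h (7 * i.val + j.val) (List.mem_range.2 (by have := i.2; have := j.2; omega))
  simp only [bne_iff_ne, ne_eq, not_not] at this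
  rw [this]

theorem neqE_of_dec_eq {a b : ℕ} (h : dec a = dec b) : neqE a b = false := by
  by_contra hc
  rw [Bool.not_eq_false] at hc
  exact dec_ne_of_neqE hc h

/-! ### The relations -/

/-- Code of `X ^ 3`. -/
def x3E : ℕ := 6626407638649321794090863611900866200754845087

theorem x3E_eq : powE xE 3 = x3E := by decide +kernel

/-- Code of `(X W)^3`. -/
def rel3 (w : ℕ) : ℕ := mulE (mulE xE w) (mulE (mulE xE w) (mulE xE w))

/-- Code of `P ^ 19`. -/
def pow19 (p : ℕ) : ℕ :=
  mulE (mulE (mulE (mulE (mulE p p) (mulE p p)) (mulE (mulE p p) (mulE p p)))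
      (mulE (mulE (mulE p p) (mulE p p)) (mulE (mulE p p) (mulE p p))))
    (mulE (mulE p p) p)

/-- Code of `(X^3 W)^19`. -/
def rel19 (w : ℕ) : ℕ := pow19 (mulE x3E w)

theorem dec_rel3 (w : ℕ) : dec (rel3 w) = (dec xE * dec w) ^ 3 := by
  simp only [rel3, dec_mulE]
  rw [pow_succ, pow_two]
  simp only [mul_assoc]

theorem dec_pow19 (p : ℕ) : dec (pow19 p) = dec p ^ 19 := by
  simp only [pow19, dec_mulE]
  rw [← pow_two, ← pow_two, ← pow_mul, ← pow_two, ← pow_mul, ← pow_two, ← pow_mul,
    ← pow_succ, ← pow_add]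

theorem dec_rel19 (w : ℕ) : dec (rel19 w) = (dec xE ^ 3 * dec w) ^ 19 := by
  rw [rel19, dec_pow19, dec_mulE, ← x3E_eq, dec_powE]

/-- The seven conjugates of the chosen involution under the powers of `X`. -/
def conjs : List ℕ := [175118249819019790891209957245136967550073763938069,
  255204783614283827488746066144969993786103306752029,
  20562958755775652873614533044224241945279357014609,
  972975198835324234838482665599697826035743360278949,
  81157934886153502380215595451173679753875633597129,
  793074206789690996637815472075234225061411829689009,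
  76515007883331632079842084833416622056400317245329]

/-- The full test on a code. -/
def full (w : ℕ) : Bool :=
  neqE (rel3 w) idE || (neqE (rel19 w) idE || (List.range 7).any (fun i => !neqE w (conjs.getD i 0)))

/-- The test on a pair of codes. -/
def chk (t u : ℕ) : Bool := !symT t u || full (mulE t u)

/-- The test on a block of inner indices. -/
def chkBlock (s : ℕ) : Bool :=
  (List.range 165).all (fun j => (List.range 266).all (fun k => chk (T1.getD k 0) (U (j + 165 * s))))

end Cfsg.Agent.Helper92.J1Out
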