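import Mathlib
import Cfsg.Agent.Lib.Helper92.CoreIn
import Cfsg.Agent.Lib.Helper67.BaerSuzuki

set_option autoImplicit false

namespace Cfsg.Agent.Helper92
open Cfsg

section cjlemmas
variable {G : Type*} [Group G]

/-- conjugation -/
def cjg (h x : G) : G := h * x * h⁻¹

theorem cjg_mul (h x y : G) : cjg h (x * y) = cjg h x * cjg h y := by
  unfold cjg; group

theorem cjg_cjg (h k x : G) : cjg h (cjg k x) = cjg (h * k) x := by
  unfold cjg; group

theorem cjg_one (h : G) : cjg h 1 = 1 := by
  unfold cjg; group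

theorem cjg_inv (h x : G) : cjg h x⁻¹ = (cjg h x)⁻¹ := by
  unfold cjg; group

theorem cjg_of_comm {h x : G} (hc : h * x = x * h) : cjg h x = x := by
  unfold cjg; rw [hc]; group

theorem comm_of_cjg {h x : G} (hc : cjg h x = x) : h * x = x * h := by
  unfold cjg at hc
  calc h * x = h * x * h⁻¹ * h := by group
    _ = x * h := by rw [hc]

theorem cjg_eq_iff {h x y : G} : cjg h x = y ↔ x = cjg h⁻¹ y := by
  unfold cjg
  constructor
  · rintro rfl; group
  · rintro rfl; group

theorem cjg_injective (h : G) : Function.Injective (cjg h) := by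
  intro x y hxy
  unfold cjg at hxy
  exact mul_left_cancel (mul_right_cancel hxy)

theorem card_mul_relIndex {H K : Subgroup G} (hHK : H ≤ K) :
    Nat.card H * H.relIndex K = Nat.card K := by
  have := Subgroup.relIndex_mul_relIndex ⊥ H K bot_le hHK
  rwa [Subgroup.relIndex_bot_left, Subgroup.relIndex_bot_left] at this

end cjlemmas

section sylowin
variable {G : Type*} [Group G] [Finite G]

/-- Sylow subgroups of a subgroup, at the level of the ambient group -/
theorem exists_sylowIn {p : ℕ} [Fact p.Prime] {H X : Subgroup G} (hX : IsPGroup p X)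
    (hXH : X ≤ H) :
    ∃ S : Subgroup G, X ≤ S ∧ S ≤ H ∧ IsPGroup p S ∧
      Nat.card S = p ^ (Nat.card H).factorization p ∧
      ∀ N : Subgroup G, N ≤ H → IsPGroup p N → (∀ h ∈ H, ∀ a ∈ N, h * a * h⁻¹ ∈ N) → N ≤ S := by
  have hX' : IsPGroup p (X.subgroupOf H) := hX.comap_subtype
  obtain ⟨S, hS⟩ := hX'.exists_le_sylow
  refine ⟨(S : Subgroup ↥H).map H.subtype, ?_, Subgroup.map_subtype_le _, S.isPGroup'.map _, ?_, ?_⟩
  · intro a ha
    exact ⟨⟨a, hXH ha⟩, hS ha, rfl⟩
  · rw [Subgroup.card_map_of_injective (Subgroup.subtype_injective _)]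
    exact S.card_eq_multiplicity
  · intro N hNH hN hnorm a ha
    have hnormal : (N.subgroupOf H).Normal := by
      constructor
      intro a ha h
      exact hnorm h h.2 a ha
    have hp : IsPGroup p (N.subgroupOf H) := hN.comap_subtype
    have := Helper70.le_sylow_of_normal_isPGroup (N.subgroupOf H) hp S
    exact ⟨⟨a, hNH ha⟩, this ha, rfl⟩

end sylowin

end Cfsg.Agent.Helper92

namespace Cfsg.Agent.Helper92
open Cfsg

section main
variable {G : Type*} [Group G]

/-- the elements commuting with `z` and normalizing `{t, z t}`, for involutions `z`, `t` -/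
def pairStab (z t : G) (hz2 : z * z = 1) : Subgroup G where
  carrier := {h | cjg h z = z ∧ (cjg h t = t ∨ cjg h t = z * t)}
  one_mem' := by
    refine ⟨?_, Or.inl ?_⟩ <;> (unfold cjg; group)
  mul_mem' := by
    rintro h1 h2 ⟨a1, b1⟩ ⟨a2, b2⟩
    refine ⟨by rw [← cjg_cjg, a2, a1], ?_⟩
    rw [← cjg_cjg]
    rcases b2 with b2 | b2
    · rw [b2]; exact b1
    · rw [b2, cjg_mul, a1]
      rcases b1 with b1 | b1
      · right; rw [b1]
      · left; rw [b1, ← mul_assoc, hz2, one_mul]
  inv_mem' := by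
    rintro h ⟨a, b⟩
    have a' : cjg h⁻¹ z = z := (cjg_eq_iff.mp a).symm
    refine ⟨a', ?_⟩
    rcases b with b | b
    · left; exact (cjg_eq_iff.mp b).symm
    · right
      have := cjg_eq_iff.mp b
      rw [cjg_mul, a'] at this
      calc cjg h⁻¹ t = (z * z) * cjg h⁻¹ t := by rw [hz2, one_mul]
        _ = z * (z * cjg h⁻¹ t) := mul_assoc _ _ _
        _ = z * t := by rw [← this]

theorem mem_pairStab {z t : G} {hz2 : z * z = 1} {h : G} :
    h ∈ pairStab z t hz2 ↔ cjg h z = z ∧ (cjg h t = t ∨ cjg h t = z * t) := Iff.rfl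

theorem mem_centralizer_iff_cjg {t a : G} :
    a ∈ Subgroup.centralizer ({t} : Set G) ↔ cjg a t = t := by
  rw [Subgroup.mem_centralizer_singleton_iff]
  exact ⟨cjg_of_comm, comm_of_cjg⟩

end main

end Cfsg.Agent.Helper92
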