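import Mathlib
import Cfsg.Agent.Lib.Helper7.M11UDefs
import Cfsg.Agent.Lib.Helper92.M11UTool

/-!
# M11U (G1) `adj_iff` (helper7's lemma server, S0420): the 18 neighbours of `R` are the
`r • R2`, `r • R3` (`r ∈ R`), all distinct
-/

set_option autoImplicit false

namespace Cfsg.Agent.Helper92.M11U

open Subgroup Cfsg.Agent.Helper7.M11U
open scoped Pointwise

section Gr

variable {G : Type*} [Group G] [Finite G] {t : G} {R R2 R3 : Sylow 3 G}

/-- `r • P = R` with `r ∈ R` forces `P = R` -/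
theorem h92_smul_eq_self {R P : Sylow 3 G} {r : G} (hr : r ∈ (R : Subgroup G))
    (h : r • P = R) : P = R := by
  have h1 : r • R = R := Sylow.smul_eq_iff_mem_normalizer.mpr (Subgroup.le_normalizer hr)
  exact smul_left_cancel r (h.trans h1.symm)

/-- distinctness of the translates: `r • P = r' • P'` with `P, P'` inverted by `t`, `P ≠ R` forces `r = r'` -/
theorem h92_translate_inj (L : Loc G) {t : G} {R P P' : Sylow 3 G}
    (hR : Inverts t (R : Subgroup G)) (hP : Inverts t (P : Subgroup G))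
    (hP' : Inverts t (P' : Subgroup G)) (hne : P ≠ R) {r r' : G} (hr : r ∈ (R : Subgroup G))
    (hr' : r' ∈ (R : Subgroup G)) (h : r • P = r' • P') : r = r' := by
  have hu := h92_inverts_smul hP r
  have hu' := h92_inverts_smul hP' r'
  rw [← h] at hu'
  rw [h92_conj_eq hR hr (L.exp3 R r hr)] at hu
  rw [h92_conj_eq hR hr' (L.exp3 R r' hr')] at hu'
  have h1 := L.cent (r • P) _ (h92_inv_mul_mem_centralizer hu hu')
  have h2 : (t * r)⁻¹ * (t * r') = r⁻¹ * r' := by group
  rw [h2] at h1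
  have h3 : r⁻¹ * r' ∈ (R : Subgroup G) := (R : Subgroup G).mul_mem ((R : Subgroup G).inv_mem hr) hr'
  have h4 : R ≠ r • P := fun h5 => hne (h92_smul_eq_self hr h5.symm)
  have h5 := L.ti R (r • P) h4 _ h3 h1
  exact inv_mul_eq_one.mp h5

/-- (G1) the 18 neighbours of `R`. -/
theorem adj_iff (B : Base G) (L : Loc G) (T : Tri t R R2 R3) :
    (∀ X : Sylow 3 G, Adj R X ↔ ∃ r ∈ (R : Subgroup G), X = r • R2 ∨ X = r • R3) ∧
    (∀ r ∈ (R : Subgroup G), ∀ r' ∈ (R : Subgroup G), r • R2 ≠ r' • R3) ∧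
    (∀ r ∈ (R : Subgroup G), ∀ r' ∈ (R : Subgroup G), r • R2 = r' • R2 → r = r') := by
  refine ⟨fun X => ⟨?_, ?_⟩, ?_, ?_⟩
  · rintro ⟨hne, u, _, huR, huX⟩
    obtain ⟨c, hc, hcu⟩ := h92_exists_conj L T.i1 huR
    have h1 := h92_inverts_smul huX c⁻¹
    have h2 : c⁻¹ * u * c⁻¹⁻¹ = t := by rw [hcu]; group
    rw [h2] at h1
    refine ⟨c, hc, ?_⟩
    rcases h92_three_cases L T (c⁻¹ • X) h1 with h | h | h
    · exfalso
      rw [inv_smul_eq_iff] at h
      rw [Sylow.smul_eq_iff_mem_normalizer.mpr (Subgroup.le_normalizer hc)] at h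
      exact hne h.symm
    · exact Or.inl (inv_smul_eq_iff.mp h)
    · exact Or.inr (inv_smul_eq_iff.mp h)
  · rintro ⟨r, hr, h | h⟩
    · subst h
      refine ⟨fun h5 => T.ne12 (h92_smul_eq_self hr h5.symm).symm, r * t * r⁻¹, ?_, ?_, ?_⟩
      · rw [h92_orderOf_conj]; exact T.ht
      · exact h92_inverts_conj_of_mem_normalizer T.i1 (Subgroup.le_normalizer hr)
      · exact h92_inverts_smul T.i2 r
    · subst h
      refine ⟨fun h5 => T.ne13 (h92_smul_eq_self hr h5.symm).symm, r * t * r⁻¹, ?_, ?_, ?_⟩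
      · rw [h92_orderOf_conj]; exact T.ht
      · exact h92_inverts_conj_of_mem_normalizer T.i1 (Subgroup.le_normalizer hr)
      · exact h92_inverts_smul T.i3 r
  · intro r hr r' hr' h
    have h1 := h92_translate_inj L T.i1 T.i2 T.i3 T.ne12.symm hr hr' h
    subst h1
    exact T.ne23 (smul_left_cancel r h)
  · intro r hr r' hr' h
    exact h92_translate_inj L T.i1 T.i2 T.i2 T.ne12.symm hr hr' h

end Gr

end Cfsg.Agent.Helper92.M11U
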