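import Cfsg.Agent.Lib.Helper92.MultAbs9

/-!
# Stem extensions: no kernel of order three over a Sylow subgroup `3^{1+2}` whose generators
are inverted by an involution
-/

set_option autoImplicit false

namespace Cfsg.Agent.Helper92.Mult

open scoped Pointwise
open scoped commutatorElement

section P3main

variable {Γ G : Type*} [Group Γ] [Group G]

/-- the kernel of the restriction to the preimage of a subgroup is central when the kernel is
generated by a central element -/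
theorem ker_subgroupComap_le_center (σ : Γ →* G) (z : Γ) (hker : σ.ker = Subgroup.zpowers z)
    (hzc : ∀ g : Γ, g * z = z * g) (S : Subgroup G) :
    (σ.subgroupComap S).ker ≤ Subgroup.center ↥(S.comap σ) := by
  intro q hq
  rw [Subgroup.mem_center_iff]
  intro r
  have hq1 : σ (q : Γ) = 1 := by
    have := MonoidHom.mem_ker.1 hq
    exact congrArg Subtype.val this
  apply Subtype.ext
  exact ker_central σ z hker hzc _ hq1 _

open scoped IsMulCommutative in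
/-- The prime three: a subgroup `S₃ = ⟨x, y⟩` of index prime to `3`, with `[x, y]` central of
order three in it, `x³ = 1`, and an element `t` inverting `x` and `y`. -/
theorem false_of_extraspecial27 [Finite Γ] (σ : Γ →* G) (z : Γ)
    (hsurj : Function.Surjective σ) (hker : σ.ker = Subgroup.zpowers z) (hord : orderOf z = 3)
    (hzc : ∀ g : Γ, g * z = z * g) (hzcomm : z ∈ commutator Γ)
    (S₃ : Subgroup G) (x y t : G) (hx : x ∈ S₃) (hy : y ∈ S₃)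
    (hgen : S₃ ≤ Subgroup.closure {x, y}) (hidx : ¬ 3 ∣ S₃.index)
    (htx : x * (t * x * t⁻¹) = 1) (hty : y * (t * y * t⁻¹) = 1)
    (hc' : x⁻¹ * y⁻¹ * x * y = x * y * x⁻¹ * y⁻¹)
    (hcx : (x * y * x⁻¹ * y⁻¹) * x = x * (x * y * x⁻¹ * y⁻¹))
    (hcy : (x * y * x⁻¹ * y⁻¹) * y = y * (x * y * x⁻¹ * y⁻¹))
    (hx3 : x * x * x = 1)
    (hc1 : x * y * x⁻¹ * y⁻¹ ≠ 1) : False := by
  obtain ⟨X, hX⟩ := hsurj x
  obtain ⟨Y, hY⟩ := hsurj y
  obtain ⟨T, hT⟩ := hsurj t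
  have c := ker_central σ z hker hzc
  have hzk : σ z = 1 := by rw [← MonoidHom.mem_ker, hker]; exact Subgroup.mem_zpowers z
  -- `C` commutes with `X`
  have hCX : (X * Y * X⁻¹ * Y⁻¹) * X = X * (X * Y * X⁻¹ * Y⁻¹) := by
    apply comm_of_inverting σ z hker hord hzc X Y T
    · simp only [map_mul, map_inv, hX, hT]; exact htx
    · simp only [map_mul, map_inv, hY, hT]; exact hty
    · simp only [map_mul, map_inv, hX, hY]; rw [hc']; exact inv_mul_cancel _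
    · simp only [map_mul, map_inv, hX, hY]; rw [hcx]; group
  have hCY' : (Y * X * Y⁻¹ * X⁻¹) * Y = Y * (Y * X * Y⁻¹ * X⁻¹) := by
    apply comm_of_inverting σ z hker hord hzc Y X T
    · simp only [map_mul, map_inv, hY, hT]; exact hty
    · simp only [map_mul, map_inv, hX, hT]; exact htx
    · simp only [map_mul, map_inv, hX, hY]
      have e : (y * x * y⁻¹ * x⁻¹)⁻¹ * (y⁻¹ * x⁻¹ * y * x) =
          (x * y * x⁻¹ * y⁻¹) * (x⁻¹ * y⁻¹ * x * y)⁻¹ := by group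
      rw [e, hc', mul_inv_cancel]
    · simp only [map_mul, map_inv, hX, hY]
      have e : (y * x * y⁻¹ * x⁻¹) * y * (y * x * y⁻¹ * x⁻¹)⁻¹ * y⁻¹ =
          (x * y * x⁻¹ * y⁻¹)⁻¹ * (y * (x * y * x⁻¹ * y⁻¹)) * y⁻¹ := by group
      rw [e, ← hcy]; group
  have hCY : (X * Y * X⁻¹ * Y⁻¹) * Y = Y * (X * Y * X⁻¹ * Y⁻¹) := by
    have e : Y * X * Y⁻¹ * X⁻¹ = (X * Y * X⁻¹ * Y⁻¹)⁻¹ := by group
    rw [e] at hCY'
    calc (X * Y * X⁻¹ * Y⁻¹) * Y
        = (X * Y * X⁻¹ * Y⁻¹) * (Y * (X * Y * X⁻¹ * Y⁻¹)⁻¹) * (X * Y * X⁻¹ * Y⁻¹) := by group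
      _ = (X * Y * X⁻¹ * Y⁻¹) * ((X * Y * X⁻¹ * Y⁻¹)⁻¹ * Y) * (X * Y * X⁻¹ * Y⁻¹) := by
        rw [hCY']
      _ = Y * (X * Y * X⁻¹ * Y⁻¹) := by group
  -- `C³ = 1`
  have hX3 : σ (X * X * X) = 1 := by simp only [map_mul, hX]; exact hx3
  have hC3 : (X * Y * X⁻¹ * Y⁻¹) * (X * Y * X⁻¹ * Y⁻¹) * (X * Y * X⁻¹ * Y⁻¹) = 1 :=
    comm_cube X Y _ rfl hCX (c _ hX3 Y)
  have hσC : σ (X * Y * X⁻¹ * Y⁻¹) = x * y * x⁻¹ * y⁻¹ := by
    simp only [map_mul, map_inv, hX, hY]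
  -- the preimage of `S₃`
  have hzP : z ∈ S₃.comap σ := by show σ z ∈ S₃; rw [hzk]; exact S₃.one_mem
  have hXP : X ∈ S₃.comap σ := by show σ X ∈ S₃; rw [hX]; exact hx
  have hYP : Y ∈ S₃.comap σ := by show σ Y ∈ S₃; rw [hY]; exact hy
  have hKc := ker_subgroupComap_le_center σ z hker hzc S₃
  have e1 : (σ.subgroupComap S₃) ⟨X, hXP⟩ = ⟨x, hx⟩ := Subtype.ext hX
  have e2 : (σ.subgroupComap S₃) ⟨Y, hYP⟩ = ⟨y, hy⟩ := Subtype.ext hY
  have hgenP : Subgroup.closure {(⟨X, hXP⟩ : ↥(S₃.comap σ)), ⟨Y, hYP⟩} ⊔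
      (σ.subgroupComap S₃).ker = ⊤ := by
    apply Cfsg.Agent.Helper65.closure_lift_sup_ker
    rw [Set.image_pair, e1, e2, eq_top_iff]
    intro s _
    have hs := hgen s.2
    have hmap : Subgroup.closure {x, y} =
        (Subgroup.closure {(⟨x, hx⟩ : ↥S₃), ⟨y, hy⟩}).map S₃.subtype := by
      rw [MonoidHom.map_closure, Set.image_pair]; rfl
    rw [hmap] at hs
    obtain ⟨s', hs', hss⟩ := hs
    have : s' = s := Subtype.ext hss
    rw [← this]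
    exact hs'
  generalize hCdef : X * Y * X⁻¹ * Y⁻¹ = C at hCX hCY hC3 hσC
  -- `z` is not a power of `C`
  have hzC : z ∉ Subgroup.zpowers C := by
    intro hz
    obtain ⟨j, hj⟩ := Subgroup.mem_zpowers_iff.1 hz
    have h1 : (x * y * x⁻¹ * y⁻¹) ^ j = 1 := by rw [← hσC, ← map_zpow, hj, hzk]
    have hc3 : (x * y * x⁻¹ * y⁻¹) ^ 3 = 1 := by
      rw [← hσC, ← map_pow, pow_three', hC3, map_one]
    have hoc : orderOf (x * y * x⁻¹ * y⁻¹) = 3 := orderOf_eq_prime hc3 hc1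
    have hdvd : ((3 : ℕ) : ℤ) ∣ j := by
      rw [← hoc]
      exact orderOf_dvd_iff_zpow_eq_one.2 h1
    obtain ⟨m, rfl⟩ := hdvd
    have hC3' : C ^ ((3 : ℕ) : ℤ) = 1 := by rw [zpow_natCast, pow_three', hC3]
    have hz1 : z = 1 := by rw [← hj, zpow_mul, hC3', one_zpow]
    rw [hz1, orderOf_one] at hord
    omega
  -- the commutator subgroup of the preimage
  have hC₀X : (⟨X, hXP⟩ * ⟨Y, hYP⟩ * (⟨X, hXP⟩ : ↥(S₃.comap σ))⁻¹ * ⟨Y, hYP⟩⁻¹) * ⟨X, hXP⟩ =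
      (⟨X, hXP⟩ : ↥(S₃.comap σ)) * (⟨X, hXP⟩ * ⟨Y, hYP⟩ * ⟨X, hXP⟩⁻¹ * ⟨Y, hYP⟩⁻¹) :=
    Subtype.ext (by
      show (X * Y * X⁻¹ * Y⁻¹) * X = X * (X * Y * X⁻¹ * Y⁻¹)
      rw [hCdef]; exact hCX)
  have hC₀Y : (⟨X, hXP⟩ * ⟨Y, hYP⟩ * (⟨X, hXP⟩ : ↥(S₃.comap σ))⁻¹ * ⟨Y, hYP⟩⁻¹) * ⟨Y, hYP⟩ =
      (⟨Y, hYP⟩ : ↥(S₃.comap σ)) * (⟨X, hXP⟩ * ⟨Y, hYP⟩ * ⟨X, hXP⟩⁻¹ * ⟨Y, hYP⟩⁻¹) :=
    Subtype.ext (by
      show (X * Y * X⁻¹ * Y⁻¹) * Y = Y * (X * Y * X⁻¹ * Y⁻¹)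
      rw [hCdef]; exact hCY)
  have hC₀ : ((⟨X, hXP⟩ * ⟨Y, hYP⟩ * (⟨X, hXP⟩ : ↥(S₃.comap σ))⁻¹ * ⟨Y, hYP⟩⁻¹ :
      ↥(S₃.comap σ)) : Γ) = C := hCdef
  generalize hX₀ : (⟨X, hXP⟩ : ↥(S₃.comap σ)) = X₀ at hgenP hC₀X hC₀Y hC₀
  generalize hY₀ : (⟨Y, hYP⟩ : ↥(S₃.comap σ)) = Y₀ at hgenP hC₀X hC₀Y hC₀
  have hcomm₀ : ⁅X₀, Y₀⁆ = X₀ * Y₀ * X₀⁻¹ * Y₀⁻¹ := commutatorElement_def X₀ Y₀
  generalize hC₀def : X₀ * Y₀ * X₀⁻¹ * Y₀⁻¹ = C₀ at hC₀X hC₀Y hC₀ hcomm₀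
  have hcen : C₀ ∈ Subgroup.center ↥(S₃.comap σ) := by
    have hle : (⊤ : Subgroup ↥(S₃.comap σ)) ≤ Subgroup.centralizer {C₀} := by
      rw [← hgenP, sup_le_iff, Subgroup.closure_le]
      constructor
      · intro g hg
        rw [SetLike.mem_coe, Subgroup.mem_centralizer_iff]
        intro h hh
        rw [Set.mem_singleton_iff] at hh
        subst hh
        rcases hg with rfl | hg
        · exact hC₀X
        · rw [Set.mem_singleton_iff] at hg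
          subst hg
          exact hC₀Y
      · intro k hk
        rw [Subgroup.mem_centralizer_iff]
        intro h hh
        rw [Set.mem_singleton_iff] at hh
        subst hh
        exact Subgroup.mem_center_iff.1 (hKc hk) _
    rw [Subgroup.mem_center_iff]
    intro g
    have := hle (Subgroup.mem_top g)
    rw [Subgroup.mem_centralizer_iff] at this
    exact (this C₀ (Set.mem_singleton _)).symm
  have hnorm : (Subgroup.zpowers C₀).Normal := by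
    constructor
    intro w hw g
    have hwc : w ∈ Subgroup.center ↥(S₃.comap σ) := (Subgroup.zpowers_le.2 hcen) hw
    rw [Subgroup.mem_center_iff.1 hwc g, mul_inv_cancel_right]
    exact hw
  have hcommle : commutator ↥(S₃.comap σ) ≤ Subgroup.zpowers C₀ := by
    apply Cfsg.Agent.Helper65.commutator_le_of_generators _ hKc {X₀, Y₀} hgenP
    intro s hs t ht
    have hmem : ⁅X₀, Y₀⁆ ∈ Subgroup.zpowers C₀ := by
      rw [hcomm₀]; exact Subgroup.mem_zpowers C₀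
    rcases hs with rfl | hs <;> rcases ht with rfl | ht
    · rw [commutatorElement_self]; exact Subgroup.one_mem _
    · rw [Set.mem_singleton_iff] at ht
      subst ht
      exact hmem
    · rw [Set.mem_singleton_iff] at hs
      subst hs
      rw [← commutatorElement_inv]
      exact Subgroup.inv_mem _ hmem
    · rw [Set.mem_singleton_iff] at hs ht
      subst hs
      subst ht
      rw [commutatorElement_self]
      exact Subgroup.one_mem _
  -- the transfer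
  have h1 := transfer_kills (A := Abelianization ↥(S₃.comap σ)) (S₃.comap σ) Abelianization.of z
    hzc hzP hzcomm
  rw [Subgroup.index_comap_of_surjective S₃ hsurj] at h1
  have h3 : (Abelianization.of (⟨z, hzP⟩ : ↥(S₃.comap σ))) ^ 3 = 1 := by
    rw [← map_pow]
    have : (⟨z, hzP⟩ : ↥(S₃.comap σ)) ^ 3 = 1 :=
      Subtype.ext (by
        show z ^ 3 = 1
        rw [← hord]; exact pow_orderOf_eq_one z)
    rw [this, map_one]
  have hcop : Nat.Coprime 3 S₃.index := (Nat.Prime.coprime_iff_not_dvd Nat.prime_three).2 hidx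
  have h0 : Abelianization.of (⟨z, hzP⟩ : ↥(S₃.comap σ)) = 1 := by
    have hd1 := orderOf_dvd_of_pow_eq_one h1
    have hd3 := orderOf_dvd_of_pow_eq_one h3
    have := Nat.dvd_gcd hd3 hd1
    rw [hcop.gcd_eq_one, Nat.dvd_one] at this
    exact orderOf_eq_one_iff.1 this
  have hzc₀ : (⟨z, hzP⟩ : ↥(S₃.comap σ)) ∈ commutator ↥(S₃.comap σ) := by
    rw [← Abelianization.ker_of]; exact MonoidHom.mem_ker.2 h0
  obtain ⟨j, hj⟩ := Subgroup.mem_zpowers_iff.1 (hcommle hzc₀)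
  apply hzC
  rw [Subgroup.mem_zpowers_iff]
  refine ⟨j, ?_⟩
  have := congrArg Subtype.val hj
  rw [Subgroup.coe_zpow, hC₀] at this
  exact this

end P3main

end Cfsg.Agent.Helper92.Mult
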