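import Cfsg.Agent.Lib.Helper92.M12MultData
import Cfsg.Agent.Lib.Helper92.MultAbs10
import Cfsg.Agent.Lib.Helper88.M12Data
import Cfsg.Agent.Lib.Helper65.TabMeta

/-!
# The Schur multiplier of `M12`: the concrete input

A Sylow `2`-subgroup `S₂ = ⟨a, b, n, s⟩ = 4²:2²`, the classes of the involutions involved, a group of
order eight with four involutions of the first and three of the second class, a four-group of
fixed-point-free involutions and a Sylow `3`-subgroup `3^{1+2}` with an inverting involution.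
-/

set_option autoImplicit false

namespace Cfsg.Agent.Helper92.M12Mult

open Cfsg Cfsg.Agent.Helper7 Cfsg.Agent.Helper91
open Cfsg.Agent.Helper92.Mult
open Cfsg.Agent.Helper65.TabMeta
open Cfsg.Agent.Helper88.M12Data (goodTabs_M12 card_M12)

/-- the table is the table of an element of `M12` -/
def m12TabOK (l : List ℕ) : Bool := m24TabOK l && Nat.beq (pm l sqMask) sqMask

theorem goodTabs_M12_of_ok {L : List (List ℕ)} (h : L.all m12TabOK = true) :
    GoodTabs Spor.M12 L := by
  apply goodTabs_M12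
  · rw [List.all_eq_true] at h ⊢
    intro l hl
    have := h l hl
    rw [m12TabOK, Bool.and_eq_true] at this
    exact this.1
  · rw [List.all_eq_true] at h ⊢
    intro l hl
    have := h l hl
    rw [m12TabOK, Bool.and_eq_true] at this
    exact this.2

theorem exists_of_m12TabOK {l : List ℕ} (h : m12TabOK l = true) :
    ∃ σ ∈ Spor.M12, Tab σ l ∧ l.length = 24 := by
  have hg : GoodTabs Spor.M12 [l] := goodTabs_M12_of_ok (by
    rw [List.all_cons, h]; rfl)
  exact hg l (List.mem_singleton.2 rfl)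

/-- An element of `M12` together with its table. -/
structure TE where
  g : ↥Spor.M12
  l : List ℕ
  tab : Tab (g : Equiv.Perm GolayPt) l
  len : l.length = 24

/-- product of tabled elements -/
def TE.mul (p q : TE) : TE :=
  ⟨p.g * q.g, mulTab p.l q.l, p.tab.mul q.tab q.len, by rw [mulTab_length, q.len]⟩

/-- power of a tabled element -/
def TE.pow (p : TE) (k : ℕ) : TE :=
  ⟨p.g ^ k, powTab p.l k, by
    have := tab_pow p.tab p.len k
    rwa [← Subgroup.coe_pow] at this, powTab_length p.l p.len k⟩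

theorem TE.eq_of {p q : TE} (h : p.l = q.l) : p.g = q.g :=
  Subtype.ext (tab_unique p.tab (h ▸ q.tab))

theorem TE.eq_one {p : TE} (h : p.l = idTab) : p.g = 1 :=
  Subtype.ext (tab_unique p.tab (h ▸ tab_one))

theorem TE.ne_one {p : TE} (h : p.l ≠ idTab) : p.g ≠ 1 := by
  intro e
  apply h
  have : Tab (1 : Equiv.Perm GolayPt) p.l := by
    have := p.tab
    rwa [e] at this
  exact tab_list_unique this tab_one p.len rfl

/-- the tabled element of a good table -/
noncomputable def mk (l : List ℕ) (h : m12TabOK l = true) : TE :=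
  ⟨⟨Classical.choose (exists_of_m12TabOK h), (Classical.choose_spec (exists_of_m12TabOK h)).1⟩, l,
    (Classical.choose_spec (exists_of_m12TabOK h)).2.1,
    (Classical.choose_spec (exists_of_m12TabOK h)).2.2⟩

/-! ### The elements -/

theorem tA_ok : m12TabOK tA = true := by decide +kernel
theorem tB_ok : m12TabOK tB = true := by decide +kernel
theorem tN_ok : m12TabOK tN = true := by decide +kernel
theorem tS_ok : m12TabOK tS = true := by decide +kernel
theorem tTA_ok : m12TabOK tTA = true := by decide +kernel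
theorem tTB_ok : m12TabOK tTB = true := by decide +kernel
theorem tU_ok : m12TabOK tU = true := by decide +kernel
theorem tV_ok : m12TabOK tV = true := by decide +kernel
theorem tW_ok : m12TabOK tW = true := by decide +kernel
theorem tT1_ok : m12TabOK tT1 = true := by decide +kernel
theorem tT2_ok : m12TabOK tT2 = true := by decide +kernel
theorem tT3_ok : m12TabOK tT3 = true := by decide +kernel
theorem tXX_ok : m12TabOK tXX = true := by decide +kernel
theorem tYY_ok : m12TabOK tYY = true := by decide +kernel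

noncomputable def A : TE := mk tA tA_ok
noncomputable def B : TE := mk tB tB_ok
noncomputable def N : TE := mk tN tN_ok
noncomputable def S : TE := mk tS tS_ok
noncomputable def TA : TE := mk tTA tTA_ok
noncomputable def TB : TE := mk tTB tTB_ok
noncomputable def U : TE := mk tU tU_ok
noncomputable def V : TE := mk tV tV_ok
noncomputable def W : TE := mk tW tW_ok
noncomputable def T1 : TE := mk tT1 tT1_ok
noncomputable def T2 : TE := mk tT2 tT2_ok
noncomputable def T3 : TE := mk tT3 tT3_ok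
noncomputable def XX : TE := mk tXX tXX_ok
noncomputable def YY : TE := mk tYY tYY_ok

/-! ### The Sylow `2`-subgroup -/

def gensS : List (List ℕ) := [tS, tN, tA, tB, tAA, tBB]

theorem gensS_ok : gensS.all m12TabOK = true := by decide +kernel

theorem gensS_pc : pcOK gensS = true := by decide +kernel

theorem goodS : GoodTabs Spor.M12 gensS := goodTabs_M12_of_ok gensS_ok

/-- a Sylow `2`-subgroup `4²:2²` -/
noncomputable def S2 : Subgroup ↥Spor.M12 :=
  tabSubgroup Spor.M12 (spanTabs gensS) (goodTabs_spanTabs goodS) (idTab_mem_spanTabs _)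
    (spanTabs_mul_closed goodS (spanTabs_of_pcOK goodS gensS_pc).1)

theorem card_S2 : Nat.card S2 = 64 := by
  rw [S2, card_tabSubgroup _ _ _ (spanTabs_of_pcOK goodS gensS_pc).2, length_spanTabs]
  rfl

theorem TE.mem_S2 {p : TE} (h : p.l ∈ spanTabs gensS) : p.g ∈ S2 := ⟨p.l, h, p.tab⟩

theorem a_mem : A.g ∈ S2 := TE.mem_S2 (p := A) (by decide +kernel)
theorem b_mem : B.g ∈ S2 := TE.mem_S2 (p := B) (by decide +kernel)
theorem n_mem : N.g ∈ S2 := TE.mem_S2 (p := N) (by decide +kernel)
theorem s_mem : S.g ∈ S2 := TE.mem_S2 (p := S) (by decide +kernel)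

theorem hidx2 : ¬ 2 ∣ S2.index := by
  have h1 := Subgroup.card_mul_index S2
  rw [card_S2, card_M12] at h1
  rintro ⟨m, hm⟩
  rw [hm] at h1
  omega

theorem mem_of_spanTabs (T : Subgroup ↥Spor.M12) :
    ∀ gens : List (List ℕ), GoodTabs Spor.M12 gens →
      (∀ l ∈ gens, ∀ g : ↥Spor.M12, Tab (g : Equiv.Perm GolayPt) l → g ∈ T) →
      ∀ l ∈ spanTabs gens, ∀ g : ↥Spor.M12, Tab (g : Equiv.Perm GolayPt) l → g ∈ T := by
  intro gens
  induction gens with
  | nil =>
    intro _ _ l hl g hg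
    rw [spanTabs, List.mem_singleton] at hl
    subst hl
    have : g = 1 := Subtype.ext (tab_unique hg tab_one)
    rw [this]
    exact T.one_mem
  | cons s ss ih =>
    intro hgood hT l hl g hg
    have hss : GoodTabs Spor.M12 ss := fun l hl => hgood l (List.mem_cons_of_mem _ hl)
    rw [spanTabs, List.mem_append, List.mem_map] at hl
    rcases hl with hl | ⟨l', hl', rfl⟩
    · exact ih hss (fun l hl => hT l (List.mem_cons_of_mem _ hl)) l hl g hg
    · obtain ⟨σ', hσ', ht', _⟩ := goodTabs_spanTabs hss l' hl'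
      obtain ⟨τ, hτ, htτ, hlenτ⟩ := hgood s (List.mem_cons_self ..)
      have e : g = (⟨σ', hσ'⟩ : ↥Spor.M12) * ⟨τ, hτ⟩ :=
        Subtype.ext (tab_unique hg (ht'.mul htτ hlenτ))
      rw [e]
      exact T.mul_mem (ih hss (fun l hl => hT l (List.mem_cons_of_mem _ hl)) l' hl' ⟨σ', hσ'⟩ ht')
        (hT s (List.mem_cons_self ..) ⟨τ, hτ⟩ htτ)

theorem hgen2 : S2 ≤ Subgroup.closure {A.g, B.g, N.g, S.g} := by
  intro x hx
  obtain ⟨l, hl, ht⟩ := hx
  refine mem_of_spanTabs _ gensS goodS ?_ l hl x ht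
  have hA : A.g ∈ Subgroup.closure {A.g, B.g, N.g, S.g} :=
    Subgroup.subset_closure (Or.inl rfl)
  have hB : B.g ∈ Subgroup.closure {A.g, B.g, N.g, S.g} :=
    Subgroup.subset_closure (Or.inr (Or.inl rfl))
  have hN : N.g ∈ Subgroup.closure {A.g, B.g, N.g, S.g} :=
    Subgroup.subset_closure (Or.inr (Or.inr (Or.inl rfl)))
  have hS : S.g ∈ Subgroup.closure {A.g, B.g, N.g, S.g} :=
    Subgroup.subset_closure (Or.inr (Or.inr (Or.inr rfl)))
  intro l hl g hg
  simp only [gensS, List.mem_cons, List.not_mem_nil, or_false] at hl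
  rcases hl with rfl | rfl | rfl | rfl | rfl | rfl
  · have : g = S.g := Subtype.ext (tab_unique hg S.tab)
    rw [this]; exact hS
  · have : g = N.g := Subtype.ext (tab_unique hg N.tab)
    rw [this]; exact hN
  · have : g = A.g := Subtype.ext (tab_unique hg A.tab)
    rw [this]; exact hA
  · have : g = B.g := Subtype.ext (tab_unique hg B.tab)
    rw [this]; exact hB
  · have : g = A.g * A.g := Subtype.ext (tab_unique hg
      ((show tAA = mulTab tA tA by decide +kernel) ▸ (A.mul A).tab))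
    rw [this]; exact Subgroup.mul_mem _ hA hA
  · have : g = B.g * B.g := Subtype.ext (tab_unique hg
      ((show tBB = mulTab tB tB by decide +kernel) ▸ (B.mul B).tab))
    rw [this]; exact Subgroup.mul_mem _ hB hB

theorem s_sq : S.g * S.g = 1 :=
  TE.eq_one (p := S.mul S) (show mulTab tS tS = idTab by decide +kernel)

theorem s_inv : S.g⁻¹ = S.g := inv_eq_of_mul_eq_one_left s_sq

theorem hsab : S.g * A.g * S.g⁻¹ = B.g := by
  rw [s_inv]
  exact TE.eq_of (p := (S.mul A).mul S) (q := B)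
    (show mulTab (mulTab tS tA) tS = tB by decide +kernel)

theorem hind_tab : ∀ i ∈ [0, 1, 2, 3], ∀ j ∈ [0, 1, 2, 3],
    mulTab (powTab tA i) (powTab tB j) = idTab → i = 0 ∧ j = 0 := by decide +kernel

theorem hind : ∀ i j : ℕ, i < 4 → j < 4 → A.g ^ i * B.g ^ j = 1 → i = 0 ∧ j = 0 := by
  intro i j hi hj h
  apply hind_tab i (by simp only [List.mem_cons, List.not_mem_nil, or_false]; omega)
    j (by simp only [List.mem_cons, List.not_mem_nil, or_false]; omega)
  have h1 : Tab (1 : Equiv.Perm GolayPt) (mulTab (powTab tA i) (powTab tB j)) := by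
    have := ((A.pow i).mul (B.pow j)).tab
    have e : ((A.pow i).mul (B.pow j)).g = 1 := h
    rwa [e] at this
  exact tab_list_unique h1 tab_one ((A.pow i).mul (B.pow j)).len rfl

/-! ### Classes of the involutions -/

/-- the table `l` is a listed conjugate of `t0` -/
def conjOK (T : List (List ℕ × List ℕ × List ℕ)) (t0 l : List ℕ) : Bool :=
  T.any fun t => tabBeq t.1 l && m12TabOK t.2.1 && m12TabOK t.2.2 &&
    tabBeq (mulTab t.2.1 t.2.2) idTab && tabBeq (mulTab (mulTab t.2.1 t0) t.2.2) l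

theorem conj_of_ok {T : List (List ℕ × List ℕ × List ℕ)} {l : List ℕ} (t0 : TE)
    (h : conjOK T t0.l l = true) (p : TE) (hp : p.l = l) :
    ∃ g : ↥Spor.M12, g * t0.g * g⁻¹ = p.g := by
  rw [conjOK, List.any_eq_true] at h
  obtain ⟨t, _, ht⟩ := h
  simp only [Bool.and_eq_true, tabBeq_iff] at ht
  obtain ⟨⟨⟨⟨_, h2⟩, h3⟩, h4⟩, h5⟩ := ht
  have hinv : (mk t.2.1 h2).g⁻¹ = (mk t.2.2 h3).g := by
    apply inv_eq_of_mul_eq_one_right
    exact TE.eq_one (p := (mk t.2.1 h2).mul (mk t.2.2 h3)) h4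
  refine ⟨(mk t.2.1 h2).g, ?_⟩
  rw [hinv]
  exact TE.eq_of (p := ((mk t.2.1 h2).mul t0).mul (mk t.2.2 h3)) (q := p) (h5.trans hp.symm)

theorem ta_sq : TA.g * TA.g = 1 :=
  TE.eq_one (p := TA.mul TA) (show mulTab tTA tTA = idTab by decide +kernel)

theorem tb_sq : TB.g * TB.g = 1 :=
  TE.eq_one (p := TB.mul TB) (show mulTab tTB tTB = idTab by decide +kernel)

-- the eight involutions of the Sylow 2-subgroup
theorem c_n : conjOK conjTabsB tTB tN = true := by decide +kernel
theorem c_na : conjOK conjTabsB tTB (mulTab tN tA) = true := by decide +kernel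
theorem c_nb : conjOK conjTabsB tTB (mulTab tN tB) = true := by decide +kernel
theorem c_nab : conjOK conjTabsA tTA (mulTab (mulTab tN tA) tB) = true := by decide +kernel
theorem c_aa : conjOK conjTabsB tTB (mulTab tA tA) = true := by decide +kernel
theorem c_bb : conjOK conjTabsB tTB (mulTab tB tB) = true := by decide +kernel
theorem c_s : conjOK conjTabsA tTA tS = true := by decide +kernel
theorem c_sn : conjOK conjTabsA tTA (mulTab tS tN) = true := by decide +kernel

-- the group of order eight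
theorem c_u : conjOK conjTabsA tTA tU = true := by decide +kernel
theorem c_v : conjOK conjTabsB tTB tV = true := by decide +kernel
theorem c_w : conjOK conjTabsB tTB tW = true := by decide +kernel
theorem c_uv : conjOK conjTabsA tTA (mulTab tU tV) = true := by decide +kernel
theorem c_uw : conjOK conjTabsA tTA (mulTab tU tW) = true := by decide +kernel
theorem c_vw : conjOK conjTabsB tTB (mulTab tV tW) = true := by decide +kernel
theorem c_uvw : conjOK conjTabsA tTA (mulTab (mulTab tU tV) tW) = true := by decide +kernel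

-- the four-group
theorem c_t1 : conjOK conjTabsA tTA tT1 = true := by decide +kernel
theorem c_t2 : conjOK conjTabsA tTA tT2 = true := by decide +kernel
theorem c_t12 : conjOK conjTabsA tTA (mulTab tT1 tT2) = true := by decide +kernel

theorem t1_sq : T1.g * T1.g = 1 :=
  TE.eq_one (p := T1.mul T1) (show mulTab tT1 tT1 = idTab by decide +kernel)

theorem t2_sq : T2.g * T2.g = 1 :=
  TE.eq_one (p := T2.mul T2) (show mulTab tT2 tT2 = idTab by decide +kernel)

theorem t12_comm : T1.g * T2.g = T2.g * T1.g :=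
  TE.eq_of (p := T1.mul T2) (q := T2.mul T1)
    (show mulTab tT1 tT2 = mulTab tT2 tT1 by decide +kernel)

/-! ### The lifts of the involutions in a stem double cover -/

section Cover

variable {Γ : Type} [Group Γ] {σ : Γ →* ↥Spor.M12} {z : Γ}

theorem liftSq_of_conj (h : Ext2 σ z) {t e : ↥Spor.M12} {w : Γ} (hw : w = 1 ∨ w = z)
    (hl : LiftSq σ t w) (hc : ∃ g : ↥Spor.M12, g * t * g⁻¹ = e) : LiftSq σ e w := by
  obtain ⟨g, rfl⟩ := hc
  exact liftSq_conj h (h.cen hw) hl g

/-- the involutions with fixed points lift to involutions -/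
theorem liftSq_TB (h : Ext2 σ z) : LiftSq σ TB.g 1 := by
  rcases liftSq_cases h TA.g ta_sq with hA | hA <;> rcases liftSq_cases h TB.g tb_sq with hB | hB
  · exact hB
  · exfalso
    have := q3 h (Or.inl rfl) (Or.inr rfl) (Or.inr rfl) (Or.inl rfl) (Or.inl rfl) (Or.inr rfl)
      (Or.inl rfl)
      (liftSq_of_conj h (Or.inl rfl) hA (conj_of_ok TA c_u U rfl))
      (liftSq_of_conj h (Or.inr rfl) hB (conj_of_ok TB c_v V rfl))
      (liftSq_of_conj h (Or.inr rfl) hB (conj_of_ok TB c_w W rfl))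
      (liftSq_of_conj h (Or.inl rfl) hA (conj_of_ok TA c_uv (U.mul V) rfl))
      (liftSq_of_conj h (Or.inl rfl) hA (conj_of_ok TA c_uw (U.mul W) rfl))
      (liftSq_of_conj h (Or.inr rfl) hB (conj_of_ok TB c_vw (V.mul W) rfl))
      (liftSq_of_conj h (Or.inl rfl) hA (conj_of_ok TA c_uvw ((U.mul V).mul W) rfl))
    -- 1 * z * 1 = 1 * z * 1 * (z * z * z)
    rw [h.z_sq] at this
    simp only [one_mul, mul_one] at this
    exact h.z_ne (by
      have e : z * z = z := by rw [← this]
      rw [h.z_sq] at e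
      exact e.symm)
  · exact hB
  · exfalso
    have := q3 h (Or.inr rfl) (Or.inr rfl) (Or.inr rfl) (Or.inr rfl) (Or.inr rfl) (Or.inr rfl)
      (Or.inr rfl)
      (liftSq_of_conj h (Or.inr rfl) hA (conj_of_ok TA c_u U rfl))
      (liftSq_of_conj h (Or.inr rfl) hB (conj_of_ok TB c_v V rfl))
      (liftSq_of_conj h (Or.inr rfl) hB (conj_of_ok TB c_w W rfl))
      (liftSq_of_conj h (Or.inr rfl) hA (conj_of_ok TA c_uv (U.mul V) rfl))
      (liftSq_of_conj h (Or.inr rfl) hA (conj_of_ok TA c_uw (U.mul W) rfl))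
      (liftSq_of_conj h (Or.inr rfl) hB (conj_of_ok TB c_vw (V.mul W) rfl))
      (liftSq_of_conj h (Or.inr rfl) hA (conj_of_ok TA c_uvw ((U.mul V).mul W) rfl))
    -- z * z * z = z * z * z * (z * z * z)
    simp only [h.z_sq, one_mul, mul_one] at this
    exact h.z_ne this

end Cover

/-! ### The Sylow `3`-subgroup -/

theorem p27_ok : p27.all m12TabOK = true := by decide +kernel

theorem good27 : GoodTabs Spor.M12 p27 := goodTabs_M12_of_ok p27_ok

theorem p27_one : idTab ∈ p27 := by decide +kernel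

theorem p27_mul : ∀ l1 ∈ p27, ∀ l2 ∈ p27, mulTab l1 l2 ∈ p27 := by decide +kernel

theorem p27_nodup : p27.Nodup := by decide +kernel

/-- a Sylow `3`-subgroup -/
noncomputable def S3 : Subgroup ↥Spor.M12 := tabSubgroup Spor.M12 p27 good27 p27_one p27_mul

theorem card_S3 : Nat.card S3 = 27 := by
  rw [S3, card_tabSubgroup _ _ _ p27_nodup]
  rfl

theorem xx_cube : XX.g * XX.g * XX.g = 1 :=
  TE.eq_one (p := (XX.mul XX).mul XX) (show mulTab (mulTab tXX tXX) tXX = idTab by decide +kernel)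

theorem yy_cube : YY.g * YY.g * YY.g = 1 :=
  TE.eq_one (p := (YY.mul YY).mul YY) (show mulTab (mulTab tYY tYY) tYY = idTab by decide +kernel)

theorem t3_sq : T3.g * T3.g = 1 :=
  TE.eq_one (p := T3.mul T3) (show mulTab tT3 tT3 = idTab by decide +kernel)

theorem xx_inv : XX.g⁻¹ = XX.g * XX.g := inv_eq_of_mul_eq_one_left xx_cube

theorem yy_inv : YY.g⁻¹ = YY.g * YY.g := inv_eq_of_mul_eq_one_left yy_cube

theorem t3_inv : T3.g⁻¹ = T3.g := inv_eq_of_mul_eq_one_left t3_sq

theorem xx_mem : XX.g ∈ S3 := ⟨tXX, by decide +kernel, XX.tab⟩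

theorem yy_mem : YY.g ∈ S3 := ⟨tYY, by decide +kernel, YY.tab⟩

theorem p27_words : ∀ l ∈ p27, ∃ i ∈ [0, 1, 2], ∃ j ∈ [0, 1, 2], ∃ k ∈ [0, 1, 2],
    l = mulTab (mulTab (powTab tXX i) (powTab tYY j))
      (powTab (mulTab (mulTab (mulTab tXX tYY) (mulTab tXX tXX)) (mulTab tYY tYY)) k) := by
  decide +kernel

theorem hgen3 : S3 ≤ Subgroup.closure {XX.g, YY.g} := by
  intro s hs
  obtain ⟨l, hl, ht⟩ := hs
  obtain ⟨i, -, j, -, k, -, rfl⟩ := p27_words l hl
  have hX : XX.g ∈ Subgroup.closure {XX.g, YY.g} := Subgroup.subset_closure (Or.inl rfl)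
  have hY : YY.g ∈ Subgroup.closure {XX.g, YY.g} := Subgroup.subset_closure (Or.inr rfl)
  have : s = (((XX.pow i).mul (YY.pow j)).mul
      ((((XX.mul YY).mul (XX.mul XX)).mul (YY.mul YY)).pow k)).g :=
    Subtype.ext (tab_unique ht (((XX.pow i).mul (YY.pow j)).mul
      ((((XX.mul YY).mul (XX.mul XX)).mul (YY.mul YY)).pow k)).tab)
  rw [this]
  exact Subgroup.mul_mem _ (Subgroup.mul_mem _ (Subgroup.pow_mem _ hX i) (Subgroup.pow_mem _ hY j))
    (Subgroup.pow_mem _ (Subgroup.mul_mem _ (Subgroup.mul_mem _ (Subgroup.mul_mem _ hX hY)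
      (Subgroup.mul_mem _ hX hX)) (Subgroup.mul_mem _ hY hY)) k)

theorem hidx3 : ¬ 3 ∣ S3.index := by
  have h1 := Subgroup.card_mul_index S3
  rw [card_S3, card_M12] at h1
  rintro ⟨m, hm⟩
  rw [hm] at h1
  omega

theorem htx3 : XX.g * (T3.g * XX.g * T3.g⁻¹) = 1 := by
  rw [t3_inv]
  exact TE.eq_one (p := XX.mul ((T3.mul XX).mul T3))
    (show mulTab tXX (mulTab (mulTab tT3 tXX) tT3) = idTab by decide +kernel)

theorem hty3 : YY.g * (T3.g * YY.g * T3.g⁻¹) = 1 := by
  rw [t3_inv]
  exact TE.eq_one (p := YY.mul ((T3.mul YY).mul T3))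
    (show mulTab tYY (mulTab (mulTab tT3 tYY) tT3) = idTab by decide +kernel)

theorem hcc3 : XX.g⁻¹ * YY.g⁻¹ * XX.g * YY.g = XX.g * YY.g * XX.g⁻¹ * YY.g⁻¹ := by
  rw [xx_inv, yy_inv]
  exact TE.eq_of (p := (((XX.mul XX).mul (YY.mul YY)).mul XX).mul YY)
    (q := ((XX.mul YY).mul (XX.mul XX)).mul (YY.mul YY))
    (show mulTab (mulTab (mulTab (mulTab tXX tXX) (mulTab tYY tYY)) tXX) tYY =
      mulTab (mulTab (mulTab tXX tYY) (mulTab tXX tXX)) (mulTab tYY tYY) by decide +kernel)

theorem hcx3 : (XX.g * YY.g * XX.g⁻¹ * YY.g⁻¹) * XX.g = XX.g * (XX.g * YY.g * XX.g⁻¹ * YY.g⁻¹) := by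
  rw [xx_inv, yy_inv]
  exact TE.eq_of (p := (((XX.mul YY).mul (XX.mul XX)).mul (YY.mul YY)).mul XX)
    (q := XX.mul (((XX.mul YY).mul (XX.mul XX)).mul (YY.mul YY)))
    (show mulTab (mulTab (mulTab (mulTab tXX tYY) (mulTab tXX tXX)) (mulTab tYY tYY)) tXX =
      mulTab tXX (mulTab (mulTab (mulTab tXX tYY) (mulTab tXX tXX)) (mulTab tYY tYY)) by
      decide +kernel)

theorem hcy3 : (XX.g * YY.g * XX.g⁻¹ * YY.g⁻¹) * YY.g = YY.g * (XX.g * YY.g * XX.g⁻¹ * YY.g⁻¹) := by
  rw [xx_inv, yy_inv]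
  exact TE.eq_of (p := (((XX.mul YY).mul (XX.mul XX)).mul (YY.mul YY)).mul YY)
    (q := YY.mul (((XX.mul YY).mul (XX.mul XX)).mul (YY.mul YY)))
    (show mulTab (mulTab (mulTab (mulTab tXX tYY) (mulTab tXX tXX)) (mulTab tYY tYY)) tYY =
      mulTab tYY (mulTab (mulTab (mulTab tXX tYY) (mulTab tXX tXX)) (mulTab tYY tYY)) by
      decide +kernel)

theorem hc13 : XX.g * YY.g * XX.g⁻¹ * YY.g⁻¹ ≠ 1 := by
  rw [xx_inv, yy_inv]
  exact TE.ne_one (p := ((XX.mul YY).mul (XX.mul XX)).mul (YY.mul YY))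
    (show mulTab (mulTab (mulTab tXX tYY) (mulTab tXX tXX)) (mulTab tYY tYY) ≠ idTab by
      decide +kernel)

/-- no stem extension of `M12` has a kernel of order three -/
theorem no_triple_cover_M12 (Γ : Type) [Group Γ] [Finite Γ] (σ : Γ →* ↥Spor.M12) (z : Γ)
    (hsurj : Function.Surjective σ) (hker : σ.ker = Subgroup.zpowers z) (hord : orderOf z = 3)
    (hzc : ∀ g : Γ, g * z = z * g) (hzcomm : z ∈ commutator Γ) : False :=
  false_of_extraspecial27 σ z hsurj hker hord hzc hzcomm S3 XX.g YY.g T3.g xx_mem yy_mem hgen3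
    hidx3 htx3 hty3 hcc3 hcx3 hcy3 xx_cube hc13

end Cfsg.Agent.Helper92.M12Mult
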