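import Cfsg.Agent.Lib.Helper92.M22InvAll
import Cfsg.Prelude.Def_KGroupFacts

/-!
# The automorphisms of `M22`
-/

set_option autoImplicit false

namespace Cfsg.Agent.Helper92.M22Out
open Cfsg Cfsg.Agent.Helper7 Cfsg.Agent.Helper92
open scoped Pointwise

/-- An involution of `M22` satisfying the two relations with the element of order eleven is one
of the eleven conjugates of the chosen involution. -/
theorem key {W : Equiv.Perm GolayPt} (hW : W ∈ Spor.M22) (hsq : W * W = 1)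
    (h1 : (xP ^ 3 * W) ^ 4 = 1) (h2 : (xP * (W * (xP ^ 5 * W))) ^ 6 = 1) :
    ∃ i < 11, W = xP ^ i * zP * xP⁻¹ ^ i := by
  obtain ⟨t1, ht1, t2, ht2, t3, ht3, l, hl, htab, -⟩ := m22_factor hW
  obtain ⟨u1, -, hu1, hlen1⟩ := good_u1 t1 ht1
  obtain ⟨u2, -, hu2, hlen2⟩ := good_u2 t2 ht2
  obtain ⟨u3, -, hu3, hlen3⟩ := good_u3 t3 ht3
  obtain ⟨u4, -, hu4, hlen4⟩ := good_g5 l hl
  have hprod : Tab (u1 * (u2 * (u3 * u4))) (mulTab t1 (mulTab t2 (mulTab t3 l))) := by
    have e3 := hu3.mul hu4 hlen4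
    have e2 := hu2.mul e3 (by rw [mulTab_length, hlen4])
    exact hu1.mul e2 (by rw [mulTab_length, mulTab_length, hlen4])
  have hWeq : W = u1 * (u2 * (u3 * u4)) := tab_uniq' htab hprod
  obtain ⟨n1, hn1, r1⟩ := exists_rep rep_u1 ht1
  obtain ⟨n2, hn2, r2⟩ := exists_rep rep_u2 ht2
  obtain ⟨n3, hn3, r3⟩ := exists_rep rep_u3 ht3
  obtain ⟨n4, hn4, r4⟩ := exists_rep rep_g5 hl
  have hT : Tab W (tabOf4 n1 n2 n3 n4) := by
    rw [hWeq]
    exact tabOf4_tab hu1 hu2 hu3 hu4 r1 r2 r3 r4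
  have hinv := isInv4N_of hT hsq
  have hchk : chkN n1 n2 n3 n4 = true :=
    List.all_eq_true.mp (List.all_eq_true.mp (List.all_eq_true.mp
      (List.all_eq_true.mp main_chk n1 hn1) n2 hn2) n3 hn3) n4 hn4
  have hlenT := tabOf4_length n1 n2 n3 n4
  have hr1 : isIdT (rel1 (tabOf4 n1 n2 n3 n4)) = true := by
    apply isIdT_of_one
    have := rel1_tab hT hlenT
    rwa [h1] at this
  have hr2 : isIdT (rel2 (tabOf4 n1 n2 n3 n4)) = true := by
    apply isIdT_of_one
    have := rel2_tab hT hlenT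
    rwa [h2] at this
  rw [chkN, hinv, chkG, hr1, hr2] at hchk
  simp only [Bool.not_true, Bool.false_or] at hchk
  obtain ⟨c, hc, hceq⟩ := List.any_eq_true.mp hchk
  rw [conjTabs, List.mem_map] at hc
  obtain ⟨i, hi, rfl⟩ := hc
  refine ⟨i, List.mem_range.mp hi, ?_⟩
  have := eq_of_eqTab hlenT hceq
  rw [this] at hT
  exact tab_uniq' hT (conjT_tab i)

/-! ### The abstract group -/

abbrev G : Type := ↥Cfsg.Spor.M22

def X : G := ⟨xP, x_mem⟩
def Z : G := ⟨zP, z_mem⟩

theorem closure_XZ : Subgroup.closure ({X, Z} : Set G) = ⊤ := by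
  rw [eq_top_iff]
  intro g _
  have hg : g.1 ∈ K := by rw [K_eq]; exact g.2
  have hmap : (Subgroup.closure ({X, Z} : Set G)).map (Cfsg.Spor.M22).subtype = K := by
    rw [MonoidHom.map_closure, Set.image_pair]
    rfl
  rw [← hmap, Subgroup.mem_map] at hg
  obtain ⟨g', hg', hgg'⟩ := hg
  have : g' = g := Subtype.ext hgg'
  rwa [this] at hg'

theorem x11 : isIdT (powT xL 11) = true := by decide +kernel

theorem xP_pow11 : xP ^ 11 = 1 := one_of_isIdT (powT_tab tab_x rfl 11) x11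

theorem X_pow11 : X ^ 11 = 1 := Subtype.ext xP_pow11

theorem X_ne_one : X ≠ 1 := by
  intro h
  have h1 : xP = 1 := congrArg Subtype.val h
  have h2 : xP (pt 1) = pt 2 := tab_x.apply 1 (by norm_num)
  rw [h1] at h2
  revert h2
  decide

theorem orderOf_X : orderOf X = 11 := by
  have : Fact (Nat.Prime 11) := ⟨by norm_num⟩
  exact orderOf_eq_prime X_pow11 X_ne_one

theorem Z_sq : Z * Z = 1 := by
  apply Subtype.ext
  apply Equiv.ext
  intro p
  exact zP.left_inv p

theorem rel1_XZ : (X ^ 3 * Z) ^ 4 = 1 :=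
  Subtype.ext (one_of_isIdT (rel1_tab tab_z rfl) rel1_z)

theorem rel2_XZ : (X * (Z * (X ^ 5 * Z))) ^ 6 = 1 :=
  Subtype.ext (one_of_isIdT (rel2_tab tab_z rfl) rel2_z)

theorem nu_rel : eqTab (mulTab nuL xL) (mulTab x3L nuL) = true := by decide +kernel

theorem exists_N : ∃ ν : G, ν * X * ν⁻¹ = X ^ 3 := by
  obtain ⟨σ, hσ, ht, hl⟩ := good_nu nuL (by simp)
  refine ⟨⟨σ, K_le hσ⟩, ?_⟩
  have e := eq_of_eqTab (by rw [mulTab_length]; rfl) nu_rel
  have t1 := ht.mul tab_x rfl
  rw [e] at t1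
  have h1 : σ * xP = xP ^ 3 * σ := tab_uniq' t1 (tab_x3.mul ht hl)
  apply Subtype.ext
  show σ * xP * σ⁻¹ = xP ^ 3
  rw [h1]
  group

/-! ### Inner automorphisms -/

/-- The automorphism is inner. -/
def Inner (φ : G ≃* G) : Prop := ∃ g : G, ∀ t, φ t = g * t * g⁻¹

/-- Follow an automorphism by a conjugation. -/
def tw (a : G) (φ : G ≃* G) : G ≃* G := φ.trans (MulAut.conj a)

theorem tw_apply (a : G) (φ : G ≃* G) (t : G) : tw a φ t = a * φ t * a⁻¹ := rfl

theorem inner_of_tw (a : G) (φ : G ≃* G) (h : Inner (tw a φ)) : Inner φ := by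
  obtain ⟨g, hg⟩ := h
  refine ⟨a⁻¹ * g, fun t => ?_⟩
  have := hg t
  rw [tw_apply] at this
  have h2 : φ t = a⁻¹ * (g * t * g⁻¹) * a := by rw [← this]; group
  rw [h2]; group

/-- An automorphism fixing the element of order eleven is inner. -/
theorem inner_of_fixX (φ : G ≃* G) (hX : φ X = X) : Inner φ := by
  have hsq : φ Z * φ Z = 1 := by rw [← map_mul, Z_sq, map_one]
  have hsq' : (φ Z).1 * (φ Z).1 = 1 := congrArg Subtype.val hsq
  have hr1 : (X ^ 3 * φ Z) ^ 4 = 1 := by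
    have := congrArg φ rel1_XZ
    simpa only [map_pow, map_mul, map_one, hX] using this
  have hr2 : (X * (φ Z * (X ^ 5 * φ Z))) ^ 6 = 1 := by
    have := congrArg φ rel2_XZ
    simpa only [map_pow, map_mul, map_one, hX] using this
  have hr1' : (xP ^ 3 * (φ Z).1) ^ 4 = 1 := congrArg Subtype.val hr1
  have hr2' : (xP * ((φ Z).1 * (xP ^ 5 * (φ Z).1))) ^ 6 = 1 := congrArg Subtype.val hr2
  obtain ⟨i, -, hi⟩ := key (φ Z).2 hsq' hr1' hr2'
  have hZ : φ Z = X ^ i * Z * (X ^ i)⁻¹ := by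
    apply Subtype.ext
    rw [hi, inv_pow]
    rfl
  refine ⟨X ^ i, fun t => ?_⟩
  have h : φ.toMonoidHom = (MulAut.conj (X ^ i)).toMonoidHom :=
    MonoidHom.eq_of_eqOn_dense closure_XZ (by
      intro t ht
      rcases ht with rfl | rfl
      · show φ X = X ^ i * X * (X ^ i)⁻¹
        rw [hX]; group
      · exact hZ)
  have h2 := congrArg (fun f : G →* G => f t) h
  exact h2

theorem X_pow10 : X ^ 10 = X⁻¹ := by
  apply eq_inv_of_mul_eq_one_left
  rw [← pow_succ]
  exact X_pow11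

/-! ### The outer automorphism -/

theorem m22_le : Spor.M22 ≤ M24 := fun _ h => (mem_M22'.mp h).1

theorem proj_swap1 : projInv (none : GolayPt) = some 0 := by decide
theorem proj_swap2 : projInv (some 0 : GolayPt) = none := by decide
theorem proj_sq : projInv * projInv = 1 := by
  apply Equiv.ext
  intro p
  exact projInv.left_inv p

theorem proj_inv : projInv⁻¹ = projInv := inv_eq_of_mul_eq_one_left proj_sq

theorem proj_norm {x : Equiv.Perm GolayPt} (hx : x ∈ Spor.M22) :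
    projInv * x * projInv⁻¹ ∈ Spor.M22 :=
  (Cfsg.Agent.S5599.result projInv projInv_mem proj_swap1 proj_swap2).2.1 x hx

/-- Conjugation by the involution `x ↦ -1/x`, an automorphism of `M22`. -/
def T : G ≃* G where
  toFun x := ⟨projInv * x.1 * projInv⁻¹, proj_norm x.2⟩
  invFun x := ⟨projInv * x.1 * projInv⁻¹, proj_norm x.2⟩
  left_inv x := by
    apply Subtype.ext
    show projInv * (projInv * x.1 * projInv⁻¹) * projInv⁻¹ = x.1
    rw [proj_inv]
    calc projInv * (projInv * x.1 * projInv) * projInv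
        = (projInv * projInv) * x.1 * (projInv * projInv) := by group
      _ = x.1 := by rw [proj_sq, one_mul, mul_one]
  right_inv x := by
    apply Subtype.ext
    show projInv * (projInv * x.1 * projInv⁻¹) * projInv⁻¹ = x.1
    rw [proj_inv]
    calc projInv * (projInv * x.1 * projInv) * projInv
        = (projInv * projInv) * x.1 * (projInv * projInv) := by group
      _ = x.1 := by rw [proj_sq, one_mul, mul_one]
  map_mul' x y := by
    apply Subtype.ext
    show projInv * (x.1 * y.1) * projInv⁻¹ = projInv * x.1 * projInv⁻¹ * (projInv * y.1 * projInv⁻¹)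
    group

theorem T_apply (x : G) : (T x).1 = projInv * x.1 * projInv⁻¹ := rfl

theorem T_not_inner : ¬ Inner T := by
  rintro ⟨h, hh⟩
  apply (Cfsg.Agent.S5599.result projInv projInv_mem proj_swap1 proj_swap2).2.2
  refine ⟨h.1, h.2, fun x hx => ?_⟩
  have := congrArg Subtype.val (hh ⟨x, hx⟩)
  exact this

theorem proj_rel : eqTab (mulTab lProjInv xL) (mulTab xiL lProjInv) = true := by decide +kernel

theorem T_X : T X = X⁻¹ := by
  apply Subtype.ext
  rw [T_apply]
  show projInv * xP * projInv⁻¹ = xP⁻¹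
  have e := eq_of_eqTab (by rw [mulTab_length]; rfl) proj_rel
  have t1 := tab_projInv.mul tab_x rfl
  rw [e] at t1
  have h1 : projInv * xP = xP⁻¹ * projInv := tab_uniq' t1 (tab_xi.mul tab_projInv rfl)
  rw [h1]
  group

/-! ### Every automorphism is inner or inner times the outer one -/

theorem good_of_pm (φ : G ≃* G) (hX : φ X = X ∨ φ X = X⁻¹) :
    Inner φ ∨ Inner (T.trans φ) := by
  rcases hX with h | h
  · exact Or.inl (inner_of_fixX φ h)
  · right
    apply inner_of_fixX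
    show φ (T X) = X
    rw [T_X, map_inv, h, inv_inv]

theorem tw_trans (a : G) (φ : G ≃* G) : T.trans (tw a φ) = tw a (T.trans φ) := rfl

theorem good_of_tw (a : G) (φ : G ≃* G) (h : Inner (tw a φ) ∨ Inner (T.trans (tw a φ))) :
    Inner φ ∨ Inner (T.trans φ) := by
  rcases h with h | h
  · exact Or.inl (inner_of_tw a φ h)
  · right
    rw [tw_trans] at h
    exact inner_of_tw a _ h

theorem good_of_pow (φ : G ≃* G) (m : ℕ) (hX : φ X = X ^ m) :
    Inner φ ∨ Inner (T.trans φ) := by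
  obtain ⟨ν, hν⟩ := exists_N
  have hνj : ∀ j : ℕ, ν ^ j * X * (ν ^ j)⁻¹ = X ^ (3 ^ j) := by
    intro j
    induction j with
    | zero => simp
    | succ j ih =>
      have : ν ^ (j + 1) * X * (ν ^ (j + 1))⁻¹ = ν * (ν ^ j * X * (ν ^ j)⁻¹) * ν⁻¹ := by
        rw [pow_succ']; group
      rw [this, ih, ← conj_pow, hν, ← pow_mul, pow_succ']
  have hm0 : m % 11 ≠ 0 := by
    intro h
    have h1 : X ^ m = 1 := by
      rw [← pow_mod_orderOf, orderOf_X, h, pow_zero]
    rw [h1] at hX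
    have : φ X = φ 1 := by rw [hX, map_one]
    exact X_ne_one (φ.injective this)
  have hdec : ∀ m < 11, m ≠ 0 → ∃ j < 5, (3 ^ j * m) % 11 = 1 ∨ (3 ^ j * m) % 11 = 10 := by
    decide
  obtain ⟨j, _, hj⟩ := hdec (m % 11) (Nat.mod_lt _ (by norm_num)) hm0
  have e : (3 ^ j * m) % 11 = (3 ^ j * (m % 11)) % 11 := by
    rw [Nat.mul_mod, Nat.mul_mod (3 ^ j) (m % 11), Nat.mod_mod]
  rw [← e] at hj
  apply good_of_tw (ν ^ j) φ
  apply good_of_pm
  have h1 : tw (ν ^ j) φ X = X ^ ((3 ^ j * m) % 11) := by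
    rw [tw_apply, hX, ← conj_pow, hνj j, ← pow_mul]
    conv_rhs => rw [← orderOf_X, pow_mod_orderOf]
  rcases hj with h | h
  · left; rw [h1, h, pow_one]
  · right; rw [h1, h, X_pow10]

theorem card_dvd : Nat.card G ∣ 244823040 := by
  rw [← card_M24]
  exact Subgroup.card_dvd_of_le m22_le

theorem exists_sylow (t : G) (ht : orderOf t = 11) :
    ∃ Q : Sylow 11 G, (Q : Subgroup G) = Subgroup.zpowers t := by
  have : Fact (Nat.Prime 11) := ⟨by norm_num⟩
  have hP : IsPGroup 11 (Subgroup.zpowers t) :=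
    IsPGroup.of_card (n := 1) (by rw [Nat.card_zpowers, ht]; rfl)
  obtain ⟨Q, hQ⟩ := hP.exists_le_sylow
  refine ⟨Q, ?_⟩
  obtain ⟨n, hn⟩ := IsPGroup.iff_card.mp Q.isPGroup'
  have h1 : Nat.card (Q : Subgroup G) ∣ 244823040 :=
    (Subgroup.card_subgroup_dvd_card _).trans card_dvd
  have h2 : 11 ∣ Nat.card (Q : Subgroup G) := by
    have := Subgroup.card_dvd_of_le hQ
    rwa [Nat.card_zpowers, ht] at this
  have hn1 : n = 1 := by
    rw [hn] at h1 h2
    have hn0 : n ≠ 0 := by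
      rintro rfl
      norm_num at h2
    have hn2 : n < 2 := by
      by_contra hcon
      push Not at hcon
      have : 11 ^ 2 ∣ 244823040 := (pow_dvd_pow 11 hcon).trans h1
      norm_num at this
    omega
  symm
  apply Subgroup.eq_of_le_of_card_ge hQ
  rw [hn, hn1, Nat.card_zpowers, ht]
  norm_num

theorem all_good (φ : G ≃* G) : Inner φ ∨ Inner (T.trans φ) := by
  have : Fact (Nat.Prime 11) := ⟨by norm_num⟩
  obtain ⟨Q, hQ⟩ := exists_sylow X orderOf_X
  obtain ⟨Q', hQ'⟩ := exists_sylow (φ X) (by rw [MulEquiv.orderOf_eq, orderOf_X])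
  obtain ⟨g, hg⟩ := MulAction.exists_smul_eq G Q' Q
  have hmem : φ X ∈ (Q' : Subgroup G) := by rw [hQ']; exact Subgroup.mem_zpowers _
  have h2 := Subgroup.smul_mem_pointwise_smul (φ X) (MulAut.conj g) (Q' : Subgroup G) hmem
  rw [← Sylow.coe_subgroup_smul, hg, hQ, MulAut.smul_def, MulAut.conj_apply,
    Subgroup.mem_zpowers_iff] at h2
  obtain ⟨k, hk⟩ := h2
  apply good_of_tw g φ
  apply good_of_pow _ (k % 11).toNat
  rw [tw_apply, ← hk, ← zpow_natCast, Int.toNat_of_nonneg (Int.emod_nonneg _ (by norm_num))]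
  have := zpow_mod_orderOf X k
  rw [orderOf_X] at this
  exact this.symm

theorem mem_inn_iff (φ : MulAut G) : φ ∈ Cfsg.Inn G ↔ Inner φ := by
  constructor
  · rintro ⟨g, rfl⟩
    exact ⟨g, fun t => rfl⟩
  · rintro ⟨g, hg⟩
    exact ⟨g, MulEquiv.ext (fun t => by rw [MulAut.conj_apply, hg])⟩

/-- The outer automorphism group of `M22` has order two. -/
theorem card_out : Nat.card (Cfsg.Out G) = 2 := by
  show (Cfsg.Inn G).index = 2
  rw [Subgroup.index_eq_two_iff_exists_notMem_and]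
  refine ⟨T, fun h => T_not_inner ((mem_inn_iff T).mp h), fun φ => ?_⟩
  rcases all_good φ with h | h
  · exact Or.inr ((mem_inn_iff φ).mpr h)
  · left
    rw [mem_inn_iff]
    exact h

end Cfsg.Agent.Helper92.M22Out
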