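import Cfsg.Agent.S5599
import Cfsg.Agent.Lib.Helper92.Classes

/-!
# The Mathieu group `M22`: generators and a factorisation of its elements

Data for the computation of the outer automorphism group of `M22`.
-/

set_option autoImplicit false

namespace Cfsg.Agent.Helper92.M22Out
open Cfsg Cfsg.Agent.Helper7 Cfsg.Agent.Helper92
open Cfsg.Agent.S5599 (permOfTab tab_permOfTab mem_M22_iff)
open scoped Pointwise

def xL : List ℕ := [0, 2, 4, 6, 8, 10, 12, 14, 16, 18, 20, 22, 1, 3, 5, 7, 9, 11, 13, 15, 17, 19, 21, 23]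
def xiL : List ℕ := [0, 12, 1, 13, 2, 14, 3, 15, 4, 16, 5, 17, 6, 18, 7, 19, 8, 20, 9, 21, 10, 22, 11, 23]
def zL : List ℕ := [0, 8, 11, 5, 13, 3, 15, 10, 1, 9, 7, 2, 12, 4, 22, 6, 17, 16, 18, 19, 20, 21, 14, 23]
def nuL : List ℕ := [0, 1, 8, 4, 18, 5, 9, 22, 6, 16, 17, 10, 3, 12, 15, 20, 2, 7, 13, 14, 21, 19, 11, 23]
def pL : List ℕ := [23, 22, 11, 15, 17, 9, 19, 13, 20, 5, 16, 2, 21, 7, 18, 3, 10, 4, 14, 6, 8, 12, 1, 0]
def m22Prog : List (ℕ × ℕ) := [(0, 2), (0, 0), (0, 4), (0, 5), (0, 6), (0, 7), (0, 8), (0, 9), (0, 10), (10, 1), (12, 12), (12, 13), (12, 11), (0, 15), (12, 15), (0, 17), (12, 17), (0, 18), (0, 20), (0, 21), (12, 21), (0, 23), (0, 22), (20, 2), (26, 2), (27, 2), (12, 0), (28, 29), (30, 14), (12, 31), (30, 12), (13, 33), (34, 30), (34, 35), (30, 36), (34, 36), (30, 38), (34, 38), (30, 40), (34, 41), (30, 42), (34, 42), (30, 44), (34,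 43), (34, 39), (39, 34), (14, 30), (49, 13), (30, 50), (51, 50), (52, 50), (53, 50), (54, 30), (48, 30), (55, 56), (57, 48), (57, 38), (12, 30), (30, 0), (2, 61), (62, 31), (12, 63), (34, 63), (48, 63), (57, 63), (12, 67), (30, 67), (48, 67), (12, 70), (62, 70), (34, 72), (34, 73), (62, 73), (30, 75), (57, 74), (60, 62), (78, 57), (79, 48), (80, 62), (81, 50), (82, 50), (83, 57), (84, 62), (85, 37), (30, 86), (34, 86), (48, 86), (34, 89), (62, 77), (39, 91), (92, 50), (93, 85), (94, 94), (48, 94), (95, 96), (97, 57), (48, 98), (48, 97), (57, 94), (95, 101), (102, 100), (48, 103), (57, 103), (97, 103), (57, 106), (48, 107), (97, 108), (97, 94), (102, 94), (48, 95), (57, 95), (97, 95), (102, 95), (92, 30), (94, 35), (54, 117), (97, 35), (52, 119), (102, 35), (116, 121), (92, 48), (94, 36), (46, 124), (97, 36), (51, 126), (102, 36), (37, 128), (97, 37),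 (123, 130), (94, 38), (59, 132), (97, 39), (116, 134), (102, 39), (52, 136), (85, 40), (52, 138), (123, 50), (94, 41), (140, 141), (97, 41), (46, 143), (94, 42), (93, 145), (97, 43), (44, 147), (94, 44), (55, 149), (102, 45), (43, 151), (97, 47), (92, 153), (102, 47), (54, 155), (57, 87), (92, 157), (59, 93), (95, 98), (63, 36)]
def u1Tabs : List (List ℕ) := [[0, 1, 2, 3, 4, 5, 6, 7, 8, 9, 10, 11, 12, 13, 14, 15, 16, 17, 18, 19, 20, 21, 22, 23], [0, 2, 4, 6, 8, 10, 12, 14, 16, 18, 20, 22, 1, 3, 5, 7, 9, 11, 13, 15, 17, 19, 21, 23], [0, 3, 6, 9, 12, 15, 18, 21, 1, 4, 7, 10, 13, 16, 19, 22, 2, 5, 8, 11, 14, 17, 20, 23], [0, 4, 8, 12, 16, 20, 1, 5, 9, 13, 17, 21, 2, 6, 10, 14, 18, 22, 3, 7, 11, 15, 19, 23], [0, 5, 8, 2, 16, 20, 1, 4, 14, 10, 17, 21, 12, 3, 13, 9, 11, 19, 6, 15, 18, 7, 22, 23], [0, 6, 12, 18, 1, 7, 13, 19, 2, 8, 14, 20, 3, 9, 15, 21, 4,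 10, 16, 22, 5, 11, 17, 23], [0, 7, 2, 12, 4, 5, 6, 1, 15, 14, 10, 11, 3, 18, 9, 8, 20, 22, 13, 21, 16, 19, 17, 23], [0, 8, 16, 1, 9, 17, 2, 10, 18, 3, 11, 19, 4, 12, 20, 5, 13, 21, 6, 14, 22, 7, 15, 23], [0, 9, 18, 4, 13, 22, 8, 17, 3, 12, 21, 7, 16, 2, 11, 20, 6, 15, 1, 10, 19, 5, 14, 23], [0, 10, 16, 4, 9, 17, 2, 8, 5, 20, 11, 19, 1, 6, 3, 18, 22, 15, 12, 7, 13, 14, 21, 23], [0, 11, 13, 15, 1, 7, 12, 22, 17, 18, 20, 14, 8, 5, 3, 10, 9, 2, 4, 6, 16, 19, 21, 23], [0, 12, 1, 13, 2, 14, 3, 15, 4, 16, 5, 17, 6, 18, 7, 19, 8, 20, 9, 21, 10, 22, 11, 23], [0, 13, 3, 16, 6, 19, 9, 22, 12, 2, 15, 5, 18, 8, 21, 11, 1, 14, 4, 17, 7, 20, 10, 23], [0, 14, 4, 1, 8, 10, 12, 2, 7, 5, 20, 22, 6, 13, 18, 16, 17, 21, 3, 19, 9, 15, 11, 23], [0, 15, 1, 6, 2, 14, 3, 12, 19, 7, 5, 17, 13, 9, 16, 4, 10, 11, 18, 22, 8, 21, 20, 23], [0, 16, 9, 2, 18, 11, 4, 20, 13, 6, 22,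 15, 8, 1, 17, 10, 3, 19, 12, 5, 21, 14, 7, 23], [0, 17, 9, 2, 6, 19, 3, 20, 14, 18, 5, 15, 21, 1, 16, 10, 4, 11, 7, 22, 8, 13, 12, 23], [0, 18, 13, 8, 3, 21, 16, 11, 6, 1, 19, 14, 9, 4, 22, 17, 12, 7, 2, 20, 15, 10, 5, 23], [0, 19, 12, 3, 1, 7, 13, 6, 21, 15, 14, 20, 18, 16, 8, 2, 5, 17, 9, 11, 4, 22, 10, 23], [0, 20, 16, 1, 3, 21, 13, 10, 7, 9, 14, 19, 22, 12, 8, 5, 2, 17, 15, 11, 4, 18, 6, 23], [0, 21, 3, 16, 2, 14, 1, 22, 20, 6, 17, 5, 7, 8, 13, 11, 9, 19, 10, 15, 18, 12, 4, 23], [0, 22, 13, 8, 1, 7, 12, 11, 10, 3, 20, 14, 15, 4, 18, 17, 16, 21, 5, 19, 9, 6, 2, 23]]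
def u2Tabs : List (List ℕ) := [[0, 1, 2, 3, 4, 5, 6, 7, 8, 9, 10, 11, 12, 13, 14, 15, 16, 17, 18, 19, 20, 21, 22, 23], [0, 1, 3, 12, 10, 21, 20, 4, 14, 9, 7, 5, 2, 13, 22, 18, 6, 15, 17, 19, 16, 11, 8, 23], [0, 1, 4, 22, 19, 16, 18, 10, 5, 17, 6, 8, 15, 20, 2, 12, 11, 13, 7, 14, 9, 21, 3, 23], [0, 1, 5, 12, 2, 10, 4, 15, 9, 22, 6, 11, 13, 17, 19, 20, 3, 16, 21, 8, 18, 7, 14, 23], [0, 1, 6, 10, 2, 13, 14, 16, 4, 5, 18, 9, 17, 21, 8, 22, 19, 3, 12, 15, 20, 11, 7, 23], [0, 1, 7, 22, 16, 17, 5, 8, 20, 19, 6, 13, 12, 18, 11, 21, 9, 10, 14, 4, 2, 15, 3, 23], [0, 1, 8, 13, 2, 10, 14, 9, 20, 5, 7, 16, 17, 12, 6, 15, 11, 3, 21, 22, 4, 19, 18, 23], [0, 1, 9, 12, 2, 17, 19, 14, 5, 7, 16, 11, 21, 10, 4, 3, 20, 6, 13, 8, 18, 22, 15, 23], [0, 1, 10, 15, 16, 9, 22, 7, 3, 4, 21, 6, 13, 12, 20, 18, 5, 2, 8, 11, 14, 17, 19, 23], [0, 1, 11, 22, 16, 10, 20, 19, 5, 8,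 18, 13, 21, 6, 7, 12, 14, 17, 9, 4, 2, 3, 15, 23], [0, 1, 12, 3, 7, 15, 6, 4, 8, 19, 10, 18, 2, 13, 22, 5, 20, 21, 11, 9, 16, 17, 14, 23], [0, 1, 13, 8, 7, 3, 11, 9, 18, 22, 2, 15, 17, 12, 6, 16, 14, 10, 19, 5, 4, 21, 20, 23], [0, 1, 14, 5, 15, 3, 18, 21, 22, 13, 20, 8, 19, 6, 2, 12, 11, 17, 9, 4, 7, 10, 16, 23], [0, 1, 15, 21, 2, 12, 14, 11, 18, 5, 4, 19, 17, 10, 22, 8, 9, 3, 13, 6, 7, 16, 20, 23], [0, 1, 16, 19, 7, 12, 11, 14, 20, 22, 4, 21, 17, 3, 5, 13, 9, 10, 8, 6, 2, 15, 18, 23], [0, 1, 17, 8, 9, 16, 11, 7, 18, 5, 2, 19, 13, 12, 20, 3, 4, 21, 15, 22, 14, 10, 6, 23], [0, 1, 18, 17, 10, 13, 20, 6, 8, 9, 16, 11, 2, 21, 19, 3, 4, 15, 12, 22, 7, 5, 14, 23], [0, 1, 19, 13, 10, 17, 20, 11, 7, 9, 14, 6, 2, 12, 18, 22, 5, 15, 21, 3, 8, 4, 16, 23], [0, 1, 20, 8, 11, 17, 5, 22, 7, 9, 15, 12, 13, 4, 16, 10, 19, 21, 14, 18, 2, 6, 3, 23], [0, 1, 21, 18, 5,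 4, 19, 7, 15, 16, 17, 22, 12, 13, 14, 8, 9, 10, 3, 6, 20, 2, 11, 23], [0, 1, 22, 12, 2, 21, 14, 19, 7, 5, 20, 11, 17, 13, 15, 6, 16, 3, 10, 8, 18, 9, 4, 23]]
def u3Tabs : List (List ℕ) := [[0, 1, 2, 3, 4, 5, 6, 7, 8, 9, 10, 11, 12, 13, 14, 15, 16, 17, 18, 19, 20, 21, 22, 23], [0, 1, 2, 4, 3, 16, 6, 7, 9, 8, 12, 20, 10, 17, 22, 18, 5, 13, 15, 19, 11, 21, 14, 23], [0, 1, 2, 5, 8, 14, 16, 22, 19, 20, 10, 7, 21, 12, 3, 9, 18, 17, 6, 4, 15, 13, 11, 23], [0, 1, 2, 6, 5, 7, 9, 15, 4, 11, 12, 22, 13, 17, 19, 8, 14, 21, 16, 20, 18, 10, 3, 23], [0, 1, 2, 7, 9, 19, 11, 8, 22, 5, 17, 16, 13, 10, 6, 14, 15, 21, 4, 18, 3, 12, 20, 23], [0, 1, 2, 8, 9, 18, 6, 7, 3, 4, 13, 14, 17, 10, 11, 16, 15, 12, 5, 19, 22, 21, 20, 23], [0, 1, 2, 9, 7, 15, 11, 8, 5, 22, 13, 3, 17, 21, 20, 4, 19, 10, 14, 18, 16, 12, 6, 23], [0, 1, 2, 10, 3, 20, 16, 4, 19, 18, 12, 6, 7, 5, 15, 11,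 14, 9, 21, 13, 8, 22, 17, 23], [0, 1, 2, 11, 19, 8, 5, 14, 9, 16, 13, 20, 10, 21, 18, 22, 6, 12, 15, 3, 4, 17, 7, 23], [0, 1, 2, 12, 6, 18, 14, 5, 20, 16, 13, 9, 15, 7, 8, 22, 19, 11, 10, 17, 4, 3, 21, 23], [0, 1, 2, 13, 3, 4, 9, 20, 11, 7, 21, 8, 18, 5, 22, 19, 14, 16, 12, 10, 6, 15, 17, 23], [0, 1, 2, 14, 16, 3, 20, 9, 7, 8, 12, 6, 21, 13, 5, 18, 22, 17, 19, 15, 11, 10, 4, 23], [0, 1, 2, 15, 11, 20, 22, 4, 3, 7, 21, 14, 17, 12, 9, 19, 8, 10, 5, 16, 6, 13, 18, 23], [0, 1, 2, 16, 14, 22, 20, 9, 8, 7, 21, 11, 12, 17, 4, 19, 3, 13, 18, 15, 6, 10, 5, 23], [0, 1, 2, 17, 6, 5, 11, 18, 22, 15, 10, 4, 16, 7, 3, 20, 19, 14, 13, 12, 9, 8, 21, 23], [0, 1, 2, 18, 6, 11, 4, 16, 14, 9, 10, 5, 17, 21, 8, 15, 7, 12, 3, 22, 20, 13, 19, 23], [0, 1, 2, 19, 11, 6, 5, 14, 16, 9, 10, 4, 13, 12, 7, 15, 8, 21, 22, 3, 20, 17, 18, 23], [0, 1, 2, 20, 22, 9, 7, 19, 14, 11, 12,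 5, 17, 13, 15, 8, 4, 10, 3, 6, 18, 21, 16, 23], [0, 1, 2, 21, 16, 6, 3, 14, 15, 18, 12, 20, 9, 22, 19, 11, 4, 7, 10, 17, 8, 5, 13, 23], [0, 1, 2, 22, 8, 4, 3, 5, 15, 6, 21, 9, 10, 12, 16, 7, 18, 13, 20, 14, 19, 17, 11, 23]]

/-- Multiplication by two on the residues modulo 23: an element of order eleven. -/
def xP : Equiv.Perm GolayPt := permOfTab xL xiL (by decide) (by decide)
/-- An involution generating `M22` together with `xP`. -/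
def zP : Equiv.Perm GolayPt := permOfTab zL zL (by decide) (by decide)

theorem tab_x : Tab xP xL := tab_permOfTab _ _ _ _ (by decide)
theorem tab_z : Tab zP zL := tab_permOfTab _ _ _ _ (by decide)
theorem tab_xi : Tab xP⁻¹ xiL := tab_x.inv (by decide)

theorem x_mem24 : xP ∈ M24 := mem_M24_of_tab tab_x (by decide)
theorem z_mem24 : zP ∈ M24 := mem_M24_of_tab tab_z (by decide)

theorem pt23 : pt 23 = (none : GolayPt) := by decide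
theorem pt0 : pt 0 = (some 0 : GolayPt) := by decide

theorem mem_M22' {g : Equiv.Perm GolayPt} :
    g ∈ Spor.M22 ↔ g ∈ M24 ∧ g (pt 23) = pt 23 ∧ g (pt 0) = pt 0 := by
  rw [mem_M22_iff, pt23, pt0]

theorem x_mem : xP ∈ Spor.M22 := mem_M22'.mpr ⟨x_mem24, by decide, by decide⟩
theorem z_mem : zP ∈ Spor.M22 := mem_M22'.mpr ⟨z_mem24, by decide, by decide⟩

/-- The subgroup generated by the two generators. -/
def K : Subgroup (Equiv.Perm GolayPt) := Subgroup.closure {xP, zP}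

theorem K_le : K ≤ Spor.M22 := by
  rw [K, Subgroup.closure_le]
  intro g hg
  rcases hg with rfl | rfl
  · exact x_mem
  · exact z_mem

def initTabs : List (List ℕ) := [xL, zL, xiL]

theorem good_init : GoodTabs K initTabs := by
  intro l hl
  simp only [initTabs, List.mem_cons, List.not_mem_nil, or_false] at hl
  rcases hl with rfl | rfl | rfl
  · exact ⟨xP, Subgroup.subset_closure (by simp), tab_x, rfl⟩
  · exact ⟨zP, Subgroup.subset_closure (by simp), tab_z, rfl⟩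
  · exact ⟨xP⁻¹, K.inv_mem (Subgroup.subset_closure (by simp)), tab_xi, rfl⟩

def allTabs : List (List ℕ) := slpTabs m22Prog initTabs

theorem good_all : GoodTabs K allTabs := goodTabs_slp m22Prog _ good_init

theorem sub_all : ∀ l ∈ nuL :: (u1Tabs ++ u2Tabs ++ u3Tabs ++ g5Tabs), l ∈ allTabs := by
  decide +kernel

theorem good_u1 : GoodTabs K u1Tabs :=
  good_all.subset fun l hl => sub_all l (by simp [hl])
theorem good_u2 : GoodTabs K u2Tabs :=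
  good_all.subset fun l hl => sub_all l (by simp [hl])
theorem good_u3 : GoodTabs K u3Tabs :=
  good_all.subset fun l hl => sub_all l (by simp [hl])
theorem good_g5 : GoodTabs K g5Tabs :=
  good_all.subset fun l hl => sub_all l (by simp [hl])
theorem good_nu : GoodTabs K [nuL] :=
  good_all.subset fun l hl => sub_all l (by simp at hl; simp [hl])

theorem tab_uniq' {σ τ : Equiv.Perm GolayPt} {l : List ℕ} (h : Tab σ l) (h' : Tab τ l) :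
    σ = τ := by
  apply Equiv.ext
  intro p
  apply idx_injective
  rw [h p, h' p]

/-! ### The factorisation -/

/-- One step: strip a transversal element. -/
theorem strip {tabs : List (List ℕ)} (hT : GoodTabs K tabs) (fixed : List ℕ) (b : ℕ) (hb : b < 24)
    (hbf : b ∉ fixed) (hfixed : ∀ f ∈ fixed, f < 24)
    (hfix : ∀ l ∈ tabs, ∀ f ∈ fixed, l.getD f 0 = f)
    (hcov : ∀ q < 24, q ∉ fixed → ∃ l ∈ tabs, l.getD b 0 = q)
    {g : Equiv.Perm GolayPt} (hg : ∀ f ∈ fixed, g (pt f) = pt f) :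
    ∃ l ∈ tabs, ∃ u ∈ K, Tab u l ∧ l.length = 24 ∧ (∀ f ∈ fixed, (u⁻¹ * g) (pt f) = pt f) ∧
      (u⁻¹ * g) (pt b) = pt b := by
  have hq : idx (g (pt b)) ∉ fixed := by
    intro hmem
    have h1 := hg _ hmem
    rw [pt_idx] at h1
    have h2 := g.injective h1
    have h3 : idx (g (pt b)) = b := by rw [h2, idx_pt b hb]
    exact hbf (h3 ▸ hmem)
  obtain ⟨l, hl, hlq⟩ := hcov _ (idx_lt _) hq
  obtain ⟨u, hu, ht, hlen⟩ := hT l hl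
  refine ⟨l, hl, u, hu, ht, hlen, ?_, ?_⟩
  · intro f hf
    rw [Equiv.Perm.mul_apply, hg f hf, Equiv.Perm.inv_eq_iff_eq,
      ht.fix f (hfixed f hf) (hfix l hl f hf)]
  · rw [Equiv.Perm.mul_apply, Equiv.Perm.inv_eq_iff_eq, ht.apply b hb, hlq, pt_idx]

theorem u1_fix : ∀ l ∈ u1Tabs, ∀ f ∈ [23, 0], l.getD f 0 = f := by decide
theorem u2_fix : ∀ l ∈ u2Tabs, ∀ f ∈ [23, 0, 1], l.getD f 0 = f := by decide
theorem u3_fix : ∀ l ∈ u3Tabs, ∀ f ∈ [23, 0, 1, 2], l.getD f 0 = f := by decide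
theorem u1_cov : ∀ q < 24, q ∉ [23, 0] → ∃ l ∈ u1Tabs, l.getD 1 0 = q := by decide
theorem u2_cov : ∀ q < 24, q ∉ [23, 0, 1] → ∃ l ∈ u2Tabs, l.getD 2 0 = q := by decide
theorem u3_cov : ∀ q < 24, q ∉ [23, 0, 1, 2] → ∃ l ∈ u3Tabs, l.getD 3 0 = q := by decide

/-- Every element of `M22` is a product of three transversal elements and an element of the
five-point stabiliser; in particular the two generators generate `M22`. -/
theorem m22_factor {g : Equiv.Perm GolayPt} (hg : g ∈ Spor.M22) :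
    ∃ t1 ∈ u1Tabs, ∃ t2 ∈ u2Tabs, ∃ t3 ∈ u3Tabs, ∃ l ∈ g5Tabs,
      Tab g (mulTab t1 (mulTab t2 (mulTab t3 l))) ∧ g ∈ K := by
  obtain ⟨hg24, h23, h0⟩ := mem_M22'.mp hg
  have hf0 : ∀ f ∈ [23, 0], g (pt f) = pt f := by
    intro f hf
    simp only [List.mem_cons, List.not_mem_nil, or_false] at hf
    rcases hf with rfl | rfl
    · exact h23
    · exact h0
  obtain ⟨t1, ht1, u1, hu1, htab1, hlen1, hfix1, hb1⟩ :=
    strip good_u1 [23, 0] 1 (by norm_num) (by decide) (by decide) u1_fix u1_cov hf0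
  have hf1 : ∀ f ∈ [23, 0, 1], (u1⁻¹ * g) (pt f) = pt f := by
    intro f hf
    rw [List.mem_cons] at hf
    rcases hf with rfl | hf
    · exact hfix1 23 (by simp)
    · rw [List.mem_cons] at hf
      rcases hf with rfl | hf
      · exact hfix1 0 (by simp)
      · rw [List.mem_singleton] at hf
        subst hf
        exact hb1
  obtain ⟨t2, ht2, u2, hu2, htab2, hlen2, hfix2, hb2⟩ :=
    strip good_u2 [23, 0, 1] 2 (by norm_num) (by decide) (by decide) u2_fix u2_cov hf1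
  have hf2 : ∀ f ∈ [23, 0, 1, 2], (u2⁻¹ * (u1⁻¹ * g)) (pt f) = pt f := by
    intro f hf
    simp only [List.mem_cons, List.not_mem_nil, or_false] at hf
    rcases hf with rfl | rfl | rfl | rfl
    · exact hfix2 23 (by simp)
    · exact hfix2 0 (by simp)
    · exact hfix2 1 (by simp)
    · exact hb2
  obtain ⟨t3, ht3, u3, hu3, htab3, hlen3, hfix3, hb3⟩ :=
    strip good_u3 [23, 0, 1, 2] 3 (by norm_num) (by decide) (by decide) u3_fix u3_cov hf2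
  have hK24 : ∀ {u : Equiv.Perm GolayPt}, u ∈ K → u ∈ M24 :=
    fun hu => (mem_M22'.mp (K_le hu)).1
  have hG5 : u3⁻¹ * (u2⁻¹ * (u1⁻¹ * g)) ∈ G5 := by
    rw [mem_G5]
    refine ⟨M24.mul_mem (M24.inv_mem (hK24 hu3)) (M24.mul_mem (M24.inv_mem (hK24 hu2))
      (M24.mul_mem (M24.inv_mem (hK24 hu1)) hg24)), ?_⟩
    intro b hb
    simp only [base5, List.mem_cons, List.not_mem_nil, or_false] at hb
    rcases hb with rfl | rfl | rfl | rfl | rfl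
    · exact hfix3 23 (by simp)
    · exact hfix3 0 (by simp)
    · exact hfix3 1 (by simp)
    · exact hfix3 2 (by simp)
    · exact hb3
  obtain ⟨l, hl, htl⟩ := g5_elem hG5
  obtain ⟨σ, hσ, htσ, hlenl⟩ := good_g5 l hl
  have hσeq : σ = u3⁻¹ * (u2⁻¹ * (u1⁻¹ * g)) := tab_uniq' htσ htl
  have hgeq : g = u1 * (u2 * (u3 * σ)) := by rw [hσeq]; group
  refine ⟨t1, ht1, t2, ht2, t3, ht3, l, hl, ?_, ?_⟩
  · rw [hgeq]
    have e3 := htab3.mul htσ hlenl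
    have e2 := htab2.mul e3 (by rw [mulTab_length, hlenl])
    exact htab1.mul e2 (by rw [mulTab_length, mulTab_length, hlenl])
  · rw [hgeq]
    exact K.mul_mem hu1 (K.mul_mem hu2 (K.mul_mem hu3 hσ))

theorem K_eq : K = Spor.M22 :=
  le_antisymm K_le fun _ hg => (m22_factor hg).choose_spec.2.choose_spec.2.choose_spec.2.choose_spec.2.2

end Cfsg.Agent.Helper92.M22Out
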