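import Cfsg.Agent.Lib.Helper92.M22Gen

/-!
# The involutions of `M22` satisfying two relations with the element of order eleven
-/

set_option autoImplicit false

namespace Cfsg.Agent.Helper92.M22Out
open Cfsg Cfsg.Agent.Helper7 Cfsg.Agent.Helper92
open scoped Pointwise

def u1N : List ℕ := [984818244535754528103549039458486304, 983435072843990828779021698901151808, 982051901153124072706648311500937312, 980668730378935070469623699575545984, 984247628525144725527431166921089184, 977903326592794432676351619257413824, 978241746458226444833005867658250464, 975166140090675008210365318152896768, 973782968399780250007192978068752672, 983226860165835161009662407585448256, 983433437177139353924210616721454432, 970567384681219435340729552166356352, 969184212989482915311201746032266656, 970282076689830757794419947111223744, 982207002901747481371478642894505440, 965063883269089610517257152230401536, 971497877006651799925732507295753760, 962298451038133363011374430748423744, 969261308301847010509886596762940000, 963906759590609621568469426026627712, 961085121707192559395540101121969824, 958234327859970275292207235091150528]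
def u2N : List ℕ := [984818244535754528103549039458486304, 966234485409130904920540129079462944, 960140678452450492241672397613895712, 973862775953301743475687914467628064, 964941316702496306941247799798601760, 959888028389648606590357877493013536, 979524657637612459404911461569830944, 975769312185559963132964906383844384, 980753826825910181737220605963905056, 974978135221564100564917299236776992, 974265916292271752572946082742513696, 982201260064496970026563818935825440, 976566501420017389104504679171274784, 982002270829574731108486355152976928, 979359213409366626393144874740858912, 963595353454946260985249400261723168, 973768245575843065205408816049997856, 976324355312345084675043060416433184, 959523500051141442399022887839485984, 969768162778161740200513725661795360, 960963149340307973282510454087112736]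
def u3N : List ℕ := [984818244535754528103549039458486304, 974422238081544939122441376219924512, 970207962303803020723517763629516832, 959706123435500735053322669041846304, 981835405881661943280920902862342176, 982224615119864135432614471389153312, 963678858292926370123013012841596960, 978352992191870035532562233336072224, 965163951885447906216885862698158112, 982769631805873051938917216028067872, 978066373443624222676752689702275104, 960995129594636700304981929757181984, 979283546799368188040433456274442272, 962286864140653867024520594739169312, 982978599914299960816003189748303904, 980599603407022916402920467664013344, 979463059671913328358098609083353120, 977026730109025138393343272176715808, 972471238156340489213650609118021664, 970375705500203540640006387094194208]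
def g5N : List ℕ := [984818244535754528103549039458486304, 976531636853126291160407323722221600, 972606645568131968584696805283956768, 965128854020860192151391391390468128, 983141956895601025126892051911247904, 980874226864350081512017426024335392, 963721886883755259286232606933354528, 980504394422866046962412236452235296, 983271302155371035984055114495264800, 979121071158219704299181131031480352, 971828115858035635643548061566863392, 969836898326968551397880902883313696, 968708902336673183175954409307867168, 981515887986994088769278604842469408, 975728708050008715525885598301784096, 967812279691448225500382947153381408, 975754295934893126319599781779965984, 982125237077252311731715764534741024, 971592882964418941354553515258775584, 979037747421335847153138073498388512, 966320096358733541442380578386184224, 970499966350631336865513127433832480, 966039336168793943308839874394687520, 979416905286026856737440949975746592, 976448692869377735270425038196672544, 984559288045672395699075860841728032, 961029066359601346093702817927759904, 981818691054096003685363657089320992, 968918221426309407724683958819063840, 967365292857695660364575527991871520, 972512676110088067912772961567868960,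 961409415667826064667231448532617248, 984436632068016323118584907140532256, 966182099583441531322624363496310816, 970452748381697609285226999098476576, 971863989228759034920585190470420512, 983548720921252936276249910206105632, 965225113279737155758354497310656544, 963582593757073591850928955785840672, 975346028712660580592452217730074656, 967738580936480664927891663448279072, 968621477650857569167789942210922528, 980224387687010295957922729495201824, 963515095949177277443875056653535264, 964862721552653238424309835408443424, 961365507626256404119956257276790816, 972679049849814778609582601333213216, 976909097487365034896521273070946336]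

/-! ### Tables of powers -/

def powT (l : List ℕ) : ℕ → List ℕ
  | 0 => idTab
  | n + 1 => mulTab l (powT l n)

theorem powT_length (l : List ℕ) (hl : l.length = 24) (n : ℕ) : (powT l n).length = 24 := by
  cases n with
  | zero => rfl
  | succ n => rw [powT, mulTab_length]; exact powT_length l hl n

theorem powT_tab {σ : Equiv.Perm GolayPt} {l : List ℕ} (h : Tab σ l) (hl : l.length = 24) (n : ℕ) :
    Tab (σ ^ n) (powT l n) := by
  induction n with
  | zero => rw [pow_zero]; exact tab_one
  | succ n ih =>
    rw [pow_succ', powT]
    exact h.mul ih (powT_length l hl n)

def x3L : List ℕ := [0, 8, 16, 1, 9, 17, 2, 10, 18, 3, 11, 19, 4, 12, 20, 5, 13, 21, 6, 14, 22, 7, 15, 23]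
def x5L : List ℕ := [0, 9, 18, 4, 13, 22, 8, 17, 3, 12, 21, 7, 16, 2, 11, 20, 6, 15, 1, 10, 19, 5, 14, 23]
theorem x3L_eq : powT xL 3 = x3L := by decide
theorem x5L_eq : powT xL 5 = x5L := by decide

theorem tab_x3 : Tab (xP ^ 3) x3L := x3L_eq ▸ powT_tab tab_x rfl 3
theorem tab_x5 : Tab (xP ^ 5) x5L := x5L_eq ▸ powT_tab tab_x rfl 5

def isIdT (l : List ℕ) : Bool := (List.range 24).all fun i => Nat.beq (l.getD i 0) i

theorem isIdT_of_one {l : List ℕ} (h : Tab 1 l) : isIdT l = true := by
  rw [isIdT, List.all_eq_true]
  intro i hi
  rw [List.mem_range] at hi
  rw [Nat.beq_eq]
  have := h (pt i)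
  rw [Equiv.Perm.one_apply, idx_pt i hi] at this
  exact this.symm

theorem one_of_isIdT {σ : Equiv.Perm GolayPt} {l : List ℕ} (h : Tab σ l) (hid : isIdT l = true) :
    σ = 1 := by
  apply Equiv.ext
  intro p
  apply idx_injective
  rw [h p, Equiv.Perm.one_apply]
  rw [isIdT, List.all_eq_true] at hid
  have := hid (idx p) (List.mem_range.mpr (idx_lt p))
  rwa [Nat.beq_eq] at this

/-! ### The conjugates of the involution under the element of order eleven -/

def conjT (i : ℕ) : List ℕ := mulTab (mulTab (powT xL i) zL) (powT xiL i)
def conjTabs : List (List ℕ) := (List.range 11).map conjT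

theorem conjT_tab (i : ℕ) : Tab (xP ^ i * zP * xP⁻¹ ^ i) (conjT i) :=
  ((powT_tab tab_x rfl i).mul tab_z rfl).mul (powT_tab tab_xi rfl i) (powT_length _ rfl i)

def rel1 (g : List ℕ) : List ℕ := powT (mulTab x3L g) 4
def rel2 (g : List ℕ) : List ℕ := powT (mulTab xL (mulTab g (mulTab x5L g))) 6

theorem rel1_tab {w : Equiv.Perm GolayPt} {g : List ℕ} (h : Tab w g) (hl : g.length = 24) :
    Tab ((xP ^ 3 * w) ^ 4) (rel1 g) :=
  powT_tab (tab_x3.mul h hl) (by rw [mulTab_length, hl]) 4

theorem rel2_tab {w : Equiv.Perm GolayPt} {g : List ℕ} (h : Tab w g) (hl : g.length = 24) :
    Tab ((xP * (w * (xP ^ 5 * w))) ^ 6) (rel2 g) := by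
  have h1 := tab_x5.mul h hl
  have h2 := h.mul h1 (by rw [mulTab_length, hl])
  have h3 := tab_x.mul h2 (by rw [mulTab_length, mulTab_length, hl])
  exact powT_tab h3 (by rw [mulTab_length, mulTab_length, mulTab_length, hl]) 6

/-- The relations hold for the generators. -/
theorem rel1_z : isIdT (rel1 zL) = true := by decide +kernel
theorem rel2_z : isIdT (rel2 zL) = true := by decide +kernel

def chkG (g : List ℕ) : Bool :=
  !(isIdT (rel1 g)) || !(isIdT (rel2 g)) || conjTabs.any fun c => eqTab g c

/-! ### Tables packed into numbers -/

/-- Entry `i` of a table packed with five bits per entry. -/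
def look (n i : ℕ) : ℕ := Nat.land (Nat.shiftRight n (5 * i)) 31

def repB (n : ℕ) (t : List ℕ) : Bool :=
  (List.range 24).all fun i => Nat.beq (look n i) (t.getD i 0)

theorem repB_spec {n : ℕ} {t : List ℕ} (h : repB n t = true) {i : ℕ} (hi : i < 24) :
    look n i = t.getD i 0 := by
  rw [repB, List.all_eq_true] at h
  have := h i (List.mem_range.mpr hi)
  rwa [Nat.beq_eq] at this

def app4N (n1 n2 n3 n : ℕ) (p : ℕ) : ℕ := look n1 (look n2 (look n3 (look n p)))

def tabOf4 (n1 n2 n3 n : ℕ) : List ℕ := (List.range 24).map (app4N n1 n2 n3 n)

def isInv4N (n1 n2 n3 n : ℕ) : Bool :=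
  (List.range 24).all fun p => Nat.beq (app4N n1 n2 n3 n (app4N n1 n2 n3 n p)) p

def chkN (n1 n2 n3 n : ℕ) : Bool :=
  !(isInv4N n1 n2 n3 n) || chkG (tabOf4 n1 n2 n3 n)

theorem tabOf4_length (n1 n2 n3 n : ℕ) : (tabOf4 n1 n2 n3 n).length = 24 := by
  simp [tabOf4]

theorem tabOf4_getD (n1 n2 n3 n : ℕ) {p : ℕ} (hp : p < 24) :
    (tabOf4 n1 n2 n3 n).getD p 0 = app4N n1 n2 n3 n p := by
  rw [tabOf4, List.getD_eq_getElem _ _ (by simp; exact hp), List.getElem_map, List.getElem_range]

/-- The packed product is a table of the product. -/
theorem tabOf4_tab {u1 u2 u3 u4 : Equiv.Perm GolayPt} {t1 t2 t3 t4 : List ℕ} {n1 n2 n3 n4 : ℕ}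
    (h1 : Tab u1 t1) (h2 : Tab u2 t2) (h3 : Tab u3 t3) (h4 : Tab u4 t4)
    (r1 : repB n1 t1 = true) (r2 : repB n2 t2 = true) (r3 : repB n3 t3 = true)
    (r4 : repB n4 t4 = true) : Tab (u1 * (u2 * (u3 * u4))) (tabOf4 n1 n2 n3 n4) := by
  intro p
  rw [tabOf4_getD _ _ _ _ (idx_lt p), app4N, repB_spec r4 (idx_lt p), ← h4 p,
    repB_spec r3 (idx_lt _), ← h3, repB_spec r2 (idx_lt _), ← h2, repB_spec r1 (idx_lt _), ← h1]
  rfl

theorem isInv4N_of {w : Equiv.Perm GolayPt} {n1 n2 n3 n4 : ℕ} (h : Tab w (tabOf4 n1 n2 n3 n4))
    (hw : w * w = 1) : isInv4N n1 n2 n3 n4 = true := by
  rw [isInv4N, List.all_eq_true]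
  intro p hp
  rw [List.mem_range] at hp
  rw [Nat.beq_eq]
  have e1 : app4N n1 n2 n3 n4 p = idx (w (pt p)) := by
    rw [← tabOf4_getD _ _ _ _ hp, h (pt p), idx_pt p hp]
  rw [e1, ← tabOf4_getD _ _ _ _ (idx_lt _), ← h (w (pt p))]
  have : w (w (pt p)) = pt p := by
    rw [← Equiv.Perm.mul_apply, hw, Equiv.Perm.one_apply]
  rw [this, idx_pt p hp]

theorem rep_u1 : u1Tabs.all (fun t => u1N.any fun n => repB n t) = true := by decide +kernel
theorem rep_u2 : u2Tabs.all (fun t => u2N.any fun n => repB n t) = true := by decide +kernel
theorem rep_u3 : u3Tabs.all (fun t => u3N.any fun n => repB n t) = true := by decide +kernel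
theorem rep_g5 : g5Tabs.all (fun t => g5N.any fun n => repB n t) = true := by decide +kernel

theorem exists_rep {tabs : List (List ℕ)} {ns : List ℕ}
    (h : tabs.all (fun t => ns.any fun n => repB n t) = true) {t : List ℕ} (ht : t ∈ tabs) :
    ∃ n ∈ ns, repB n t = true := by
  have := List.all_eq_true.mp h t ht
  exact List.any_eq_true.mp this

end Cfsg.Agent.Helper92.M22Out
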