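import Cfsg.Agent.Lib.Helper92.M22Inv

/-!
# Enumeration of the involutions of `M22`, part b
-/

set_option autoImplicit false

namespace Cfsg.Agent.Helper92.M22Out
open Cfsg Cfsg.Agent.Helper7 Cfsg.Agent.Helper92

set_option maxRecDepth 100000 in
theorem main_chk_b : ((u1N.drop 6).take 5).all (fun n1 => u2N.all fun n2 => u3N.all fun n3 =>
    g5N.all fun n => chkN n1 n2 n3 n) = true := by decide +kernel

end Cfsg.Agent.Helper92.M22Out
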