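import Cfsg.Agent.Lib.Helper92.M22Inv_a
import Cfsg.Agent.Lib.Helper92.M22Inv_b
import Cfsg.Agent.Lib.Helper92.M22Inv_c
import Cfsg.Agent.Lib.Helper92.M22Inv_d

/-!
# Enumeration of the involutions of `M22`: the parts combined
-/

set_option autoImplicit false

namespace Cfsg.Agent.Helper92.M22Out
open Cfsg Cfsg.Agent.Helper7 Cfsg.Agent.Helper92

/-- The main enumeration: every involution of `M22` satisfying the two relations is one of the
eleven conjugates. -/
theorem main_chk : u1N.all (fun n1 => u2N.all fun n2 => u3N.all fun n3 =>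
    g5N.all fun n => chkN n1 n2 n3 n) = true := by
  have e : u1N = u1N.take 6 ++ ((u1N.drop 6).take 5 ++ ((u1N.drop 11).take 5 ++ u1N.drop 16)) := by
    decide
  rw [e, List.all_append, List.all_append, List.all_append, main_chk_a, main_chk_b, main_chk_c,
    main_chk_d]
  rfl

end Cfsg.Agent.Helper92.M22Out
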