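import Cfsg.Agent.Lib.Helper91.M22Core
import Cfsg.Agent.Lib.Helper91.SylowTabs
import Cfsg.Agent.Lib.Helper27.M23Gen

/-!
# Tools for `(p,q,r)`-generation of `M23`

Packed-table (`KTab`) checks: powers at points, involution / order-3 tests, orbit masks and an
intransitivity certificate, with their soundness lemmas.
-/

set_option autoImplicit false

namespace Cfsg.Agent.Helper92.M23PQR

open Cfsg Cfsg.Agent.Helper7 Cfsg.Agent.Helper91 Cfsg.Agent.Helper27.M23Gen
open scoped Pointwise

/-- `Gen x y`: the two permutations generate `M23`. -/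
def Gen (x y : Equiv.Perm GolayPt) : Prop := Subgroup.closure {x, y} = Cfsg.Spor.M23

theorem Gen.mem_left {x y : Equiv.Perm GolayPt} (h : Gen x y) : x ∈ Cfsg.Spor.M23 := by
  rw [← h]; exact Subgroup.subset_closure (by simp)

theorem Gen.mem_right {x y : Equiv.Perm GolayPt} (h : Gen x y) : y ∈ Cfsg.Spor.M23 := by
  rw [← h]; exact Subgroup.subset_closure (by simp)

theorem Gen.conj {x y t : Equiv.Perm GolayPt} (h : Gen x y) (ht : t ∈ Cfsg.Spor.M23) :
    Gen (t * x * t⁻¹) (t * y * t⁻¹) := by
  have hl := h.mem_left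
  have hr := h.mem_right
  unfold Gen at *
  apply le_antisymm
  · rw [Subgroup.closure_le]
    rintro z (rfl | rfl)
    · exact Subgroup.mul_mem _ (Subgroup.mul_mem _ ht hl) (Subgroup.inv_mem _ ht)
    · exact Subgroup.mul_mem _ (Subgroup.mul_mem _ ht hr) (Subgroup.inv_mem _ ht)
  · intro g hg
    have h1 : t⁻¹ * g * t ∈ Subgroup.closure {x, y} := by
      rw [h]
      exact Subgroup.mul_mem _ (Subgroup.mul_mem _ (Subgroup.inv_mem _ ht) hg) ht
    have key : ∀ z ∈ Subgroup.closure {x, y},
        t * z * t⁻¹ ∈ Subgroup.closure {t * x * t⁻¹, t * y * t⁻¹} := by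
      intro z hz
      induction hz using Subgroup.closure_induction with
      | mem z hz =>
        rcases hz with rfl | rfl
        · exact Subgroup.subset_closure (by simp)
        · exact Subgroup.subset_closure (by simp)
      | one => simp
      | mul a b _ _ iha ihb =>
        have : t * (a * b) * t⁻¹ = (t * a * t⁻¹) * (t * b * t⁻¹) := by group
        rw [this]
        exact Subgroup.mul_mem _ iha ihb
      | inv a _ iha =>
        have : t * a⁻¹ * t⁻¹ = (t * a * t⁻¹)⁻¹ := by group
        rw [this]
        exact Subgroup.inv_mem _ iha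
    have := key _ h1
    have e : t * (t⁻¹ * g * t) * t⁻¹ = g := by group
    rwa [e] at this

/-! ### Pointwise tests on packed tables -/

/-- Apply the packed table `n` times to the index `a`. -/
def kiter (w : ℕ) : ℕ → ℕ → ℕ
  | 0, a => a
  | n + 1, a => kiter w n (kget w a)

theorem kiter_spec {σ : Equiv.Perm GolayPt} {w : ℕ} (h : KTab σ w) :
    ∀ (n a : ℕ), a < 24 → kiter w n a < 24 ∧ (σ ^ n) (pt a) = pt (kiter w n a) := by
  intro n
  induction n with
  | zero => intro a ha; exact ⟨ha, by simp [kiter]⟩
  | succ n ih =>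
    intro a ha
    have h1 := h.kget_lt a ha
    obtain ⟨h2, h3⟩ := ih (kget w a) h1
    refine ⟨h2, ?_⟩
    rw [pow_succ, Equiv.Perm.mul_apply, h.apply a ha, h3]
    rfl

/-- `w ^ r` moves one of the points `0, …, 7`. -/
def powNe (w r : ℕ) : Bool := (List.range 8).any fun a => !Nat.beq (kiter w r a) a

theorem pt_injOn {a b : ℕ} (ha : a < 24) (hb : b < 24) (h : pt a = pt b) : a = b := by
  have := congrArg idx h
  rwa [idx_pt a ha, idx_pt b hb] at this

theorem powNe_spec {σ : Equiv.Perm GolayPt} {w r : ℕ} (h : KTab σ w) (hne : powNe w r = true) :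
    σ ^ r ≠ 1 := by
  intro h1
  rw [powNe, List.any_eq_true] at hne
  obtain ⟨a, ha, hb⟩ := hne
  rw [List.mem_range] at ha
  have ha24 : a < 24 := by omega
  obtain ⟨h2, h3⟩ := kiter_spec h r a ha24
  rw [h1, Equiv.Perm.one_apply] at h3
  have := pt_injOn ha24 h2 h3
  rw [Bool.not_eq_true', ← Bool.not_eq_true, Nat.beq_eq] at hb
  exact hb this.symm

/-- The packed table is the identity. -/
def isIdK (k : ℕ) : Bool := (List.range 24).all fun i => Nat.beq (kget k i) i

theorem perm_ext_pt {σ τ : Equiv.Perm GolayPt} (h : ∀ i < 24, σ (pt i) = τ (pt i)) : σ = τ := by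
  apply Equiv.ext
  intro p
  have := h (idx p) (idx_lt p)
  rwa [pt_idx] at this

theorem isIdK_of_one {σ : Equiv.Perm GolayPt} {k : ℕ} (h : KTab σ k) (h1 : σ = 1) :
    isIdK k = true := by
  rw [isIdK, List.all_eq_true]
  intro i hi
  rw [List.mem_range] at hi
  rw [Nat.beq_eq]
  have := h.apply i hi
  rw [h1, Equiv.Perm.one_apply] at this
  exact (pt_injOn hi (h.kget_lt i hi) this).symm

theorem one_of_isIdK {σ : Equiv.Perm GolayPt} {k : ℕ} (h : KTab σ k) (h1 : isIdK k = true) :
    σ = 1 := by
  rw [isIdK, List.all_eq_true] at h1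
  apply perm_ext_pt
  intro i hi
  have := h1 i (List.mem_range.mpr hi)
  rw [Nat.beq_eq] at this
  rw [h.apply i hi, this, Equiv.Perm.one_apply]

/-- The packed table is an involution. -/
def isInvK (k : ℕ) : Bool :=
  ((List.range 24).all fun i => Nat.beq (kget k (kget k i)) i) && !isIdK k

theorem isInvK_of {σ : Equiv.Perm GolayPt} {k : ℕ} (h : KTab σ k) (h2 : σ ^ 2 = 1)
    (hne : σ ≠ 1) : isInvK k = true := by
  rw [isInvK, Bool.and_eq_true, List.all_eq_true]
  constructor
  · intro i hi
    rw [List.mem_range] at hi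
    rw [Nat.beq_eq]
    have h1 := h.kget_lt i hi
    have e : (σ ^ 2) (pt i) = pt (kget k (kget k i)) := by
      rw [pow_two, Equiv.Perm.mul_apply, h.apply i hi, h.apply _ h1]
    rw [h2, Equiv.Perm.one_apply] at e
    exact (pt_injOn hi (h.kget_lt _ h1) e).symm
  · rw [Bool.not_eq_true']
    by_contra hc
    rw [Bool.not_eq_false] at hc
    exact hne (one_of_isIdK h hc)

/-- The packed table has order three. -/
def isOrd3K (k : ℕ) : Bool :=
  ((List.range 24).all fun i => Nat.beq (kget k (kget k (kget k i))) i) && !isIdK k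

theorem isOrd3K_of {σ : Equiv.Perm GolayPt} {k : ℕ} (h : KTab σ k) (h3 : σ ^ 3 = 1)
    (hne : σ ≠ 1) : isOrd3K k = true := by
  rw [isOrd3K, Bool.and_eq_true, List.all_eq_true]
  constructor
  · intro i hi
    rw [List.mem_range] at hi
    rw [Nat.beq_eq]
    have h1 := h.kget_lt i hi
    have h2 := h.kget_lt _ h1
    have e : (σ ^ 3) (pt i) = pt (kget k (kget k (kget k i))) := by
      rw [pow_succ, pow_two, Equiv.Perm.mul_apply, Equiv.Perm.mul_apply, h.apply i hi,
        h.apply _ h1, h.apply _ h2]
    rw [h3, Equiv.Perm.one_apply] at e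
    exact (pt_injOn hi (h.kget_lt _ h2) e).symm
  · rw [Bool.not_eq_true']
    by_contra hc
    rw [Bool.not_eq_false] at hc
    exact hne (one_of_isIdK h hc)

/-- The packed table `ki` is the inverse of `k`. -/
def kinvOK (k ki : ℕ) : Bool :=
  (List.range 24).all fun i => Nat.blt (kget ki i) 24 && Nat.beq (kget k (kget ki i)) i

theorem ktab_inv_of {σ : Equiv.Perm GolayPt} {k ki : ℕ} (h : KTab σ k)
    (hi : kinvOK k ki = true) : KTab σ⁻¹ ki := by
  rw [kinvOK, List.all_eq_true] at hi
  apply Tab.inv h
  intro i hi24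
  have := hi i (List.mem_range.mpr hi24)
  rw [Bool.and_eq_true, Nat.blt_eq, Nat.beq_eq] at this
  rw [ktab_getD ki i hi24, ktab_getD k _ this.1]
  exact this

/-! ### Orbit masks and the intransitivity certificate -/

/-- Add the point `q` to the mask and the stack if it is new. -/
def addPt (m : ℕ) (st : List ℕ) (q : ℕ) : ℕ × List ℕ :=
  if tb m q then (m, st) else (Nat.lor m (Nat.pow 2 q), q :: st)

/-- Orbit of the stacked points under the two packed tables (with fuel). -/
def orbGo (kx ky : ℕ) : ℕ → ℕ → List ℕ → ℕ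
  | 0, m, _ => m
  | _ + 1, m, [] => m
  | f + 1, m, p :: st =>
    let s1 := addPt m st (kget kx p)
    let s2 := addPt s1.1 s1.2 (kget ky p)
    orbGo kx ky f s2.1 s2.2

/-- The mask is closed under the packed table (on the points `0, …, 22`). -/
def closedK (k m : ℕ) : Bool := (List.range 23).all fun i => !tb m i || tb m (kget k i)

/-- The mask contains `0`, misses one of `0, …, 22`, and is closed under both tables. -/
def invMask (kx ky m : ℕ) : Bool :=
  tb m 0 && ((List.range 23).any fun j => !tb m j) && closedK kx m && closedK ky m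

/-- Intransitivity certificate: the orbit of `0` is a proper invariant subset. -/
def intrans (kx ky : ℕ) : Bool := invMask kx ky (orbGo kx ky 30 1 [0])

/-- The set of the points `pt i`, `i < 23`, whose bit is set. -/
def maskSet (m : ℕ) : Finset GolayPt :=
  Finset.univ.filter fun p => idx p < 23 ∧ m.testBit (idx p) = true

theorem mem_maskSet (m : ℕ) (p : GolayPt) :
    p ∈ maskSet m ↔ idx p < 23 ∧ m.testBit (idx p) = true := by
  simp [maskSet]

theorem pt_mem_maskSet (m i : ℕ) (hi : i < 23) : pt i ∈ maskSet m ↔ m.testBit i = true := by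
  rw [mem_maskSet, idx_pt i (by omega)]
  simp [hi]

theorem smul_maskSet {σ : Equiv.Perm GolayPt} {k m : ℕ} (h : KTab σ k)
    (hfix : σ (pt 23) = pt 23) (hc : closedK k m = true) : σ • maskSet m = maskSet m := by
  rw [smul_finset_eq]
  apply Finset.eq_of_subset_of_card_le
  · intro q hq
    rw [Finset.mem_image] at hq
    obtain ⟨p, hp, rfl⟩ := hq
    rw [mem_maskSet] at hp
    obtain ⟨hp1, hp2⟩ := hp
    have hi : idx p < 24 := by omega
    have e : σ p = pt (kget k (idx p)) := by
      have := h.apply (idx p) hi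
      rwa [pt_idx] at this
    have hlt := h.kget_lt (idx p) hi
    have hne : kget k (idx p) ≠ 23 := by
      intro h23
      rw [h23, ← hfix] at e
      have := σ.injective e
      have := congrArg idx this
      rw [idx_pt 23 (by norm_num)] at this
      omega
    rw [closedK, List.all_eq_true] at hc
    have := hc (idx p) (List.mem_range.mpr hp1)
    rw [Bool.or_eq_true, Bool.not_eq_true', tb_eq, tb_eq] at this
    rcases this with h0 | h0
    · rw [hp2] at h0; exact absurd h0 (by simp)
    · rw [e, pt_mem_maskSet _ _ (by omega)]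
      exact h0
  · rw [Finset.card_image_of_injective _ σ.injective]

theorem gShift_apply (i : ℕ) (hi : i < 22) : gShift (pt i) = pt (i + 1) := by
  have := tab_shift.apply i (by omega)
  rw [this]
  congr 1
  interval_cases i <;> rfl

/-- Soundness of the intransitivity certificate. -/
theorem not_gen_of_invMask {x y : Equiv.Perm GolayPt} {kx ky m : ℕ} (hx : KTab x kx)
    (hy : KTab y ky) (hm : invMask kx ky m = true) : ¬ Gen x y := by
  intro hg
  rw [invMask, Bool.and_eq_true, Bool.and_eq_true, Bool.and_eq_true, List.any_eq_true] at hm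
  obtain ⟨⟨⟨h0, j, hj, hj'⟩, hcx⟩, hcy⟩ := hm
  rw [List.mem_range] at hj
  have hxf : x (pt 23) = pt 23 := (mem_M23.mp hg.mem_left).2
  have hyf : y (pt 23) = pt 23 := (mem_M23.mp hg.mem_right).2
  have hsx := smul_maskSet hx hxf hcx
  have hsy := smul_maskSet hy hyf hcy
  have hle : Subgroup.closure {x, y} ≤ MulAction.stabilizer (Equiv.Perm GolayPt) (maskSet m) := by
    rw [Subgroup.closure_le]
    rintro z (rfl | rfl)
    · exact MulAction.mem_stabilizer_iff.mpr hsx
    · exact MulAction.mem_stabilizer_iff.mpr hsy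
  have hsh : gShift • maskSet m = maskSet m := by
    have : gShift ∈ Subgroup.closure {x, y} := by rw [hg]; exact shift_mem23
    exact MulAction.mem_stabilizer_iff.mp (hle this)
  have hall : ∀ i < 23, pt i ∈ maskSet m := by
    intro i
    induction i with
    | zero =>
      intro _
      rw [pt_mem_maskSet _ _ (by norm_num), ← tb_eq]
      exact h0
    | succ i ih =>
      intro hi
      have h1 := ih (by omega)
      rw [← gShift_apply i (by omega), ← hsh, smul_finset_eq]
      exact Finset.mem_image_of_mem _ h1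
  have := hall j hj
  rw [pt_mem_maskSet _ _ hj, ← tb_eq] at this
  rw [this] at hj'
  exact absurd hj' (by simp)

/-- The combined check: for every `r` in the list `w ^ r ≠ 1`, or `⟨x, y⟩` is intransitive. -/
def chkAll (R : List ℕ) (kx ky : ℕ) : Bool :=
  (R.all fun r => powNe (kmul kx ky) r) || intrans kx ky

theorem no_gen {x y : Equiv.Perm GolayPt} {kx ky r : ℕ} {R : List ℕ} (hx : KTab x kx)
    (hy : KTab y ky) (hc : chkAll R kx ky = true) (hr : r ∈ R) (hpow : (x * y) ^ r = 1) :
    ¬ Gen x y := by
  rw [chkAll, Bool.or_eq_true] at hc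
  rcases hc with hc | hc
  · rw [List.all_eq_true] at hc
    exact fun _ => powNe_spec (hx.mul hy) (hc r hr) hpow
  · exact not_gen_of_invMask hx hy hc

end Cfsg.Agent.Helper92.M23PQR
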