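import Cfsg.Agent.Lib.Helper92.M23Data

/-!
# Normal forms for involutions and elements of order three of `M23`

Every element of `M23` fixing `0` is `s * τ₂ * τ₁` with `s` in the four-point stabiliser (960 keys)
and `τ₁, τ₂` in explicit transversals; an involution moving `0` is conjugate, by a transversal
element, to an involution interchanging `0` and `1`; an element of order three moving `0` is
conjugate to one with `0 ↦ 1 ↦ 5 ↦ 0`.
-/

set_option autoImplicit false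

namespace Cfsg.Agent.Helper92.M23PQR

open Cfsg Cfsg.Agent.Helper7 Cfsg.Agent.Helper91 Cfsg.Agent.Helper27.M23Gen
open scoped Pointwise

/-- The packed table belongs to `M23`. -/
def m23OK (k : ℕ) : Bool := m24TabOK (ktab k) && Nat.beq (kget k 23) 23

theorem exists_of_m23OK {k : ℕ} (h : m23OK k = true) : ∃ σ ∈ Cfsg.Spor.M23, KTab σ k := by
  rw [m23OK, Bool.and_eq_true, Nat.beq_eq] at h
  obtain ⟨σ, hσ, hk⟩ := KTab.exists_of_ok h.1
  refine ⟨σ, mem_M23.mpr ⟨hσ, ?_⟩, hk⟩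
  have := hk.apply 23 (by norm_num)
  rw [h.2] at this
  exact this

theorem fix23 {σ : Equiv.Perm GolayPt} (h : σ ∈ Cfsg.Spor.M23) : σ (pt 23) = pt 23 :=
  (mem_M23.mp h).2

theorem conj_apply (τ x : Equiv.Perm GolayPt) (p : GolayPt) :
    (τ * x * τ⁻¹) (τ p) = τ (x p) := by
  simp [Equiv.Perm.mul_apply]

theorem inv_apply_of {σ : Equiv.Perm GolayPt} {p q : GolayPt} (h : σ p = q) : σ⁻¹ q = p := by
  rw [← h]; simp

theorem t1_ok : T1P.all (fun p => m23OK p.1 && kinvOK p.1 p.2 && Nat.beq (kget p.1 0) 0) = true := by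
  decide +kernel

theorem t1_cover : (List.range 23).all (fun d => Nat.beq d 0 ||
    T1P.any (fun p => Nat.beq (kget p.1 d) 1)) = true := by decide +kernel

theorem t2_ok : T2P.all (fun p => m23OK p.1 && kinvOK p.1 p.2 && Nat.beq (kget p.1 0) 0 &&
    Nat.beq (kget p.1 1) 1) = true := by decide +kernel

theorem t2_cover : (List.range 23).all (fun f => Nat.beq f 0 || Nat.beq f 1 ||
    T2P.any (fun p => Nat.beq (kget p.1 f) 5)) = true := by decide +kernel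

theorem s01_ok : (m23OK s01K && Nat.beq (kget s01K 0) 1 && Nat.beq (kget s01K 1) 0) = true := by
  decide +kernel

theorem c015_ok : (m23OK c015K && Nat.beq (kget c015K 0) 1 && Nat.beq (kget c015K 1) 5 &&
    Nat.beq (kget c015K 5) 0) = true := by decide +kernel

theorem t1_spec (d : ℕ) (hd : d < 23) (hd0 : d ≠ 0) : ∃ p ∈ T1P, ∃ τ ∈ Cfsg.Spor.M23,
    KTab τ p.1 ∧ KTab τ⁻¹ p.2 ∧ τ (pt 0) = pt 0 ∧ τ (pt d) = pt 1 := by
  have hc := List.all_eq_true.mp t1_cover d (List.mem_range.mpr hd)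
  rw [Bool.or_eq_true, Nat.beq_eq, List.any_eq_true] at hc
  rcases hc with hc | ⟨p, hp, hpd⟩
  · exact absurd hc hd0
  · have hok := List.all_eq_true.mp t1_ok p hp
    simp only [Bool.and_eq_true, Nat.beq_eq] at hok
    obtain ⟨⟨h1, h2⟩, h3⟩ := hok
    obtain ⟨τ, hτ, hk⟩ := exists_of_m23OK h1
    rw [Nat.beq_eq] at hpd
    refine ⟨p, hp, τ, hτ, hk, ktab_inv_of hk h2, ?_, ?_⟩
    · rw [hk.apply 0 (by norm_num), h3]
    · rw [hk.apply d (by omega), hpd]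

theorem t2_spec (f : ℕ) (hf : f < 23) (hf0 : f ≠ 0) (hf1 : f ≠ 1) : ∃ p ∈ T2P,
    ∃ τ ∈ Cfsg.Spor.M23, KTab τ p.1 ∧ KTab τ⁻¹ p.2 ∧ τ (pt 0) = pt 0 ∧ τ (pt 1) = pt 1 ∧
      τ (pt f) = pt 5 := by
  have hc := List.all_eq_true.mp t2_cover f (List.mem_range.mpr hf)
  rw [Bool.or_eq_true, Bool.or_eq_true, Nat.beq_eq, Nat.beq_eq, List.any_eq_true] at hc
  rcases hc with (hc | hc) | ⟨p, hp, hpf⟩
  · exact absurd hc hf0
  · exact absurd hc hf1
  · have hok := List.all_eq_true.mp t2_ok p hp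
    simp only [Bool.and_eq_true, Nat.beq_eq] at hok
    obtain ⟨⟨⟨h1, h2⟩, h3⟩, h4⟩ := hok
    obtain ⟨τ, hτ, hk⟩ := exists_of_m23OK h1
    rw [Nat.beq_eq] at hpf
    refine ⟨p, hp, τ, hτ, hk, ktab_inv_of hk h2, ?_, ?_, ?_⟩
    · rw [hk.apply 0 (by norm_num), h3]
    · rw [hk.apply 1 (by norm_num), h4]
    · rw [hk.apply f (by omega), hpf]

/-- Index of the image of a point, for an element of `M23`. -/
theorem exists_idx {σ : Equiv.Perm GolayPt} (hσ : σ ∈ Cfsg.Spor.M23) (i : ℕ) (hi : i < 23) :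
    ∃ d < 23, σ (pt i) = pt d := by
  refine ⟨idx (σ (pt i)), ?_, (pt_idx _).symm⟩
  have h24 := idx_lt (σ (pt i))
  by_contra hc
  have e : idx (σ (pt i)) = 23 := by omega
  have : σ (pt i) = pt 23 := by rw [← e, pt_idx]
  rw [← fix23 hσ] at this
  have := pt_injOn (by omega) (by norm_num) (σ.injective this)
  omega

/-- Elements of `M23` fixing `0` and `1`. -/
theorem stab01_key {h : Equiv.Perm GolayPt} (hh : h ∈ Cfsg.Spor.M23) (h0 : h (pt 0) = pt 0)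
    (h1 : h (pt 1) = pt 1) : ∃ ks ∈ m22g20K, ∃ p ∈ T2P, ∃ s τ : Equiv.Perm GolayPt,
      KTab s ks ∧ KTab τ p.1 ∧ h = s * τ := by
  obtain ⟨f, hf, hf5⟩ := exists_idx (Subgroup.inv_mem _ hh) 5 (by norm_num)
  have hhf : h (pt f) = pt 5 := by rw [← hf5]; simp
  have hf0 : f ≠ 0 := by
    rintro rfl
    rw [h0] at hhf
    exact absurd (pt_injOn (by norm_num) (by norm_num) hhf) (by norm_num)
  have hf1 : f ≠ 1 := by
    rintro rfl
    rw [h1] at hhf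
    exact absurd (pt_injOn (by norm_num) (by norm_num) hhf) (by norm_num)
  obtain ⟨p, hp, τ, hτ, hk, _, t0, t1, t5⟩ := t2_spec f hf hf0 hf1
  have hs : h * τ⁻¹ ∈ m22G20 := by
    rw [mem_stabL]
    refine ⟨Subgroup.mul_mem _ (mem_M23.mp hh).1 (Subgroup.inv_mem _ (mem_M23.mp hτ).1), ?_⟩
    intro b hb
    simp only [List.mem_cons, List.not_mem_nil, or_false] at hb
    rcases hb with rfl | rfl | rfl | rfl
    · rw [Equiv.Perm.mul_apply, inv_apply_of (fix23 hτ), fix23 hh]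
    · rw [Equiv.Perm.mul_apply, inv_apply_of t0, h0]
    · rw [Equiv.Perm.mul_apply, inv_apply_of t1, h1]
    · rw [Equiv.Perm.mul_apply, inv_apply_of t5, hhf]
  obtain ⟨ks, hks, hsk⟩ := m22G20_key _ hs
  exact ⟨ks, hks, p, hp, h * τ⁻¹, τ, hsk, hk, by group⟩

/-- Elements of `M23` fixing `0`. -/
theorem stab0_key {m : Equiv.Perm GolayPt} (hm : m ∈ Cfsg.Spor.M23) (h0 : m (pt 0) = pt 0) :
    ∃ ks ∈ m22g20K, ∃ p2 ∈ T2P, ∃ p1 ∈ T1P, KTab m (kmul ks (kmul p2.1 p1.1)) ∧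
      ∀ i < 24, kget ks (kget p2.1 (kget p1.1 i)) < 24 ∧
        m (pt i) = pt (kget ks (kget p2.1 (kget p1.1 i))) := by
  obtain ⟨d, hd, hd1⟩ := exists_idx (Subgroup.inv_mem _ hm) 1 (by norm_num)
  have hmd : m (pt d) = pt 1 := by rw [← hd1]; simp
  have hd0 : d ≠ 0 := by
    rintro rfl
    rw [h0] at hmd
    exact absurd (pt_injOn (by norm_num) (by norm_num) hmd) (by norm_num)
  obtain ⟨p1, hp1, τ1, hτ1, hk1, _, t0, t1⟩ := t1_spec d hd hd0
  have hh : m * τ1⁻¹ ∈ Cfsg.Spor.M23 := Subgroup.mul_mem _ hm (Subgroup.inv_mem _ hτ1)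
  have e0 : (m * τ1⁻¹) (pt 0) = pt 0 := by
    rw [Equiv.Perm.mul_apply, inv_apply_of t0, h0]
  have e1 : (m * τ1⁻¹) (pt 1) = pt 1 := by
    rw [Equiv.Perm.mul_apply, inv_apply_of t1, hmd]
  obtain ⟨ks, hks, p2, hp2, s, τ2, hsk, hk2, he⟩ := stab01_key hh e0 e1
  refine ⟨ks, hks, p2, hp2, p1, hp1, ?_⟩
  have : m = s * (τ2 * τ1) := by
    have : m = (m * τ1⁻¹) * τ1 := by group
    rw [this, he]; group
  rw [this]
  refine ⟨hsk.mul (hk2.mul hk1), ?_⟩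
  intro i hi
  refine ⟨hsk.kget_lt _ (hk2.kget_lt _ (hk1.kget_lt i hi)), ?_⟩
  rw [Equiv.Perm.mul_apply, Equiv.Perm.mul_apply, hk1.apply i hi,
    hk2.apply _ (hk1.kget_lt i hi), hsk.apply _ (hk2.kget_lt _ (hk1.kget_lt i hi))]

/-- Normal form of an involution of `M23`. -/
theorem inv_cases {x : Equiv.Perm GolayPt} (hx : x ∈ Cfsg.Spor.M23) (h2 : x ^ 2 = 1) :
    (∃ ks ∈ m22g20K, ∃ p2 ∈ T2P, ∃ p1 ∈ T1P, KTab x (kmul ks (kmul p2.1 p1.1)) ∧
      ∀ i < 24, kget ks (kget p2.1 (kget p1.1 i)) < 24 ∧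
        x (pt i) = pt (kget ks (kget p2.1 (kget p1.1 i)))) ∨
    (∃ p1 ∈ T1P, ∃ τ ∈ Cfsg.Spor.M23, KTab τ p1.1 ∧ KTab τ⁻¹ p1.2 ∧
      ∃ ks ∈ m22g20K, ∃ p2 ∈ T2P, KTab (τ * x * τ⁻¹) (kmul s01K (kmul ks p2.1))) := by
  obtain ⟨d, hd, hxd⟩ := exists_idx hx 0 (by norm_num)
  by_cases hd0 : d = 0
  · left
    subst hd0
    exact stab0_key hx hxd
  · right
    have hxx : x (pt d) = pt 0 := by
      have : (x ^ 2) (pt 0) = pt 0 := by rw [h2]; rfl
      rwa [pow_two, Equiv.Perm.mul_apply, hxd] at this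
    obtain ⟨p1, hp1, τ, hτ, hk, hki, t0, t1⟩ := t1_spec d hd hd0
    refine ⟨p1, hp1, τ, hτ, hk, hki, ?_⟩
    have hok := s01_ok
    simp only [Bool.and_eq_true, Nat.beq_eq] at hok
    obtain ⟨⟨hs1, hs2⟩, hs3⟩ := hok
    obtain ⟨σ, hσ, hσk⟩ := exists_of_m23OK hs1
    have s0 : σ (pt 0) = pt 1 := by rw [hσk.apply 0 (by norm_num), hs2]
    have s1 : σ (pt 1) = pt 0 := by rw [hσk.apply 1 (by norm_num), hs3]
    have hx' : τ * x * τ⁻¹ ∈ Cfsg.Spor.M23 :=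
      Subgroup.mul_mem _ (Subgroup.mul_mem _ hτ hx) (Subgroup.inv_mem _ hτ)
    have a0 : (τ * x * τ⁻¹) (pt 0) = pt 1 := by
      have := conj_apply τ x (pt 0)
      rwa [t0, hxd, t1] at this
    have a1 : (τ * x * τ⁻¹) (pt 1) = pt 0 := by
      have := conj_apply τ x (pt d)
      rwa [t1, hxx, t0] at this
    have hh : σ⁻¹ * (τ * x * τ⁻¹) ∈ Cfsg.Spor.M23 :=
      Subgroup.mul_mem _ (Subgroup.inv_mem _ hσ) hx'
    have e0 : (σ⁻¹ * (τ * x * τ⁻¹)) (pt 0) = pt 0 := by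
      rw [Equiv.Perm.mul_apply, a0, inv_apply_of s0]
    have e1 : (σ⁻¹ * (τ * x * τ⁻¹)) (pt 1) = pt 1 := by
      rw [Equiv.Perm.mul_apply, a1, inv_apply_of s1]
    obtain ⟨ks, hks, p2, hp2, s, τ2, hsk, hk2, he⟩ := stab01_key hh e0 e1
    refine ⟨ks, hks, p2, hp2, ?_⟩
    have : τ * x * τ⁻¹ = σ * (s * τ2) := by
      rw [← he]; group
    rw [this]
    exact hσk.mul (hsk.mul hk2)

/-- Normal form of an element of order three of `M23`. -/
theorem ord3_cases {x : Equiv.Perm GolayPt} (hx : x ∈ Cfsg.Spor.M23) (h3 : x ^ 3 = 1) :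
    (∃ ks ∈ m22g20K, ∃ p2 ∈ T2P, ∃ p1 ∈ T1P, KTab x (kmul ks (kmul p2.1 p1.1)) ∧
      ∀ i < 24, kget ks (kget p2.1 (kget p1.1 i)) < 24 ∧
        x (pt i) = pt (kget ks (kget p2.1 (kget p1.1 i)))) ∨
    (∃ p1 ∈ T1P, ∃ p2 ∈ T2P, ∃ τ ∈ Cfsg.Spor.M23, KTab τ (kmul p2.1 p1.1) ∧
      KTab τ⁻¹ (kmul p1.2 p2.2) ∧ ∃ ks ∈ m22g20K, KTab (τ * x * τ⁻¹) (kmul c015K ks)) := by
  obtain ⟨d, hd, hxd⟩ := exists_idx hx 0 (by norm_num)
  by_cases hd0 : d = 0
  · left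
    subst hd0
    exact stab0_key hx hxd
  · right
    obtain ⟨e, he, hxe⟩ := exists_idx hx d hd
    have hx3 : x (pt e) = pt 0 := by
      have : (x ^ 3) (pt 0) = pt 0 := by rw [h3]; rfl
      rwa [pow_succ, pow_two, Equiv.Perm.mul_apply, Equiv.Perm.mul_apply, hxd, hxe] at this
    obtain ⟨p1, hp1, τ1, hτ1, hk1, hki1, t0, t1⟩ := t1_spec d hd hd0
    -- the image of `e` under `τ1`
    obtain ⟨e', he', hτe⟩ := exists_idx hτ1 e he
    have he0 : e' ≠ 0 := by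
      rintro rfl
      rw [← t0] at hτe
      have h1 := pt_injOn (by omega) (by norm_num) (τ1.injective hτe)
      subst h1
      rw [hxd] at hx3
      exact hd0 (pt_injOn (by omega) (by norm_num) hx3)
    have he1 : e' ≠ 1 := by
      rintro rfl
      rw [← t1] at hτe
      have h1 := pt_injOn (by omega) (by omega) (τ1.injective hτe)
      subst h1
      rw [hxe] at hx3
      have h2 := pt_injOn (by omega) (by norm_num) hx3
      subst h2
      exact hd0 (pt_injOn (by omega) (by norm_num) (x.injective (hxe.trans hxd.symm)))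
    obtain ⟨p2, hp2, τ2, hτ2, hk2, hki2, u0, u1, u5⟩ := t2_spec e' he' he0 he1
    have hτ : τ2 * τ1 ∈ Cfsg.Spor.M23 := Subgroup.mul_mem _ hτ2 hτ1
    refine ⟨p1, hp1, p2, hp2, τ2 * τ1, hτ, hk2.mul hk1, ?_, ?_⟩
    · rw [mul_inv_rev]
      exact hki1.mul hki2
    · have c0 : (τ2 * τ1) (pt 0) = pt 0 := by rw [Equiv.Perm.mul_apply, t0, u0]
      have cd : (τ2 * τ1) (pt d) = pt 1 := by rw [Equiv.Perm.mul_apply, t1, u1]
      have ce : (τ2 * τ1) (pt e) = pt 5 := by rw [Equiv.Perm.mul_apply, hτe, u5]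
      have a0 : (τ2 * τ1 * x * (τ2 * τ1)⁻¹) (pt 0) = pt 1 := by
        have := conj_apply (τ2 * τ1) x (pt 0)
        rwa [c0, hxd, cd] at this
      have a1 : (τ2 * τ1 * x * (τ2 * τ1)⁻¹) (pt 1) = pt 5 := by
        have := conj_apply (τ2 * τ1) x (pt d)
        rwa [cd, hxe, ce] at this
      have a5 : (τ2 * τ1 * x * (τ2 * τ1)⁻¹) (pt 5) = pt 0 := by
        have := conj_apply (τ2 * τ1) x (pt e)
        rwa [ce, hx3, c0] at this
      have hok := c015_ok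
      simp only [Bool.and_eq_true, Nat.beq_eq] at hok
      obtain ⟨⟨⟨hs1, hs2⟩, hs3⟩, hs4⟩ := hok
      obtain ⟨σ, hσ, hσk⟩ := exists_of_m23OK hs1
      have s0 : σ (pt 0) = pt 1 := by rw [hσk.apply 0 (by norm_num), hs2]
      have s1 : σ (pt 1) = pt 5 := by rw [hσk.apply 1 (by norm_num), hs3]
      have s5 : σ (pt 5) = pt 0 := by rw [hσk.apply 5 (by norm_num), hs4]
      have hx' : τ2 * τ1 * x * (τ2 * τ1)⁻¹ ∈ Cfsg.Spor.M23 :=
        Subgroup.mul_mem _ (Subgroup.mul_mem _ hτ hx) (Subgroup.inv_mem _ hτ)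
      have hs : σ⁻¹ * (τ2 * τ1 * x * (τ2 * τ1)⁻¹) ∈ m22G20 := by
        rw [mem_stabL]
        refine ⟨Subgroup.mul_mem _ (Subgroup.inv_mem _ (mem_M23.mp hσ).1) (mem_M23.mp hx').1, ?_⟩
        intro b hb
        simp only [List.mem_cons, List.not_mem_nil, or_false] at hb
        rcases hb with rfl | rfl | rfl | rfl
        · rw [Equiv.Perm.mul_apply, fix23 hx', inv_apply_of (fix23 hσ)]
        · rw [Equiv.Perm.mul_apply, a0, inv_apply_of s0]
        · rw [Equiv.Perm.mul_apply, a1, inv_apply_of s1]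
        · rw [Equiv.Perm.mul_apply, a5, inv_apply_of s5]
      obtain ⟨ks, hks, hsk⟩ := m22G20_key _ hs
      refine ⟨ks, hks, ?_⟩
      have : τ2 * τ1 * x * (τ2 * τ1)⁻¹ = σ * (σ⁻¹ * (τ2 * τ1 * x * (τ2 * τ1)⁻¹)) := by group
      rw [this]
      exact hσk.mul hsk

end Cfsg.Agent.Helper92.M23PQR
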