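import Cfsg.Agent.Lib.Helper92.MultAbs4

/-!
# Double covers: reduction of a stem extension with `2`-group kernel to kernel of order two,
and the final statement for groups of the shape met in `M23`.
-/

set_option autoImplicit false

namespace Cfsg.Agent.Helper92.Mult

open scoped Pointwise

universe u

section Reduce

/-- The quotient of a stem extension by a subgroup of the kernel is a stem extension. -/
theorem stem_quotient {Γ G : Type*} [Group Γ] [Group G] (σ : Γ →* G)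
    (hσ : Cfsg.IsStemExtension σ) (Z₀ : Subgroup Γ) [Z₀.Normal] (hZ : Z₀ ≤ σ.ker) :
    Cfsg.IsStemExtension (QuotientGroup.lift Z₀ σ hZ) := by
  obtain ⟨hsurj, hcen, hcomm⟩ := hσ
  refine ⟨?_, ?_, ?_⟩
  · intro g
    obtain ⟨γ, rfl⟩ := hsurj g
    exact ⟨QuotientGroup.mk γ, rfl⟩
  · intro y hy
    obtain ⟨γ, rfl⟩ := QuotientGroup.mk_surjective y
    have hk : γ ∈ σ.ker := by
      rw [MonoidHom.mem_ker] at hy ⊢
      exact hy
    have hc := Subgroup.mem_center_iff.1 (hcen hk)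
    rw [Subgroup.mem_center_iff]
    intro w
    obtain ⟨δ, rfl⟩ := QuotientGroup.mk_surjective w
    rw [← QuotientGroup.mk_mul, ← QuotientGroup.mk_mul, hc δ]
  · intro y hy
    obtain ⟨γ, rfl⟩ := QuotientGroup.mk_surjective y
    have hk : γ ∈ σ.ker := by
      rw [MonoidHom.mem_ker] at hy ⊢
      exact hy
    have h1 : (QuotientGroup.mk' Z₀) γ ∈ (commutator Γ).map (QuotientGroup.mk' Z₀) :=
      ⟨γ, hcomm hk, rfl⟩
    rw [commutator_def, Subgroup.map_commutator, ← MonoidHom.range_eq_map,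
      MonoidHom.range_eq_top.2 (QuotientGroup.mk'_surjective Z₀), ← commutator_def] at h1
    exact h1

theorem zpowers_invol {Γ : Type*} [Group Γ] (z : Γ) (hz : z * z = 1) {g : Γ}
    (hg : g ∈ Subgroup.zpowers z) : g = 1 ∨ g = z := by
  rw [Subgroup.mem_zpowers_iff] at hg
  obtain ⟨j, rfl⟩ := hg
  have h2 : z ^ (2 : ℤ) = 1 := by rw [zpow_two, hz]
  rcases Int.even_or_odd' j with ⟨i, rfl | rfl⟩
  · left
    rw [zpow_mul, h2, one_zpow]
  · right
    rw [zpow_add_one, zpow_mul, h2, one_zpow, one_mul]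

/-- If the kernels of the stem extensions of `G` are `2`-groups and `G` has no stem extension
with kernel of order two, then all stem extensions of `G` are trivial. -/
theorem ker_eq_bot_of_no_double_cover {G : Type u} [Group G] [Finite G]
    (h2 : ∀ (Γ : Type u) [Group Γ] [Finite Γ] (σ : Γ →* G), Cfsg.IsStemExtension σ →
      ∀ k ∈ σ.ker, ∃ m : ℕ, k ^ (2 ^ m) = 1)
    (hmain : ∀ (Γ : Type u) [Group Γ] [Finite Γ] (σ : Γ →* G) (z : Γ), Ext2 σ z →
      z ∈ commutator Γ → False) :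
    ∀ (Γ : Type u) [Group Γ] [Finite Γ] (σ : Γ →* G), Cfsg.IsStemExtension σ → σ.ker = ⊥ := by
  suffices H : ∀ (n : ℕ) (Γ : Type u) [Group Γ] [Finite Γ] (σ : Γ →* G),
      Cfsg.IsStemExtension σ → Nat.card Γ = n → σ.ker = ⊥ from
    fun Γ _ _ σ hσ => H _ Γ σ hσ rfl
  intro n
  induction n using Nat.strong_induction_on with
  | _ n ih =>
    intro Γ _ _ σ hσ hn
    by_contra hne
    have hne' : σ.ker ≠ ⊥ := hne
    rw [Subgroup.ne_bot_iff_exists_ne_one] at hne'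
    obtain ⟨⟨k, hk⟩, hk1⟩ := hne'
    have hk1' : k ≠ 1 := fun e => hk1 (Subtype.ext e)
    have hex := h2 Γ σ hσ k hk
    classical
    have hm := Nat.find_spec hex
    have hm0 : Nat.find hex ≠ 0 := by
      intro e
      rw [e, pow_zero, pow_one] at hm
      exact hk1' hm
    obtain ⟨m, hmm⟩ := Nat.exists_eq_succ_of_ne_zero hm0
    have hz1 : k ^ (2 ^ m) ≠ 1 := by
      have := Nat.find_min hex (m := m) (by omega)
      exact this
    have hz2 : k ^ (2 ^ m) * k ^ (2 ^ m) = 1 := by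
      rw [← pow_add, ← two_mul, ← pow_succ', ← Nat.succ_eq_add_one, ← hmm]
      exact hm
    have hzk : k ^ (2 ^ m) ∈ σ.ker := Subgroup.pow_mem _ hk _
    obtain ⟨hsurj, hcen, hcomm⟩ := hσ
    have hzc : ∀ g : Γ, g * k ^ (2 ^ m) = k ^ (2 ^ m) * g :=
      fun g => Subgroup.mem_center_iff.1 (hcen hzk) g
    have hnorm : (Subgroup.zpowers (k ^ (2 ^ m))).Normal := by
      constructor
      intro w hw g
      rcases zpowers_invol _ hz2 hw with rfl | rfl
      · simp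
      · rw [hzc g, mul_inv_cancel_right]
        exact Subgroup.mem_zpowers _
    have hZ : Subgroup.zpowers (k ^ (2 ^ m)) ≤ σ.ker := by
      rw [Subgroup.zpowers_le]; exact hzk
    have hstem := stem_quotient σ ⟨hsurj, hcen, hcomm⟩ (Subgroup.zpowers (k ^ (2 ^ m))) hZ
    have hcard := Subgroup.card_eq_card_quotient_mul_card_subgroup (Subgroup.zpowers (k ^ (2 ^ m)))
    have hord : orderOf (k ^ (2 ^ m)) = 2 := by
      apply orderOf_eq_prime
      · rw [pow_two, hz2]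
      · exact hz1
    rw [Nat.card_zpowers, hord, hn] at hcard
    have hpos : 0 < Nat.card (Γ ⧸ Subgroup.zpowers (k ^ (2 ^ m))) := Nat.card_pos
    have hlt : Nat.card (Γ ⧸ Subgroup.zpowers (k ^ (2 ^ m))) < n := by omega
    have hbot := ih _ hlt (Γ ⧸ Subgroup.zpowers (k ^ (2 ^ m))) _ hstem rfl
    have hker : ∀ g : Γ, σ g = 1 → g = 1 ∨ g = k ^ (2 ^ m) := by
      intro g hg
      have h1 : (QuotientGroup.mk g : Γ ⧸ Subgroup.zpowers (k ^ (2 ^ m))) ∈
          (QuotientGroup.lift (Subgroup.zpowers (k ^ (2 ^ m))) σ hZ).ker := by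
        rw [MonoidHom.mem_ker]
        exact hg
      rw [hbot, Subgroup.mem_bot, QuotientGroup.eq_one_iff] at h1
      exact zpowers_invol _ hz2 h1
    exact hmain Γ σ (k ^ (2 ^ m))
      ⟨hsurj, hz2, hz1, hzc, MonoidHom.mem_ker.1 hzk, hker⟩ (hcomm hzk)

end Reduce

section Final

variable {Γ G : Type*} [Group Γ] [Group G] {σ : Γ →* G} {z : Γ}

theorem liftSq_one (h : Ext2 σ z) : LiftSq σ (1 : G) 1 := by
  intro l hl
  rcases h.ker l hl with rfl | rfl
  · simp
  · exact h.z_sq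

/-- No double cover for a group with one class of involutions meeting `S = E : D₈` as in `M23`. -/
theorem no_double_cover [Finite Γ] [Finite G] (h : Ext2 σ z) (hzcomm : z ∈ commutator Γ)
    (E S : Subgroup G) (x a b t₀ u v w : G) (ht₀ : t₀ * t₀ = 1)
    (hconjE : ∀ e ∈ E, e ≠ 1 → ∃ g : G, g * t₀ * g⁻¹ = e)
    (hconja : ∃ g : G, g * t₀ * g⁻¹ = a) (hconjb : ∃ g : G, g * t₀ * g⁻¹ = b)
    (hconjc : ∃ g : G, g * t₀ * g⁻¹ = (a * b) * (a * b))
    (hu : u ∈ E) (hv : v ∈ E) (hw : w ∈ E) (hu1 : u ≠ 1) (hv1 : v ≠ 1) (hw1 : w ≠ 1)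
    (huv : u * v ≠ 1) (huw : u * w ≠ 1) (hvw : v * w ≠ 1) (huvw : u * v * w ≠ 1)
    (hx3 : x ^ 3 = 1) (hxE : ∀ e ∈ E, x * e * x⁻¹ ∈ E)
    (hN : ∀ e ∈ E, e * (x * e * x⁻¹) * (x * (x * e * x⁻¹) * x⁻¹) = 1)
    (haE : ∀ e ∈ E, a * e * a⁻¹ ∈ E) (hbE : ∀ e ∈ E, b * e * b⁻¹ ∈ E)
    (hax : a⁻¹ * x * a = x⁻¹) (hbx : b⁻¹ * x * b = x)
    (hS : S ≤ Subgroup.closure ((E : Set G) ∪ {a, b}))
    (hEcard : Nat.card E ≤ 16) (hScard : 128 ≤ Nat.card S) (hSodd : ¬ 2 ∣ S.index) : False := by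
  have key : ∀ p : Γ, (∀ g : Γ, g * p = p * g) → LiftSq σ t₀ p →
      (∀ e ∈ E, e ≠ 1 → LiftSq σ e p) ∧ LiftSq σ a p ∧ LiftSq σ b p ∧
        LiftSq σ ((a * b) * (a * b)) p := by
    intro p hp hl
    refine ⟨?_, ?_, ?_, ?_⟩
    · intro e he he1
      obtain ⟨g, rfl⟩ := hconjE e he he1
      exact liftSq_conj h hp hl g
    · obtain ⟨g, hg⟩ := hconja
      rw [← hg]; exact liftSq_conj h hp hl g
    · obtain ⟨g, hg⟩ := hconjb
      rw [← hg]; exact liftSq_conj h hp hl g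
    · obtain ⟨g, hg⟩ := hconjc
      rw [← hg]; exact liftSq_conj h hp hl g
  rcases liftSq_cases h t₀ ht₀ with hl | hl
  · obtain ⟨k1, k2, k3, k4⟩ := key 1 (fun g => by simp) hl
    have hE : ∀ e ∈ E, LiftSq σ e 1 := by
      intro e he
      by_cases he1 : e = 1
      · rw [he1]; exact liftSq_one h
      · exact k1 e he he1
    exact caseA_false h hzcomm E S x a b hE hx3 hxE hN k2 k3 k4 haE hbE hax hbx hS hEcard hScard
      hSodd
  · obtain ⟨k1, -, -, -⟩ := key z h.z_comm hl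
    have hz : z = 1 ∨ z = z := Or.inr rfl
    have := q3 h hz hz hz hz hz hz hz (k1 u hu hu1) (k1 v hv hv1) (k1 w hw hw1)
      (k1 _ (E.mul_mem hu hv) huv) (k1 _ (E.mul_mem hu hw) huw) (k1 _ (E.mul_mem hv hw) hvw)
      (k1 _ (E.mul_mem (E.mul_mem hu hv) hw) huvw)
    apply h.z_ne
    have e1 : z * z * z = z := by rw [h.z_sq, one_mul]
    rw [e1, h.z_sq] at this
    exact this

end Final

end Cfsg.Agent.Helper92.Mult
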