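import Cfsg.Agent.Lib.Helper92.M23MultData
import Cfsg.Agent.Lib.Helper92.MultAbs5
import Cfsg.Agent.Lib.Helper27.M23Gen

/-!
# `M23` has no double cover

The concrete input for `Mult.no_double_cover`: the sextet group `E = 2^4`, its fixed-point-free
element `x` of order three, a dihedral complement `⟨a, b⟩`, and the conjugacy of the
involutions involved.
-/

set_option autoImplicit false

namespace Cfsg.Agent.Helper92.M23Mult

open Cfsg Cfsg.Agent.Helper7 Cfsg.Agent.Helper91 Cfsg.Agent.Helper27.M23Gen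
open Cfsg.Agent.Helper92.Mult

/-- The table is that of an element of `M23`. -/
def m23TabOK (l : List ℕ) : Bool := m24TabOK l && Nat.beq (l.getD 23 0) 23

theorem exists_of_m23TabOK {l : List ℕ} (h : m23TabOK l = true) :
    ∃ σ ∈ Cfsg.Spor.M23, Tab σ l ∧ l.length = 24 := by
  rw [m23TabOK, Bool.and_eq_true, Nat.beq_eq] at h
  obtain ⟨h1, h2⟩ := m24TabOK_spec h.1
  have ht := tab_permOfTab l h1
  exact ⟨permOfTab l h1, mem_M23.mpr ⟨h2, ht.fix 23 (by norm_num) h.2⟩, ht, (tabOK_spec h1).1⟩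

theorem goodTabs_M23_of_ok {L : List (List ℕ)} (h : L.all m23TabOK = true) :
    GoodTabs Cfsg.Spor.M23 L := fun l hl => exists_of_m23TabOK (List.all_eq_true.mp h l hl)

/-- An element of `M23` together with its table. -/
structure TE where
  g : ↥Cfsg.Spor.M23
  l : List ℕ
  tab : Tab (g : Equiv.Perm GolayPt) l
  len : l.length = 24

/-- product of tabled elements -/
def TE.mul (p q : TE) : TE :=
  ⟨p.g * q.g, mulTab p.l q.l, p.tab.mul q.tab q.len, by rw [mulTab_length, q.len]⟩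

theorem TE.eq_of {p q : TE} (h : p.l = q.l) : p.g = q.g :=
  Subtype.ext (tab_unique p.tab (h ▸ q.tab))

theorem TE.eq_one {p : TE} (h : p.l = idTab) : p.g = 1 :=
  Subtype.ext (tab_unique p.tab (h ▸ tab_one))

/-- the tabled element of a good table -/
noncomputable def mk (l : List ℕ) (h : m23TabOK l = true) : TE :=
  ⟨⟨Classical.choose (exists_of_m23TabOK h), (Classical.choose_spec (exists_of_m23TabOK h)).1⟩, l,
    (Classical.choose_spec (exists_of_m23TabOK h)).2.1,
    (Classical.choose_spec (exists_of_m23TabOK h)).2.2⟩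

theorem mk_l (l : List ℕ) (h : m23TabOK l = true) : (mk l h).l = l := rfl

/-! ### The subgroups `E` and `S` -/

def basisE : List (List ℕ) := [tE1, tE2, tE3, tE4]

def gensS : List (List ℕ) := [tA, tRho, tC, tE1, tE2, tE3, tE4]

theorem gensS_ok : gensS.all m23TabOK = true := by decide +kernel

theorem basisE_ok : basisE.all m23TabOK = true := by decide +kernel

theorem gensS_pc : pcOK gensS = true := by decide +kernel

theorem basisE_pc : pcOK basisE = true := by decide +kernel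

theorem goodE : GoodTabs Cfsg.Spor.M23 basisE := goodTabs_M23_of_ok basisE_ok

theorem goodS : GoodTabs Cfsg.Spor.M23 gensS := goodTabs_M23_of_ok gensS_ok

/-- the sextet group `2^4` -/
noncomputable def E : Subgroup ↥Cfsg.Spor.M23 :=
  tabSubgroup Cfsg.Spor.M23 (spanTabs basisE) (goodTabs_spanTabs goodE) (idTab_mem_spanTabs _)
    (spanTabs_mul_closed goodE (spanTabs_of_pcOK goodE basisE_pc).1)

/-- a Sylow `2`-subgroup -/
noncomputable def S : Subgroup ↥Cfsg.Spor.M23 :=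
  tabSubgroup Cfsg.Spor.M23 (spanTabs gensS) (goodTabs_spanTabs goodS) (idTab_mem_spanTabs _)
    (spanTabs_mul_closed goodS (spanTabs_of_pcOK goodS gensS_pc).1)

theorem mem_E (e : ↥Cfsg.Spor.M23) :
    e ∈ E ↔ ∃ l ∈ spanTabs basisE, Tab (e : Equiv.Perm GolayPt) l := Iff.rfl

theorem mem_S (e : ↥Cfsg.Spor.M23) :
    e ∈ S ↔ ∃ l ∈ spanTabs gensS, Tab (e : Equiv.Perm GolayPt) l := Iff.rfl

theorem card_E : Nat.card E = 16 := by
  rw [E, card_tabSubgroup _ _ _ (spanTabs_of_pcOK goodE basisE_pc).2, length_spanTabs]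
  rfl

theorem card_S : Nat.card S = 128 := by
  rw [S, card_tabSubgroup _ _ _ (spanTabs_of_pcOK goodS gensS_pc).2, length_spanTabs]
  rfl

/-- a tabled element from membership in `E` -/
theorem exists_TE_of_mem_E {e : ↥Cfsg.Spor.M23} (he : e ∈ E) :
    ∃ p : TE, p.g = e ∧ p.l ∈ spanTabs basisE := by
  obtain ⟨l, hl, ht⟩ := he
  obtain ⟨_, _, _, hlen⟩ := goodTabs_spanTabs goodE l hl
  exact ⟨⟨e, l, ht, hlen⟩, rfl, hl⟩

theorem TE.mem_E {p : TE} (h : p.l ∈ spanTabs basisE) : p.g ∈ E := ⟨p.l, h, p.tab⟩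

/-! ### The elements -/

theorem tX_ok : m23TabOK tX = true := by decide +kernel
theorem tA_ok : m23TabOK tA = true := by decide +kernel
theorem tB_ok : m23TabOK tB = true := by decide +kernel
theorem tE1_ok : m23TabOK tE1 = true := by decide +kernel
theorem tE2_ok : m23TabOK tE2 = true := by decide +kernel
theorem tE3_ok : m23TabOK tE3 = true := by decide +kernel

noncomputable def X : TE := mk tX tX_ok
noncomputable def A : TE := mk tA tA_ok
noncomputable def B : TE := mk tB tB_ok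
noncomputable def E1 : TE := mk tE1 tE1_ok
noncomputable def E2 : TE := mk tE2 tE2_ok
noncomputable def E3 : TE := mk tE3 tE3_ok

theorem x_cube : X.g * X.g * X.g = 1 :=
  TE.eq_one (p := (X.mul X).mul X) (show mulTab (mulTab tX tX) tX = idTab by decide +kernel)

theorem x_inv : X.g⁻¹ = X.g * X.g := inv_eq_of_mul_eq_one_left x_cube

theorem a_sq : A.g * A.g = 1 :=
  TE.eq_one (p := A.mul A) (show mulTab tA tA = idTab by decide +kernel)

theorem b_sq : B.g * B.g = 1 :=
  TE.eq_one (p := B.mul B) (show mulTab tB tB = idTab by decide +kernel)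

theorem a_inv : A.g⁻¹ = A.g := inv_eq_of_mul_eq_one_left a_sq

theorem b_inv : B.g⁻¹ = B.g := inv_eq_of_mul_eq_one_left b_sq

theorem e1_sq : E1.g * E1.g = 1 :=
  TE.eq_one (p := E1.mul E1) (show mulTab tE1 tE1 = idTab by decide +kernel)

theorem xE_tab : ∀ l ∈ spanTabs basisE, mulTab (mulTab tX l) (mulTab tX tX) ∈ spanTabs basisE := by
  decide +kernel

theorem aE_tab : ∀ l ∈ spanTabs basisE, mulTab (mulTab tA l) tA ∈ spanTabs basisE := by
  decide +kernel

theorem bE_tab : ∀ l ∈ spanTabs basisE, mulTab (mulTab tB l) tB ∈ spanTabs basisE := by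
  decide +kernel

theorem nrm_tab : ∀ l ∈ spanTabs basisE,
    mulTab (mulTab l (mulTab (mulTab tX l) (mulTab tX tX)))
      (mulTab (mulTab tX (mulTab (mulTab tX l) (mulTab tX tX))) (mulTab tX tX)) = idTab := by
  decide +kernel

theorem hxE : ∀ e ∈ E, X.g * e * X.g⁻¹ ∈ E := by
  intro e he
  obtain ⟨p, rfl, hp⟩ := exists_TE_of_mem_E he
  rw [x_inv]
  exact TE.mem_E (p := (X.mul p).mul (X.mul X)) (xE_tab p.l hp)

theorem haE : ∀ e ∈ E, A.g * e * A.g⁻¹ ∈ E := by
  intro e he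
  obtain ⟨p, rfl, hp⟩ := exists_TE_of_mem_E he
  rw [a_inv]
  exact TE.mem_E (p := (A.mul p).mul A) (aE_tab p.l hp)

theorem hbE : ∀ e ∈ E, B.g * e * B.g⁻¹ ∈ E := by
  intro e he
  obtain ⟨p, rfl, hp⟩ := exists_TE_of_mem_E he
  rw [b_inv]
  exact TE.mem_E (p := (B.mul p).mul B) (bE_tab p.l hp)

theorem hN : ∀ e ∈ E, e * (X.g * e * X.g⁻¹) * (X.g * (X.g * e * X.g⁻¹) * X.g⁻¹) = 1 := by
  intro e he
  obtain ⟨p, rfl, hp⟩ := exists_TE_of_mem_E he
  rw [x_inv]
  exact TE.eq_one (p := (p.mul ((X.mul p).mul (X.mul X))).mul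
    ((X.mul ((X.mul p).mul (X.mul X))).mul (X.mul X))) (nrm_tab p.l hp)

theorem hax : A.g⁻¹ * X.g * A.g = X.g⁻¹ := by
  rw [a_inv, x_inv]
  exact TE.eq_of (p := (A.mul X).mul A) (q := X.mul X)
    (show mulTab (mulTab tA tX) tA = mulTab tX tX by decide +kernel)

theorem hbx : B.g⁻¹ * X.g * B.g = X.g := by
  rw [b_inv]
  exact TE.eq_of (p := (B.mul X).mul B) (q := X)
    (show mulTab (mulTab tB tX) tB = tX by decide +kernel)

/-! ### Conjugacy of the involutions -/

/-- the table `l` is a listed conjugate of `tE1` -/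
def conjOK (l : List ℕ) : Bool :=
  conjTabs.any fun t => tabBeq t.1 l && m23TabOK t.2.1 && m23TabOK t.2.2 &&
    tabBeq (mulTab t.2.1 t.2.2) idTab && tabBeq (mulTab (mulTab t.2.1 tE1) t.2.2) l

theorem conj_of_ok {l : List ℕ} (h : conjOK l = true) (p : TE) (hp : p.l = l) :
    ∃ g : ↥Cfsg.Spor.M23, g * E1.g * g⁻¹ = p.g := by
  rw [conjOK, List.any_eq_true] at h
  obtain ⟨t, _, ht⟩ := h
  simp only [Bool.and_eq_true, tabBeq_iff] at ht
  obtain ⟨⟨⟨⟨_, h2⟩, h3⟩, h4⟩, h5⟩ := ht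
  have hinv : (mk t.2.1 h2).g⁻¹ = (mk t.2.2 h3).g := by
    apply inv_eq_of_mul_eq_one_right
    exact TE.eq_one (p := (mk t.2.1 h2).mul (mk t.2.2 h3)) h4
  refine ⟨(mk t.2.1 h2).g, ?_⟩
  rw [hinv]
  exact TE.eq_of (p := ((mk t.2.1 h2).mul E1).mul (mk t.2.2 h3)) (q := p) (h5.trans hp.symm)

theorem conjE_tab : ∀ l ∈ spanTabs basisE, l = idTab ∨ conjOK l = true := by decide +kernel

theorem conjA_tab : conjOK tA = true := by decide +kernel

theorem conjB_tab : conjOK tB = true := by decide +kernel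

theorem conjC_tab : conjOK (mulTab (mulTab tA tB) (mulTab tA tB)) = true := by decide +kernel

theorem hconjE : ∀ e ∈ E, e ≠ 1 → ∃ g : ↥Cfsg.Spor.M23, g * E1.g * g⁻¹ = e := by
  intro e he he1
  obtain ⟨p, rfl, hp⟩ := exists_TE_of_mem_E he
  rcases conjE_tab p.l hp with h | h
  · exact absurd (TE.eq_one h) he1
  · exact conj_of_ok h p rfl

/-! ### `S` is generated by `E`, `a`, `b` -/

theorem mem_of_spanTabs (T : Subgroup ↥Cfsg.Spor.M23) :
    ∀ gens : List (List ℕ), GoodTabs Cfsg.Spor.M23 gens →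
      (∀ l ∈ gens, ∀ g : ↥Cfsg.Spor.M23, Tab (g : Equiv.Perm GolayPt) l → g ∈ T) →
      ∀ l ∈ spanTabs gens, ∀ g : ↥Cfsg.Spor.M23, Tab (g : Equiv.Perm GolayPt) l → g ∈ T := by
  intro gens
  induction gens with
  | nil =>
    intro _ _ l hl g hg
    rw [spanTabs, List.mem_singleton] at hl
    subst hl
    have : g = 1 := Subtype.ext (tab_unique hg tab_one)
    rw [this]
    exact T.one_mem
  | cons s ss ih =>
    intro hgood hT l hl g hg
    have hss : GoodTabs Cfsg.Spor.M23 ss := fun l hl => hgood l (List.mem_cons_of_mem _ hl)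
    rw [spanTabs, List.mem_append, List.mem_map] at hl
    rcases hl with hl | ⟨l', hl', rfl⟩
    · exact ih hss (fun l hl => hT l (List.mem_cons_of_mem _ hl)) l hl g hg
    · obtain ⟨σ', hσ', ht', _⟩ := goodTabs_spanTabs hss l' hl'
      obtain ⟨τ, hτ, htτ, hlenτ⟩ := hgood s (List.mem_cons_self ..)
      have e : g = (⟨σ', hσ'⟩ : ↥Cfsg.Spor.M23) * ⟨τ, hτ⟩ :=
        Subtype.ext (tab_unique hg (ht'.mul htτ hlenτ))
      rw [e]
      exact T.mul_mem (ih hss (fun l hl => hT l (List.mem_cons_of_mem _ hl)) l' hl' ⟨σ', hσ'⟩ ht')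
        (hT s (List.mem_cons_self ..) ⟨τ, hτ⟩ htτ)

theorem hS : S ≤ Subgroup.closure ((E : Set ↥Cfsg.Spor.M23) ∪ {A.g, B.g}) := by
  intro s hs
  obtain ⟨l, hl, ht⟩ := hs
  refine mem_of_spanTabs _ gensS goodS ?_ l hl s ht
  have hA : A.g ∈ Subgroup.closure ((E : Set ↥Cfsg.Spor.M23) ∪ {A.g, B.g}) :=
    Subgroup.subset_closure (Or.inr (Or.inl rfl))
  have hB : B.g ∈ Subgroup.closure ((E : Set ↥Cfsg.Spor.M23) ∪ {A.g, B.g}) :=
    Subgroup.subset_closure (Or.inr (Or.inr rfl))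
  intro l hl g hg
  simp only [gensS, List.mem_cons, List.not_mem_nil, or_false] at hl
  have hEmem : ∀ l' ∈ spanTabs basisE, Tab (g : Equiv.Perm GolayPt) l' →
      g ∈ Subgroup.closure ((E : Set ↥Cfsg.Spor.M23) ∪ {A.g, B.g}) :=
    fun l' hl' hg' => Subgroup.subset_closure (Or.inl ⟨l', hl', hg'⟩)
  rcases hl with rfl | rfl | rfl | rfl | rfl | rfl | rfl
  · have : g = A.g := Subtype.ext (tab_unique hg A.tab)
    rw [this]; exact hA
  · have : g = A.g * B.g := Subtype.ext (tab_unique hg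
      ((show tRho = mulTab tA tB by decide +kernel) ▸ (A.mul B).tab))
    rw [this]; exact Subgroup.mul_mem _ hA hB
  · have : g = (A.g * B.g) * (A.g * B.g) := Subtype.ext (tab_unique hg
      ((show tC = mulTab (mulTab tA tB) (mulTab tA tB) by decide +kernel) ▸
        ((A.mul B).mul (A.mul B)).tab))
    rw [this]
    exact Subgroup.mul_mem _ (Subgroup.mul_mem _ hA hB) (Subgroup.mul_mem _ hA hB)
  · exact hEmem tE1 (by decide +kernel) hg
  · exact hEmem tE2 (by decide +kernel) hg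
  · exact hEmem tE3 (by decide +kernel) hg
  · exact hEmem tE4 (by decide +kernel) hg

/-! ### No double cover -/

theorem indep_tab : tE1 ≠ idTab ∧ tE2 ≠ idTab ∧ tE3 ≠ idTab ∧ mulTab tE1 tE2 ≠ idTab ∧
    mulTab tE1 tE3 ≠ idTab ∧ mulTab tE2 tE3 ≠ idTab ∧ mulTab (mulTab tE1 tE2) tE3 ≠ idTab := by
  decide +kernel

theorem TE.ne_one {p : TE} (h : p.l ≠ idTab) : p.g ≠ 1 := by
  intro e
  apply h
  have : Tab (1 : Equiv.Perm GolayPt) p.l := by
    have := p.tab
    rwa [e] at this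
  exact tab_list_unique this tab_one p.len rfl

theorem no_double_cover_M23 (Γ : Type) [Group Γ] [Finite Γ] (σ : Γ →* ↥Cfsg.Spor.M23) (z : Γ)
    (h : Ext2 σ z) (hz : z ∈ commutator Γ) : False := by
  obtain ⟨i1, i2, i3, i12, i13, i23, i123⟩ := indep_tab
  refine no_double_cover h hz E S X.g A.g B.g E1.g E1.g E2.g E3.g e1_sq hconjE
    (conj_of_ok conjA_tab A rfl) (conj_of_ok conjB_tab B rfl)
    (conj_of_ok conjC_tab ((A.mul B).mul (A.mul B)) rfl)
    (TE.mem_E (p := E1) (by decide +kernel)) (TE.mem_E (p := E2) (by decide +kernel))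
    (TE.mem_E (p := E3) (by decide +kernel))
    (TE.ne_one (p := E1) i1) (TE.ne_one (p := E2) i2) (TE.ne_one (p := E3) i3)
    (TE.ne_one (p := E1.mul E2) i12) (TE.ne_one (p := E1.mul E3) i13)
    (TE.ne_one (p := E2.mul E3) i23) (TE.ne_one (p := (E1.mul E2).mul E3) i123)
    ?_ hxE hN haE hbE hax hbx hS (le_of_eq card_E) (le_of_eq card_S.symm) ?_
  · rw [pow_succ, pow_two]; exact x_cube
  · have h1 := Subgroup.card_mul_index S
    rw [card_S, card_M23] at h1
    omega

end Cfsg.Agent.Helper92.M23Mult
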