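import Cfsg.Agent.Lib.Helper92.M23ScanDefs

/-! Scan of the elements of `M23` fixing `0`, part j. -/

set_option autoImplicit false
set_option maxRecDepth 100000

namespace Cfsg.Agent.Helper92.M23PQR

theorem scanA_j : scanA ((T1P.drop 18).take 2) = true := by decide +kernel

end Cfsg.Agent.Helper92.M23PQR
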