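import Cfsg.Agent.Lib.Helper92.M23ScanDefs

/-! Scan of the pairs (element of order three with `0 ↦ 1 ↦ 5 ↦ 0`, conjugate of `y3`), part a. -/

set_option autoImplicit false
set_option maxRecDepth 100000

namespace Cfsg.Agent.Helper92.M23PQR

theorem scanC2_a : scanC2 ((T015K.drop 0).take 12) = true := by decide +kernel

end Cfsg.Agent.Helper92.M23PQR
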