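import Cfsg.Agent.Lib.Helper92.M23ScanB
import Cfsg.Agent.Lib.Helper92.M23ScanB2
import Cfsg.Agent.Lib.Helper92.M23ScanC_a
import Cfsg.Agent.Lib.Helper92.M23ScanC_b
import Cfsg.Agent.Lib.Helper92.M23ScanC_c
import Cfsg.Agent.Lib.Helper92.M23ScanC_d
import Cfsg.Agent.Lib.Helper92.M23ScanC_e
import Cfsg.Agent.Lib.Helper92.M23ScanC_f
import Cfsg.Agent.Lib.Helper92.M23ScanC_g
import Cfsg.Agent.Lib.Helper92.M23ScanC_h
import Cfsg.Agent.Lib.Helper92.M23ScanA_a
import Cfsg.Agent.Lib.Helper92.M23ScanA_b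
import Cfsg.Agent.Lib.Helper92.M23ScanA_c
import Cfsg.Agent.Lib.Helper92.M23ScanA_d
import Cfsg.Agent.Lib.Helper92.M23ScanA_e
import Cfsg.Agent.Lib.Helper92.M23ScanA_f
import Cfsg.Agent.Lib.Helper92.M23ScanA_g
import Cfsg.Agent.Lib.Helper92.M23ScanA_h
import Cfsg.Agent.Lib.Helper92.M23ScanA_i
import Cfsg.Agent.Lib.Helper92.M23ScanA_j
import Cfsg.Agent.Lib.Helper92.M23ScanA_k

/-! The scans of the negative half, assembled. -/

set_option autoImplicit false

namespace Cfsg.Agent.Helper92.M23PQR

theorem all_of_chunks {α : Type} (l : List α) (f : α → Bool) (c n : ℕ) (hc : 0 < c)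
    (h : ∀ i < n, ((l.drop (c * i)).take c).all f = true) (hlen : l.length ≤ c * n) :
    l.all f = true := by
  rw [List.all_eq_true]
  intro x hx
  obtain ⟨j, hj, rfl⟩ := List.getElem_of_mem hx
  have hi : j / c < n := Nat.div_lt_of_lt_mul (by omega)
  have := h (j / c) hi
  rw [List.all_eq_true] at this
  apply this
  rw [List.mem_iff_getElem]
  have hmod : j % c < c := Nat.mod_lt _ hc
  have hdm : c * (j / c) + j % c = j := Nat.div_add_mod j c
  refine ⟨j % c, ?_, ?_⟩
  · rw [List.length_take, List.length_drop]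
    omega
  · rw [List.getElem_take, List.getElem_drop]
    congr 1

theorem scanA_all : scanA T1P = true := by
  apply all_of_chunks T1P _ 2 11 (by norm_num) _ (by decide)
  intro i hi
  interval_cases i
  · exact scanA_a
  · exact scanA_b
  · exact scanA_c
  · exact scanA_d
  · exact scanA_e
  · exact scanA_f
  · exact scanA_g
  · exact scanA_h
  · exact scanA_i
  · exact scanA_j
  · exact scanA_k

theorem scanC2_all : scanC2 T015K = true := by
  apply all_of_chunks T015K _ 12 8 (by norm_num) _ (by decide)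
  intro i hi
  interval_cases i
  · exact scanC2_a
  · exact scanC2_b
  · exact scanC2_c
  · exact scanC2_d
  · exact scanC2_e
  · exact scanC2_f
  · exact scanC2_g
  · exact scanC2_h

end Cfsg.Agent.Helper92.M23PQR
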