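import Cfsg.Agent.Lib.Helper92.M23Syl
import Cfsg.Agent.Lib.Helper92.M23ScanAll

/-!
# The negative half of the `(p,q,r)`-generation of `M23`

No pair `(x, y)` of elements of orders `(2,3)`, `(2,5)` (product of order 5 or 7), `(3,3)` (product
of order at most 7) generates `M23`.
-/

set_option autoImplicit false

namespace Cfsg.Agent.Helper92.M23PQR

open Cfsg Cfsg.Agent.Helper7 Cfsg.Agent.Helper91 Cfsg.Agent.Helper27.M23Gen
open scoped Pointwise

theorem fA_all : ∀ p1 ∈ T1P, ∀ p2 ∈ T2P, ∀ ks ∈ m22g20K, fA ks p2.1 p1.1 = true := by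
  have h := scanA_all
  rw [scanA, List.all_eq_true] at h
  intro p1 h1 p2 h2 ks hs
  have := h p1 h1
  rw [List.all_eq_true] at this
  have := this p2 h2
  rw [List.all_eq_true] at this
  exact this ks hs

theorem conj_mul_pow {x y t : Equiv.Perm GolayPt} {r : ℕ} (h : (x * y) ^ r = 1) :
    (t * x * t⁻¹ * (t * y * t⁻¹)) ^ r = 1 := by
  have : t * x * t⁻¹ * (t * y * t⁻¹) = t * (x * y) * t⁻¹ := by group
  rw [this, conj_pow_eq, h]
  group

theorem conj_pow_one {x t : Equiv.Perm GolayPt} {n : ℕ} (h : x ^ n = 1) :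
    (t * x * t⁻¹) ^ n = 1 := by
  rw [conj_pow_eq, h]
  group

/-- Involutions: reduction to the scans. -/
theorem neg_inv (yK : ℕ) (R : List ℕ) (YB : List ℕ)
    (hA : ∀ p1 ∈ T1P, ∀ p2 ∈ T2P, ∀ ks ∈ m22g20K,
      Nat.beq (wget3 ks p2.1 p1.1 (wget3 ks p2.1 p1.1 2)) 2 = true →
      isInvK (kmul ks (kmul p2.1 p1.1)) = true →
      chkAll R (kmul ks (kmul p2.1 p1.1)) yK = true)
    (hYB : ∀ p1 ∈ T1P, conjK p1.1 p1.2 yK ∈ YB)
    (hB : ∀ g ∈ I01K, ∀ y ∈ YB, chkAll R g y = true)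
    {x y : Equiv.Perm GolayPt} (hg : Gen x y) (hx2 : x ^ 2 = 1) (hx1 : x ≠ 1) (hy : KTab y yK)
    {r : ℕ} (hr : r ∈ R) (hpow : (x * y) ^ r = 1) : False := by
  rcases inv_cases hg.mem_left hx2 with ⟨ks, hks, p2, hp2, p1, hp1, hk, hpt⟩ |
    ⟨p1, hp1, τ, hτ, hτk, hτki, ks, hks, p2, hp2, hk⟩
  · have pre : Nat.beq (wget3 ks p2.1 p1.1 (wget3 ks p2.1 p1.1 2)) 2 = true := by
      rw [Nat.beq_eq]
      obtain ⟨b1, e1⟩ := hpt 2 (by norm_num)
      obtain ⟨b2, e2⟩ := hpt _ b1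
      have h2 : (x ^ 2) (pt 2) = pt 2 := by rw [hx2]; rfl
      rw [pow_two, Equiv.Perm.mul_apply, e1, e2] at h2
      exact pt_injOn b2 (by norm_num) h2
    have hinv := isInvK_of hk hx2 hx1
    exact no_gen hk hy (hA p1 hp1 p2 hp2 ks hks pre hinv) hr hpow hg
  · have hinv := isInvK_of hk (conj_pow_one hx2) (conj_ne_one τ x hx1)
    have hmem : kmul s01K (kmul ks p2.1) ∈ I01K := by
      have h := scanB1_ok
      rw [scanB1, List.all_eq_true] at h
      have h1 := h p2 hp2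
      rw [List.all_eq_true] at h1
      have h2 := h1 ks hks
      rw [hinv] at h2
      exact memK_spec _ _ (by simpa using h2)
    have hyk : KTab (τ * y * τ⁻¹) (conjK p1.1 p1.2 yK) := (hτk.mul hy).mul hτki
    exact no_gen hk hyk (hB _ hmem _ (hYB p1 hp1)) hr (conj_mul_pow hpow) (hg.conj hτ)

/-- Elements of order three: reduction to the scans. -/
theorem neg_ord3 {x y : Equiv.Perm GolayPt} (hg : Gen x y) (hx3 : x ^ 3 = 1) (hx1 : x ≠ 1)
    (hy : KTab y y3K) {r : ℕ} (hr : r ∈ R3) (hpow : (x * y) ^ r = 1) : False := by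
  rcases ord3_cases hg.mem_left hx3 with ⟨ks, hks, p2, hp2, p1, hp1, hk, hpt⟩ |
    ⟨p1, hp1, p2, hp2, τ, hτ, hτk, hτki, ks, hks, hk⟩
  · have pre : Nat.beq (wget3 ks p2.1 p1.1 (wget3 ks p2.1 p1.1 (wget3 ks p2.1 p1.1 2))) 2 =
        true := by
      rw [Nat.beq_eq]
      obtain ⟨b1, e1⟩ := hpt 2 (by norm_num)
      obtain ⟨b2, e2⟩ := hpt _ b1
      obtain ⟨b3, e3⟩ := hpt _ b2
      have h2 : (x ^ 3) (pt 2) = pt 2 := by rw [hx3]; rfl
      rw [pow_succ, pow_two, Equiv.Perm.mul_apply, Equiv.Perm.mul_apply, e1, e2, e3] at h2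
      exact pt_injOn b3 (by norm_num) h2
    have hord := isOrd3K_of hk hx3 hx1
    have h := fA_all p1 hp1 p2 hp2 ks hks
    rw [fA, Bool.and_eq_true] at h
    have h2 := h.2
    rw [pre, hord] at h2
    exact no_gen hk hy (by simpa using h2) hr hpow hg
  · have hord := isOrd3K_of hk (conj_pow_one hx3) (conj_ne_one τ x hx1)
    have hmem : kmul c015K ks ∈ T015K := by
      have h := scanC1_ok
      rw [scanC1, List.all_eq_true] at h
      have h2 := h ks hks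
      rw [hord] at h2
      exact memK_spec _ _ (by simpa using h2)
    have hyk : KTab (τ * y * τ⁻¹) (conjK (kmul p2.1 p1.1) (kmul p1.2 p2.2) y3K) :=
      (hτk.mul hy).mul hτki
    have hymem : conjK (kmul p2.1 p1.1) (kmul p1.2 p2.2) y3K ∈ YC := by
      have h := ycOK_ok
      rw [ycOK, List.all_eq_true] at h
      have h1 := h p1 hp1
      rw [List.all_eq_true] at h1
      exact memK_spec _ _ (h1 p2 hp2)
    have hc : chkAll R3 (kmul c015K ks) (conjK (kmul p2.1 p1.1) (kmul p1.2 p2.2) y3K) = true := by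
      have h := scanC2_all
      rw [scanC2, List.all_eq_true] at h
      have h1 := h _ hmem
      rw [List.all_eq_true] at h1
      exact h1 _ hymem
    exact no_gen hk hyk hc hr (conj_mul_pow hpow) (hg.conj hτ)

theorem ybOK_spec : ∀ p1 ∈ T1P, conjK p1.1 p1.2 y3K ∈ YB3 ∧ conjK p1.1 p1.2 y5K ∈ YB5 := by
  have h := ybOK_ok
  rw [ybOK, List.all_eq_true] at h
  intro p1 hp1
  have := h p1 hp1
  rw [Bool.and_eq_true] at this
  exact ⟨memK_spec _ _ this.1, memK_spec _ _ this.2⟩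

theorem scanB2_spec : ∀ g ∈ I01K, (∀ y ∈ YB3, chkAll R5 g y = true) ∧
    ∀ y ∈ YB5, chkAll R2 g y = true := by
  have h := scanB2_ok
  rw [scanB2, List.all_eq_true] at h
  intro g hg
  have := h g hg
  rw [Bool.and_eq_true, List.all_eq_true, List.all_eq_true] at this
  exact this

theorem fA_inv : ∀ p1 ∈ T1P, ∀ p2 ∈ T2P, ∀ ks ∈ m22g20K,
    Nat.beq (wget3 ks p2.1 p1.1 (wget3 ks p2.1 p1.1 2)) 2 = true →
    isInvK (kmul ks (kmul p2.1 p1.1)) = true →
    chkAll R5 (kmul ks (kmul p2.1 p1.1)) y3K = true ∧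
      chkAll R2 (kmul ks (kmul p2.1 p1.1)) y5K = true := by
  intro p1 hp1 p2 hp2 ks hks pre hinv
  have h := fA_all p1 hp1 p2 hp2 ks hks
  rw [fA, Bool.and_eq_true] at h
  have h1 := h.1
  rw [pre, hinv] at h1
  simpa using h1

/-- `x` of order 2, `y` conjugate to `y3`: the product has none of the orders 3, 5, 7, 11, 23. -/
theorem neg_2_3 {x y : Equiv.Perm GolayPt} (hg : Gen x y) (hx2 : x ^ 2 = 1) (hx1 : x ≠ 1)
    (hy : KTab y y3K) {r : ℕ} (hr : r ∈ R5) (hpow : (x * y) ^ r = 1) : False :=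
  neg_inv y3K R5 YB3
    (fun p1 hp1 p2 hp2 ks hks pre hinv => (fA_inv p1 hp1 p2 hp2 ks hks pre hinv).1)
    (fun p1 hp1 => (ybOK_spec p1 hp1).1) (fun g hg => (scanB2_spec g hg).1) hg hx2 hx1 hy hr hpow

/-- `x` of order 2, `y` conjugate to `y5`: the product has neither order 5 nor 7. -/
theorem neg_2_5 {x y : Equiv.Perm GolayPt} (hg : Gen x y) (hx2 : x ^ 2 = 1) (hx1 : x ≠ 1)
    (hy : KTab y y5K) {r : ℕ} (hr : r ∈ R2) (hpow : (x * y) ^ r = 1) : False :=
  neg_inv y5K R2 YB5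
    (fun p1 hp1 p2 hp2 ks hks pre hinv => (fA_inv p1 hp1 p2 hp2 ks hks pre hinv).2)
    (fun p1 hp1 => (ybOK_spec p1 hp1).2) (fun g hg => (scanB2_spec g hg).2) hg hx2 hx1 hy hr hpow

theorem ne_one_of_orderOf {x : Equiv.Perm GolayPt} {p : ℕ} (hp : 1 < p) (h : orderOf x = p) :
    x ≠ 1 := by
  rintro rfl
  rw [orderOf_one] at h
  omega

/-- The negative half: an exceptional triple of orders does not generate `M23`. -/
theorem neg_main {x y : Equiv.Perm GolayPt} {p q r : ℕ} (hg : Gen x y) (hxo : orderOf x = p)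
    (hyo : orderOf y = q) (hpow : (x * y) ^ r = 1)
    (hex : (p = 2 ∧ q = 3 ∧ r ∈ R5) ∨ (p = 2 ∧ q = 5 ∧ r ∈ R2) ∨ (p = 3 ∧ q = 3 ∧ r ∈ R3)) :
    False := by
  rcases hex with ⟨rfl, rfl, hr⟩ | ⟨rfl, rfl, hr⟩ | ⟨rfl, rfl, hr⟩
  · obtain ⟨t, ht, hk⟩ := conj_to_y3 hg.mem_right hyo
    have hx2 : x ^ 2 = 1 := by rw [← hxo]; exact pow_orderOf_eq_one x
    exact neg_2_3 (hg.conj ht) (conj_pow_one hx2)
      (conj_ne_one t x (ne_one_of_orderOf (by norm_num) hxo)) hk hr (conj_mul_pow hpow)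
  · obtain ⟨t, ht, hk⟩ := conj_to_y5 hg.mem_right hyo
    have hx2 : x ^ 2 = 1 := by rw [← hxo]; exact pow_orderOf_eq_one x
    exact neg_2_5 (hg.conj ht) (conj_pow_one hx2)
      (conj_ne_one t x (ne_one_of_orderOf (by norm_num) hxo)) hk hr (conj_mul_pow hpow)
  · obtain ⟨t, ht, hk⟩ := conj_to_y3 hg.mem_right hyo
    have hx3 : x ^ 3 = 1 := by rw [← hxo]; exact pow_orderOf_eq_one x
    exact neg_ord3 (hg.conj ht) (conj_pow_one hx3)
      (conj_ne_one t x (ne_one_of_orderOf (by norm_num) hxo)) hk hr (conj_mul_pow hpow)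

end Cfsg.Agent.Helper92.M23PQR
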