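import Cfsg.Agent.Lib.Helper92.M23PosData
import Cfsg.Agent.Lib.Helper92.M23Enum

/-!
# The positive half of the `(p,q,r)`-generation of `M23`

For each non-exceptional triple there is a pair `x, y` of the right orders generating `M23`: the
shift and the cube twist (which generate `M23`) are words in `x, y`.
-/

set_option autoImplicit false

namespace Cfsg.Agent.Helper92.M23PQR

open Cfsg Cfsg.Agent.Helper7 Cfsg.Agent.Helper91 Cfsg.Agent.Helper27.M23Gen
open scoped Pointwise

/-- Value of a word in the packed tables `kx` (`false`) and `ky` (`true`). -/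
def wordK (kx ky : ℕ) : List Bool → ℕ
  | [] => kid
  | b :: w => kmul (cond b ky kx) (wordK kx ky w)

/-- Value of a word in the permutations. -/
def wordP (x y : Equiv.Perm GolayPt) : List Bool → Equiv.Perm GolayPt
  | [] => 1
  | b :: w => (cond b y x) * wordP x y w

theorem wordP_tab {x y : Equiv.Perm GolayPt} {kx ky : ℕ} (hx : KTab x kx) (hy : KTab y ky) :
    ∀ w : List Bool, KTab (wordP x y w) (wordK kx ky w)
  | [] => KTab.one
  | b :: w => by
    cases b
    · exact hx.mul (wordP_tab hx hy w)
    · exact hy.mul (wordP_tab hx hy w)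

theorem wordP_mem (x y : Equiv.Perm GolayPt) :
    ∀ w : List Bool, wordP x y w ∈ Subgroup.closure {x, y}
  | [] => Subgroup.one_mem _
  | b :: w => by
    cases b
    · exact Subgroup.mul_mem _ (Subgroup.subset_closure (by simp)) (wordP_mem x y w)
    · exact Subgroup.mul_mem _ (Subgroup.subset_closure (by simp)) (wordP_mem x y w)

/-- Pointwise equality of packed tables. -/
def keq (a b : ℕ) : Bool := (List.range 24).all fun i => Nat.beq (kget a i) (kget b i)

theorem eq_of_keq {σ τ : Equiv.Perm GolayPt} {a b : ℕ} (hσ : KTab σ a) (hτ : KTab τ b)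
    (h : keq a b = true) : σ = τ := by
  rw [keq, List.all_eq_true] at h
  apply perm_ext_pt
  intro i hi
  have := h i (List.mem_range.mpr hi)
  rw [Nat.beq_eq] at this
  rw [hσ.apply i hi, hτ.apply i hi, this]

/-- The `n`-th power of the packed table is the identity. -/
def isPowIdK (k n : ℕ) : Bool := (List.range 24).all fun i => Nat.beq (kiter k n i) i

theorem pow_eq_one_of {σ : Equiv.Perm GolayPt} {k n : ℕ} (hσ : KTab σ k)
    (h : isPowIdK k n = true) : σ ^ n = 1 := by
  rw [isPowIdK, List.all_eq_true] at h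
  apply perm_ext_pt
  intro i hi
  have := h i (List.mem_range.mpr hi)
  rw [Nat.beq_eq] at this
  rw [(kiter_spec hσ n i hi).2, this, Equiv.Perm.one_apply]

/-- Packed table of the shift. -/
def shiftK : ℕ := enkey lShift

/-- Packed table of the cube twist. -/
def cubeK : ℕ := enkey lCubeTwist

theorem shiftK_tab : KTab gShift shiftK := KTab.of_tab tab_shift (by decide)

theorem cubeK_tab : KTab cubeTwist cubeK := KTab.of_tab tab_cubeTwist (by decide)

/-- The check on a generating pair. -/
def posOK (e : PosE) : Bool :=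
  m23OK e.kx && m23OK e.ky && isPowIdK e.kx e.p && !isIdK e.kx && isPowIdK e.ky e.q &&
    !isIdK e.ky && isPowIdK (kmul e.kx e.ky) e.r && !isIdK (kmul e.kx e.ky) &&
    keq (wordK e.kx e.ky e.w1) shiftK && keq (wordK e.kx e.ky e.w2) cubeK

theorem posData_ok : posData.all posOK = true := by decide +kernel

/-- Closure in the subgroup versus closure in the ambient group. -/
theorem closure_eq_top_of {G : Type*} [Group G] (H : Subgroup G) (x y : ↥H)
    (h : Subgroup.closure {(x : G), (y : G)} = H) : Subgroup.closure {x, y} = ⊤ := by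
  apply Subgroup.map_injective H.subtype_injective
  rw [MonoidHom.map_closure, ← MonoidHom.range_eq_map, Subgroup.range_subtype, Set.image_pair]
  exact h

theorem closure_of_eq_top {G : Type*} [Group G] (H : Subgroup G) (x y : ↥H)
    (h : Subgroup.closure {x, y} = ⊤) : Subgroup.closure {(x : G), (y : G)} = H := by
  have := congrArg (Subgroup.map H.subtype) h
  rwa [MonoidHom.map_closure, ← MonoidHom.range_eq_map, Subgroup.range_subtype,
    Set.image_pair] at this

theorem pos_of_ok (e : PosE) (h : posOK e = true) (hp : e.p.Prime) (hq : e.q.Prime)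
    (hr : e.r.Prime) : ∃ x y z : ↥Cfsg.Spor.M23, orderOf x = e.p ∧ orderOf y = e.q ∧
      orderOf z = e.r ∧ x * y * z = 1 ∧ Subgroup.closure {x, y} = ⊤ := by
  simp only [posOK, Bool.and_eq_true, Bool.not_eq_true'] at h
  obtain ⟨⟨⟨⟨⟨⟨⟨⟨⟨h1, h2⟩, h3⟩, h4⟩, h5⟩, h6⟩, h7⟩, h8⟩, h9⟩, h10⟩ := h
  obtain ⟨σx, hσx, hkx⟩ := exists_of_m23OK h1
  obtain ⟨σy, hσy, hky⟩ := exists_of_m23OK h2
  have hxne : σx ≠ 1 := fun hc => by rw [isIdK_of_one hkx hc] at h4; exact absurd h4 (by simp)
  have hyne : σy ≠ 1 := fun hc => by rw [isIdK_of_one hky hc] at h6; exact absurd h6 (by simp)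
  have hwne : σx * σy ≠ 1 := fun hc => by
    rw [isIdK_of_one (hkx.mul hky) hc] at h8; exact absurd h8 (by simp)
  have := Fact.mk hp
  have := Fact.mk hq
  have := Fact.mk hr
  have ox : orderOf σx = e.p := orderOf_eq_prime (pow_eq_one_of hkx h3) hxne
  have oy : orderOf σy = e.q := orderOf_eq_prime (pow_eq_one_of hky h5) hyne
  have ow : orderOf (σx * σy) = e.r := orderOf_eq_prime (pow_eq_one_of (hkx.mul hky) h7) hwne
  have hcl : Subgroup.closure {σx, σy} = Cfsg.Spor.M23 := by
    apply le_antisymm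
    · rw [Subgroup.closure_le]
      rintro z (rfl | rfl)
      · exact hσx
      · exact hσy
    · rw [← closure_eq_M23, Subgroup.closure_le]
      rintro z (rfl | rfl)
      · have := wordP_mem σx σy e.w1
        rwa [eq_of_keq (wordP_tab hkx hky e.w1) shiftK_tab h9] at this
      · have := wordP_mem σx σy e.w2
        rwa [eq_of_keq (wordP_tab hkx hky e.w2) cubeK_tab h10] at this
  refine ⟨⟨σx, hσx⟩, ⟨σy, hσy⟩, (⟨σx, hσx⟩ * ⟨σy, hσy⟩)⁻¹, ?_, ?_, ?_, ?_, ?_⟩
  · rw [← ox]; exact Subgroup.orderOf_mk σx hσx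
  · rw [← oy]; exact Subgroup.orderOf_mk σy hσy
  · rw [orderOf_inv, ← ow]
    exact Subgroup.orderOf_mk (σx * σy) (Subgroup.mul_mem _ hσx hσy)
  · exact mul_inv_cancel _
  · exact closure_eq_top_of _ _ _ hcl

end Cfsg.Agent.Helper92.M23PQR
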