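import Cfsg.Agent.Lib.Helper92.M23Base

/-! Generating pairs of `M23` for the 40 non-exceptional triples of primes, with words for the
shift and the cube twist. -/

set_option autoImplicit false

namespace Cfsg.Agent.Helper92.M23PQR

/-- A generating pair: orders `p, q` of `x, y`, order `r` of `x y`, packed tables of `x, y`, and
words in `x` (`false`) and `y` (`true`) for the shift and the cube twist. -/
structure PosE where
  p : ℕ
  q : ℕ
  r : ℕ
  kx : ℕ
  ky : ℕ
  w1 : List Bool
  w2 : List Bool

/-- The generating pairs. -/
def posData : List PosE := [
  ⟨2, 5, 11, 984435395475335827672625768398653802, 956046139815041671880541070032974421,
    [true, true, true, false, true, false, true, true, true, true, false, true, true, false, true, true, true, true, false, true, false, true, false, true, false, true, false, true, true, true, true, false, true, true, true, false],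
    [true, true, false, true, true, false, true, false, true, false, true, false, true, true, false, true, false, true, false, true, true, true, false, true, true, true, true, false, true, true, true]⟩,
  ⟨2, 5, 23, 957558674874885140644986018991278796, 977559716571777868423423414157097293,
    [false, true, false, true, true, false, true, false, true, true, false, true, true, true, true, false, true, false, true, true, true, true, false, true, false, true, true, false, true, false, true, false, true, false, true, true, true, false],
    [true, true, false, true, false, true, false, true, true, true, true, false, true, true, true, true, false, true, false, true, true, true, false, true, true, true, false, true, false, true, true, false, true, true, true, true, false]⟩,
  ⟨2, 7, 7, 984453036946407733501207566175275055, 963349349521821497342397937845217731,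
    [false, true, true, true, false, true, true, true, true, false, true, false, true, true, false, true, true, true, true, false, true, true, false, true, false, true, true, false, true, true, false, true, true, true, true],
    [true, true, false, true, false, true, false, true, false, true, true, false, true, true, false, true, false, true, true, true, true, false, true, false, true, true, false, true, true, true, false, true, true]⟩,
  ⟨2, 7, 11, 984330984624320477174503257236681168, 966660481518215758331228517241949776,
    [false, true, true, true, false, true, true, true, false, true, true, true, true, true, false, true, true, true, true, true, false, true, false, true, false, true, false, true, false, true, false, true, true],
    [false, true, false, true, false, true, false, true, false, true, true, true, true, true, false, true, true, false, true, false, true, true, true, false, true, true, false, true, false, true, true, false, true, true]⟩,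
  ⟨2, 7, 23, 972560815420533050926679905878345760, 955532963035170719132287326584258888,
    [true, false, true, true, false, true, true, false, true, true, true, false, true, false, true, false, true, true, true, true, true, false, true, true, true, false, true, true, false, true],
    [true, true, false, true, true, false, true, false, true, true, false, true, true, false, true, true, true, true, true, true, false, true, true, true, false, true, true, false, true, false, true, true, false]⟩,
  ⟨2, 11, 11, 969966444653269931054786284518213670, 956019506554149846128272664861184169,
    [false, true, true, true, false, true, false, true, false, true, true, true, false, true, false, true, false, true, true, false, true, false, true, true, false],
    [true, false, true, false, true, false, true, true, true, false, true, false, true, true, true, true, true, true, true, false, true, true, false, true, true, true, true, false, true, false, true, false]⟩,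
  ⟨2, 11, 23, 984515117569209367539328673988755457, 972636870760940583619585725511976076,
    [false, true, false, true, false, true, false, true, true, true, true, true, true, true, true, false, true, true, true, true, true, true, false, true, true, true, true, true, false, true],
    [true, true, false, true, false, true, false, true, true, false, true, true, true, false, true, true, true, false, true, true, true, true, true, true, true, true, true, false, true, false, true, true, true, false]⟩,
  ⟨2, 23, 23, 984817915229974498898750289957136845, 957114410511685321328066022928023847,
    [true, false, true, false, true, false, true, false, true, true, false, true, false, true, true, false, true, false, true, true, true, true, false, true, false, true, false],
    [true, true, true, false, true, true, false, true, false, true, true, true, false, true, true, false, true, true, false, true, true, true, true, true, true, false, true, true, false]⟩,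
  ⟨3, 3, 11, 971861152115152419993268370823743968, 984128590610410885001279122893184525,
    [false, false, true, false, true, false, false, true, false, true, false, true, true, false, true, true, false, true, true, false, false, true, false, false, true, false, false, true, false, true, false],
    [false, true, true, false, false, true, false, false, true, false, true, true, false, true, false, false, true, false, false, true, false, true, false, true, true, false, true, true, false, true]⟩,
  ⟨3, 3, 23, 957510519598352559376272948483103299, 980904333258167811107181747462330816,
    [true, false, true, false, true, false, true, true, false, false, true, true, false, false, true, false, true, false, false, true, false, true, false, true, false, true, true, false],
    [true, true, false, true, false, false, true, true, false, false, true, true, false, true, false, true, false, false, true, true, false, false, true, true, false, false, true, false, true, false, true, false, true, false]⟩,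
  ⟨3, 5, 5, 983029610660655180934850931920641376, 983985382105628639599704789672394965,
    [false, true, true, false, false, true, true, false, true, false, true, true, true, false, true, false, false, true, false, true, false, false, true, false, true, false, true],
    [true, false, true, true, false, false, true, true, false, true, true, false, true, true, true, true, false]⟩,
  ⟨3, 5, 7, 979625745224712326401254545780213930, 959547607422425440156262857874954370,
    [false, false, true, true, true, true, false, false, true, false, false, true, true, true, true, false, false, true, false, true, false, false, true, false, false, true, true],
    [false, true, true, false, false, true, false, false, true, false, false, true, false, true, false, true, false, false, true, false, true, true, false, true, false, true, false, true]⟩,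
  ⟨3, 5, 11, 974227608064975534989694073317733412, 965323798578440480165876552254834280,
    [true, true, true, false, false, true, false, true, true, false, true, true, true, true, false, true, true, true, false, true, true, false, true, true, true],
    [true, true, true, false, false, true, true, false, true, false, true, false, true, true, false, false, true, true, false, false, true, false, true, true, true, false, true, false]⟩,
  ⟨3, 5, 23, 973070917410897420978175796150743712, 982200265698760947676897048516959653,
    [false, false, true, false, false, true, false, true, true, false, true, false, true, false, false, true, true, true, false, true, true, false, true, false, true, true],
    [false, true, true, false, true, false, true, true, true, false, false, true, true, false, false, true, true, true, true, false, false, true, true, false, true, false]⟩,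
  ⟨3, 7, 7, 980353261087205202513940045814727852, 966314338980171962556536088511616134,
    [false, false, true, false, false, true, true, false, true, true, false, true, true, true, false, false, true, false, false, true, false, false, true, false],
    [true, false, false, true, false, false, true, false, false, true, true, true, true, true, false, false, true, false, true, true, false, true, false, true, true, true]⟩,
  ⟨3, 7, 11, 957546712539395429856288147624792086, 981347060229023646560547067686687795,
    [true, true, false, false, true, false, true, false, true, false, false, true, true, true, false, true, true, false, true, true, true, true, false, true],
    [false, false, true, false, false, true, true, true, true, false, false, true, false, true, true, true, false, false, true, true, false, true, false, true, false, true]⟩,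
  ⟨3, 7, 23, 984711243177545498923992490961414531, 957545731679517642623473305363041558,
    [true, false, false, true, false, true, true, false, true, false, false, true, true, true, false, false, true, false, true, false, true, false, true, false, true, true, false, true],
    [false, true, false, true, true, false, true, true, true, false, true, true, true, false, false, true, false, true, false, true, false, true, true]⟩,
  ⟨3, 11, 11, 965140496164755465968034490128346804, 969758677689044591328663164155004008,
    [true, false, false, true, true, true, false, true, false, true, true, false, false, true, false, true, false, true, false, true, false, true, false, false],
    [false, true, true, true, true, true, true, true, false, true, false, false, true, false, true, true, false, false, true, true, true, true, true, true, true]⟩,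
  ⟨3, 11, 23, 979546682177068898257333064773686278, 971877394761991260049435217093919140,
    [true, false, true, true, true, true, false, true, false, false, true, false, true, false, false, true, false, true, false, true, true, false, true, true, true, false],
    [false, true, true, true, false, true, false, true, false, false, true, false, false, true, true, true, false, true, true, false, true, false, false, true]⟩,
  ⟨3, 23, 23, 971204984353833515632548653609421430, 970337338208535492422406980235211367,
    [false, true, true, false, false, true, true, true, true, true, false, true, false, false, true, true, false, true, true, true, false, false, true, true],
    [true, false, false, true, false, true, false, true, false, true, false, true, true, true, false, false, true, false, true, false, true, false, true, false, false, true]⟩,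
  ⟨5, 5, 5, 960141479683991797757606671871645747, 979017535548322387660289893872352329,
    [false, true, true, true, false, false, true, true, false, false, true, false, true, true, false, false, false, true, false, false, true, true, true, false, false, false],
    [false, true, false, true, false, false, true, true, false, false, false, true, true, false, true, true, false, false, false, false]⟩,
  ⟨5, 5, 7, 966341041168865391948151655040027286, 972729932303609544028380286016570854,
    [false, false, true, true, true, true, false, true, false, false, false, true, false, true, false, false, true, true, true, false, true, false, false, false, true],
    [false, false, false, false, true, true, false, true, false, true, false, false, false, false, true, true, true, false, true, false, true]⟩,
  ⟨5, 5, 11, 984695832061574685472336922707046402, 972474400168608913032885062012176688,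
    [false, false, false, false, true, true, true, false, true, false, true, true, true, false, false, false, true, true, false, false, false, false],
    [true, true, false, false, true, false, true, true, true, false, false, false, false, true, false, true, true, false, true, false]⟩,
  ⟨5, 5, 23, 969687409427663674174297443340945974, 964798757107649816104140950847760419,
    [true, false, true, true, false, true, true, false, true, true, true, false, true, false, false, false, true, false, false, true, true, true],
    [false, false, true, true, false, false, false, true, false, false, false, true, false, false, false, false, true, false, false, false, true, true, true, false]⟩,
  ⟨5, 7, 7, 974940222652852769066004833174701773, 971855327326907948574561313201689865,
    [false, true, false, true, true, false, false, true, false, true, false, false, true, true, false, false, true, true, true, false, false, true, true, false],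
    [true, false, true, true, false, false, false, true, false, false, true, true, false, true, true, false, true, true, true, false, false, false]⟩,
  ⟨5, 7, 11, 980923591081501381255152477028778121, 980064634195795612496010155060988004,
    [true, false, true, true, false, true, true, true, true, true, false, false, false, true, false, true, true, true, true, false, false, false, false],
    [true, true, false, false, true, false, false, false, false, true, true, true, false, false, true, false, true, false, true, true, false, false, true, false]⟩,
  ⟨5, 7, 23, 969914556338912761284303138600755648, 968939023079305391301851174264998049,
    [true, false, true, false, false, true, false, true, true, false, true, true, true, false, false, false, true, false, false, false, false, true, true, false],
    [false, true, true, true, true, true, false, true, true, true, true, true, false, false, true, false, true, false, true, false, true]⟩,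
  ⟨5, 11, 11, 965795286492274222185234473932589713, 960635781729709293143260653821382730,
    [true, true, true, true, false, false, true, false, false, false, true, true, false, true, true, true, false],
    [false, false, true, true, false, false, false, false, true, true, false, true, true, true, true, true, false, false, true, false, false, true, true]⟩,
  ⟨5, 11, 23, 976157774622385248899574583305802825, 955481758222192231899124541735214672,
    [true, true, true, false, true, false, false, true, true, false, true, true, false, false, true, false, true, false, true, false, true, false, false, false],
    [true, false, true, true, false, true, true, true, false, true, true, true, false, true, false, true, true, true, true, true, false, false, false]⟩,
  ⟨5, 23, 23, 980749914009266431068488462921577153, 976215377753802355536540506920557100,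
    [false, true, true, true, false, true, false, false, true, false, false, false, false, true, false, true, false, true, false, false, true, true, false],
    [false, true, true, true, true, false, true, true, true, true, true, false, false, false, false, true, true, false, false, false, true, true, true]⟩,
  ⟨7, 7, 7, 957424219655025213282533195381815680, 960150357705967639556969019765790313,
    [true, false, true, true, true, true, true, false, false, false, true, true, true, false, false, false, false, true, true, false, true],
    [true, false, false, true, true, true, false, true, true, false, false, true, true, true, false, false, true, false, false, false, false, false]⟩,
  ⟨7, 7, 11, 975232824887727187335055927557622022, 967967945739090398052608241558501697,
    [false, true, true, true, false, true, false, false, true, true, true, false, true, false, false, false, false, true, true, false, false, true],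
    [false, false, false, true, true, true, true, false, true, false, true, false, true, false, false, true, false, true, false, true, true, false, false, false]⟩,
  ⟨7, 7, 23, 969162032710334969577799504315452050, 958839715664396683270240405553889652,
    [true, false, true, false, true, false, false, true, false, true, true, true, false, true, false, false, false, true, false, true, false, false, false, true, true],
    [true, true, true, false, true, true, false, false, false, false, true, true, false, false, false, true, false, false, false, false, true, false, false]⟩,
  ⟨7, 11, 11, 981566324164850479136766640553296588, 955487133013119379262318681334005173,
    [true, false, true, true, true, false, false, false, false, true, true, false, false, false, true, true, true, true, false, false, true, true],
    [false, false, false, true, true, true, true, true, true, true, false, false, true, false, true, true, false, false, false, false]⟩,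
  ⟨7, 11, 23, 978222048202121545690982818575003726, 984480376621899693845977914297463152,
    [false, true, false, true, true, false, true, false, true, true, true, true, true, false, true, false, true, true],
    [true, false, true, false, false, false, true, false, true, true, false, false, false, false, true, false, false, true, false, false, false, false, true]⟩,
  ⟨7, 23, 23, 978814752253798804961788451840329934, 981813631428012993001548683920254403,
    [false, false, false, false, true, false, true, false, false, false, false, true, true, true, false, false, false, false, false],
    [true, false, true, false, true, true, false, false, true, true, false, false, false, false, true, true, false, false, false, true, true]⟩,
  ⟨11, 11, 11, 958276079095367539618170234985983276, 984773299957894246822835371759672844,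
    [true, true, true, false, false, true, true, true, false, false, false, true, true, false, false, false, true, true, true, true, true, true, true],
    [false, false, false, false, false, true, false, false, false, true, false, true, false, false, false, true, true, false, false, false, false]⟩,
  ⟨11, 11, 23, 965898602152221476021217270719554629, 984287873674412005789400811425681419,
    [true, true, false, true, false, false, false, false, true, false, true, true, false, false, false, false, false, true, true, true, true, false],
    [false, false, false, true, true, true, false, true, true, false, false, true, false, false, true, true, true, true, true, true, true]⟩,
  ⟨11, 23, 23, 958850044530831389499049267557773446, 957492725710260920332734953562869963,
    [true, false, true, false, false, false, true, false, false, true, true, false, false, true, false, true, false, true, true, true, false, true, true],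
    [false, true, true, false, true, true, true, false, true, true, true, false, true, false, false, false, false, true, false, false, true, true, true, true]⟩,
  ⟨23, 23, 23, 967960649403918092198702409839067502, 960862776239291646279990928454631017,
    [true, true, false, false, true, false, true, true, true, false, false, false, false, true, false, false, false, true, true, false, false, true, true],
    [false, true, true, true, true, true, true, false, false, true, false, true, true, true, false, true, false, true, true, true, false]⟩]

end Cfsg.Agent.Helper92.M23PQR
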