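import Cfsg.Agent.Lib.Helper92.M23ScanDefs

/-! Scans for the involutions interchanging `0` and `1`, and the normal forms of order three. -/

set_option autoImplicit false
set_option maxRecDepth 100000

namespace Cfsg.Agent.Helper92.M23PQR

theorem scanB1_ok : scanB1 = true := by decide +kernel

theorem ybOK_ok : ybOK = true := by decide +kernel

theorem scanC1_ok : scanC1 = true := by decide +kernel

theorem ycOK_ok : ycOK = true := by decide +kernel

end Cfsg.Agent.Helper92.M23PQR
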