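import Cfsg.Agent.Lib.Helper92.M23Data

/-! Scan functions for the negative half of the `(p,q,r)`-generation of `M23`. -/

set_option autoImplicit false

namespace Cfsg.Agent.Helper92.M23PQR

open Cfsg Cfsg.Agent.Helper7 Cfsg.Agent.Helper91

/-- Excluded orders of `x y` for `x` an involution and `y` of order 3. -/
def R5 : List ℕ := [3, 5, 7, 11, 23]

/-- Excluded orders of `x y` for `x` an involution and `y` of order 5. -/
def R2 : List ℕ := [5, 7]

/-- Excluded orders of `x y` for `x`, `y` of order 3. -/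
def R3 : List ℕ := [3, 5, 7]

/-- Conjugate `t y t⁻¹` of packed tables (`ti` the inverse of `t`). -/
def conjK (t ti y : ℕ) : ℕ := kmul (kmul t y) ti

/-- Membership of a key in a list. -/
def memK (k : ℕ) : List ℕ → Bool
  | [] => false
  | a :: l => Nat.beq a k || memK k l

theorem memK_spec (k : ℕ) : ∀ l : List ℕ, memK k l = true → k ∈ l
  | [], h => by simp [memK] at h
  | a :: l, h => by
    rw [memK, Bool.or_eq_true, Nat.beq_eq] at h
    rcases h with h | h
    · rw [h]; exact List.mem_cons_self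
    · exact List.mem_cons_of_mem _ (memK_spec k l h)

/-- Image of the index `i` under `s * τ₂ * τ₁`. -/
def wget3 (ks k2 k1 i : ℕ) : ℕ := kget ks (kget k2 (kget k1 i))

/-- The test on the element `s * τ₂ * τ₁` fixing `0`. -/
def fA (ks k2 k1 : ℕ) : Bool :=
  (!(Nat.beq (wget3 ks k2 k1 (wget3 ks k2 k1 2)) 2 && isInvK (kmul ks (kmul k2 k1))) ||
      (chkAll R5 (kmul ks (kmul k2 k1)) y3K && chkAll R2 (kmul ks (kmul k2 k1)) y5K)) &&
    (!(Nat.beq (wget3 ks k2 k1 (wget3 ks k2 k1 (wget3 ks k2 k1 2))) 2 &&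
        isOrd3K (kmul ks (kmul k2 k1))) ||
      chkAll R3 (kmul ks (kmul k2 k1)) y3K)

/-- Scan of the elements `s * τ₂ * τ₁` fixing `0`, for `τ₁` in a part of the transversal. -/
def scanA (p1s : List (ℕ × ℕ)) : Bool :=
  p1s.all fun p1 => T2P.all fun p2 => m22g20K.all fun ks => fA ks p2.1 p1.1

/-- Scan for the involutions interchanging `0` and `1`. -/
def scanB1 : Bool :=
  T2P.all fun p2 => m22g20K.all fun ks =>
    !isInvK (kmul s01K (kmul ks p2.1)) || memK (kmul s01K (kmul ks p2.1)) I01K

/-- The conjugates of `y3`, `y5` under the first transversal are in the lists. -/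
def ybOK : Bool :=
  T1P.all fun p1 => memK (conjK p1.1 p1.2 y3K) YB3 && memK (conjK p1.1 p1.2 y5K) YB5

/-- Pairs (involution interchanging `0`, `1`; conjugate of `y3` or `y5`). -/
def scanB2 : Bool :=
  I01K.all fun g => (YB3.all fun y => chkAll R5 g y) && (YB5.all fun y => chkAll R2 g y)

/-- Scan for the elements of order three with `0 ↦ 1 ↦ 5 ↦ 0`. -/
def scanC1 : Bool :=
  m22g20K.all fun ks => !isOrd3K (kmul c015K ks) || memK (kmul c015K ks) T015K

/-- The conjugates of `y3` under the two transversals are in the list. -/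
def ycOK : Bool :=
  T1P.all fun p1 => T2P.all fun p2 =>
    memK (conjK (kmul p2.1 p1.1) (kmul p1.2 p2.2) y3K) YC

/-- Pairs (element of order three with `0 ↦ 1 ↦ 5 ↦ 0`; conjugate of `y3`). -/
def scanC2 (gs : List ℕ) : Bool := gs.all fun g => YC.all fun y => chkAll R3 g y

end Cfsg.Agent.Helper92.M23PQR
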