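import Cfsg.Agent.Lib.Helper92.M23Enum
import Cfsg.Agent.Lib.Helper92.M23ScanDefs

/-!
# Elements of order 3 and 5 of `M23` are conjugate to fixed ones

By Sylow's theorem (`exists_conj_tab`) an element of order 3 (resp. 5) is conjugate into the
explicit Sylow subgroup; explicit conjugators then move it to the chosen element `y3` (resp. `y5`).
-/

set_option autoImplicit false

namespace Cfsg.Agent.Helper92.M23PQR

open Cfsg Cfsg.Agent.Helper7 Cfsg.Agent.Helper91 Cfsg.Agent.Helper27.M23Gen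
open scoped Pointwise

theorem l3_ok : L3K.all m23OK = true := by decide +kernel

theorem l5_ok : L5K.all m23OK = true := by decide +kernel

theorem goodTabs_of_ok {L : List ℕ} (h : L.all m23OK = true) :
    GoodTabs Cfsg.Spor.M23 (L.map ktab) := by
  intro l hl
  rw [List.mem_map] at hl
  obtain ⟨k, hk, rfl⟩ := hl
  obtain ⟨σ, hσ, hkt⟩ := exists_of_m23OK (List.all_eq_true.mp h k hk)
  exact ⟨σ, hσ, hkt, ktab_length k⟩

theorem l3_one : idTab ∈ L3K.map ktab := by decide +kernel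

theorem l5_one : idTab ∈ L5K.map ktab := by decide +kernel

theorem l3_mul : ∀ l1 ∈ L3K.map ktab, ∀ l2 ∈ L3K.map ktab, mulTab l1 l2 ∈ L3K.map ktab := by
  decide +kernel

theorem l5_mul : ∀ l1 ∈ L5K.map ktab, ∀ l2 ∈ L5K.map ktab, mulTab l1 l2 ∈ L5K.map ktab := by
  decide +kernel

theorem l3_nodup : (L3K.map ktab).Nodup := by decide +kernel

theorem l5_nodup : (L5K.map ktab).Nodup := by decide +kernel

/-- Each non-identity element of the Sylow 3-subgroup is conjugate to `y3`. -/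
theorem n3_ok : (L3K.all fun k => Nat.beq k kid || N3P.any fun t =>
    Nat.beq t.1 k && m23OK t.2.1 && kinvOK t.2.1 t.2.2 &&
      Nat.beq (conjK t.2.1 t.2.2 k) y3K) = true := by decide +kernel

/-- Each non-identity element of the Sylow 5-subgroup is conjugate to `y5`. -/
theorem n5_ok : (L5K.all fun k => Nat.beq k kid || N5P.any fun t =>
    Nat.beq t.1 k && m23OK t.2.1 && kinvOK t.2.1 t.2.2 &&
      Nat.beq (conjK t.2.1 t.2.2 k) y5K) = true := by decide +kernel

theorem conj_pow_eq {G : Type*} [Group G] (t x : G) (n : ℕ) :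
    (t * x * t⁻¹) ^ n = t * x ^ n * t⁻¹ := by
  induction n with
  | zero => simp
  | succ n ih => rw [pow_succ, ih, pow_succ]; group

theorem conj_ne_one {G : Type*} [Group G] (t x : G) (h : x ≠ 1) : t * x * t⁻¹ ≠ 1 := by
  intro h1
  apply h
  have : x = t⁻¹ * (t * x * t⁻¹) * t := by group
  rw [this, h1]; group

/-- Generic step: from a key in the Sylow list to the chosen element. -/
theorem conj_to_chosen {L : List ℕ} {NP : List (ℕ × ℕ × ℕ)} {yK : ℕ}
    (hN : (L.all fun k => Nat.beq k kid || NP.any fun t =>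
      Nat.beq t.1 k && m23OK t.2.1 && kinvOK t.2.1 t.2.2 &&
        Nat.beq (conjK t.2.1 t.2.2 k) yK) = true)
    {z : Equiv.Perm GolayPt} (hz1 : z ≠ 1) {k : ℕ} (hk : k ∈ L) (hzk : KTab z k) :
    ∃ ν ∈ Cfsg.Spor.M23, KTab (ν * z * ν⁻¹) yK := by
  have h := List.all_eq_true.mp hN k hk
  rw [Bool.or_eq_true, Nat.beq_eq, List.any_eq_true] at h
  rcases h with h | ⟨t, _, ht⟩
  · subst h
    exact absurd hzk.eq_one hz1
  · simp only [Bool.and_eq_true, Nat.beq_eq] at ht
    obtain ⟨⟨⟨h1, h2⟩, h3⟩, h4⟩ := ht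
    obtain ⟨ν, hν, hνk⟩ := exists_of_m23OK h2
    refine ⟨ν, hν, ?_⟩
    have := (hνk.mul hzk).mul (ktab_inv_of hνk h3)
    rw [conjK] at h4
    rwa [h4] at this

/-- Every element of order 3 of `M23` is conjugate to the chosen one. -/
theorem conj_to_y3 {y : Equiv.Perm GolayPt} (hy : y ∈ Cfsg.Spor.M23) (ho : orderOf y = 3) :
    ∃ t ∈ Cfsg.Spor.M23, KTab (t * y * t⁻¹) y3K := by
  have : Fact (Nat.Prime 3) := ⟨by norm_num⟩
  obtain ⟨h, hh, l, hl, hT⟩ := exists_conj_tab (p := 3) (k := 2) (goodTabs_of_ok l3_ok) l3_one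
    l3_mul l3_nodup (by decide) (by rw [card_M23]; norm_num) hy ho
  rw [List.mem_map] at hl
  obtain ⟨k, hk, rfl⟩ := hl
  have hy1 : y ≠ 1 := by
    rintro rfl
    rw [orderOf_one] at ho
    omega
  obtain ⟨ν, hν, hνk⟩ := conj_to_chosen n3_ok (conj_ne_one h y hy1) hk hT
  refine ⟨ν * h, Subgroup.mul_mem _ hν hh, ?_⟩
  have : ν * h * y * (ν * h)⁻¹ = ν * (h * y * h⁻¹) * ν⁻¹ := by group
  rw [this]
  exact hνk

/-- Every element of order 5 of `M23` is conjugate to the chosen one. -/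
theorem conj_to_y5 {y : Equiv.Perm GolayPt} (hy : y ∈ Cfsg.Spor.M23) (ho : orderOf y = 5) :
    ∃ t ∈ Cfsg.Spor.M23, KTab (t * y * t⁻¹) y5K := by
  have : Fact (Nat.Prime 5) := ⟨by norm_num⟩
  obtain ⟨h, hh, l, hl, hT⟩ := exists_conj_tab (p := 5) (k := 1) (goodTabs_of_ok l5_ok) l5_one
    l5_mul l5_nodup (by decide) (by rw [card_M23]; norm_num) hy ho
  rw [List.mem_map] at hl
  obtain ⟨k, hk, rfl⟩ := hl
  have hy1 : y ≠ 1 := by
    rintro rfl
    rw [orderOf_one] at ho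
    omega
  obtain ⟨ν, hν, hνk⟩ := conj_to_chosen n5_ok (conj_ne_one h y hy1) hk hT
  refine ⟨ν * h, Subgroup.mul_mem _ hν hh, ?_⟩
  have : ν * h * y * (ν * h)⁻¹ = ν * (h * y * h⁻¹) * ν⁻¹ := by group
  rw [this]
  exact hνk

end Cfsg.Agent.Helper92.M23PQR
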