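import Cfsg.Agent.Lib.Helper92.MultAbs7

/-!
# Double covers: two classes of involutions (the shape met in `M24`)
-/

set_option autoImplicit false

namespace Cfsg.Agent.Helper92.Mult

open scoped Pointwise

section Final2

variable {Γ G : Type*} [Group Γ] [Group G] {σ : Γ →* G} {z : Γ}

theorem liftSq_of_conj (h : Ext2 σ z) {t₀ t : G} {p : Γ} (hp : ∀ g : Γ, g * p = p * g)
    (hl : LiftSq σ t₀ p) (hc : ∃ g : G, g * t₀ * g⁻¹ = t) : LiftSq σ t p := by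
  obtain ⟨g, rfl⟩ := hc
  exact liftSq_conj h hp hl g

/-- No double cover for a group with two classes of involutions (representatives `tA`, `tB`)
and a subgroup `S = E : (D₈ × 2)` of odd index as in `M24`. -/
theorem no_double_cover2 [Finite Γ] [Finite G] (h : Ext2 σ z) (hzcomm : z ∈ commutator Γ)
    (E S : Subgroup G) (x a b d tA tB : G) (nE : ℕ) (htA : tA * tA = 1) (htB : tB * tB = 1)
    (u v w u' v' w' : G)
    (hu : ∃ g : G, g * tA * g⁻¹ = u) (hv : ∃ g : G, g * tA * g⁻¹ = v)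
    (hw : ∃ g : G, g * tA * g⁻¹ = w) (huv : ∃ g : G, g * tA * g⁻¹ = u * v)
    (huw : ∃ g : G, g * tA * g⁻¹ = u * w) (hvw : ∃ g : G, g * tA * g⁻¹ = v * w)
    (huvw : ∃ g : G, g * tA * g⁻¹ = u * v * w)
    (hu' : ∃ g : G, g * tB * g⁻¹ = u') (hv' : ∃ g : G, g * tA * g⁻¹ = v')
    (hw' : ∃ g : G, g * tA * g⁻¹ = w') (huv' : ∃ g : G, g * tA * g⁻¹ = u' * v')
    (huw' : ∃ g : G, g * tA * g⁻¹ = u' * w') (hvw' : ∃ g : G, g * tA * g⁻¹ = v' * w')
    (huvw' : ∃ g : G, g * tA * g⁻¹ = u' * v' * w')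
    (hconjE : ∀ e ∈ E, e ≠ 1 → (∃ g : G, g * tA * g⁻¹ = e) ∨ (∃ g : G, g * tB * g⁻¹ = e))
    (hca : (∃ g : G, g * tA * g⁻¹ = a) ∨ (∃ g : G, g * tB * g⁻¹ = a))
    (hcb : (∃ g : G, g * tA * g⁻¹ = b) ∨ (∃ g : G, g * tB * g⁻¹ = b))
    (hcc : (∃ g : G, g * tA * g⁻¹ = (a * b) * (a * b)) ∨
      (∃ g : G, g * tB * g⁻¹ = (a * b) * (a * b)))
    (hcd : (∃ g : G, g * tA * g⁻¹ = d) ∨ (∃ g : G, g * tB * g⁻¹ = d))
    (hcad : (∃ g : G, g * tA * g⁻¹ = a * d) ∨ (∃ g : G, g * tB * g⁻¹ = a * d))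
    (hcbd : (∃ g : G, g * tA * g⁻¹ = b * d) ∨ (∃ g : G, g * tB * g⁻¹ = b * d))
    (hx3 : x ^ 3 = 1) (hxE : ∀ e ∈ E, x * e * x⁻¹ ∈ E)
    (hN : ∀ e ∈ E, e * (x * e * x⁻¹) * (x * (x * e * x⁻¹) * x⁻¹) = 1)
    (haE : ∀ e ∈ E, a * e * a⁻¹ ∈ E) (hbE : ∀ e ∈ E, b * e * b⁻¹ ∈ E)
    (hdE : ∀ e ∈ E, d * e * d⁻¹ ∈ E)
    (hax : a⁻¹ * x * a = x ∨ a⁻¹ * x * a = x⁻¹) (hbx : b⁻¹ * x * b = x ∨ b⁻¹ * x * b = x⁻¹)
    (hdx : d⁻¹ * x * d = x ∨ d⁻¹ * x * d = x⁻¹)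
    (hS : S ≤ Subgroup.closure ((E : Set G) ∪ {a, b, d}))
    (hEcard : Nat.card E ≤ nE) (hScard : nE * 16 ≤ Nat.card S) (hSodd : ¬ 2 ∣ S.index) :
    False := by
  -- the squares of the lifts on the two classes
  obtain ⟨pA, hpA, hlA⟩ : ∃ p : Γ, (p = 1 ∨ p = z) ∧ LiftSq σ tA p := by
    rcases liftSq_cases h tA htA with hl | hl
    · exact ⟨1, Or.inl rfl, hl⟩
    · exact ⟨z, Or.inr rfl, hl⟩
  obtain ⟨pB, hpB, hlB⟩ : ∃ p : Γ, (p = 1 ∨ p = z) ∧ LiftSq σ tB p := by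
    rcases liftSq_cases h tB htB with hl | hl
    · exact ⟨1, Or.inl rfl, hl⟩
    · exact ⟨z, Or.inr rfl, hl⟩
  have cA := h.cen hpA
  have cB := h.cen hpB
  have sA := h.sq_one hpA
  -- first test group: `pA = 1`
  have hA1 : pA = 1 := by
    have := q3 h hpA hpA hpA hpA hpA hpA hpA (liftSq_of_conj h cA hlA hu)
      (liftSq_of_conj h cA hlA hv) (liftSq_of_conj h cA hlA hw) (liftSq_of_conj h cA hlA huv)
      (liftSq_of_conj h cA hlA huw) (liftSq_of_conj h cA hlA hvw) (liftSq_of_conj h cA hlA huvw)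
    rw [sA, one_mul, sA] at this
    exact this
  subst hA1
  -- second test group: `pB = 1`
  have hB1 : pB = 1 := by
    have := q3 h hpB hpA hpA hpA hpA hpA hpA (liftSq_of_conj h cB hlB hu')
      (liftSq_of_conj h cA hlA hv') (liftSq_of_conj h cA hlA hw') (liftSq_of_conj h cA hlA huv')
      (liftSq_of_conj h cA hlA huw') (liftSq_of_conj h cA hlA hvw')
      (liftSq_of_conj h cA hlA huvw')
    simp only [mul_one] at this
    exact this.symm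
  subst hB1
  have key : ∀ t : G, (∃ g : G, g * tA * g⁻¹ = t) ∨ (∃ g : G, g * tB * g⁻¹ = t) →
      LiftSq σ t 1 := by
    intro t ht
    rcases ht with ht | ht
    · exact liftSq_of_conj h cA hlA ht
    · exact liftSq_of_conj h cB hlB ht
  have hE : ∀ e ∈ E, LiftSq σ e 1 := by
    intro e he
    by_cases he1 : e = 1
    · rw [he1]; exact liftSq_one h
    · exact key e (hconjE e he he1)
  exact caseA_false2 h hzcomm E S x a b d nE hE hx3 hxE hN (key a hca) (key b hcb) (key _ hcc)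
    (key d hcd) (key _ hcad) (key _ hcbd) haE hbE hdE hax hbx hdx hS hEcard hScard hSodd

end Final2

end Cfsg.Agent.Helper92.Mult
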