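import Cfsg.Agent.Lib.Helper92.M24MultData
import Cfsg.Agent.Lib.Helper92.MultAbs8
import Cfsg.Agent.Lib.Helper7.M24Order

/-!
# `M24` has no double cover

The concrete input for `Mult.no_double_cover2`: the sextet group `E = 2^6`, its fixed-point-free
element `x` of order three, a complement `⟨a, b, d⟩ = D₈ × 2`, and the classes of the
involutions involved.
-/

set_option autoImplicit false

namespace Cfsg.Agent.Helper92.M24Mult

open Cfsg Cfsg.Agent.Helper7 Cfsg.Agent.Helper91
open Cfsg.Agent.Helper92.Mult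

theorem exists_of_m24TabOK {l : List ℕ} (h : m24TabOK l = true) :
    ∃ σ ∈ Cfsg.M24, Tab σ l ∧ l.length = 24 := by
  obtain ⟨h1, h2⟩ := m24TabOK_spec h
  exact ⟨permOfTab l h1, h2, tab_permOfTab l h1, (tabOK_spec h1).1⟩

/-- An element of `M24` together with its table. -/
structure TE where
  g : ↥Cfsg.M24
  l : List ℕ
  tab : Tab (g : Equiv.Perm GolayPt) l
  len : l.length = 24

/-- product of tabled elements -/
def TE.mul (p q : TE) : TE :=
  ⟨p.g * q.g, mulTab p.l q.l, p.tab.mul q.tab q.len, by rw [mulTab_length, q.len]⟩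

theorem TE.eq_of {p q : TE} (h : p.l = q.l) : p.g = q.g :=
  Subtype.ext (tab_unique p.tab (h ▸ q.tab))

theorem TE.eq_one {p : TE} (h : p.l = idTab) : p.g = 1 :=
  Subtype.ext (tab_unique p.tab (h ▸ tab_one))

theorem TE.ne_one {p : TE} (h : p.l ≠ idTab) : p.g ≠ 1 := by
  intro e
  apply h
  have : Tab (1 : Equiv.Perm GolayPt) p.l := by
    have := p.tab
    rwa [e] at this
  exact tab_list_unique this tab_one p.len rfl

/-- the tabled element of a good table -/
noncomputable def mk (l : List ℕ) (h : m24TabOK l = true) : TE :=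
  ⟨⟨Classical.choose (exists_of_m24TabOK h), (Classical.choose_spec (exists_of_m24TabOK h)).1⟩, l,
    (Classical.choose_spec (exists_of_m24TabOK h)).2.1,
    (Classical.choose_spec (exists_of_m24TabOK h)).2.2⟩

/-! ### The subgroups `E` and `S` -/

def basisE : List (List ℕ) := [tF1, tF2, tF3, tF4, tF5, tF6]

def gensS : List (List ℕ) := [tD, tA, tRho, tC, tF1, tF2, tF3, tF4, tF5, tF6]

theorem gensS_ok : gensS.all m24TabOK = true := by decide +kernel

theorem basisE_ok : basisE.all m24TabOK = true := by decide +kernel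

theorem gensS_pc : pcOK gensS = true := by decide +kernel

theorem basisE_pc : pcOK basisE = true := by decide +kernel

theorem goodE : GoodTabs Cfsg.M24 basisE := goodTabs_M24_of_ok basisE_ok

theorem goodS : GoodTabs Cfsg.M24 gensS := goodTabs_M24_of_ok gensS_ok

/-- the sextet group `2^6` -/
noncomputable def E : Subgroup ↥Cfsg.M24 :=
  tabSubgroup Cfsg.M24 (spanTabs basisE) (goodTabs_spanTabs goodE) (idTab_mem_spanTabs _)
    (spanTabs_mul_closed goodE (spanTabs_of_pcOK goodE basisE_pc).1)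

/-- a Sylow `2`-subgroup -/
noncomputable def S : Subgroup ↥Cfsg.M24 :=
  tabSubgroup Cfsg.M24 (spanTabs gensS) (goodTabs_spanTabs goodS) (idTab_mem_spanTabs _)
    (spanTabs_mul_closed goodS (spanTabs_of_pcOK goodS gensS_pc).1)

theorem card_E : Nat.card E = 64 := by
  rw [E, card_tabSubgroup _ _ _ (spanTabs_of_pcOK goodE basisE_pc).2, length_spanTabs]
  rfl

theorem card_S : Nat.card S = 1024 := by
  rw [S, card_tabSubgroup _ _ _ (spanTabs_of_pcOK goodS gensS_pc).2, length_spanTabs]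
  rfl

theorem exists_TE_of_mem_E {e : ↥Cfsg.M24} (he : e ∈ E) :
    ∃ p : TE, p.g = e ∧ p.l ∈ spanTabs basisE := by
  obtain ⟨l, hl, ht⟩ := he
  obtain ⟨_, _, _, hlen⟩ := goodTabs_spanTabs goodE l hl
  exact ⟨⟨e, l, ht, hlen⟩, rfl, hl⟩

theorem TE.mem_E {p : TE} (h : p.l ∈ spanTabs basisE) : p.g ∈ E := ⟨p.l, h, p.tab⟩

/-! ### The elements -/

theorem tX_ok : m24TabOK tX = true := by decide +kernel
theorem tA_ok : m24TabOK tA = true := by decide +kernel
theorem tB_ok : m24TabOK tB = true := by decide +kernel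
theorem tD_ok : m24TabOK tD = true := by decide +kernel
theorem tTA_ok : m24TabOK tTA = true := by decide +kernel
theorem tTB_ok : m24TabOK tTB = true := by decide +kernel
theorem tU_ok : m24TabOK tU = true := by decide +kernel
theorem tV_ok : m24TabOK tV = true := by decide +kernel
theorem tW_ok : m24TabOK tW = true := by decide +kernel
theorem tU'_ok : m24TabOK tU' = true := by decide +kernel
theorem tV'_ok : m24TabOK tV' = true := by decide +kernel
theorem tW'_ok : m24TabOK tW' = true := by decide +kernel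

noncomputable def X : TE := mk tX tX_ok
noncomputable def A : TE := mk tA tA_ok
noncomputable def B : TE := mk tB tB_ok
noncomputable def D : TE := mk tD tD_ok
noncomputable def TA : TE := mk tTA tTA_ok
noncomputable def TB : TE := mk tTB tTB_ok
noncomputable def U : TE := mk tU tU_ok
noncomputable def V : TE := mk tV tV_ok
noncomputable def W : TE := mk tW tW_ok
noncomputable def U' : TE := mk tU' tU'_ok
noncomputable def V' : TE := mk tV' tV'_ok
noncomputable def W' : TE := mk tW' tW'_ok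

theorem x_cube : X.g * X.g * X.g = 1 :=
  TE.eq_one (p := (X.mul X).mul X) (show mulTab (mulTab tX tX) tX = idTab by decide +kernel)

theorem x_inv : X.g⁻¹ = X.g * X.g := inv_eq_of_mul_eq_one_left x_cube

theorem a_sq : A.g * A.g = 1 :=
  TE.eq_one (p := A.mul A) (show mulTab tA tA = idTab by decide +kernel)

theorem b_sq : B.g * B.g = 1 :=
  TE.eq_one (p := B.mul B) (show mulTab tB tB = idTab by decide +kernel)

theorem d_sq : D.g * D.g = 1 :=
  TE.eq_one (p := D.mul D) (show mulTab tD tD = idTab by decide +kernel)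

theorem ta_sq : TA.g * TA.g = 1 :=
  TE.eq_one (p := TA.mul TA) (show mulTab tTA tTA = idTab by decide +kernel)

theorem tb_sq : TB.g * TB.g = 1 :=
  TE.eq_one (p := TB.mul TB) (show mulTab tTB tTB = idTab by decide +kernel)

theorem a_inv : A.g⁻¹ = A.g := inv_eq_of_mul_eq_one_left a_sq

theorem b_inv : B.g⁻¹ = B.g := inv_eq_of_mul_eq_one_left b_sq

theorem d_inv : D.g⁻¹ = D.g := inv_eq_of_mul_eq_one_left d_sq

theorem xE_tab : ∀ l ∈ spanTabs basisE, mulTab (mulTab tX l) (mulTab tX tX) ∈ spanTabs basisE := by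
  decide +kernel

theorem aE_tab : ∀ l ∈ spanTabs basisE, mulTab (mulTab tA l) tA ∈ spanTabs basisE := by
  decide +kernel

theorem bE_tab : ∀ l ∈ spanTabs basisE, mulTab (mulTab tB l) tB ∈ spanTabs basisE := by
  decide +kernel

theorem dE_tab : ∀ l ∈ spanTabs basisE, mulTab (mulTab tD l) tD ∈ spanTabs basisE := by
  decide +kernel

theorem nrm_tab : ∀ l ∈ spanTabs basisE,
    mulTab (mulTab l (mulTab (mulTab tX l) (mulTab tX tX)))
      (mulTab (mulTab tX (mulTab (mulTab tX l) (mulTab tX tX))) (mulTab tX tX)) = idTab := by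
  decide +kernel

theorem hxE : ∀ e ∈ E, X.g * e * X.g⁻¹ ∈ E := by
  intro e he
  obtain ⟨p, rfl, hp⟩ := exists_TE_of_mem_E he
  rw [x_inv]
  exact TE.mem_E (p := (X.mul p).mul (X.mul X)) (xE_tab p.l hp)

theorem haE : ∀ e ∈ E, A.g * e * A.g⁻¹ ∈ E := by
  intro e he
  obtain ⟨p, rfl, hp⟩ := exists_TE_of_mem_E he
  rw [a_inv]
  exact TE.mem_E (p := (A.mul p).mul A) (aE_tab p.l hp)

theorem hbE : ∀ e ∈ E, B.g * e * B.g⁻¹ ∈ E := by
  intro e he
  obtain ⟨p, rfl, hp⟩ := exists_TE_of_mem_E he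
  rw [b_inv]
  exact TE.mem_E (p := (B.mul p).mul B) (bE_tab p.l hp)

theorem hdE : ∀ e ∈ E, D.g * e * D.g⁻¹ ∈ E := by
  intro e he
  obtain ⟨p, rfl, hp⟩ := exists_TE_of_mem_E he
  rw [d_inv]
  exact TE.mem_E (p := (D.mul p).mul D) (dE_tab p.l hp)

theorem hN : ∀ e ∈ E, e * (X.g * e * X.g⁻¹) * (X.g * (X.g * e * X.g⁻¹) * X.g⁻¹) = 1 := by
  intro e he
  obtain ⟨p, rfl, hp⟩ := exists_TE_of_mem_E he
  rw [x_inv]
  exact TE.eq_one (p := (p.mul ((X.mul p).mul (X.mul X))).mul
    ((X.mul ((X.mul p).mul (X.mul X))).mul (X.mul X))) (nrm_tab p.l hp)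

theorem hax : A.g⁻¹ * X.g * A.g = X.g⁻¹ := by
  rw [a_inv, x_inv]
  exact TE.eq_of (p := (A.mul X).mul A) (q := X.mul X)
    (show mulTab (mulTab tA tX) tA = mulTab tX tX by decide +kernel)

theorem hbx : B.g⁻¹ * X.g * B.g = X.g⁻¹ := by
  rw [b_inv, x_inv]
  exact TE.eq_of (p := (B.mul X).mul B) (q := X.mul X)
    (show mulTab (mulTab tB tX) tB = mulTab tX tX by decide +kernel)

theorem hdx : D.g⁻¹ * X.g * D.g = X.g⁻¹ := by
  rw [d_inv, x_inv]
  exact TE.eq_of (p := (D.mul X).mul D) (q := X.mul X)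
    (show mulTab (mulTab tD tX) tD = mulTab tX tX by decide +kernel)

/-! ### Classes of the involutions -/

/-- the table `l` is a listed conjugate of `t0` -/
def conjOK (T : List (List ℕ × List ℕ × List ℕ)) (t0 l : List ℕ) : Bool :=
  T.any fun t => tabBeq t.1 l && m24TabOK t.2.1 && m24TabOK t.2.2 &&
    tabBeq (mulTab t.2.1 t.2.2) idTab && tabBeq (mulTab (mulTab t.2.1 t0) t.2.2) l

theorem conj_of_ok {T : List (List ℕ × List ℕ × List ℕ)} {l : List ℕ} (t0 : TE)
    (h : conjOK T t0.l l = true) (p : TE) (hp : p.l = l) :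
    ∃ g : ↥Cfsg.M24, g * t0.g * g⁻¹ = p.g := by
  rw [conjOK, List.any_eq_true] at h
  obtain ⟨t, _, ht⟩ := h
  simp only [Bool.and_eq_true, tabBeq_iff] at ht
  obtain ⟨⟨⟨⟨_, h2⟩, h3⟩, h4⟩, h5⟩ := ht
  have hinv : (mk t.2.1 h2).g⁻¹ = (mk t.2.2 h3).g := by
    apply inv_eq_of_mul_eq_one_right
    exact TE.eq_one (p := (mk t.2.1 h2).mul (mk t.2.2 h3)) h4
  refine ⟨(mk t.2.1 h2).g, ?_⟩
  rw [hinv]
  exact TE.eq_of (p := ((mk t.2.1 h2).mul t0).mul (mk t.2.2 h3)) (q := p) (h5.trans hp.symm)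

theorem conjE_tab : ∀ l ∈ spanTabs basisE,
    l = idTab ∨ conjOK conjTabsA tTA l = true ∨ conjOK conjTabsB tTB l = true := by
  decide +kernel

theorem hconjE : ∀ e ∈ E, e ≠ 1 →
    (∃ g : ↥Cfsg.M24, g * TA.g * g⁻¹ = e) ∨ (∃ g : ↥Cfsg.M24, g * TB.g * g⁻¹ = e) := by
  intro e he he1
  obtain ⟨p, rfl, hp⟩ := exists_TE_of_mem_E he
  rcases conjE_tab p.l hp with h | h | h
  · exact absurd (TE.eq_one h) he1
  · exact Or.inl (conj_of_ok TA h p rfl)
  · exact Or.inr (conj_of_ok TB h p rfl)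

theorem cA_tab : conjOK conjTabsA tTA tA = true := by decide +kernel
theorem cB_tab : conjOK conjTabsB tTB tB = true := by decide +kernel
theorem cC_tab : conjOK conjTabsA tTA (mulTab (mulTab tA tB) (mulTab tA tB)) = true := by
  decide +kernel
theorem cD_tab : conjOK conjTabsB tTB tD = true := by decide +kernel
theorem cAD_tab : conjOK conjTabsA tTA (mulTab tA tD) = true := by decide +kernel
theorem cBD_tab : conjOK conjTabsA tTA (mulTab tB tD) = true := by decide +kernel

theorem cU_tab : conjOK conjTabsA tTA tU = true := by decide +kernel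
theorem cV_tab : conjOK conjTabsA tTA tV = true := by decide +kernel
theorem cW_tab : conjOK conjTabsA tTA tW = true := by decide +kernel
theorem cUV_tab : conjOK conjTabsA tTA (mulTab tU tV) = true := by decide +kernel
theorem cUW_tab : conjOK conjTabsA tTA (mulTab tU tW) = true := by decide +kernel
theorem cVW_tab : conjOK conjTabsA tTA (mulTab tV tW) = true := by decide +kernel
theorem cUVW_tab : conjOK conjTabsA tTA (mulTab (mulTab tU tV) tW) = true := by decide +kernel

theorem cU'_tab : conjOK conjTabsB tTB tU' = true := by decide +kernel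
theorem cV'_tab : conjOK conjTabsA tTA tV' = true := by decide +kernel
theorem cW'_tab : conjOK conjTabsA tTA tW' = true := by decide +kernel
theorem cUV'_tab : conjOK conjTabsA tTA (mulTab tU' tV') = true := by decide +kernel
theorem cUW'_tab : conjOK conjTabsA tTA (mulTab tU' tW') = true := by decide +kernel
theorem cVW'_tab : conjOK conjTabsA tTA (mulTab tV' tW') = true := by decide +kernel
theorem cUVW'_tab : conjOK conjTabsA tTA (mulTab (mulTab tU' tV') tW') = true := by
  decide +kernel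

/-! ### `S` is generated by `E`, `a`, `b`, `d` -/

theorem mem_of_spanTabs (T : Subgroup ↥Cfsg.M24) :
    ∀ gens : List (List ℕ), GoodTabs Cfsg.M24 gens →
      (∀ l ∈ gens, ∀ g : ↥Cfsg.M24, Tab (g : Equiv.Perm GolayPt) l → g ∈ T) →
      ∀ l ∈ spanTabs gens, ∀ g : ↥Cfsg.M24, Tab (g : Equiv.Perm GolayPt) l → g ∈ T := by
  intro gens
  induction gens with
  | nil =>
    intro _ _ l hl g hg
    rw [spanTabs, List.mem_singleton] at hl
    subst hl
    have : g = 1 := Subtype.ext (tab_unique hg tab_one)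
    rw [this]
    exact T.one_mem
  | cons s ss ih =>
    intro hgood hT l hl g hg
    have hss : GoodTabs Cfsg.M24 ss := fun l hl => hgood l (List.mem_cons_of_mem _ hl)
    rw [spanTabs, List.mem_append, List.mem_map] at hl
    rcases hl with hl | ⟨l', hl', rfl⟩
    · exact ih hss (fun l hl => hT l (List.mem_cons_of_mem _ hl)) l hl g hg
    · obtain ⟨σ', hσ', ht', _⟩ := goodTabs_spanTabs hss l' hl'
      obtain ⟨τ, hτ, htτ, hlenτ⟩ := hgood s (List.mem_cons_self ..)
      have e : g = (⟨σ', hσ'⟩ : ↥Cfsg.M24) * ⟨τ, hτ⟩ :=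
        Subtype.ext (tab_unique hg (ht'.mul htτ hlenτ))
      rw [e]
      exact T.mul_mem (ih hss (fun l hl => hT l (List.mem_cons_of_mem _ hl)) l' hl' ⟨σ', hσ'⟩ ht')
        (hT s (List.mem_cons_self ..) ⟨τ, hτ⟩ htτ)

theorem hS : S ≤ Subgroup.closure ((E : Set ↥Cfsg.M24) ∪ {A.g, B.g, D.g}) := by
  intro s hs
  obtain ⟨l, hl, ht⟩ := hs
  refine mem_of_spanTabs _ gensS goodS ?_ l hl s ht
  have hA : A.g ∈ Subgroup.closure ((E : Set ↥Cfsg.M24) ∪ {A.g, B.g, D.g}) :=
    Subgroup.subset_closure (Or.inr (Or.inl rfl))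
  have hB : B.g ∈ Subgroup.closure ((E : Set ↥Cfsg.M24) ∪ {A.g, B.g, D.g}) :=
    Subgroup.subset_closure (Or.inr (Or.inr (Or.inl rfl)))
  have hD : D.g ∈ Subgroup.closure ((E : Set ↥Cfsg.M24) ∪ {A.g, B.g, D.g}) :=
    Subgroup.subset_closure (Or.inr (Or.inr (Or.inr rfl)))
  intro l hl g hg
  simp only [gensS, List.mem_cons, List.not_mem_nil, or_false] at hl
  have hEmem : ∀ l' ∈ spanTabs basisE, Tab (g : Equiv.Perm GolayPt) l' →
      g ∈ Subgroup.closure ((E : Set ↥Cfsg.M24) ∪ {A.g, B.g, D.g}) :=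
    fun l' hl' hg' => Subgroup.subset_closure (Or.inl ⟨l', hl', hg'⟩)
  rcases hl with rfl | rfl | rfl | rfl | rfl | rfl | rfl | rfl | rfl | rfl
  · have : g = D.g := Subtype.ext (tab_unique hg D.tab)
    rw [this]; exact hD
  · have : g = A.g := Subtype.ext (tab_unique hg A.tab)
    rw [this]; exact hA
  · have : g = A.g * B.g := Subtype.ext (tab_unique hg
      ((show tRho = mulTab tA tB by decide +kernel) ▸ (A.mul B).tab))
    rw [this]; exact Subgroup.mul_mem _ hA hB
  · have : g = (A.g * B.g) * (A.g * B.g) := Subtype.ext (tab_unique hg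
      ((show tC = mulTab (mulTab tA tB) (mulTab tA tB) by decide +kernel) ▸
        ((A.mul B).mul (A.mul B)).tab))
    rw [this]
    exact Subgroup.mul_mem _ (Subgroup.mul_mem _ hA hB) (Subgroup.mul_mem _ hA hB)
  · exact hEmem tF1 (by decide +kernel) hg
  · exact hEmem tF2 (by decide +kernel) hg
  · exact hEmem tF3 (by decide +kernel) hg
  · exact hEmem tF4 (by decide +kernel) hg
  · exact hEmem tF5 (by decide +kernel) hg
  · exact hEmem tF6 (by decide +kernel) hg

/-! ### No double cover -/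

theorem no_double_cover_M24 (Γ : Type) [Group Γ] [Finite Γ] (σ : Γ →* ↥Cfsg.M24) (z : Γ)
    (h : Ext2 σ z) (hz : z ∈ commutator Γ) : False := by
  refine no_double_cover2 h hz E S X.g A.g B.g D.g TA.g TB.g 64 ta_sq tb_sq
    U.g V.g W.g U'.g V'.g W'.g
    (conj_of_ok TA cU_tab U rfl) (conj_of_ok TA cV_tab V rfl) (conj_of_ok TA cW_tab W rfl)
    (conj_of_ok TA cUV_tab (U.mul V) rfl) (conj_of_ok TA cUW_tab (U.mul W) rfl)
    (conj_of_ok TA cVW_tab (V.mul W) rfl) (conj_of_ok TA cUVW_tab ((U.mul V).mul W) rfl)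
    (conj_of_ok TB cU'_tab U' rfl) (conj_of_ok TA cV'_tab V' rfl) (conj_of_ok TA cW'_tab W' rfl)
    (conj_of_ok TA cUV'_tab (U'.mul V') rfl) (conj_of_ok TA cUW'_tab (U'.mul W') rfl)
    (conj_of_ok TA cVW'_tab (V'.mul W') rfl) (conj_of_ok TA cUVW'_tab ((U'.mul V').mul W') rfl)
    hconjE (Or.inl (conj_of_ok TA cA_tab A rfl)) (Or.inr (conj_of_ok TB cB_tab B rfl))
    (Or.inl (conj_of_ok TA cC_tab ((A.mul B).mul (A.mul B)) rfl))
    (Or.inr (conj_of_ok TB cD_tab D rfl)) (Or.inl (conj_of_ok TA cAD_tab (A.mul D) rfl))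
    (Or.inl (conj_of_ok TA cBD_tab (B.mul D) rfl))
    ?_ hxE hN haE hbE hdE (Or.inr hax) (Or.inr hbx) (Or.inr hdx) hS (le_of_eq card_E)
    (by rw [card_S]) ?_
  · rw [pow_succ, pow_two]; exact x_cube
  · have h1 := Subgroup.card_mul_index S
    rw [card_S, card_M24] at h1
    omega

end Cfsg.Agent.Helper92.M24Mult
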