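import Cfsg.Agent.Lib.Helper92.M24Mult
import Cfsg.Agent.Lib.Helper92.MultAbs10
import Cfsg.Agent.Lib.Helper65.TabMeta

/-!
# `M24` has no triple cover

The concrete input for `Mult.false_of_extraspecial27`: a Sylow `3`-subgroup `3^{1+2}` generated
by `xx`, `yy`, and an involution `t` inverting both.
-/

set_option autoImplicit false

namespace Cfsg.Agent.Helper92.M24Mult

open Cfsg Cfsg.Agent.Helper7 Cfsg.Agent.Helper91
open Cfsg.Agent.Helper92.Mult
open Cfsg.Agent.Helper65.TabMeta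

theorem p27_ok : p27.all m24TabOK = true := by decide +kernel

theorem good27 : GoodTabs Cfsg.M24 p27 := goodTabs_M24_of_ok p27_ok

theorem p27_one : idTab ∈ p27 := by decide +kernel

theorem p27_mul : ∀ l1 ∈ p27, ∀ l2 ∈ p27, mulTab l1 l2 ∈ p27 := by decide +kernel

theorem p27_nodup : p27.Nodup := by decide +kernel

/-- a Sylow `3`-subgroup -/
noncomputable def S3 : Subgroup ↥Cfsg.M24 := tabSubgroup Cfsg.M24 p27 good27 p27_one p27_mul

theorem card_S3 : Nat.card S3 = 27 := by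
  rw [S3, card_tabSubgroup _ _ _ p27_nodup]
  rfl

theorem tT3_ok : m24TabOK tT3 = true := by decide +kernel
theorem tXX_ok : m24TabOK tXX = true := by decide +kernel
theorem tYY_ok : m24TabOK tYY = true := by decide +kernel

noncomputable def T3 : TE := mk tT3 tT3_ok
noncomputable def XX : TE := mk tXX tXX_ok
noncomputable def YY : TE := mk tYY tYY_ok

theorem xx_cube : XX.g * XX.g * XX.g = 1 :=
  TE.eq_one (p := (XX.mul XX).mul XX) (show mulTab (mulTab tXX tXX) tXX = idTab by decide +kernel)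

theorem yy_cube : YY.g * YY.g * YY.g = 1 :=
  TE.eq_one (p := (YY.mul YY).mul YY) (show mulTab (mulTab tYY tYY) tYY = idTab by decide +kernel)

theorem t3_sq : T3.g * T3.g = 1 :=
  TE.eq_one (p := T3.mul T3) (show mulTab tT3 tT3 = idTab by decide +kernel)

theorem xx_inv : XX.g⁻¹ = XX.g * XX.g := inv_eq_of_mul_eq_one_left xx_cube

theorem yy_inv : YY.g⁻¹ = YY.g * YY.g := inv_eq_of_mul_eq_one_left yy_cube

theorem t3_inv : T3.g⁻¹ = T3.g := inv_eq_of_mul_eq_one_left t3_sq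

/-- power of a tabled element -/
def TE.pow (p : TE) (n : ℕ) : TE :=
  ⟨p.g ^ n, powTab p.l n, by
    have := tab_pow p.tab p.len n
    rwa [← Subgroup.coe_pow] at this, powTab_length p.l p.len n⟩

theorem xx_mem : XX.g ∈ S3 := ⟨tXX, by decide +kernel, XX.tab⟩

theorem yy_mem : YY.g ∈ S3 := ⟨tYY, by decide +kernel, YY.tab⟩

theorem p27_words : ∀ l ∈ p27, ∃ i ∈ [0, 1, 2], ∃ j ∈ [0, 1, 2], ∃ k ∈ [0, 1, 2],
    l = mulTab (mulTab (powTab tXX i) (powTab tYY j))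
      (powTab (mulTab (mulTab (mulTab tXX tYY) (mulTab tXX tXX)) (mulTab tYY tYY)) k) := by
  decide +kernel

theorem hgen3 : S3 ≤ Subgroup.closure {XX.g, YY.g} := by
  intro s hs
  obtain ⟨l, hl, ht⟩ := hs
  obtain ⟨i, -, j, -, k, -, rfl⟩ := p27_words l hl
  have hX : XX.g ∈ Subgroup.closure {XX.g, YY.g} := Subgroup.subset_closure (Or.inl rfl)
  have hY : YY.g ∈ Subgroup.closure {XX.g, YY.g} := Subgroup.subset_closure (Or.inr rfl)
  have : s = (((XX.pow i).mul (YY.pow j)).mul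
      ((((XX.mul YY).mul (XX.mul XX)).mul (YY.mul YY)).pow k)).g :=
    Subtype.ext (tab_unique ht (((XX.pow i).mul (YY.pow j)).mul
      ((((XX.mul YY).mul (XX.mul XX)).mul (YY.mul YY)).pow k)).tab)
  rw [this]
  exact Subgroup.mul_mem _ (Subgroup.mul_mem _ (Subgroup.pow_mem _ hX i) (Subgroup.pow_mem _ hY j))
    (Subgroup.pow_mem _ (Subgroup.mul_mem _ (Subgroup.mul_mem _ (Subgroup.mul_mem _ hX hY)
      (Subgroup.mul_mem _ hX hX)) (Subgroup.mul_mem _ hY hY)) k)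

theorem hidx3 : ¬ 3 ∣ S3.index := by
  have h1 := Subgroup.card_mul_index S3
  rw [card_S3, card_M24] at h1
  rintro ⟨m, hm⟩
  rw [hm] at h1
  omega

theorem htx3 : XX.g * (T3.g * XX.g * T3.g⁻¹) = 1 := by
  rw [t3_inv]
  exact TE.eq_one (p := XX.mul ((T3.mul XX).mul T3))
    (show mulTab tXX (mulTab (mulTab tT3 tXX) tT3) = idTab by decide +kernel)

theorem hty3 : YY.g * (T3.g * YY.g * T3.g⁻¹) = 1 := by
  rw [t3_inv]
  exact TE.eq_one (p := YY.mul ((T3.mul YY).mul T3))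
    (show mulTab tYY (mulTab (mulTab tT3 tYY) tT3) = idTab by decide +kernel)

theorem hcc3 : XX.g⁻¹ * YY.g⁻¹ * XX.g * YY.g = XX.g * YY.g * XX.g⁻¹ * YY.g⁻¹ := by
  rw [xx_inv, yy_inv]
  exact TE.eq_of (p := (((XX.mul XX).mul (YY.mul YY)).mul XX).mul YY)
    (q := ((XX.mul YY).mul (XX.mul XX)).mul (YY.mul YY))
    (show mulTab (mulTab (mulTab (mulTab tXX tXX) (mulTab tYY tYY)) tXX) tYY =
      mulTab (mulTab (mulTab tXX tYY) (mulTab tXX tXX)) (mulTab tYY tYY) by decide +kernel)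

theorem hcx3 : (XX.g * YY.g * XX.g⁻¹ * YY.g⁻¹) * XX.g = XX.g * (XX.g * YY.g * XX.g⁻¹ * YY.g⁻¹) := by
  rw [xx_inv, yy_inv]
  exact TE.eq_of (p := (((XX.mul YY).mul (XX.mul XX)).mul (YY.mul YY)).mul XX)
    (q := XX.mul (((XX.mul YY).mul (XX.mul XX)).mul (YY.mul YY)))
    (show mulTab (mulTab (mulTab (mulTab tXX tYY) (mulTab tXX tXX)) (mulTab tYY tYY)) tXX =
      mulTab tXX (mulTab (mulTab (mulTab tXX tYY) (mulTab tXX tXX)) (mulTab tYY tYY)) by
      decide +kernel)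

theorem hcy3 : (XX.g * YY.g * XX.g⁻¹ * YY.g⁻¹) * YY.g = YY.g * (XX.g * YY.g * XX.g⁻¹ * YY.g⁻¹) := by
  rw [xx_inv, yy_inv]
  exact TE.eq_of (p := (((XX.mul YY).mul (XX.mul XX)).mul (YY.mul YY)).mul YY)
    (q := YY.mul (((XX.mul YY).mul (XX.mul XX)).mul (YY.mul YY)))
    (show mulTab (mulTab (mulTab (mulTab tXX tYY) (mulTab tXX tXX)) (mulTab tYY tYY)) tYY =
      mulTab tYY (mulTab (mulTab (mulTab tXX tYY) (mulTab tXX tXX)) (mulTab tYY tYY)) by
      decide +kernel)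

theorem hc13 : XX.g * YY.g * XX.g⁻¹ * YY.g⁻¹ ≠ 1 := by
  rw [xx_inv, yy_inv]
  exact TE.ne_one (p := ((XX.mul YY).mul (XX.mul XX)).mul (YY.mul YY))
    (show mulTab (mulTab (mulTab tXX tYY) (mulTab tXX tXX)) (mulTab tYY tYY) ≠ idTab by
      decide +kernel)

/-! ### No triple cover -/

theorem no_triple_cover_M24 (Γ : Type) [Group Γ] [Finite Γ] (σ : Γ →* ↥Cfsg.M24) (z : Γ)
    (hsurj : Function.Surjective σ) (hker : σ.ker = Subgroup.zpowers z) (hord : orderOf z = 3)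
    (hzc : ∀ g : Γ, g * z = z * g) (hzcomm : z ∈ commutator Γ) : False :=
  false_of_extraspecial27 σ z hsurj hker hord hzc hzcomm S3 XX.g YY.g T3.g xx_mem yy_mem hgen3
    hidx3 htx3 hty3 hcc3 hcx3 hcy3 xx_cube hc13

end Cfsg.Agent.Helper92.M24Mult
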