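import Mathlib
import Cfsg.Prelude.Def_KGroupFacts

/-!
# Double covers: abstract tools

A central extension `σ : Γ →* G` with kernel `{1, z}` of order two.  Lifts of involutions,
the quadratic relation on elementary abelian subgroups, a complement construction for a
`2`-subgroup `E : D` with `E` elementary abelian carrying a fixed-point-free element of order
three, and the transfer argument.
-/

set_option autoImplicit false

namespace Cfsg.Agent.Helper92.Mult

open scoped Pointwise

/-! ### Transfer -/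

section Transfer

variable {Γ : Type*} [Group Γ] [Finite Γ]

/-- A central element of the commutator subgroup is killed (up to the index) by every
homomorphism from a subgroup to a commutative group. -/
theorem transfer_kills {A : Type*} [CommGroup A] (P : Subgroup Γ) (ϕ : ↥P →* A) (z : Γ)
    (hzc : ∀ g : Γ, g * z = z * g) (hzP : z ∈ P) (hzcomm : z ∈ commutator Γ) :
    ϕ ⟨z, hzP⟩ ^ P.index = 1 := by
  have hpow : ∀ (k : ℕ) (g : Γ), g * z ^ k = z ^ k * g := by
    intro k g
    induction k with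
    | zero => simp
    | succ k ih => rw [pow_succ, ← mul_assoc, ih, mul_assoc, hzc g, mul_assoc]
  have key : ∀ (k : ℕ) (g₀ : Γ), g₀⁻¹ * z ^ k * g₀ ∈ P → g₀⁻¹ * z ^ k * g₀ = z ^ k := by
    intro k g₀ _
    rw [mul_assoc, ← hpow k g₀, inv_mul_cancel_left]
  have h1 := MonoidHom.transfer_eq_pow ϕ z key
  have h2 : MonoidHom.transfer ϕ z = 1 :=
    Abelianization.commutator_subset_ker (MonoidHom.transfer ϕ) hzcomm
  rw [h2] at h1
  rw [← map_pow, h1]
  rfl

end Transfer

/-! ### Extensions with kernel of order two -/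

section Ext

variable {Γ G : Type*} [Group Γ] [Group G]

/-- `σ` is onto with kernel `{1, z}`, `z` a central involution. -/
structure Ext2 (σ : Γ →* G) (z : Γ) : Prop where
  surj : Function.Surjective σ
  z_sq : z * z = 1
  z_ne : z ≠ 1
  z_comm : ∀ g : Γ, g * z = z * g
  map_z : σ z = 1
  ker : ∀ g : Γ, σ g = 1 → g = 1 ∨ g = z

/-- Every lift of `t` has square `w`. -/
def LiftSq (σ : Γ →* G) (t : G) (w : Γ) : Prop := ∀ l : Γ, σ l = t → l * l = w

variable {σ : Γ →* G} {z : Γ}

theorem Ext2.lift_eq (h : Ext2 σ z) {l l' : Γ} (e : σ l = σ l') : l' = l ∨ l' = l * z := by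
  have : σ (l⁻¹ * l') = 1 := by rw [map_mul, map_inv, e, inv_mul_cancel]
  rcases h.ker _ this with h1 | h1
  · left
    have : l' = l * (l⁻¹ * l') := by group
    rw [this, h1, mul_one]
  · right
    have : l' = l * (l⁻¹ * l') := by group
    rw [this, h1]

theorem Ext2.sq_mul_z (h : Ext2 σ z) (l : Γ) : (l * z) * (l * z) = l * l := by
  rw [mul_assoc, ← mul_assoc z l z, ← h.z_comm l, mul_assoc l z z, h.z_sq, mul_one]

theorem Ext2.conj_z (h : Ext2 σ z) (g : Γ) : g * z * g⁻¹ = z := by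
  rw [h.z_comm g, mul_inv_cancel_right]

/-- `1` and `z` are central. -/
theorem Ext2.cen (h : Ext2 σ z) {p : Γ} (hp : p = 1 ∨ p = z) (g : Γ) : g * p = p * g := by
  rcases hp with rfl | rfl
  · simp
  · exact h.z_comm g

theorem Ext2.sq_one (h : Ext2 σ z) {p : Γ} (hp : p = 1 ∨ p = z) : p * p = 1 := by
  rcases hp with rfl | rfl
  · simp
  · exact h.z_sq

theorem Ext2.mem_ker (h : Ext2 σ z) {p : Γ} (hp : p = 1 ∨ p = z) : σ p = 1 := by
  rcases hp with rfl | rfl
  · simp
  · exact h.map_z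

theorem liftSq_cases (h : Ext2 σ z) (t : G) (ht : t * t = 1) : LiftSq σ t 1 ∨ LiftSq σ t z := by
  obtain ⟨l₀, hl₀⟩ := h.surj t
  have h0 : σ (l₀ * l₀) = 1 := by rw [map_mul, hl₀, ht]
  rcases h.ker _ h0 with h1 | h1
  · left
    intro l hl
    rcases h.lift_eq (hl₀.trans hl.symm) with rfl | rfl
    · exact h1
    · rw [h.sq_mul_z, h1]
  · right
    intro l hl
    rcases h.lift_eq (hl₀.trans hl.symm) with rfl | rfl
    · exact h1
    · rw [h.sq_mul_z, h1]

theorem liftSq_conj (h : Ext2 σ z) {t : G} {w : Γ} (hw : ∀ g : Γ, g * w = w * g)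
    (hl : LiftSq σ t w) (g : G) : LiftSq σ (g * t * g⁻¹) w := by
  obtain ⟨γ, hγ⟩ := h.surj g
  intro l hl'
  have h1 : σ (γ⁻¹ * l * γ) = t := by
    rw [map_mul, map_mul, map_inv, hγ, hl']; group
  have h2 := hl _ h1
  have e : l * l = γ * ((γ⁻¹ * l * γ) * (γ⁻¹ * l * γ)) * γ⁻¹ := by group
  rw [e, h2, hw γ, mul_inv_cancel_right]

/-- Lifts of two commuting involutions commute up to the product of the three squares. -/
theorem anti {U V p q r : Γ} (hq : ∀ g : Γ, g * q = q * g)
    (hr : ∀ g : Γ, g * r = r * g) (hpp : p * p = 1) (hqq : q * q = 1)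
    (hU : U * U = p) (hV : V * V = q) (hUV : (U * V) * (U * V) = r) :
    V * U = (p * q * r) * (U * V) := by
  have e1 : U⁻¹ = p * U := by
    symm; apply eq_inv_of_mul_eq_one_left; rw [mul_assoc, hU, hpp]
  have e2 : V⁻¹ = q * V := by
    symm; apply eq_inv_of_mul_eq_one_left; rw [mul_assoc, hV, hqq]
  have e3 : V * U = U⁻¹ * ((U * V) * (U * V)) * V⁻¹ := by group
  rw [e3, hUV, e1, e2]
  calc p * U * r * (q * V) = p * (U * r) * (q * V) := by rw [mul_assoc p U r]
    _ = p * (r * U) * (q * V) := by rw [hr U]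
    _ = p * r * (U * q) * V := by simp only [mul_assoc]
    _ = p * r * (q * U) * V := by rw [hq U]
    _ = p * (r * q) * (U * V) := by simp only [mul_assoc]
    _ = p * (q * r) * (U * V) := by rw [hq r]
    _ = p * q * r * (U * V) := by simp only [mul_assoc]

/-- The squares of the lifts of the seven involutions of an elementary abelian group of
order eight satisfy a quadratic relation. -/
theorem q3 (h : Ext2 σ z) {u v w : G} {p1 p2 p3 p12 p13 p23 p123 : Γ}
    (c1 : p1 = 1 ∨ p1 = z) (c2 : p2 = 1 ∨ p2 = z) (c3 : p3 = 1 ∨ p3 = z)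
    (c12 : p12 = 1 ∨ p12 = z) (c13 : p13 = 1 ∨ p13 = z) (c23 : p23 = 1 ∨ p23 = z)
    (c123 : p123 = 1 ∨ p123 = z)
    (h1 : LiftSq σ u p1) (h2 : LiftSq σ v p2) (h3 : LiftSq σ w p3)
    (h12 : LiftSq σ (u * v) p12) (h13 : LiftSq σ (u * w) p13) (h23 : LiftSq σ (v * w) p23)
    (h123 : LiftSq σ (u * v * w) p123) :
    p12 * p3 * p123 = p1 * p3 * p13 * (p2 * p3 * p23) := by
  obtain ⟨U, hU⟩ := h.surj u
  obtain ⟨V, hV⟩ := h.surj v
  obtain ⟨W, hW⟩ := h.surj w
  have a1 := anti (h.cen c3) (h.cen c13) (h.sq_one c1) (h.sq_one c3) (h1 U hU) (h3 W hW)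
    (h13 (U * W) (by rw [map_mul, hU, hW]))
  have a2 := anti (h.cen c3) (h.cen c23) (h.sq_one c2) (h.sq_one c3) (h2 V hV) (h3 W hW)
    (h23 (V * W) (by rw [map_mul, hV, hW]))
  have a3 := anti (h.cen c3) (h.cen c123) (h.sq_one c12) (h.sq_one c3)
    (h12 (U * V) (by rw [map_mul, hU, hV])) (h3 W hW)
    (h123 (U * V * W) (by rw [map_mul, map_mul, hU, hV, hW]))
  -- W * (U * V) computed in two ways
  have cB : ∀ g : Γ, g * (p2 * p3 * p23) = (p2 * p3 * p23) * g := by
    intro g
    rw [← mul_assoc, ← mul_assoc, h.cen c2 g, mul_assoc p2 g, h.cen c3 g, mul_assoc, mul_assoc,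
      h.cen c23 g]
    simp only [mul_assoc]
  have e : W * (U * V) = (p1 * p3 * p13) * (p2 * p3 * p23) * (U * V * W) := by
    calc W * (U * V) = (W * U) * V := by rw [mul_assoc]
      _ = (p1 * p3 * p13) * (U * W) * V := by rw [a1]
      _ = (p1 * p3 * p13) * (U * (W * V)) := by simp only [mul_assoc]
      _ = (p1 * p3 * p13) * (U * ((p2 * p3 * p23) * (V * W))) := by rw [a2]
      _ = (p1 * p3 * p13) * ((U * (p2 * p3 * p23)) * (V * W)) := by simp only [mul_assoc]
      _ = (p1 * p3 * p13) * (((p2 * p3 * p23) * U) * (V * W)) := by rw [cB U]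
      _ = (p1 * p3 * p13) * (p2 * p3 * p23) * (U * V * W) := by simp only [mul_assoc]
  rw [a3] at e
  exact mul_right_cancel e

end Ext

end Cfsg.Agent.Helper92.Mult
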