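import Cfsg.Agent.Lib.Helper92.MultAbs

/-!
# Double covers: the complement construction

If all the involutions of `E : D` lift to involutions, the preimage of `E : D` splits over the
kernel, which contradicts the transfer when `E : D` has odd index.
-/

set_option autoImplicit false

namespace Cfsg.Agent.Helper92.Mult

open scoped Pointwise

section CaseA

variable {Γ G : Type*} [Group Γ] [Group G] {σ : Γ →* G} {z : Γ}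

theorem exists_lift_cube (h : Ext2 σ z) (x : G) (hx : x ^ 3 = 1) :
    ∃ X : Γ, σ X = x ∧ X ^ 3 = 1 := by
  obtain ⟨l, hl⟩ := h.surj x
  have h0 : σ (l ^ 3) = 1 := by rw [map_pow, hl, hx]
  rcases h.ker _ h0 with h1 | h1
  · exact ⟨l, hl, h1⟩
  · refine ⟨l * z, by rw [map_mul, hl, h.map_z, mul_one], ?_⟩
    have hc : Commute l z := h.z_comm l
    have h3 : z ^ 3 = z := by rw [pow_succ, pow_two, h.z_sq, one_mul]
    rw [hc.mul_pow, h1, h3, h.z_sq]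

theorem comm_of_sq (A : Subgroup Γ) (hA : ∀ u ∈ A, u * u = 1) :
    ∀ u ∈ A, ∀ v ∈ A, u * v = v * u := by
  intro u hu v hv
  have huv := hA _ (A.mul_mem hu hv)
  have h1 : (u * v)⁻¹ = u * v := inv_eq_of_mul_eq_one_left huv
  have h2 : u⁻¹ = u := inv_eq_of_mul_eq_one_left (hA u hu)
  have h3 : v⁻¹ = v := inv_eq_of_mul_eq_one_left (hA v hv)
  calc u * v = (u * v)⁻¹ := h1.symm
    _ = v⁻¹ * u⁻¹ := mul_inv_rev u v
    _ = v * u := by rw [h2, h3]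

/-- The norm of `u` under conjugation by `X` (of order three). -/
def nrm (X u : Γ) : Γ := u * (X * u * X⁻¹) * (X * (X * u * X⁻¹) * X⁻¹)

theorem nrm_mul (A : Subgroup Γ) (hc : ∀ u ∈ A, ∀ v ∈ A, u * v = v * u) (X : Γ)
    (hXA : ∀ u ∈ A, X * u * X⁻¹ ∈ A) {u v : Γ} (hu : u ∈ A) (hv : v ∈ A) :
    nrm X (u * v) = nrm X u * nrm X v := by
  unfold nrm
  have k1 : X * (u * v) * X⁻¹ = (X * u * X⁻¹) * (X * v * X⁻¹) := by group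
  have k2 : X * ((X * u * X⁻¹) * (X * v * X⁻¹)) * X⁻¹ =
      (X * (X * u * X⁻¹) * X⁻¹) * (X * (X * v * X⁻¹) * X⁻¹) := by group
  rw [k1, k2]
  have hu1 := hXA u hu
  have hv1 := hXA v hv
  have hu2 := hXA _ hu1
  have c1 : Commute v (X * u * X⁻¹) := hc v hv _ hu1
  have c2 : Commute (v * (X * v * X⁻¹)) (X * (X * u * X⁻¹) * X⁻¹) :=
    hc _ (A.mul_mem hv hv1) _ hu2
  rw [c1.mul_mul_mul_comm u (X * v * X⁻¹), c2.mul_mul_mul_comm]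

/-- The kernel of the norm on `A`. -/
def E1 (A : Subgroup Γ) (hA : ∀ u ∈ A, u * u = 1) (X : Γ) (hXA : ∀ u ∈ A, X * u * X⁻¹ ∈ A) :
    Subgroup Γ where
  carrier := {u | u ∈ A ∧ nrm X u = 1}
  one_mem' := ⟨A.one_mem, by simp [nrm]⟩
  mul_mem' := by
    rintro u v ⟨hu, hnu⟩ ⟨hv, hnv⟩
    refine ⟨A.mul_mem hu hv, ?_⟩
    rw [nrm_mul A (comm_of_sq A hA) X hXA hu hv, hnu, hnv, mul_one]
  inv_mem' := by
    rintro u ⟨hu, hnu⟩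
    have e : u⁻¹ = u := inv_eq_of_mul_eq_one_left (hA u hu)
    show u⁻¹ ∈ A ∧ nrm X u⁻¹ = 1
    rw [e]
    exact ⟨hu, hnu⟩

theorem mem_E1 {A : Subgroup Γ} {hA : ∀ u ∈ A, u * u = 1} {X : Γ}
    {hXA : ∀ u ∈ A, X * u * X⁻¹ ∈ A} {u : Γ} :
    u ∈ E1 A hA X hXA ↔ u ∈ A ∧ nrm X u = 1 := Iff.rfl

theorem nrm_z (h : Ext2 σ z) (X : Γ) : nrm X z = z := by
  unfold nrm
  rw [h.conj_z X, h.conj_z X, h.z_sq, one_mul]

theorem conj_mul_central (X ζ u : Γ) (hζ : ∀ g : Γ, g * ζ = ζ * g) :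
    (X * ζ) * u * (X * ζ)⁻¹ = X * u * X⁻¹ := by
  have e : (X * ζ) * u * (X * ζ)⁻¹ = X * (ζ * u) * ζ⁻¹ * X⁻¹ := by group
  rw [e, ← hζ u]
  group

theorem cube_conj (X v : Γ) (hX : X ^ 3 = 1) : X * (X * (X * v * X⁻¹) * X⁻¹) * X⁻¹ = v := by
  have hX' : X * X * X = 1 := by rw [← hX, pow_succ, pow_two]
  have e : X * (X * (X * v * X⁻¹) * X⁻¹) * X⁻¹ = (X * X * X) * v * (X * X * X)⁻¹ := by group
  rw [e, hX']
  simp

/-- Conjugation by `g` commutes with conjugation by `X`: the kernel of the norm is invariant. -/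
theorem E1_conj_of_comm {A : Subgroup Γ} {hA : ∀ u ∈ A, u * u = 1} {X : Γ}
    {hXA : ∀ u ∈ A, X * u * X⁻¹ ∈ A} (g : Γ) (hgA : ∀ u ∈ A, g * u * g⁻¹ ∈ A)
    (hI : ∀ u : Γ, X * (g * u * g⁻¹) * X⁻¹ = g * (X * u * X⁻¹) * g⁻¹) :
    ∀ u ∈ E1 A hA X hXA, g * u * g⁻¹ ∈ E1 A hA X hXA := by
  rintro u ⟨hu, hn⟩
  refine ⟨hgA u hu, ?_⟩
  unfold nrm at hn ⊢
  rw [hI u, hI (X * u * X⁻¹)]
  have e : g * u * g⁻¹ * (g * (X * u * X⁻¹) * g⁻¹) * (g * (X * (X * u * X⁻¹) * X⁻¹) * g⁻¹) =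
      g * (u * (X * u * X⁻¹) * (X * (X * u * X⁻¹) * X⁻¹)) * g⁻¹ := by group
  rw [e, hn]
  group

/-- Conjugation by `g` inverts conjugation by `X`: the kernel of the norm is invariant. -/
theorem E1_conj_of_inv {A : Subgroup Γ} {hA : ∀ u ∈ A, u * u = 1} {X : Γ}
    {hXA : ∀ u ∈ A, X * u * X⁻¹ ∈ A} (hX3 : X ^ 3 = 1) (g : Γ)
    (hgA : ∀ u ∈ A, g * u * g⁻¹ ∈ A)
    (hI : ∀ u : Γ, X * (g * u * g⁻¹) * X⁻¹ = g * (X * (X * u * X⁻¹) * X⁻¹) * g⁻¹) :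
    ∀ u ∈ E1 A hA X hXA, g * u * g⁻¹ ∈ E1 A hA X hXA := by
  rintro u ⟨hu, hn⟩
  refine ⟨hgA u hu, ?_⟩
  unfold nrm at hn ⊢
  rw [hI u, hI (X * (X * u * X⁻¹) * X⁻¹), cube_conj X (X * u * X⁻¹) hX3]
  have hu1 := hXA u hu
  have hu2 := hXA _ hu1
  have hc : (X * (X * u * X⁻¹) * X⁻¹) * (X * u * X⁻¹) = (X * u * X⁻¹) * (X * (X * u * X⁻¹) * X⁻¹) :=
    comm_of_sq A hA _ hu2 _ hu1
  have e : g * u * g⁻¹ * (g * (X * (X * u * X⁻¹) * X⁻¹) * g⁻¹) * (g * (X * u * X⁻¹) * g⁻¹) =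
      g * (u * ((X * (X * u * X⁻¹) * X⁻¹) * (X * u * X⁻¹))) * g⁻¹ := by group
  rw [e, hc, ← mul_assoc u, hn]
  group

/-- the intertwining relation from `g⁻¹ X g = X ζ` -/
theorem intertwine_comm (X g ζ : Γ) (hζ : ∀ k : Γ, k * ζ = ζ * k) (hg : g⁻¹ * X * g = X * ζ)
    (u : Γ) : X * (g * u * g⁻¹) * X⁻¹ = g * (X * u * X⁻¹) * g⁻¹ := by
  have e : X * (g * u * g⁻¹) * X⁻¹ = g * ((g⁻¹ * X * g) * u * (g⁻¹ * X * g)⁻¹) * g⁻¹ := by group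
  rw [e, hg, conj_mul_central X ζ u hζ]

/-- the intertwining relation from `g⁻¹ X g = X⁻¹ ζ` -/
theorem intertwine_inv (X g ζ : Γ) (hX3 : X ^ 3 = 1) (hζ : ∀ k : Γ, k * ζ = ζ * k)
    (hg : g⁻¹ * X * g = X⁻¹ * ζ) (u : Γ) :
    X * (g * u * g⁻¹) * X⁻¹ = g * (X * (X * u * X⁻¹) * X⁻¹) * g⁻¹ := by
  have e : X * (g * u * g⁻¹) * X⁻¹ = g * ((g⁻¹ * X * g) * u * (g⁻¹ * X * g)⁻¹) * g⁻¹ := by group
  rw [e, hg, conj_mul_central X⁻¹ ζ u hζ]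
  have hXi : X⁻¹ = X * X := by
    apply inv_eq_of_mul_eq_one_left
    rw [← hX3, pow_succ, pow_two]
  have e2 : X * (X * u * X⁻¹) * X⁻¹ = (X * X) * u * (X * X)⁻¹ := by group
  rw [e2, ← hXi]

end CaseA

end Cfsg.Agent.Helper92.Mult
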