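import Cfsg.Agent.Lib.Helper92.MultAbs2

/-!
# Double covers: no splitting over a subgroup of odd index
-/

set_option autoImplicit false

namespace Cfsg.Agent.Helper92.Mult

open scoped Pointwise
open scoped IsMulCommutative

section Split

variable {Γ : Type*} [Group Γ] [Finite Γ]

/-- A central involution of the commutator subgroup lies in every subgroup `P₁` that, together
with it, covers a subgroup of odd index. -/
theorem mem_of_cover (z : Γ) (hz2 : z * z = 1) (hz1 : z ≠ 1) (hzc : ∀ g : Γ, g * z = z * g)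
    (hzcomm : z ∈ commutator Γ) (P P₁ : Subgroup Γ) (hzP : z ∈ P) (hodd : ¬ 2 ∣ P.index)
    (hcov : ∀ p ∈ P, p ∈ P₁ ∨ p * z ∈ P₁) : z ∈ P₁ := by
  classical
  by_contra hz
  have hzcen : z ∈ Subgroup.center Γ := by
    rw [Subgroup.mem_center_iff]
    intro g
    exact hzc g
  let zc : Subgroup.center Γ := ⟨z, hzcen⟩
  have hzc2 : zc * zc = 1 := Subtype.ext hz2
  have hnot : ∀ p : Γ, p ∈ P₁ → p * z ∈ P₁ → False := by
    intro p h1 h2
    apply hz
    have : z = p⁻¹ * (p * z) := by group
    rw [this]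
    exact P₁.mul_mem (P₁.inv_mem h1) h2
  let f : ↥P → Subgroup.center Γ := fun p => if (p : Γ) ∈ P₁ then 1 else zc
  have hmul : ∀ p q : ↥P, f (p * q) = f p * f q := by
    intro p q
    by_cases hp : (p : Γ) ∈ P₁ <;> by_cases hq : (q : Γ) ∈ P₁
    · have : ((p * q : ↥P) : Γ) ∈ P₁ := P₁.mul_mem hp hq
      simp only [f, if_pos hp, if_pos hq, if_pos this, mul_one]
    · have : ¬ ((p * q : ↥P) : Γ) ∈ P₁ := by
        intro h
        apply hq
        have e : (q : Γ) = (p : Γ)⁻¹ * ((p : Γ) * (q : Γ)) := by group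
        rw [e]
        exact P₁.mul_mem (P₁.inv_mem hp) h
      simp only [f, if_pos hp, if_neg hq, if_neg this, one_mul]
    · have : ¬ ((p * q : ↥P) : Γ) ∈ P₁ := by
        intro h
        apply hp
        have e : (p : Γ) = ((p : Γ) * (q : Γ)) * (q : Γ)⁻¹ := by group
        rw [e]
        exact P₁.mul_mem h (P₁.inv_mem hq)
      simp only [f, if_neg hp, if_pos hq, if_neg this, mul_one]
    · have hp' : (p : Γ) * z ∈ P₁ := (hcov p p.2).resolve_left hp
      have hq' : (q : Γ) * z ∈ P₁ := (hcov q q.2).resolve_left hq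
      have : ((p * q : ↥P) : Γ) ∈ P₁ := by
        have e : ((p * q : ↥P) : Γ) = ((p : Γ) * z) * ((q : Γ) * z) := by
          show (p : Γ) * (q : Γ) = _
          rw [mul_assoc, ← mul_assoc z, ← hzc (q : Γ), mul_assoc (q : Γ), hz2, mul_one]
        rw [e]
        exact P₁.mul_mem hp' hq'
      simp only [f, if_neg hp, if_neg hq, if_pos this, hzc2]
  let Φ : ↥P →* Subgroup.center Γ := MonoidHom.mk' f hmul
  have h1 := transfer_kills (A := ↥(Subgroup.center Γ)) P Φ z hzc hzP hzcomm
  have h2 : Φ ⟨z, hzP⟩ = zc := by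
    show f ⟨z, hzP⟩ = zc
    simp only [f, if_neg hz]
  rw [h2] at h1
  have h3 : z ^ P.index = 1 := by
    have := congrArg Subtype.val h1
    simpa using this
  have h4 : orderOf z = 2 := by
    apply orderOf_eq_prime
    · rw [pow_two, hz2]
    · exact hz1
  exact hodd (h4 ▸ orderOf_dvd_of_pow_eq_one h3)

end Split

end Cfsg.Agent.Helper92.Mult
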