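import Cfsg.Agent.Lib.Helper92.MultAbs3

/-!
# Double covers: the contradiction when all involutions lift to involutions
-/

set_option autoImplicit false

namespace Cfsg.Agent.Helper92.Mult

open scoped Pointwise

section Main

variable {Γ G : Type*} [Group Γ] [Group G] {σ : Γ →* G} {z : Γ}

theorem mem_normalizer_of_invol (H : Subgroup Γ) (g : Γ) (hg2 : g * g = 1)
    (hg : ∀ u ∈ H, g * u * g⁻¹ ∈ H) : g ∈ Subgroup.normalizer (H : Set Γ) := by
  rw [Subgroup.mem_normalizer_iff]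
  intro u
  constructor
  · exact hg u
  · intro hu
    have := hg _ hu
    have e : g * (g * u * g⁻¹) * g⁻¹ = (g * g) * u * (g * g)⁻¹ := by group
    rw [e, hg2] at this
    simpa using this

theorem card_sup_le [Finite Γ] (N H : Subgroup Γ) (hLE : H ≤ Subgroup.normalizer (N : Set Γ)) :
    Nat.card ↥(N ⊔ H) ≤ Nat.card N * Nat.card H := by
  have e := Subgroup.coe_mul_of_right_le_normalizer_left N H hLE
  calc Nat.card ↥(N ⊔ H) = Nat.card ((N ⊔ H : Subgroup Γ) : Set Γ) := rfl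
    _ = Nat.card ((N : Set Γ) * (H : Set Γ) : Set Γ) := by rw [e]
    _ ≤ Nat.card (N : Set Γ) * Nat.card (H : Set Γ) := Set.natCard_mul_le

theorem card_zpowers_le (g : Γ) (n : ℕ) (hn : 0 < n) (hg : g ^ n = 1) :
    Nat.card (Subgroup.zpowers g) ≤ n := by
  rw [Nat.card_zpowers]
  exact Nat.le_of_dvd hn (orderOf_dvd_of_pow_eq_one hg)

/-- **Case A.** If the involutions of `E`, and `a`, `b`, `(ab)²`, all lift to involutions, the
double cover splits over `S = E⟨a,b⟩`, which is impossible when `S` has odd index. -/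
theorem caseA_false [Finite Γ] [Finite G] (h : Ext2 σ z) (hzcomm : z ∈ commutator Γ)
    (E S : Subgroup G) (x a b : G)
    (hE : ∀ e ∈ E, LiftSq σ e 1) (hx3 : x ^ 3 = 1) (hxE : ∀ e ∈ E, x * e * x⁻¹ ∈ E)
    (hN : ∀ e ∈ E, e * (x * e * x⁻¹) * (x * (x * e * x⁻¹) * x⁻¹) = 1)
    (ha : LiftSq σ a 1) (hb : LiftSq σ b 1) (hc : LiftSq σ ((a * b) * (a * b)) 1)
    (haE : ∀ e ∈ E, a * e * a⁻¹ ∈ E) (hbE : ∀ e ∈ E, b * e * b⁻¹ ∈ E)
    (hax : a⁻¹ * x * a = x⁻¹) (hbx : b⁻¹ * x * b = x)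
    (hS : S ≤ Subgroup.closure ((E : Set G) ∪ {a, b}))
    (hEcard : Nat.card E ≤ 16) (hScard : 128 ≤ Nat.card S) (hSodd : ¬ 2 ∣ S.index) : False := by
  obtain ⟨X, hX, hX3⟩ := exists_lift_cube h x hx3
  obtain ⟨a', ha'⟩ := h.surj a
  obtain ⟨b', hb'⟩ := h.surj b
  have hA : ∀ u ∈ E.comap σ, u * u = 1 := fun u hu => hE (σ u) hu u rfl
  have hXA : ∀ u ∈ E.comap σ, X * u * X⁻¹ ∈ E.comap σ := by
    intro u hu
    show σ (X * u * X⁻¹) ∈ E
    rw [map_mul, map_mul, map_inv, hX]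
    exact hxE _ hu
  have ha2 : a' * a' = 1 := ha a' ha'
  have hb2 : b' * b' = 1 := hb b' hb'
  have hzE₁ : z ∉ E1 (E.comap σ) hA X hXA := by
    rintro ⟨_, hn⟩
    rw [nrm_z h X] at hn
    exact h.z_ne hn
  have hzA : z ∈ E.comap σ := by
    show σ z ∈ E
    rw [h.map_z]; exact E.one_mem
  have hsurjE : ∀ e ∈ E, ∃ u ∈ E1 (E.comap σ) hA X hXA, σ u = e := by
    intro e he
    obtain ⟨l, hl⟩ := h.surj e
    have hlA : l ∈ E.comap σ := by
      show σ l ∈ E
      rw [hl]; exact he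
    have h0 : σ (nrm X l) = 1 := by
      unfold nrm
      simp only [map_mul, map_inv, hX, hl]
      exact hN e he
    rcases h.ker _ h0 with h1 | h1
    · exact ⟨l, ⟨hlA, h1⟩, hl⟩
    · refine ⟨l * z, ⟨(E.comap σ).mul_mem hlA hzA, ?_⟩, by rw [map_mul, hl, h.map_z, mul_one]⟩
      rw [nrm_mul (E.comap σ) (comm_of_sq _ hA) X hXA hlA hzA, h1, nrm_z h X, h.z_sq]
  have hcardE₁ : Nat.card (E1 (E.comap σ) hA X hXA) ≤ 16 := by
    refine le_trans ?_ hEcard
    let f : ↥(E1 (E.comap σ) hA X hXA) → ↥E := fun u => ⟨σ u, u.2.1⟩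
    apply Nat.card_le_card_of_injective f
    intro u v huv
    have e : σ (u : Γ) = σ (v : Γ) := congrArg Subtype.val huv
    rcases h.lift_eq e with h1 | h1
    · exact Subtype.ext h1.symm
    · exfalso
      apply hzE₁
      have : z = (u : Γ)⁻¹ * (v : Γ) := by rw [h1]; group
      rw [this]
      exact (E1 (E.comap σ) hA X hXA).mul_mem ((E1 (E.comap σ) hA X hXA).inv_mem u.2) v.2
  -- the lifts of `a`, `b` normalise `E₁`
  have haA : ∀ u ∈ E.comap σ, a' * u * a'⁻¹ ∈ E.comap σ := by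
    intro u hu
    show σ (a' * u * a'⁻¹) ∈ E
    rw [map_mul, map_mul, map_inv, ha']
    exact haE _ hu
  have hbA : ∀ u ∈ E.comap σ, b' * u * b'⁻¹ ∈ E.comap σ := by
    intro u hu
    show σ (b' * u * b'⁻¹) ∈ E
    rw [map_mul, map_mul, map_inv, hb']
    exact hbE _ hu
  have hζa : X * (a'⁻¹ * X * a') = 1 ∨ X * (a'⁻¹ * X * a') = z := by
    apply h.ker
    rw [map_mul, map_mul, map_mul, map_inv, hX, ha', hax, mul_inv_cancel]
  have hζb : X⁻¹ * (b'⁻¹ * X * b') = 1 ∨ X⁻¹ * (b'⁻¹ * X * b') = z := by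
    apply h.ker
    rw [map_mul, map_mul, map_mul, map_inv, map_inv, hX, hb', hbx, inv_mul_cancel]
  have haE₁ := E1_conj_of_inv (hA := hA) (hXA := hXA) hX3 a' haA
    (intertwine_inv X a' _ hX3 (h.cen hζa) (by group))
  have hbE₁ := E1_conj_of_comm (hA := hA) (hXA := hXA) b' hbA
    (intertwine_comm X b' _ (h.cen hζb) (by group))
  have haN := mem_normalizer_of_invol _ a' ha2 haE₁
  have hbN := mem_normalizer_of_invol _ b' hb2 hbE₁
  have hρ4 : (a' * b') ^ 4 = 1 := by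
    have := hc ((a' * b') * (a' * b')) (by simp only [map_mul, ha', hb'])
    rw [show (4 : ℕ) = 2 + 2 from rfl, pow_add, pow_two]
    exact this
  have hρN : Subgroup.zpowers (a' * b') ≤
      Subgroup.normalizer ((E1 (E.comap σ) hA X hXA : Subgroup Γ) : Set Γ) := by
    rw [Subgroup.zpowers_le]
    exact Subgroup.mul_mem _ haN hbN
  have hainv : a'⁻¹ = a' := inv_eq_of_mul_eq_one_left ha2
  have hbinv : b'⁻¹ = b' := inv_eq_of_mul_eq_one_left hb2
  have hconjρ : a' * (a' * b') * a'⁻¹ = (a' * b')⁻¹ := by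
    rw [mul_inv_rev, hainv, hbinv, ← mul_assoc a', ha2, one_mul]
  have haR : a' ∈ Subgroup.normalizer ((Subgroup.zpowers (a' * b') : Subgroup Γ) : Set Γ) := by
    apply mem_normalizer_of_invol _ a' ha2
    intro u hu
    rw [Subgroup.mem_zpowers_iff] at hu
    obtain ⟨k, rfl⟩ := hu
    rw [← conj_zpow, hconjρ, inv_zpow]
    exact Subgroup.inv_mem _ (Subgroup.zpow_mem_zpowers _ k)
  have haER : Subgroup.zpowers a' ≤ Subgroup.normalizer
      ((E1 (E.comap σ) hA X hXA ⊔ Subgroup.zpowers (a' * b') : Subgroup Γ) : Set Γ) := by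
    rw [Subgroup.zpowers_le]
    exact Subgroup.normalizer_inf_normalizer_le_normalizer_sup _ _ ⟨haN, haR⟩
  -- the complement
  have hcard1 := card_sup_le _ _ hρN
  have hcard2 := card_sup_le _ _ haER
  have hR4 := card_zpowers_le (a' * b') 4 (by norm_num) hρ4
  have hT2 := card_zpowers_le a' 2 (by norm_num) (by rw [pow_two, ha2])
  have hP₁card : Nat.card ↥((E1 (E.comap σ) hA X hXA ⊔ Subgroup.zpowers (a' * b')) ⊔
      Subgroup.zpowers a') ≤ 128 := by
    calc _ ≤ _ := hcard2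
      _ ≤ (Nat.card (E1 (E.comap σ) hA X hXA) * Nat.card (Subgroup.zpowers (a' * b'))) *
          Nat.card (Subgroup.zpowers a') := Nat.mul_le_mul_right _ hcard1
      _ ≤ (16 * 4) * 2 := Nat.mul_le_mul (Nat.mul_le_mul hcardE₁ hR4) hT2
  generalize hP₁ : ((E1 (E.comap σ) hA X hXA ⊔ Subgroup.zpowers (a' * b')) ⊔
      Subgroup.zpowers a') = P₁ at hP₁card
  have hE₁P : E1 (E.comap σ) hA X hXA ≤ P₁ := by
    rw [← hP₁]; exact le_sup_left.trans le_sup_left
  have hρP : a' * b' ∈ P₁ := by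
    rw [← hP₁]
    exact (le_sup_right.trans le_sup_left :
      Subgroup.zpowers (a' * b') ≤ _) (Subgroup.mem_zpowers _)
  have haP : a' ∈ P₁ := by
    rw [← hP₁]
    exact (le_sup_right : Subgroup.zpowers a' ≤ _) (Subgroup.mem_zpowers _)
  have hbP : b' ∈ P₁ := by
    have : b' = a'⁻¹ * (a' * b') := by group
    rw [this]
    exact P₁.mul_mem (P₁.inv_mem haP) hρP
  have hSP : S ≤ P₁.map σ := by
    refine hS.trans ?_
    rw [Subgroup.closure_le]
    rintro g (hg | hg | hg)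
    · obtain ⟨u, hu, rfl⟩ := hsurjE g hg
      exact ⟨u, hE₁P hu, rfl⟩
    · rw [hg]
      exact ⟨a', haP, ha'⟩
    · rw [Set.mem_singleton_iff] at hg
      rw [hg]
      exact ⟨b', hbP, hb'⟩
  -- `z ∉ P₁` by counting
  have hzP₁ : z ∉ P₁ := by
    intro hz
    let f : ↥P₁ →* G := σ.comp P₁.subtype
    have h1 := Subgroup.card_mul_index f.ker
    rw [Subgroup.index_ker] at h1
    have h2 : Nat.card S ≤ Nat.card f.range := by
      apply Subgroup.card_le_of_le
      intro s hs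
      obtain ⟨p, hp, rfl⟩ := hSP hs
      exact ⟨⟨p, hp⟩, rfl⟩
    have h3 : 1 < Nat.card f.ker := by
      rw [Finite.one_lt_card_iff_nontrivial]
      refine ⟨⟨1, ⟨⟨z, hz⟩, ?_⟩, ?_⟩⟩
      · rw [MonoidHom.mem_ker]
        exact h.map_z
      · intro e
        have := congrArg (fun t : ↥f.ker => ((t : ↥P₁) : Γ)) e
        exact h.z_ne this.symm
    have : 2 * 128 ≤ Nat.card f.ker * Nat.card f.range :=
      Nat.mul_le_mul h3 (hScard.trans h2)
    omega
  -- the transfer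
  apply hzP₁
  apply mem_of_cover z h.z_sq h.z_ne h.z_comm hzcomm (S.comap σ) P₁
  · show σ z ∈ S
    rw [h.map_z]; exact S.one_mem
  · rw [Subgroup.index_comap_of_surjective S h.surj]
    exact hSodd
  · intro p hp
    obtain ⟨q, hq, hqp⟩ := hSP (show σ p ∈ S from hp)
    rcases h.lift_eq hqp with h1 | h1
    · left; rw [h1]; exact hq
    · right
      rw [h1, mul_assoc, h.z_sq, mul_one]
      exact hq

end Main

end Cfsg.Agent.Helper92.Mult
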