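import Cfsg.Agent.Lib.Helper92.MultAbs5

/-!
# Stem extensions: reduction to kernels of prime order, the cyclic Sylow case, and the
double cover argument for `S = E : (D₈ × 2)` (the shape met in `M24`).
-/

set_option autoImplicit false

namespace Cfsg.Agent.Helper92.Mult

open scoped Pointwise

universe u

section ReduceP

/-- If no finite stem extension of `G` has kernel of prime order, all finite stem extensions of
`G` are trivial. -/
theorem ker_eq_bot_of_no_prime_cover {G : Type u} [Group G] [Finite G]
    (hmain : ∀ (Γ : Type u) [Group Γ] [Finite Γ] (σ : Γ →* G) (z : Γ) (p : ℕ), p.Prime →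
      Function.Surjective σ → σ.ker = Subgroup.zpowers z → orderOf z = p →
      (∀ g : Γ, g * z = z * g) → z ∈ commutator Γ → False) :
    ∀ (Γ : Type u) [Group Γ] [Finite Γ] (σ : Γ →* G), Cfsg.IsStemExtension σ → σ.ker = ⊥ := by
  suffices H : ∀ (n : ℕ) (Γ : Type u) [Group Γ] [Finite Γ] (σ : Γ →* G),
      Cfsg.IsStemExtension σ → Nat.card Γ = n → σ.ker = ⊥ from
    fun Γ _ _ σ hσ => H _ Γ σ hσ rfl
  intro n
  induction n using Nat.strong_induction_on with
  | _ n ih =>
    intro Γ _ _ σ hσ hn
    by_contra hne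
    have hne' : σ.ker ≠ ⊥ := hne
    rw [Subgroup.ne_bot_iff_exists_ne_one] at hne'
    obtain ⟨⟨k, hk⟩, hk1⟩ := hne'
    have hk1' : k ≠ 1 := fun e => hk1 (Subtype.ext e)
    have hord1 : orderOf k ≠ 1 := fun e => hk1' (orderOf_eq_one_iff.1 e)
    have hord0 : orderOf k ≠ 0 := (orderOf_pos k).ne'
    have hp : (orderOf k).minFac.Prime := Nat.minFac_prime hord1
    have hpd : (orderOf k).minFac ∣ orderOf k := Nat.minFac_dvd _
    have hz : orderOf (k ^ (orderOf k / (orderOf k).minFac)) = (orderOf k).minFac :=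
      orderOf_pow_orderOf_div hord0 hpd
    generalize hzdef : k ^ (orderOf k / (orderOf k).minFac) = z at hz
    generalize (orderOf k).minFac = p at hp hz
    have hzk : z ∈ σ.ker := by rw [← hzdef]; exact Subgroup.pow_mem _ hk _
    obtain ⟨hsurj, hcen, hcomm⟩ := hσ
    have hzc : ∀ g : Γ, g * z = z * g := fun g => Subgroup.mem_center_iff.1 (hcen hzk) g
    have hZ : Subgroup.zpowers z ≤ σ.ker := by
      rw [Subgroup.zpowers_le]; exact hzk
    have hnorm : (Subgroup.zpowers z).Normal := by
      constructor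
      intro w hw g
      have hwc := Subgroup.mem_center_iff.1 (hcen (hZ hw)) g
      rw [hwc, mul_inv_cancel_right]
      exact hw
    have hstem := stem_quotient σ ⟨hsurj, hcen, hcomm⟩ (Subgroup.zpowers z) hZ
    have hcard := Subgroup.card_eq_card_quotient_mul_card_subgroup (Subgroup.zpowers z)
    rw [Nat.card_zpowers, hz, hn] at hcard
    have hpos : 0 < Nat.card (Γ ⧸ Subgroup.zpowers z) := Nat.card_pos
    have hp2 := hp.two_le
    have hlt : Nat.card (Γ ⧸ Subgroup.zpowers z) < n := by
      rw [hcard]
      nlinarith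
    have hbot := ih _ hlt (Γ ⧸ Subgroup.zpowers z) _ hstem rfl
    have hker : σ.ker = Subgroup.zpowers z := by
      apply le_antisymm _ hZ
      intro g hg
      have h1 : (QuotientGroup.mk g : Γ ⧸ Subgroup.zpowers z) ∈
          (QuotientGroup.lift (Subgroup.zpowers z) σ hZ).ker := by
        rw [MonoidHom.mem_ker]
        exact MonoidHom.mem_ker.1 hg
      rw [hbot, Subgroup.mem_bot, QuotientGroup.eq_one_iff] at h1
      exact h1
    exact hmain Γ σ z p hp hsurj hker hz hzc (hcomm hzk)

/-- the order two case gives `Ext2` -/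
theorem ext2_of_ker {Γ G : Type*} [Group Γ] [Group G] (σ : Γ →* G) (z : Γ)
    (hsurj : Function.Surjective σ) (hker : σ.ker = Subgroup.zpowers z) (hord : orderOf z = 2)
    (hzc : ∀ g : Γ, g * z = z * g) : Ext2 σ z := by
  have hz2 : z * z = 1 := by rw [← pow_two, ← hord, pow_orderOf_eq_one]
  have hz1 : z ≠ 1 := by
    intro e
    rw [e, orderOf_one] at hord
    omega
  refine ⟨hsurj, hz2, hz1, hzc, ?_, ?_⟩
  · rw [← MonoidHom.mem_ker, hker]; exact Subgroup.mem_zpowers z
  · intro g hg
    rw [← MonoidHom.mem_ker, hker] at hg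
    exact zpowers_invol z hz2 hg

end ReduceP

section Cyclic

variable {Γ G : Type*} [Group Γ] [Group G]

open scoped IsMulCommutative in
/-- A subgroup of index prime to `p` that is cyclic rules out a kernel of order `p`. -/
theorem false_of_cyclic [Finite Γ] (σ : Γ →* G) (z : Γ) (p : ℕ)
    (hsurj : Function.Surjective σ) (hker : σ.ker = Subgroup.zpowers z) (hord : orderOf z = p)
    (hzc : ∀ g : Γ, g * z = z * g) (hzcomm : z ∈ commutator Γ)
    (S : Subgroup G) [IsCyclic S] (hidx : ¬ p ∣ S.index) : False := by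
  have hzk : z ∈ σ.ker := by rw [hker]; exact Subgroup.mem_zpowers z
  have hzP : z ∈ S.comap σ := by
    show σ z ∈ S
    rw [MonoidHom.mem_ker.1 hzk]; exact S.one_mem
  have hcen : (σ.subgroupComap S).ker ≤ Subgroup.center ↥(S.comap σ) := by
    intro q hq
    rw [Subgroup.mem_center_iff]
    intro r
    have hq1 : σ (q : Γ) = 1 := by
      have := MonoidHom.mem_ker.1 hq
      exact congrArg Subtype.val this
    have hqc : (q : Γ) ∈ Subgroup.zpowers z := by rw [← hker]; exact MonoidHom.mem_ker.2 hq1
    obtain ⟨j, hj⟩ := Subgroup.mem_zpowers_iff.1 hqc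
    apply Subtype.ext
    show (r : Γ) * (q : Γ) = (q : Γ) * (r : Γ)
    rw [← hj]
    have : Commute (r : Γ) z := hzc r
    exact (this.zpow_right j)
  have hcomm : IsMulCommutative ↥(S.comap σ) :=
    MonoidHom.isMulCommutative_of_isCyclic_of_ker_le_center (σ.subgroupComap S) hcen
  have h1 := transfer_kills (A := ↥(S.comap σ)) (S.comap σ) (MonoidHom.id _) z hzc hzP hzcomm
  rw [Subgroup.index_comap_of_surjective S hsurj] at h1
  have h2 : z ^ S.index = 1 := by
    have := congrArg Subtype.val h1
    simpa using this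
  exact hidx (hord ▸ orderOf_dvd_of_pow_eq_one h2)

/-- A prime whose Sylow subgroups have order at most `p` does not divide the multiplier. -/
theorem false_of_small_sylow [Finite Γ] [Finite G] (σ : Γ →* G) (z : Γ) (p : ℕ)
    (hp : p.Prime) (hsurj : Function.Surjective σ) (hker : σ.ker = Subgroup.zpowers z)
    (hord : orderOf z = p) (hzc : ∀ g : Γ, g * z = z * g) (hzcomm : z ∈ commutator Γ)
    (hfac : (Nat.card G).factorization p ≤ 1) : False := by
  have : Fact p.Prime := ⟨hp⟩
  obtain ⟨P⟩ := (inferInstance : Nonempty (Sylow p G))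
  have hcard := P.card_eq_multiplicity
  have hcyc : IsCyclic (P : Subgroup G) := by
    rcases Nat.le_one_iff_eq_zero_or_eq_one.1 hfac with h0 | h1
    · rw [h0, pow_zero] at hcard
      have : Subsingleton (P : Subgroup G) := (Nat.card_eq_one_iff_unique.1 hcard).1
      exact isCyclic_of_subsingleton
    · rw [h1, pow_one] at hcard
      exact isCyclic_of_prime_card hcard
  exact false_of_cyclic σ z p hsurj hker hord hzc hzcomm (P : Subgroup G) P.not_dvd_index

end Cyclic

end Cfsg.Agent.Helper92.Mult
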