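import Cfsg.Agent.Lib.Helper92.MultAbs6

/-!
# Double covers: the complement construction for `S = E : (D₈ × 2)`
-/

set_option autoImplicit false

namespace Cfsg.Agent.Helper92.Mult

open scoped Pointwise

section Main2

variable {Γ G : Type*} [Group Γ] [Group G] {σ : Γ →* G} {z : Γ}

/-- A lift of an element normalising `E` and centralising or inverting `x` normalises the
kernel of the norm. -/
theorem E1_conj_of_lift (h : Ext2 σ z) (E : Subgroup G) (x g : G) (X g' : Γ)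
    (hX : σ X = x) (hX3 : X ^ 3 = 1) (hg' : σ g' = g)
    {hA : ∀ u ∈ E.comap σ, u * u = 1} {hXA : ∀ u ∈ E.comap σ, X * u * X⁻¹ ∈ E.comap σ}
    (hgE : ∀ e ∈ E, g * e * g⁻¹ ∈ E) (hgx : g⁻¹ * x * g = x ∨ g⁻¹ * x * g = x⁻¹) :
    ∀ u ∈ E1 (E.comap σ) hA X hXA, g' * u * g'⁻¹ ∈ E1 (E.comap σ) hA X hXA := by
  have hgA : ∀ u ∈ E.comap σ, g' * u * g'⁻¹ ∈ E.comap σ := by
    intro u hu
    show σ (g' * u * g'⁻¹) ∈ E
    rw [map_mul, map_mul, map_inv, hg']
    exact hgE _ hu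
  rcases hgx with hgx | hgx
  · have hζ : X⁻¹ * (g'⁻¹ * X * g') = 1 ∨ X⁻¹ * (g'⁻¹ * X * g') = z := by
      apply h.ker
      rw [map_mul, map_mul, map_mul, map_inv, map_inv, hX, hg', hgx, inv_mul_cancel]
    exact E1_conj_of_comm g' hgA (intertwine_comm X g' _ (h.cen hζ) (by group))
  · have hζ : X * (g'⁻¹ * X * g') = 1 ∨ X * (g'⁻¹ * X * g') = z := by
      apply h.ker
      rw [map_mul, map_mul, map_mul, map_inv, hX, hg', hgx, mul_inv_cancel]
    exact E1_conj_of_inv hX3 g' hgA (intertwine_inv X g' _ hX3 (h.cen hζ) (by group))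

theorem comm_of_invol {u v : Γ} (hu : u * u = 1) (hv : v * v = 1) (huv : (u * v) * (u * v) = 1) :
    u * v = v * u := by
  have h1 : (u * v)⁻¹ = u * v := inv_eq_of_mul_eq_one_left huv
  have h2 : u⁻¹ = u := inv_eq_of_mul_eq_one_left hu
  have h3 : v⁻¹ = v := inv_eq_of_mul_eq_one_left hv
  calc u * v = (u * v)⁻¹ := h1.symm
    _ = v⁻¹ * u⁻¹ := mul_inv_rev u v
    _ = v * u := by rw [h2, h3]

theorem mem_normalizer_zpowers_of_commute (d g : Γ) (h : d * g = g * d) :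
    d ∈ Subgroup.normalizer ((Subgroup.zpowers g : Subgroup Γ) : Set Γ) := by
  rw [Subgroup.mem_normalizer_iff]
  intro u
  have key : ∀ w ∈ Subgroup.zpowers g, d * w * d⁻¹ = w := by
    intro w hw
    obtain ⟨k, rfl⟩ := Subgroup.mem_zpowers_iff.1 hw
    have hc : Commute d g := h
    rw [(hc.zpow_right k).eq, mul_inv_cancel_right]
  constructor
  · intro hu
    rw [key u hu]; exact hu
  · intro hu
    have := key _ hu
    have e : u = d⁻¹ * (d * u * d⁻¹) * d := by group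
    rw [e]
    have e2 : d⁻¹ * (d * u * d⁻¹) * d = d * u * d⁻¹ := by
      have hc : Commute d (d * u * d⁻¹) := by
        show d * (d * u * d⁻¹) = (d * u * d⁻¹) * d
        have := key _ hu
        calc d * (d * u * d⁻¹) = (d * (d * u * d⁻¹) * d⁻¹) * d := by group
          _ = (d * u * d⁻¹) * d := by rw [this]
      calc d⁻¹ * (d * u * d⁻¹) * d = d⁻¹ * ((d * u * d⁻¹) * d) := by group
        _ = d⁻¹ * (d * (d * u * d⁻¹)) := by rw [hc.eq]
        _ = d * u * d⁻¹ := by group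
    rw [e2]; exact hu

/-- **Case A, second shape.** If all the involutions of `E`, and `a`, `b`, `(ab)²`, `d`, `ad`,
`bd` lift to involutions, the double cover splits over `S = E⟨a,b,d⟩` (`d` commuting with
`a` and `b`), which is impossible when `S` has odd index. -/
theorem caseA_false2 [Finite Γ] [Finite G] (h : Ext2 σ z) (hzcomm : z ∈ commutator Γ)
    (E S : Subgroup G) (x a b d : G) (nE : ℕ)
    (hE : ∀ e ∈ E, LiftSq σ e 1) (hx3 : x ^ 3 = 1) (hxE : ∀ e ∈ E, x * e * x⁻¹ ∈ E)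
    (hN : ∀ e ∈ E, e * (x * e * x⁻¹) * (x * (x * e * x⁻¹) * x⁻¹) = 1)
    (ha : LiftSq σ a 1) (hb : LiftSq σ b 1) (hc : LiftSq σ ((a * b) * (a * b)) 1)
    (hd : LiftSq σ d 1) (had : LiftSq σ (a * d) 1) (hbd : LiftSq σ (b * d) 1)
    (haE : ∀ e ∈ E, a * e * a⁻¹ ∈ E) (hbE : ∀ e ∈ E, b * e * b⁻¹ ∈ E)
    (hdE : ∀ e ∈ E, d * e * d⁻¹ ∈ E)
    (hax : a⁻¹ * x * a = x ∨ a⁻¹ * x * a = x⁻¹) (hbx : b⁻¹ * x * b = x ∨ b⁻¹ * x * b = x⁻¹)
    (hdx : d⁻¹ * x * d = x ∨ d⁻¹ * x * d = x⁻¹)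
    (hS : S ≤ Subgroup.closure ((E : Set G) ∪ {a, b, d}))
    (hEcard : Nat.card E ≤ nE) (hScard : nE * 16 ≤ Nat.card S) (hSodd : ¬ 2 ∣ S.index) :
    False := by
  obtain ⟨X, hX, hX3⟩ := exists_lift_cube h x hx3
  obtain ⟨a', ha'⟩ := h.surj a
  obtain ⟨b', hb'⟩ := h.surj b
  obtain ⟨d', hd'⟩ := h.surj d
  have hA : ∀ u ∈ E.comap σ, u * u = 1 := fun u hu => hE (σ u) hu u rfl
  have hXA : ∀ u ∈ E.comap σ, X * u * X⁻¹ ∈ E.comap σ := by
    intro u hu
    show σ (X * u * X⁻¹) ∈ E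
    rw [map_mul, map_mul, map_inv, hX]
    exact hxE _ hu
  have ha2 : a' * a' = 1 := ha a' ha'
  have hb2 : b' * b' = 1 := hb b' hb'
  have hd2 : d' * d' = 1 := hd d' hd'
  have hadc : a' * d' = d' * a' :=
    comm_of_invol ha2 hd2 (had (a' * d') (by rw [map_mul, ha', hd']))
  have hbdc : b' * d' = d' * b' :=
    comm_of_invol hb2 hd2 (hbd (b' * d') (by rw [map_mul, hb', hd']))
  have hzE₁ : z ∉ E1 (E.comap σ) hA X hXA := by
    rintro ⟨_, hn⟩
    rw [nrm_z h X] at hn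
    exact h.z_ne hn
  have hzA : z ∈ E.comap σ := by
    show σ z ∈ E
    rw [h.map_z]; exact E.one_mem
  have hsurjE : ∀ e ∈ E, ∃ u ∈ E1 (E.comap σ) hA X hXA, σ u = e := by
    intro e he
    obtain ⟨l, hl⟩ := h.surj e
    have hlA : l ∈ E.comap σ := by
      show σ l ∈ E
      rw [hl]; exact he
    have h0 : σ (nrm X l) = 1 := by
      unfold nrm
      simp only [map_mul, map_inv, hX, hl]
      exact hN e he
    rcases h.ker _ h0 with h1 | h1
    · exact ⟨l, ⟨hlA, h1⟩, hl⟩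
    · refine ⟨l * z, ⟨(E.comap σ).mul_mem hlA hzA, ?_⟩, by rw [map_mul, hl, h.map_z, mul_one]⟩
      rw [nrm_mul (E.comap σ) (comm_of_sq _ hA) X hXA hlA hzA, h1, nrm_z h X, h.z_sq]
  have hcardE₁ : Nat.card (E1 (E.comap σ) hA X hXA) ≤ nE := by
    refine le_trans ?_ hEcard
    let f : ↥(E1 (E.comap σ) hA X hXA) → ↥E := fun u => ⟨σ u, u.2.1⟩
    apply Nat.card_le_card_of_injective f
    intro u v huv
    have e : σ (u : Γ) = σ (v : Γ) := congrArg Subtype.val huv
    rcases h.lift_eq e with h1 | h1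
    · exact Subtype.ext h1.symm
    · exfalso
      apply hzE₁
      have : z = (u : Γ)⁻¹ * (v : Γ) := by rw [h1]; group
      rw [this]
      exact (E1 (E.comap σ) hA X hXA).mul_mem ((E1 (E.comap σ) hA X hXA).inv_mem u.2) v.2
  have haE₁ := E1_conj_of_lift h E x a X a' hX hX3 ha' (hA := hA) (hXA := hXA) haE hax
  have hbE₁ := E1_conj_of_lift h E x b X b' hX hX3 hb' (hA := hA) (hXA := hXA) hbE hbx
  have hdE₁ := E1_conj_of_lift h E x d X d' hX hX3 hd' (hA := hA) (hXA := hXA) hdE hdx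
  have haN := mem_normalizer_of_invol _ a' ha2 haE₁
  have hbN := mem_normalizer_of_invol _ b' hb2 hbE₁
  have hdN := mem_normalizer_of_invol _ d' hd2 hdE₁
  have hρ4 : (a' * b') ^ 4 = 1 := by
    have := hc ((a' * b') * (a' * b')) (by simp only [map_mul, ha', hb'])
    rw [show (4 : ℕ) = 2 + 2 from rfl, pow_add, pow_two]
    exact this
  have hρN : Subgroup.zpowers (a' * b') ≤
      Subgroup.normalizer ((E1 (E.comap σ) hA X hXA : Subgroup Γ) : Set Γ) := by
    rw [Subgroup.zpowers_le]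
    exact Subgroup.mul_mem _ haN hbN
  have hainv : a'⁻¹ = a' := inv_eq_of_mul_eq_one_left ha2
  have hbinv : b'⁻¹ = b' := inv_eq_of_mul_eq_one_left hb2
  have hconjρ : a' * (a' * b') * a'⁻¹ = (a' * b')⁻¹ := by
    rw [mul_inv_rev, hainv, hbinv, ← mul_assoc a', ha2, one_mul]
  have haR : a' ∈ Subgroup.normalizer ((Subgroup.zpowers (a' * b') : Subgroup Γ) : Set Γ) := by
    apply mem_normalizer_of_invol _ a' ha2
    intro u hu
    rw [Subgroup.mem_zpowers_iff] at hu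
    obtain ⟨k, rfl⟩ := hu
    rw [← conj_zpow, hconjρ, inv_zpow]
    exact Subgroup.inv_mem _ (Subgroup.zpow_mem_zpowers _ k)
  have haER : Subgroup.zpowers a' ≤ Subgroup.normalizer
      ((E1 (E.comap σ) hA X hXA ⊔ Subgroup.zpowers (a' * b') : Subgroup Γ) : Set Γ) := by
    rw [Subgroup.zpowers_le]
    exact Subgroup.normalizer_inf_normalizer_le_normalizer_sup _ _ ⟨haN, haR⟩
  have hdρ : d' * (a' * b') = (a' * b') * d' := by
    rw [← mul_assoc, ← hadc, mul_assoc, ← hbdc, mul_assoc]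
  have hdR := mem_normalizer_zpowers_of_commute d' (a' * b') hdρ
  have hdT := mem_normalizer_zpowers_of_commute d' a' hadc.symm
  have hdERT : Subgroup.zpowers d' ≤ Subgroup.normalizer
      (((E1 (E.comap σ) hA X hXA ⊔ Subgroup.zpowers (a' * b')) ⊔ Subgroup.zpowers a' :
        Subgroup Γ) : Set Γ) := by
    rw [Subgroup.zpowers_le]
    exact Subgroup.normalizer_inf_normalizer_le_normalizer_sup _ _
      ⟨Subgroup.normalizer_inf_normalizer_le_normalizer_sup _ _ ⟨hdN, hdR⟩, hdT⟩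
  have hcard1 := card_sup_le _ _ hρN
  have hcard2 := card_sup_le _ _ haER
  have hcard3 := card_sup_le _ _ hdERT
  have hR4 := card_zpowers_le (a' * b') 4 (by norm_num) hρ4
  have hT2 := card_zpowers_le a' 2 (by norm_num) (by rw [pow_two, ha2])
  have hD2 := card_zpowers_le d' 2 (by norm_num) (by rw [pow_two, hd2])
  have hP₁card : Nat.card ↥(((E1 (E.comap σ) hA X hXA ⊔ Subgroup.zpowers (a' * b')) ⊔
      Subgroup.zpowers a') ⊔ Subgroup.zpowers d') ≤ nE * 16 := by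
    calc _ ≤ _ := hcard3
      _ ≤ ((Nat.card (E1 (E.comap σ) hA X hXA) * Nat.card (Subgroup.zpowers (a' * b'))) *
          Nat.card (Subgroup.zpowers a')) * Nat.card (Subgroup.zpowers d') :=
        Nat.mul_le_mul_right _ (hcard2.trans (Nat.mul_le_mul_right _ hcard1))
      _ ≤ ((nE * 4) * 2) * 2 :=
        Nat.mul_le_mul (Nat.mul_le_mul (Nat.mul_le_mul hcardE₁ hR4) hT2) hD2
      _ = nE * 16 := by ring
  generalize hP₁ : (((E1 (E.comap σ) hA X hXA ⊔ Subgroup.zpowers (a' * b')) ⊔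
      Subgroup.zpowers a') ⊔ Subgroup.zpowers d') = P₁ at hP₁card
  have hE₁P : E1 (E.comap σ) hA X hXA ≤ P₁ := by
    rw [← hP₁]; exact (le_sup_left.trans le_sup_left).trans le_sup_left
  have hρP : a' * b' ∈ P₁ := by
    rw [← hP₁]
    exact ((le_sup_right.trans le_sup_left).trans le_sup_left :
      Subgroup.zpowers (a' * b') ≤ _) (Subgroup.mem_zpowers _)
  have haP : a' ∈ P₁ := by
    rw [← hP₁]
    exact (le_sup_right.trans le_sup_left : Subgroup.zpowers a' ≤ _) (Subgroup.mem_zpowers _)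
  have hdP : d' ∈ P₁ := by
    rw [← hP₁]
    exact (le_sup_right : Subgroup.zpowers d' ≤ _) (Subgroup.mem_zpowers _)
  have hbP : b' ∈ P₁ := by
    have : b' = a'⁻¹ * (a' * b') := by group
    rw [this]
    exact P₁.mul_mem (P₁.inv_mem haP) hρP
  have hSP : S ≤ P₁.map σ := by
    refine hS.trans ?_
    rw [Subgroup.closure_le]
    rintro g (hg | hg | hg | hg)
    · obtain ⟨u, hu, rfl⟩ := hsurjE g hg
      exact ⟨u, hE₁P hu, rfl⟩
    · rw [hg]
      exact ⟨a', haP, ha'⟩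
    · rw [hg]
      exact ⟨b', hbP, hb'⟩
    · rw [Set.mem_singleton_iff] at hg
      rw [hg]
      exact ⟨d', hdP, hd'⟩
  have hzP₁ : z ∉ P₁ := by
    intro hz
    let f : ↥P₁ →* G := σ.comp P₁.subtype
    have h1 := Subgroup.card_mul_index f.ker
    rw [Subgroup.index_ker] at h1
    have h2 : Nat.card S ≤ Nat.card f.range := by
      apply Subgroup.card_le_of_le
      intro s hs
      obtain ⟨p, hp, rfl⟩ := hSP hs
      exact ⟨⟨p, hp⟩, rfl⟩
    have h3 : 1 < Nat.card f.ker := by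
      rw [Finite.one_lt_card_iff_nontrivial]
      refine ⟨⟨1, ⟨⟨z, hz⟩, ?_⟩, ?_⟩⟩
      · rw [MonoidHom.mem_ker]
        exact h.map_z
      · intro e
        have := congrArg (fun t : ↥f.ker => ((t : ↥P₁) : Γ)) e
        exact h.z_ne this.symm
    have h4 : 2 * (nE * 16) ≤ Nat.card f.ker * Nat.card f.range :=
      Nat.mul_le_mul h3 (hScard.trans h2)
    have h5 : 0 < Nat.card E := Nat.card_pos
    omega
  apply hzP₁
  apply mem_of_cover z h.z_sq h.z_ne h.z_comm hzcomm (S.comap σ) P₁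
  · show σ z ∈ S
    rw [h.map_z]; exact S.one_mem
  · rw [Subgroup.index_comap_of_surjective S h.surj]
    exact hSodd
  · intro p hp
    obtain ⟨q, hq, hqp⟩ := hSP (show σ p ∈ S from hp)
    rcases h.lift_eq hqp with h1 | h1
    · left; rw [h1]; exact hq
    · right
      rw [h1, mul_assoc, h.z_sq, mul_one]
      exact hq

end Main2

end Cfsg.Agent.Helper92.Mult
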