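import Cfsg.Agent.Lib.Helper92.MultAbs8
import Cfsg.Agent.Lib.Helper65.Stem

/-!
# Stem extensions: the prime `3` for a Sylow subgroup `3^{1+2}` with an inverting involution
-/

set_option autoImplicit false

namespace Cfsg.Agent.Helper92.Mult

open scoped Pointwise

section P3

variable {Γ G : Type*} [Group Γ] [Group G]

theorem comm_central (g h ζ ζ' : Γ) (hζ : ∀ u : Γ, u * ζ = ζ * u) (hζ' : ∀ u : Γ, u * ζ' = ζ' * u) :
    (g * ζ) * (h * ζ') * (g * ζ)⁻¹ * (h * ζ')⁻¹ = g * h * g⁻¹ * h⁻¹ := by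
  rw [conj_mul_central g ζ (h * ζ') hζ]
  have e : g * (h * ζ') * g⁻¹ * (h * ζ')⁻¹ = g * h * (ζ' * g⁻¹) * ζ'⁻¹ * h⁻¹ := by group
  rw [e, ← hζ' g⁻¹]
  group

/-- The key computation: if the involution-lift `T` inverts `X` and `Y` modulo central elements,
the commutator `C = [X, Y]` commutes with `X` whenever `[C, X]` is central of odd order. -/
theorem comm_fixed (X Y T ζ₁ ζ₂ ζ₃ k : Γ)
    (h1 : ∀ u : Γ, u * ζ₁ = ζ₁ * u) (h2 : ∀ u : Γ, u * ζ₂ = ζ₂ * u)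
    (h3 : ∀ u : Γ, u * ζ₃ = ζ₃ * u) (hk : ∀ u : Γ, u * k = k * u)
    (hTX : T * X * T⁻¹ = X⁻¹ * ζ₁) (hTY : T * Y * T⁻¹ = Y⁻¹ * ζ₂)
    (hC : X⁻¹ * Y⁻¹ * X * Y = (X * Y * X⁻¹ * Y⁻¹) * ζ₃)
    (hkdef : k = (X * Y * X⁻¹ * Y⁻¹) * X * (X * Y * X⁻¹ * Y⁻¹)⁻¹ * X⁻¹) : k * k = 1 := by
  have hTC : T * (X * Y * X⁻¹ * Y⁻¹) * T⁻¹ = (X * Y * X⁻¹ * Y⁻¹) * ζ₃ := by
    have e : T * (X * Y * X⁻¹ * Y⁻¹) * T⁻¹ =
        (T * X * T⁻¹) * (T * Y * T⁻¹) * (T * X * T⁻¹)⁻¹ * (T * Y * T⁻¹)⁻¹ := by group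
    rw [e, hTX, hTY, comm_central X⁻¹ Y⁻¹ ζ₁ ζ₂ h1 h2, inv_inv, inv_inv, hC]
  have hTk : T * k * T⁻¹ = k := by rw [hk T, mul_inv_cancel_right]
  have hTk' : T * k * T⁻¹ = k⁻¹ := by
    have e : T * k * T⁻¹ = (T * (X * Y * X⁻¹ * Y⁻¹) * T⁻¹) * (T * X * T⁻¹) *
        (T * (X * Y * X⁻¹ * Y⁻¹) * T⁻¹)⁻¹ * (T * X * T⁻¹)⁻¹ := by
      rw [hkdef]; group
    rw [e, hTC, hTX, comm_central (X * Y * X⁻¹ * Y⁻¹) X⁻¹ ζ₃ ζ₁ h3 h1, inv_inv]
    have e2 : (X * Y * X⁻¹ * Y⁻¹) * X⁻¹ * (X * Y * X⁻¹ * Y⁻¹)⁻¹ * X =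
        X⁻¹ * ((X * Y * X⁻¹ * Y⁻¹) * X * (X * Y * X⁻¹ * Y⁻¹)⁻¹ * X⁻¹)⁻¹ * X := by group
    rw [e2, ← hkdef]
    have hkinv : ∀ u : Γ, u * k⁻¹ = k⁻¹ * u := by
      intro u
      have := hk u
      calc u * k⁻¹ = k⁻¹ * (k * u) * k⁻¹ := by group
        _ = k⁻¹ * (u * k) * k⁻¹ := by rw [this]
        _ = k⁻¹ * u := by group
    rw [mul_assoc, ← hkinv X, ← mul_assoc, inv_mul_cancel, one_mul]
  have : k = k⁻¹ := hTk.symm.trans hTk'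
  calc k * k = k * k⁻¹ := by rw [← this]
    _ = 1 := mul_inv_cancel k


/-- elements of a kernel generated by a central element are central -/
theorem ker_central (σ : Γ →* G) (z : Γ) (hker : σ.ker = Subgroup.zpowers z)
    (hzc : ∀ g : Γ, g * z = z * g) (w : Γ) (hw : σ w = 1) : ∀ u : Γ, u * w = w * u := by
  intro u
  have hwz : w ∈ Subgroup.zpowers z := by rw [← hker]; exact MonoidHom.mem_ker.2 hw
  obtain ⟨j, rfl⟩ := Subgroup.mem_zpowers_iff.1 hwz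
  exact ((show Commute u z from hzc u).zpow_right j)

/-- elements of a kernel of order three have cube one -/
theorem ker_cube (σ : Γ →* G) (z : Γ) (hker : σ.ker = Subgroup.zpowers z)
    (hord : orderOf z = 3) (w : Γ) (hw : σ w = 1) : w * w * w = 1 := by
  have hwz : w ∈ Subgroup.zpowers z := by rw [← hker]; exact MonoidHom.mem_ker.2 hw
  obtain ⟨j, rfl⟩ := Subgroup.mem_zpowers_iff.1 hwz
  have hz3 : z ^ (3 : ℕ) = 1 := by rw [← hord]; exact pow_orderOf_eq_one z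
  rw [← pow_three', ← zpow_natCast, ← zpow_mul, mul_comm, zpow_mul, zpow_natCast, hz3, one_zpow]

/-- `C = [X, Y]` commutes with `X` when a lift `T` of an involution inverting the images of
`X` and `Y` exists and the kernel has order three. -/
theorem comm_of_inverting (σ : Γ →* G) (z : Γ) (hker : σ.ker = Subgroup.zpowers z)
    (hord : orderOf z = 3) (hzc : ∀ g : Γ, g * z = z * g) (X Y T : Γ)
    (h1 : σ (X * (T * X * T⁻¹)) = 1) (h2 : σ (Y * (T * Y * T⁻¹)) = 1)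
    (h3 : σ ((X * Y * X⁻¹ * Y⁻¹)⁻¹ * (X⁻¹ * Y⁻¹ * X * Y)) = 1)
    (h4 : σ ((X * Y * X⁻¹ * Y⁻¹) * X * (X * Y * X⁻¹ * Y⁻¹)⁻¹ * X⁻¹) = 1) :
    (X * Y * X⁻¹ * Y⁻¹) * X = X * (X * Y * X⁻¹ * Y⁻¹) := by
  have c := ker_central σ z hker hzc
  have hkk := comm_fixed X Y T _ _ _ _ (c _ h1) (c _ h2) (c _ h3) (c _ h4)
    (by group) (by group) (by group) rfl
  have hk3 := ker_cube σ z hker hord _ h4
  generalize (X * Y * X⁻¹ * Y⁻¹) = C at hkk hk3 ⊢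
  have hk1 : C * X * C⁻¹ * X⁻¹ = 1 := by
    calc C * X * C⁻¹ * X⁻¹
        = (C * X * C⁻¹ * X⁻¹ * (C * X * C⁻¹ * X⁻¹) * (C * X * C⁻¹ * X⁻¹)) *
          ((C * X * C⁻¹ * X⁻¹) * (C * X * C⁻¹ * X⁻¹))⁻¹ := by group
      _ = 1 := by rw [hk3, hkk, inv_one, mul_one]
  calc C * X = (C * X * C⁻¹ * X⁻¹) * (X * C) := by group
    _ = X * C := by rw [hk1, one_mul]

/-- if `C = [X, Y]` commutes with `X` and `Y` and `X³` is central then `C³ = 1` -/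
theorem comm_cube (X Y C : Γ) (hC : C = X * Y * X⁻¹ * Y⁻¹) (hCX : C * X = X * C)
    (hW : Y * (X * X * X) = (X * X * X) * Y) : C * C * C = 1 := by
  have e1 : X * Y * X⁻¹ = C * Y := by rw [hC]; group
  have e2 : ∀ D : Γ, X * (C * D) * X⁻¹ = C * (X * D * X⁻¹) := by
    intro D
    calc X * (C * D) * X⁻¹ = (X * C) * D * X⁻¹ := by group
      _ = (C * X) * D * X⁻¹ := by rw [hCX]
      _ = C * (X * D * X⁻¹) := by group
  have e3 : (X * X * X) * Y * (X * X * X)⁻¹ = C * (C * (C * Y)) := by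
    calc (X * X * X) * Y * (X * X * X)⁻¹ = X * (X * (X * Y * X⁻¹) * X⁻¹) * X⁻¹ := by group
      _ = C * (C * (C * Y)) := by rw [e1, e2, e2, e1, e2, e1]
  have e4 : (X * X * X) * Y * (X * X * X)⁻¹ = Y := by
    rw [← hW, mul_inv_cancel_right]
  rw [e4] at e3
  have : 1 * Y = (C * C * C) * Y := by
    rw [one_mul]
    calc Y = C * (C * (C * Y)) := e3
      _ = (C * C * C) * Y := by group
  exact (mul_right_cancel this).symm

end P3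

end Cfsg.Agent.Helper92.Mult
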