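import Cfsg.Agent.Lib.Helper92.O7ChainB

/-!
# The reflections `rM` generate a group of order at least `2 * 4585351680` (S1686 data track)

Stabilizer chain on vectors with standard generator subsets only:
`⟨bcdefghi⟩ (728) > ⟨bcdefhi⟩ (243) > ⟨bcdehi⟩ (72) > ⟨bcdhi⟩ (20) > ⟨bchi⟩ (6) > ⟨bc⟩ (3) > ⟨b⟩ (2)`.
-/

set_option autoImplicit false
set_option maxRecDepth 1000000

namespace Cfsg.Agent.Helper92.O7

open Cfsg.Spor.Fi22 (Gen)

/-- the general linear group of degree seven over `F3` -/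
abbrev GL7 : Type := Matrix.GeneralLinearGroup (Fin 7) F3

/-- the natural action on column vectors -/
def vecAct : MulAction GL7 (Fin 7 → F3) where
  smul g v := (g : Matrix (Fin 7) (Fin 7) F3).mulVec v
  one_smul v := by
    show ((1 : GL7) : Matrix (Fin 7) (Fin 7) F3).mulVec v = v
    rw [Units.val_one, Matrix.one_mulVec]
  mul_smul g h v := by
    show ((g * h : GL7) : Matrix (Fin 7) (Fin 7) F3).mulVec v =
      (g : Matrix (Fin 7) (Fin 7) F3).mulVec ((h : Matrix (Fin 7) (Fin 7) F3).mulVec v)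
    rw [Units.val_mul, Matrix.mulVec_mulVec]

attribute [local instance] vecAct

theorem rM_mul_self (x : Gen) : rM x * rM x = 1 := by
  cases x <;> decide +kernel

/-- the reflections as invertible matrices -/
def rGL (x : Gen) : GL7 := ⟨rM x, rM x, rM_mul_self x, rM_mul_self x⟩

theorem getD_inj {α : Type*} (l : List α) (d : α) (h : l.Nodup) (i j : ℕ) (hi : i < l.length)
    (hj : j < l.length) (e : l.getD i d = l.getD j d) : i = j := by
  rw [List.getD_eq_getElem _ _ hi, List.getD_eq_getElem _ _ hj] at e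
  exact (List.Nodup.getElem_inj_iff h).1 e

/-- one level of the chain -/
theorem level_step (R : Subgroup GL7) (pts : List (Fin 7 → F3)) (par : List ℕ)
    (gen : List Gen) (lv : List Gen) (n : ℕ)
    (hlv : ∀ s ∈ lv, rGL s ∈ R)
    (hchk : ∀ i < n, 0 < i → par.getD i 0 < i ∧ gen.getD i .a ∈ lv ∧
      (rM (gen.getD i .a)).mulVec (pts.getD (par.getD i 0) 0) = pts.getD i 0)
    (hnd : (pts.map vcode).Nodup) (hlen : pts.length = n) :
    n * Nat.card ↥(R ⊓ MulAction.stabilizer GL7 (pts.getD 0 0)) ≤ Nat.card ↥R :=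
  orbit_level_bound R (pts.getD 0 0) n (fun i => pts.getD i 0) (fun i => par.getD i 0)
    (fun i => rGL (gen.getD i .a)) rfl
    (fun i hi hpos => ⟨(hchk i hi hpos).1, hlv _ (hchk i hi hpos).2.1, (hchk i hi hpos).2.2⟩)
    (fun i hi j hj e => getD_inj pts 0 (List.Nodup.of_map _ hnd) i j (hlen ▸ hi) (hlen ▸ hj) e)

theorem mem_next (R : Subgroup GL7) (β : Fin 7 → F3) (lv lv' : List Gen)
    (hlv : ∀ s ∈ lv, rGL s ∈ R) (hsub : ∀ s ∈ lv', s ∈ lv)
    (hfix : ∀ s ∈ lv', (rM s).mulVec β = β) :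
    ∀ s ∈ lv', rGL s ∈ R ⊓ MulAction.stabilizer GL7 β :=
  fun s hs => Subgroup.mem_inf.2 ⟨hlv s (hsub s hs), MulAction.mem_stabilizer_iff.2 (hfix s hs)⟩

theorem sub01 : ∀ s ∈ lv1, s ∈ lv0 := by decide
theorem sub12 : ∀ s ∈ lv2, s ∈ lv1 := by decide
theorem sub23 : ∀ s ∈ lv3, s ∈ lv2 := by decide
theorem sub34 : ∀ s ∈ lv4, s ∈ lv3 := by decide
theorem sub45 : ∀ s ∈ lv5, s ∈ lv4 := by decide
theorem sub56 : ∀ s ∈ lv6, s ∈ lv5 := by decide

theorem fix0 : ∀ s ∈ lv1, (rM s).mulVec (pts0.getD 0 0) = pts0.getD 0 0 := by decide +kernel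
theorem fix1 : ∀ s ∈ lv2, (rM s).mulVec (pts1.getD 0 0) = pts1.getD 0 0 := by decide +kernel
theorem fix2 : ∀ s ∈ lv3, (rM s).mulVec (pts2.getD 0 0) = pts2.getD 0 0 := by decide +kernel
theorem fix3 : ∀ s ∈ lv4, (rM s).mulVec (pts3.getD 0 0) = pts3.getD 0 0 := by decide +kernel
theorem fix4 : ∀ s ∈ lv5, (rM s).mulVec (pts4.getD 0 0) = pts4.getD 0 0 := by decide +kernel
theorem fix5 : ∀ s ∈ lv6, (rM s).mulVec (pts5.getD 0 0) = pts5.getD 0 0 := by decide +kernel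

theorem lv0_ne : ∀ s ∈ lv0, s ≠ Gen.a := by decide

/-- a subgroup of `GL7` containing the eight reflections has order at least `2 * 4585351680` -/
theorem card_lower (R : Subgroup GL7) (hR : ∀ s : Gen, s ≠ Gen.a → rGL s ∈ R) :
    9170703360 ≤ Nat.card ↥R := by
  have m0 : ∀ s ∈ lv0, rGL s ∈ R := fun s hs => hR s (lv0_ne s hs)
  have m1 := mem_next R (pts0.getD 0 0) lv0 lv1 m0 sub01 fix0
  have m2 := mem_next _ (pts1.getD 0 0) lv1 lv2 m1 sub12 fix1
  have m3 := mem_next _ (pts2.getD 0 0) lv2 lv3 m2 sub23 fix2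
  have m4 := mem_next _ (pts3.getD 0 0) lv3 lv4 m3 sub34 fix3
  have m5 := mem_next _ (pts4.getD 0 0) lv4 lv5 m4 sub45 fix4
  have m6 := mem_next _ (pts5.getD 0 0) lv5 lv6 m5 sub56 fix5
  have h0 := level_step _ pts0 par0 gen0 lv0 728 m0 chk0 nd0 len0
  have h1 := level_step _ pts1 par1 gen1 lv1 243 m1 chk1 nd1 len1
  have h2 := level_step _ pts2 par2 gen2 lv2 72 m2 chk2 nd2 len2
  have h3 := level_step _ pts3 par3 gen3 lv3 20 m3 chk3 nd3 len3
  have h4 := level_step _ pts4 par4 gen4 lv4 6 m4 chk4 nd4 len4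
  have h5 := level_step _ pts5 par5 gen5 lv5 3 m5 chk5 nd5 len5
  have h6 := level_step _ pts6 par6 gen6 lv6 2 m6 chk6 nd6 len6
  have h7 : 1 ≤ Nat.card ↥(R ⊓ MulAction.stabilizer GL7 (pts0.getD 0 0) ⊓
      MulAction.stabilizer GL7 (pts1.getD 0 0) ⊓ MulAction.stabilizer GL7 (pts2.getD 0 0) ⊓
      MulAction.stabilizer GL7 (pts3.getD 0 0) ⊓ MulAction.stabilizer GL7 (pts4.getD 0 0) ⊓
      MulAction.stabilizer GL7 (pts5.getD 0 0) ⊓ MulAction.stabilizer GL7 (pts6.getD 0 0)) :=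
    Nat.card_pos
  omega

end Cfsg.Agent.Helper92.O7
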