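import Mathlib
import Cfsg.Agent.Lib.Helper92.Fi22Glue

/-!
# One level of a stabilizer chain certified by a Schreier tree, and a sup bound (S1686 data track)
-/

set_option autoImplicit false

namespace Cfsg.Agent.Helper92.O7

/-- (LB1) one level of a stabilizer chain certified by a Schreier tree -/
theorem orbit_level_bound {G X : Type*} [Group G] [MulAction G X]
    (R : Subgroup G) [Finite R] (β : X) (n : ℕ) (pt : ℕ → X) (par : ℕ → ℕ) (gen : ℕ → G)
    (h0 : pt 0 = β)
    (hstep : ∀ i < n, 0 < i → par i < i ∧ gen i ∈ R ∧ gen i • pt (par i) = pt i)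
    (hinj : ∀ i < n, ∀ j < n, pt i = pt j → i = j) :
    n * Nat.card ↥(R ⊓ MulAction.stabilizer G β) ≤ Nat.card ↥R := by
  classical
  have hreach : ∀ i, i < n → ∃ r ∈ R, r • β = pt i := by
    intro i
    induction i using Nat.strong_induction_on with
    | _ i ih =>
      intro hi
      rcases Nat.eq_zero_or_pos i with rfl | hpos
      · exact ⟨1, R.one_mem, by rw [one_smul, h0]⟩
      · obtain ⟨hp, hg, hs⟩ := hstep i hi hpos
        obtain ⟨r, hr, hrp⟩ := ih (par i) hp (lt_trans hp hi)
        exact ⟨gen i * r, R.mul_mem hg hr, by rw [mul_smul, hrp, hs]⟩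
  have hcard : ((Finset.range n).image pt).card = n := by
    rw [Finset.card_image_of_injOn, Finset.card_range]
    intro i hi j hj hij
    exact hinj i (Finset.mem_range.1 (Finset.mem_coe.1 hi)) j
      (Finset.mem_range.1 (Finset.mem_coe.1 hj)) hij
  have h := Cfsg.Agent.Helper92.Fi22Glue.card_orbit_mul_le R β ((Finset.range n).image pt) (by
    intro x hx
    obtain ⟨i, hi, rfl⟩ := Finset.mem_image.1 hx
    exact hreach i (Finset.mem_range.1 hi))
  rw [hcard] at h
  exact h

/-- (SUP) adjoining a central element of order at most two at most doubles the order -/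
theorem card_sup_zpowers_le {G : Type*} [Group G] (M : Subgroup G) [Finite M] (z : G)
    (hz : z ∈ Subgroup.center G) (hz2 : z * z = 1) :
    Finite ↥(M ⊔ Subgroup.zpowers z) ∧ Nat.card ↥(M ⊔ Subgroup.zpowers z) ≤ 2 * Nat.card ↥M := by
  classical
  have hzc : ∀ g : G, g * z = z * g := fun g => (Subgroup.mem_center_iff.1 hz g)
  -- every element of the sup is `m` or `m * z`
  have hmem : ∀ x ∈ M ⊔ Subgroup.zpowers z, ∃ m ∈ M, x = m ∨ x = m * z := by
    intro x hx
    have hnorm : (Subgroup.zpowers z).Normal := by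
      constructor
      intro n hn g
      obtain ⟨k, rfl⟩ := Subgroup.mem_zpowers_iff.1 hn
      have : g * z ^ k * g⁻¹ = z ^ k := by
        have hc : Commute g (z ^ k) := (Commute.zpow_right (hzc g) k)
        rw [hc.eq, mul_inv_cancel_right]
      rw [this]
      exact Subgroup.zpow_mem_zpowers z k
    have hx' : x ∈ ((M ⊔ Subgroup.zpowers z : Subgroup G) : Set G) := hx
    rw [Subgroup.mul_normal] at hx'
    obtain ⟨m, hm, y, hy, rfl⟩ := Set.mem_mul.1 hx'
    have hm : m ∈ M := hm
    have hy : y ∈ Subgroup.zpowers z := hy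
    obtain ⟨k, rfl⟩ := Subgroup.mem_zpowers_iff.1 hy
    refine ⟨m, hm, ?_⟩
    have hz2' : z ^ (2 : ℤ) = 1 := by
      rw [zpow_ofNat, pow_two, hz2]
    rcases Int.even_or_odd' k with ⟨j, hj | hj⟩
    · left
      rw [hj, zpow_mul, hz2', one_zpow, mul_one]
    · right
      rw [hj, zpow_add, zpow_mul, hz2', one_zpow, one_mul, zpow_one]
  let f : ↥M × Fin 2 → G := fun p => if p.2 = 0 then (p.1 : G) else (p.1 : G) * z
  have hsub : ((M ⊔ Subgroup.zpowers z : Subgroup G) : Set G) ⊆ Set.range f := by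
    intro x hx
    obtain ⟨m, hm, h | h⟩ := hmem x hx
    · exact ⟨(⟨m, hm⟩, 0), by simp [f, h]⟩
    · exact ⟨(⟨m, hm⟩, 1), by simp [f, h]⟩
  have hfin : (Set.range f).Finite := Set.finite_range f
  have hfin2 : ((M ⊔ Subgroup.zpowers z : Subgroup G) : Set G).Finite := hfin.subset hsub
  refine ⟨hfin2.to_subtype, ?_⟩
  have h1 : Nat.card ↥(M ⊔ Subgroup.zpowers z) = ((M ⊔ Subgroup.zpowers z : Subgroup G) : Set G).ncard :=
    (Nat.card_coe_set_eq _)
  have h2 : ((M ⊔ Subgroup.zpowers z : Subgroup G) : Set G).ncard ≤ (Set.range f).ncard :=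
    Set.ncard_le_ncard hsub hfin
  have h3 : (Set.range f).ncard ≤ Nat.card (↥M × Fin 2) := by
    rw [← Nat.card_coe_set_eq]
    exact Nat.card_le_card_of_surjective (fun p => (⟨f p, p, rfl⟩ : Set.range f)) (by
      rintro ⟨_, p, rfl⟩
      exact ⟨p, rfl⟩)
  have h4 : Nat.card (↥M × Fin 2) = 2 * Nat.card ↥M := by
    rw [Nat.card_prod, Nat.card_fin, mul_comm]
  omega

end Cfsg.Agent.Helper92.O7
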