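import Cfsg.Agent.Lib.Helper92.O7Defs
import Cfsg.Agent.Lib.Helper92.O7LB1

/-!
# Schreier trees for the stabilizer chain of the reflections `rM` on vectors (S1686 data track): data part A (level 0)
-/

set_option autoImplicit false
set_option maxRecDepth 1000000
set_option linter.all false

namespace Cfsg.Agent.Helper92.O7

open Cfsg.Spor.Fi22 (Gen)

/-- a numerical code of a vector (injective) -/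
def vcode (v : Fin 7 → F3) : ℕ :=
  (v 0).val + 3 * ((v 1).val + 3 * ((v 2).val + 3 * ((v 3).val + 3 * ((v 4).val +
    3 * ((v 5).val + 3 * (v 6).val)))))

/-- points of level 0 -/
def pts0 : List (Fin 7 → F3) := [![1, 2, 0, 1, 2, 0, 1],
  ![1, 1, 0, 2, 1, 0, 2],
  ![2, 1, 0, 0, 2, 0, 0],
  ![2, 2, 0, 0, 1, 1, 0],
  ![2, 2, 1, 0, 1, 0, 0],
  ![2, 2, 1, 1, 1, 1, 2],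
  ![2, 0, 1, 1, 2, 1, 1],
  ![2, 2, 1, 2, 1, 1, 1],
  ![2, 0, 1, 2, 2, 2, 0],
  ![2, 1, 1, 2, 0, 1, 2],
  ![2, 0, 1, 0, 2, 2, 2],
  ![2, 0, 2, 2, 2, 1, 0],
  ![2, 1, 1, 0, 0, 2, 1],
  ![2, 0, 2, 0, 2, 1, 2],
  ![2, 1, 1, 1, 0, 2, 0],
  ![2, 1, 2, 2, 1, 2, 0],
  ![2, 1, 2, 0, 0, 1, 1],
  ![2, 0, 2, 1, 2, 2, 1],
  ![2, 1, 2, 0, 1, 2, 2],
  ![2, 1, 2, 1, 0, 1, 0],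
  ![0, 1, 2, 0, 2, 2, 1],
  ![2, 2, 2, 0, 2, 2, 1],
  ![2, 2, 2, 1, 1, 2, 2],
  ![2, 1, 2, 1, 1, 0, 1],
  ![2, 1, 2, 2, 0, 2, 2],
  ![0, 1, 2, 1, 2, 2, 0],
  ![2, 2, 2, 1, 2, 2, 0],
  ![2, 2, 2, 2, 1, 2, 1],
  ![0, 0, 2, 1, 1, 2, 2],
  ![0, 2, 2, 1, 0, 2, 2],
  ![2, 0, 2, 1, 0, 0, 2],
  ![2, 1, 0, 1, 1, 2, 1],
  ![0, 1, 2, 2, 2, 0, 2],
  ![2, 2, 2, 2, 2, 0, 2],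
  ![2, 2, 2, 0, 1, 0, 0],
  ![0, 0, 2, 2, 1, 2, 1],
  ![0, 2, 2, 2, 0, 2, 1],
  ![2, 0, 2, 2, 0, 0, 1],
  ![0, 1, 2, 2, 2, 2, 0],
  ![0, 0, 2, 2, 1, 0, 0],
  ![2, 0, 0, 1, 0, 2, 2],
  ![0, 1, 0, 2, 2, 2, 2],
  ![2, 2, 0, 2, 2, 0, 2],
  ![2, 2, 0, 2, 2, 2, 2],
  ![0, 0, 2, 0, 1, 0, 0],
  ![0, 2, 2, 0, 0, 0, 0],
  ![2, 0, 2, 0, 0, 1, 0],
  ![2, 2, 0, 0, 1, 2, 0],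
  ![0, 1, 2, 0, 2, 2, 2],
  ![0, 0, 2, 0, 1, 0, 2],
  ![2, 0, 0, 2, 0, 2, 1],
  ![0, 2, 2, 0, 0, 0, 1],
  ![0, 0, 0, 2, 1, 2, 0],
  ![2, 0, 0, 2, 0, 0, 1],
  ![0, 2, 0, 2, 1, 0, 2],
  ![0, 0, 0, 0, 1, 2, 0],
  ![0, 2, 0, 0, 0, 0, 0],
  ![0, 2, 0, 0, 0, 2, 0],
  ![2, 1, 0, 1, 1, 0, 1],
  ![2, 1, 0, 1, 1, 1, 1],
  ![0, 1, 2, 1, 2, 0, 1],
  ![0, 0, 2, 1, 1, 1, 1],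
  ![2, 0, 1, 0, 0, 2, 0],
  ![2, 1, 0, 0, 2, 1, 0],
  ![0, 2, 2, 1, 0, 0, 0],
  ![0, 0, 0, 0, 1, 2, 2],
  ![2, 0, 0, 1, 0, 1, 2],
  ![0, 2, 0, 0, 0, 2, 1],
  ![0, 0, 0, 0, 1, 0, 2],
  ![0, 1, 0, 2, 0, 0, 0],
  ![2, 0, 0, 1, 0, 0, 2],
  ![0, 1, 0, 0, 0, 0, 0],
  ![0, 0, 0, 0, 2, 1, 0],
  ![0, 0, 0, 0, 2, 0, 0],
  ![0, 1, 0, 1, 2, 0, 1],
  ![0, 1, 0, 1, 2, 2, 1],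
  ![0, 1, 0, 2, 2, 0, 2],
  ![0, 1, 0, 2, 2, 1, 2],
  ![2, 2, 0, 2, 2, 1, 2],
  ![2, 1, 1, 1, 1, 0, 1],
  ![0, 2, 2, 2, 0, 1, 2],
  ![0, 0, 1, 1, 1, 2, 1],
  ![2, 0, 1, 1, 0, 0, 2],
  ![2, 1, 1, 0, 2, 0, 0],
  ![1, 1, 0, 2, 1, 1, 2],
  ![0, 2, 0, 1, 0, 2, 0],
  ![0, 0, 0, 2, 1, 1, 0],
  ![0, 1, 0, 0, 0, 0, 2],
  ![2, 0, 0, 2, 0, 1, 1],
  ![0, 2, 0, 1, 0, 0, 0],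
  ![0, 0, 0, 0, 2, 0, 1],
  ![0, 0, 0, 2, 1, 0, 0],
  ![0, 1, 0, 0, 0, 1, 2],
  ![1, 1, 0, 1, 1, 0, 1],
  ![0, 2, 0, 1, 1, 1, 1],
  ![0, 2, 0, 1, 1, 0, 1],
  ![0, 0, 1, 0, 2, 0, 0],
  ![0, 2, 0, 2, 1, 1, 2],
  ![0, 2, 0, 2, 1, 2, 2],
  ![0, 0, 0, 0, 1, 0, 0],
  ![0, 0, 0, 0, 1, 1, 0],
  ![0, 2, 0, 0, 0, 1, 0],
  ![0, 1, 1, 2, 2, 0, 2],
  ![2, 2, 1, 2, 2, 0, 2],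
  ![2, 1, 1, 2, 1, 1, 0],
  ![2, 2, 1, 1, 0, 1, 1],
  ![0, 2, 1, 2, 0, 2, 2],
  ![0, 0, 1, 2, 1, 0, 0],
  ![0, 2, 1, 1, 2, 1, 1],
  ![2, 0, 1, 2, 0, 0, 1],
  ![2, 1, 1, 1, 2, 1, 2],
  ![1, 1, 1, 2, 1, 0, 2],
  ![1, 2, 0, 1, 2, 1, 1],
  ![0, 2, 0, 0, 0, 1, 1],
  ![0, 0, 0, 1, 2, 0, 0],
  ![0, 0, 0, 0, 1, 1, 2],
  ![0, 1, 0, 2, 0, 2, 0],
  ![0, 2, 0, 0, 0, 0, 1],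
  ![0, 0, 0, 1, 2, 1, 0],
  ![1, 0, 0, 1, 0, 0, 2],
  ![0, 1, 0, 2, 0, 1, 0],
  ![0, 1, 1, 0, 0, 0, 2],
  ![1, 2, 0, 2, 2, 1, 2],
  ![1, 2, 0, 2, 2, 0, 2],
  ![0, 2, 1, 1, 1, 0, 1],
  ![0, 1, 0, 0, 0, 1, 0],
  ![0, 1, 0, 0, 0, 2, 0],
  ![0, 0, 1, 1, 2, 1, 2],
  ![0, 2, 1, 2, 1, 0, 2],
  ![0, 0, 0, 0, 2, 2, 0],
  ![0, 2, 2, 2, 1, 0, 2],
  ![0, 1, 0, 1, 2, 1, 1],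
  ![0, 0, 1, 0, 1, 0, 0],
  ![0, 2, 1, 0, 0, 0, 0],
  ![0, 1, 1, 0, 2, 1, 1],
  ![0, 0, 1, 2, 0, 2, 2],
  ![2, 2, 1, 0, 2, 1, 1],
  ![2, 0, 1, 2, 1, 1, 2],
  ![2, 1, 1, 0, 1, 1, 2],
  ![2, 2, 1, 2, 0, 2, 0],
  ![1, 2, 1, 0, 2, 1, 0],
  ![0, 2, 1, 0, 0, 0, 1],
  ![0, 1, 1, 2, 1, 1, 2],
  ![0, 0, 1, 0, 1, 0, 2],
  ![0, 2, 1, 2, 2, 2, 0],
  ![1, 2, 1, 2, 0, 1, 2],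
  ![2, 1, 1, 2, 2, 1, 1],
  ![1, 1, 1, 0, 1, 1, 1],
  ![1, 2, 1, 1, 2, 0, 1],
  ![0, 2, 0, 1, 0, 1, 0],
  ![0, 0, 0, 0, 2, 2, 1],
  ![1, 0, 0, 2, 0, 0, 1],
  ![0, 1, 0, 0, 0, 2, 2],
  ![0, 1, 2, 2, 0, 0, 0],
  ![0, 0, 0, 0, 2, 1, 1],
  ![0, 0, 1, 1, 2, 0, 0],
  ![1, 0, 0, 2, 0, 1, 1],
  ![0, 1, 1, 2, 0, 0, 0],
  ![0, 2, 1, 1, 1, 1, 0],
  ![1, 2, 1, 2, 2, 0, 2],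
  ![1, 1, 0, 1, 1, 1, 1],
  ![1, 1, 0, 1, 1, 2, 1],
  ![0, 2, 1, 2, 1, 1, 0],
  ![0, 1, 1, 0, 0, 0, 0],
  ![0, 2, 0, 1, 1, 2, 1],
  ![0, 1, 2, 0, 0, 0, 0],
  ![0, 0, 1, 2, 2, 1, 1],
  ![0, 2, 1, 0, 1, 1, 1],
  ![0, 1, 1, 1, 0, 2, 1],
  ![0, 0, 2, 0, 2, 0, 0],
  ![0, 2, 2, 1, 1, 2, 0],
  ![0, 0, 2, 2, 0, 1, 2],
  ![0, 1, 1, 1, 2, 0, 1],
  ![0, 0, 1, 1, 1, 1, 2],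
  ![0, 2, 1, 0, 2, 2, 0],
  ![0, 2, 1, 1, 0, 1, 2],
  ![0, 1, 1, 0, 1, 2, 0],
  ![0, 1, 1, 1, 2, 1, 0],
  ![0, 0, 1, 0, 0, 0, 1],
  ![1, 0, 1, 0, 1, 2, 0],
  ![2, 2, 1, 1, 2, 1, 0],
  ![2, 0, 1, 0, 1, 2, 1],
  ![1, 0, 1, 1, 0, 1, 1],
  ![2, 2, 1, 0, 0, 2, 2],
  ![2, 2, 2, 2, 0, 1, 0],
  ![1, 2, 1, 1, 2, 2, 2],
  ![1, 0, 1, 2, 0, 1, 2],
  ![0, 2, 1, 1, 0, 0, 0],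
  ![0, 1, 1, 0, 1, 2, 1],
  ![2, 1, 1, 1, 0, 1, 1],
  ![0, 2, 1, 0, 2, 2, 2],
  ![0, 2, 2, 2, 2, 1, 0],
  ![1, 2, 1, 0, 0, 2, 1],
  ![1, 0, 1, 1, 1, 1, 1],
  ![1, 1, 1, 1, 1, 1, 0],
  ![1, 2, 1, 2, 2, 1, 0],
  ![0, 0, 0, 1, 2, 2, 0],
  ![0, 0, 2, 0, 2, 0, 1],
  ![1, 0, 0, 1, 0, 2, 2],
  ![0, 1, 2, 0, 0, 0, 2],
  ![0, 0, 2, 1, 2, 2, 2],
  ![0, 0, 1, 0, 2, 0, 1],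
  ![1, 0, 0, 1, 0, 1, 2],
  ![1, 0, 1, 2, 0, 0, 1],
  ![0, 1, 1, 2, 0, 1, 1],
  ![1, 2, 1, 0, 2, 1, 1],
  ![1, 0, 1, 2, 1, 1, 2],
  ![1, 1, 1, 1, 1, 0, 1],
  ![1, 2, 0, 2, 2, 2, 2],
  ![1, 1, 2, 1, 1, 0, 1],
  ![0, 2, 1, 0, 1, 1, 2],
  ![0, 1, 1, 1, 0, 1, 2],
  ![0, 0, 1, 2, 2, 2, 2],
  ![0, 2, 2, 1, 1, 0, 1],
  ![0, 1, 2, 2, 0, 2, 1],
  ![0, 2, 2, 0, 2, 1, 0],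
  ![0, 1, 2, 1, 0, 1, 1],
  ![0, 0, 2, 2, 2, 2, 1],
  ![0, 1, 2, 0, 1, 1, 0],
  ![0, 2, 2, 0, 1, 2, 1],
  ![0, 0, 2, 1, 0, 0, 0],
  ![1, 0, 2, 0, 1, 1, 0],
  ![0, 1, 1, 2, 2, 1, 0],
  ![0, 0, 1, 1, 0, 2, 1],
  ![0, 0, 1, 2, 1, 1, 1],
  ![0, 2, 1, 1, 2, 0, 2],
  ![2, 2, 1, 2, 1, 2, 2],
  ![0, 2, 1, 2, 0, 1, 1],
  ![0, 1, 1, 1, 1, 0, 2],
  ![1, 1, 1, 1, 2, 2, 1],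
  ![0, 0, 1, 1, 0, 0, 0],
  ![0, 0, 0, 0, 0, 1, 1],
  ![1, 0, 1, 1, 1, 0, 2],
  ![1, 1, 1, 2, 2, 2, 2],
  ![2, 0, 1, 1, 1, 2, 0],
  ![2, 0, 2, 0, 1, 1, 1],
  ![1, 0, 1, 2, 0, 2, 0],
  ![1, 1, 1, 0, 1, 1, 0],
  ![2, 2, 2, 0, 0, 1, 2],
  ![1, 2, 1, 2, 2, 2, 1],
  ![1, 2, 2, 1, 2, 1, 2],
  ![1, 0, 1, 0, 0, 2, 1],
  ![0, 1, 1, 1, 1, 2, 0],
  ![0, 1, 2, 0, 1, 1, 1],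
  ![2, 1, 1, 2, 0, 2, 0],
  ![2, 0, 1, 2, 2, 1, 2],
  ![0, 2, 2, 0, 2, 1, 2],
  ![1, 2, 1, 1, 0, 2, 0],
  ![1, 2, 2, 0, 0, 1, 1],
  ![0, 1, 2, 1, 1, 0, 2],
  ![1, 0, 1, 2, 1, 2, 0],
  ![1, 2, 1, 0, 2, 1, 2],
  ![0, 0, 2, 1, 2, 0, 0],
  ![1, 0, 0, 2, 0, 2, 1],
  ![1, 0, 2, 1, 0, 0, 2],
  ![0, 2, 2, 2, 1, 2, 0],
  ![1, 0, 1, 1, 0, 0, 2],
  ![1, 1, 1, 2, 2, 1, 1],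
  ![1, 1, 1, 0, 1, 1, 2],
  ![1, 2, 1, 1, 2, 1, 0],
  ![1, 0, 1, 0, 1, 2, 1],
  ![1, 1, 1, 2, 1, 1, 0],
  ![1, 2, 1, 1, 0, 1, 1],
  ![1, 0, 1, 0, 0, 2, 0],
  ![1, 2, 2, 2, 2, 0, 2],
  ![1, 1, 2, 0, 1, 2, 2],
  ![1, 0, 2, 1, 2, 2, 1],
  ![0, 0, 2, 2, 2, 1, 2],
  ![0, 2, 2, 0, 1, 2, 2],
  ![0, 0, 2, 1, 0, 1, 1],
  ![0, 1, 2, 1, 0, 2, 2],
  ![0, 2, 2, 2, 2, 0, 1],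
  ![2, 2, 2, 2, 1, 1, 2],
  ![0, 2, 2, 1, 2, 2, 1],
  ![0, 1, 2, 2, 1, 0, 1],
  ![1, 1, 2, 1, 2, 1, 1],
  ![0, 0, 2, 0, 0, 0, 1],
  ![0, 0, 0, 1, 0, 2, 0],
  ![1, 0, 2, 2, 1, 0, 1],
  ![1, 1, 2, 2, 2, 1, 2],
  ![0, 1, 1, 0, 2, 1, 2],
  ![0, 0, 1, 2, 0, 0, 0],
  ![2, 0, 1, 0, 2, 2, 0],
  ![0, 2, 1, 2, 2, 0, 1],
  ![0, 2, 0, 1, 2, 1, 2],
  ![2, 2, 1, 0, 1, 0, 1],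
  ![2, 1, 1, 0, 0, 2, 0],
  ![0, 1, 1, 2, 1, 0, 1],
  ![0, 1, 0, 1, 1, 1, 2],
  ![1, 1, 1, 2, 2, 0, 0],
  ![1, 2, 1, 0, 0, 2, 0],
  ![0, 0, 0, 1, 0, 1, 0],
  ![1, 0, 1, 2, 1, 0, 1],
  ![1, 0, 0, 1, 1, 1, 2],
  ![0, 1, 0, 1, 1, 2, 2],
  ![1, 1, 1, 0, 2, 0, 1],
  ![2, 0, 2, 1, 1, 1, 0],
  ![1, 0, 1, 0, 0, 2, 2],
  ![1, 0, 2, 2, 0, 1, 0],
  ![2, 1, 2, 1, 2, 2, 2],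
  ![1, 1, 1, 1, 1, 2, 2],
  ![2, 2, 2, 1, 0, 2, 1],
  ![1, 2, 2, 2, 2, 1, 1],
  ![1, 0, 1, 1, 0, 2, 0],
  ![1, 1, 2, 1, 0, 0, 2],
  ![1, 0, 2, 0, 0, 1, 1],
  ![0, 1, 2, 1, 1, 1, 0],
  ![2, 1, 1, 0, 0, 2, 2],
  ![2, 1, 2, 2, 0, 1, 0],
  ![0, 0, 2, 2, 0, 0, 0],
  ![2, 0, 1, 0, 2, 2, 1],
  ![1, 2, 2, 1, 0, 1, 0],
  ![1, 0, 1, 0, 1, 2, 2],
  ![1, 0, 2, 2, 1, 1, 0],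
  ![1, 1, 2, 2, 2, 0, 0],
  ![1, 0, 2, 2, 0, 0, 1],
  ![1, 2, 2, 1, 1, 2, 2],
  ![1, 2, 2, 0, 2, 2, 1],
  ![1, 1, 1, 1, 2, 1, 2],
  ![1, 2, 1, 0, 0, 2, 2],
  ![1, 0, 1, 1, 1, 2, 0],
  ![1, 0, 2, 0, 1, 1, 1],
  ![1, 2, 1, 2, 0, 2, 0],
  ![1, 1, 1, 0, 2, 0, 0],
  ![1, 0, 2, 0, 0, 1, 0],
  ![1, 2, 2, 1, 2, 2, 0],
  ![1, 1, 2, 2, 0, 2, 2],
  ![1, 1, 2, 2, 1, 2, 0],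
  ![1, 0, 2, 0, 2, 1, 2],
  ![2, 0, 2, 2, 0, 2, 2],
  ![0, 1, 2, 2, 1, 2, 2],
  ![0, 0, 2, 0, 0, 0, 2],
  ![2, 0, 2, 0, 2, 1, 0],
  ![0, 2, 2, 1, 2, 0, 2],
  ![0, 2, 0, 2, 2, 2, 1],
  ![2, 2, 2, 1, 1, 0, 0],
  ![2, 1, 2, 0, 0, 1, 0],
  ![1, 2, 2, 2, 0, 2, 2],
  ![0, 1, 0, 2, 1, 2, 1],
  ![1, 1, 2, 0, 2, 0, 2],
  ![1, 2, 2, 0, 0, 1, 0],
  ![0, 0, 0, 0, 0, 2, 1],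
  ![1, 0, 2, 1, 1, 0, 2],
  ![1, 0, 0, 2, 1, 2, 1],
  ![0, 1, 0, 2, 1, 0, 1],
  ![1, 1, 2, 1, 2, 0, 0],
  ![0, 0, 1, 0, 0, 0, 2],
  ![0, 0, 0, 2, 0, 1, 0],
  ![2, 0, 1, 1, 2, 0, 2],
  ![2, 2, 1, 1, 1, 2, 1],
  ![0, 2, 0, 2, 2, 1, 1],
  ![2, 2, 1, 1, 1, 0, 0],
  ![2, 2, 0, 0, 1, 1, 1],
  ![0, 0, 0, 2, 0, 2, 0],
  ![2, 1, 1, 1, 0, 0, 2],
  ![0, 1, 0, 2, 1, 1, 1],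
  ![1, 1, 1, 0, 2, 0, 2],
  ![1, 1, 0, 2, 2, 1, 0],
  ![0, 0, 0, 0, 0, 0, 1],
  ![1, 2, 1, 1, 0, 0, 2],
  ![1, 0, 0, 2, 1, 1, 1],
  ![1, 1, 1, 1, 2, 0, 0],
  ![1, 1, 0, 1, 0, 2, 2],
  ![1, 1, 0, 0, 2, 1, 1],
  ![1, 1, 0, 2, 2, 2, 0],
  ![2, 0, 2, 2, 1, 2, 2],
  ![1, 0, 2, 0, 0, 1, 2],
  ![2, 1, 2, 2, 2, 2, 1],
  ![1, 1, 1, 2, 1, 2, 1],
  ![1, 2, 2, 2, 1, 0, 0],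
  ![1, 1, 2, 1, 1, 1, 2],
  ![1, 1, 2, 0, 1, 2, 1],
  ![1, 2, 2, 0, 2, 2, 0],
  ![1, 1, 2, 2, 0, 0, 1],
  ![1, 0, 2, 1, 0, 1, 0],
  ![1, 2, 2, 0, 1, 0, 1],
  ![2, 1, 2, 0, 0, 1, 2],
  ![2, 0, 1, 1, 2, 2, 0],
  ![2, 2, 2, 2, 2, 2, 0],
  ![2, 0, 2, 0, 2, 1, 1],
  ![2, 0, 2, 1, 2, 0, 2],
  ![1, 0, 2, 0, 1, 1, 2],
  ![1, 2, 2, 1, 0, 0, 2],
  ![1, 2, 2, 2, 1, 2, 1],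
  ![1, 1, 2, 0, 0, 1, 1],
  ![1, 2, 2, 0, 0, 1, 2],
  ![1, 0, 2, 1, 1, 1, 0],
  ![1, 1, 2, 1, 2, 2, 2],
  ![1, 2, 2, 2, 0, 1, 0],
  ![1, 1, 0, 0, 2, 1, 0],
  ![1, 2, 2, 0, 1, 0, 0],
  ![1, 1, 2, 1, 0, 1, 0],
  ![2, 1, 2, 0, 1, 2, 0],
  ![1, 0, 2, 2, 2, 1, 0],
  ![1, 0, 1, 0, 2, 2, 2],
  ![2, 0, 2, 1, 0, 1, 0],
  ![2, 2, 2, 0, 2, 2, 0],
  ![2, 1, 2, 1, 0, 2, 1],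
  ![0, 0, 0, 0, 0, 2, 2],
  ![2, 0, 2, 2, 2, 0, 1],
  ![2, 2, 2, 1, 1, 1, 1],
  ![0, 2, 0, 1, 2, 2, 2],
  ![2, 2, 2, 0, 1, 0, 1],
  ![2, 2, 0, 1, 1, 2, 0],
  ![0, 0, 0, 0, 0, 0, 2],
  ![2, 1, 2, 2, 0, 0, 1],
  ![1, 0, 2, 1, 1, 2, 1],
  ![1, 1, 0, 0, 2, 2, 2],
  ![1, 2, 2, 2, 0, 0, 1],
  ![0, 0, 0, 1, 0, 0, 0],
  ![1, 0, 0, 1, 1, 2, 2],
  ![0, 1, 0, 1, 1, 0, 2],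
  ![1, 1, 2, 0, 2, 0, 1],
  ![1, 1, 0, 2, 0, 0, 1],
  ![1, 1, 0, 1, 2, 2, 0],
  ![1, 1, 0, 0, 2, 0, 2],
  ![0, 0, 0, 0, 0, 1, 2],
  ![2, 0, 1, 2, 2, 0, 1],
  ![2, 0, 0, 1, 2, 1, 2],
  ![0, 2, 0, 1, 2, 0, 2],
  ![2, 2, 1, 2, 1, 0, 0],
  ![2, 2, 0, 1, 1, 1, 0],
  ![2, 1, 1, 2, 0, 0, 1],
  ![2, 1, 0, 0, 2, 0, 1],
  ![2, 1, 0, 1, 0, 1, 2],
  ![2, 0, 0, 1, 2, 2, 2],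
  ![1, 1, 0, 0, 2, 1, 2],
  ![1, 2, 1, 2, 0, 0, 1],
  ![1, 2, 0, 2, 1, 2, 0],
  ![1, 2, 0, 1, 0, 1, 2],
  ![1, 0, 0, 1, 1, 0, 2],
  ![1, 1, 0, 2, 0, 2, 1],
  ![1, 1, 0, 1, 2, 1, 0],
  ![1, 2, 0, 0, 1, 2, 1],
  ![1, 2, 0, 2, 1, 0, 0],
  ![1, 2, 0, 1, 0, 2, 2],
  ![1, 0, 2, 1, 0, 2, 1],
  ![2, 1, 2, 0, 2, 0, 0],
  ![1, 2, 2, 0, 1, 0, 2],
  ![1, 1, 2, 2, 1, 1, 1],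
  ![1, 1, 2, 1, 1, 2, 0],
  ![1, 0, 2, 1, 2, 0, 2],
  ![1, 0, 2, 0, 2, 1, 1],
  ![1, 2, 2, 2, 2, 2, 0],
  ![1, 1, 2, 0, 0, 1, 0],
  ![1, 0, 2, 2, 0, 2, 2],
  ![1, 2, 2, 1, 1, 0, 0],
  ![0, 2, 2, 2, 0, 0, 0],
  ![2, 2, 2, 0, 2, 2, 2],
  ![2, 0, 2, 1, 2, 1, 0],
  ![2, 1, 2, 0, 1, 2, 1],
  ![2, 1, 2, 1, 1, 1, 2],
  ![2, 2, 2, 2, 1, 0, 0],
  ![1, 1, 1, 0, 0, 2, 1],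
  ![1, 2, 2, 1, 0, 2, 1],
  ![1, 0, 2, 2, 1, 2, 2],
  ![1, 1, 2, 2, 2, 2, 1],
  ![1, 2, 0, 0, 1, 2, 0],
  ![2, 2, 2, 1, 2, 0, 1],
  ![1, 1, 1, 1, 0, 2, 0],
  ![2, 1, 2, 2, 1, 1, 1],
  ![2, 0, 2, 1, 0, 2, 1],
  ![1, 0, 1, 2, 2, 2, 0],
  ![2, 0, 2, 0, 0, 1, 1],
  ![2, 0, 1, 1, 0, 2, 0],
  ![1, 2, 1, 2, 1, 1, 1],
  ![2, 2, 2, 2, 2, 1, 1],
  ![2, 0, 2, 2, 2, 2, 2],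
  ![2, 0, 0, 2, 2, 2, 1],
  ![2, 2, 2, 0, 1, 0, 2],
  ![0, 2, 0, 2, 2, 0, 1],
  ![2, 2, 0, 0, 1, 2, 1],
  ![0, 0, 0, 2, 0, 0, 0],
  ![2, 1, 2, 1, 0, 0, 2],
  ![2, 1, 0, 1, 2, 1, 0],
  ![2, 1, 0, 2, 0, 2, 1],
  ![2, 0, 0, 2, 2, 0, 1],
  ![1, 2, 0, 0, 1, 0, 2],
  ![1, 2, 0, 2, 0, 2, 1],
  ![1, 0, 0, 2, 1, 0, 1],
  ![1, 1, 0, 1, 0, 0, 2],
  ![1, 1, 0, 0, 2, 2, 1],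
  ![1, 1, 0, 2, 2, 0, 0],
  ![1, 2, 0, 1, 1, 0, 0],
  ![1, 2, 0, 0, 1, 1, 2],
  ![1, 2, 0, 2, 0, 0, 1],
  ![2, 0, 0, 2, 2, 1, 1],
  ![2, 2, 1, 0, 1, 0, 2],
  ![2, 2, 0, 1, 0, 0, 2],
  ![2, 2, 0, 2, 1, 1, 0],
  ![2, 2, 0, 0, 1, 0, 1],
  ![2, 1, 0, 1, 2, 0, 0],
  ![2, 1, 0, 2, 0, 1, 1],
  ![2, 0, 0, 1, 1, 0, 2],
  ![2, 2, 0, 1, 0, 1, 2],
  ![2, 2, 0, 2, 1, 2, 0],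
  ![1, 2, 0, 0, 1, 2, 2],
  ![1, 2, 0, 2, 0, 1, 1],
  ![1, 0, 0, 1, 2, 2, 2],
  ![1, 1, 0, 1, 0, 1, 2],
  ![1, 1, 0, 0, 2, 0, 1],
  ![1, 2, 0, 1, 1, 2, 0],
  ![0, 2, 0, 2, 0, 2, 0],
  ![1, 0, 0, 1, 2, 0, 2],
  ![1, 2, 2, 1, 1, 1, 1],
  ![1, 1, 2, 0, 1, 2, 0],
  ![1, 1, 2, 2, 1, 0, 2],
  ![2, 1, 0, 0, 2, 2, 0],
  ![1, 0, 2, 2, 2, 0, 1],
  ![1, 0, 2, 1, 2, 1, 0],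
  ![1, 2, 2, 0, 2, 2, 2],
  ![0, 0, 2, 0, 1, 0, 1],
  ![1, 1, 2, 2, 0, 1, 0],
  ![1, 0, 1, 0, 2, 2, 1],
  ![1, 1, 1, 0, 0, 2, 0],
  ![1, 2, 2, 2, 1, 1, 2],
  ![0, 2, 2, 0, 0, 0, 2],
  ![2, 1, 2, 1, 1, 2, 0],
  ![2, 0, 2, 2, 0, 1, 0],
  ![2, 1, 1, 1, 1, 2, 2],
  ![1, 1, 1, 2, 0, 1, 2],
  ![1, 1, 2, 0, 2, 0, 0],
  ![2, 2, 0, 1, 2, 2, 1],
  ![2, 1, 2, 2, 1, 0, 2],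
  ![2, 1, 1, 2, 1, 2, 1],
  ![2, 0, 2, 0, 0, 1, 2],
  ![1, 0, 1, 1, 2, 1, 1],
  ![2, 0, 1, 0, 0, 2, 1],
  ![1, 2, 1, 1, 1, 1, 2],
  ![2, 2, 2, 1, 2, 1, 2],
  ![2, 1, 1, 1, 2, 0, 0],
  ![2, 2, 1, 2, 2, 2, 1],
  ![2, 2, 1, 0, 2, 1, 2],
  ![2, 2, 0, 2, 0, 1, 1],
  ![2, 2, 0, 0, 1, 2, 2],
  ![2, 2, 0, 1, 1, 0, 0],
  ![2, 1, 0, 0, 2, 1, 1],
  ![2, 1, 0, 1, 0, 2, 2],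
  ![2, 0, 0, 1, 2, 0, 2],
  ![2, 0, 0, 2, 1, 1, 1],
  ![2, 2, 0, 2, 0, 2, 1],
  ![2, 2, 0, 0, 1, 0, 2],
  ![1, 0, 0, 2, 2, 0, 1],
  ![1, 1, 0, 2, 0, 1, 1],
  ![1, 1, 0, 1, 2, 0, 0],
  ![1, 2, 0, 0, 1, 0, 1],
  ![1, 2, 0, 2, 1, 1, 0],
  ![1, 2, 0, 1, 0, 0, 2],
  ![0, 2, 0, 0, 0, 0, 2],
  ![1, 0, 0, 2, 2, 1, 1],
  ![1, 2, 1, 0, 1, 0, 2],
  ![2, 2, 0, 2, 0, 0, 1],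
  ![2, 2, 0, 0, 1, 1, 2],
  ![2, 1, 0, 2, 2, 0, 0],
  ![2, 1, 0, 0, 2, 2, 1],
  ![2, 1, 0, 1, 0, 0, 2],
  ![2, 0, 0, 2, 1, 0, 1],
  ![0, 0, 0, 2, 2, 0, 0],
  ![2, 1, 0, 2, 2, 1, 0],
  ![2, 2, 1, 1, 0, 0, 2],
  ![1, 0, 0, 2, 2, 2, 1],
  ![0, 0, 0, 0, 1, 2, 1],
  ![1, 2, 0, 0, 1, 1, 1],
  ![1, 1, 1, 1, 0, 0, 2],
  ![0, 2, 0, 0, 0, 2, 2],
  ![0, 0, 0, 0, 1, 0, 1],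
  ![1, 2, 1, 1, 1, 2, 1],
  ![1, 0, 2, 0, 2, 1, 0],
  ![1, 0, 2, 2, 2, 2, 2],
  ![1, 2, 2, 1, 2, 0, 1],
  ![1, 1, 0, 2, 1, 2, 2],
  ![2, 2, 0, 0, 1, 0, 0],
  ![0, 0, 2, 1, 1, 0, 0],
  ![1, 1, 2, 0, 0, 1, 2],
  ![1, 0, 1, 1, 2, 2, 0],
  ![0, 1, 2, 1, 2, 1, 2],
  ![1, 1, 1, 2, 0, 2, 0],
  ![1, 0, 1, 2, 2, 1, 2],
  ![1, 2, 1, 2, 1, 2, 2],
  ![0, 2, 2, 1, 0, 1, 1],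
  ![2, 0, 1, 2, 0, 2, 0],
  ![2, 1, 1, 0, 1, 1, 0],
  ![1, 1, 0, 0, 2, 2, 0],
  ![2, 1, 0, 2, 1, 2, 2],
  ![2, 2, 1, 2, 0, 0, 1],
  ![2, 0, 1, 0, 0, 2, 2],
  ![2, 0, 1, 2, 0, 1, 2],
  ![1, 2, 1, 0, 1, 0, 0],
  ![2, 1, 1, 0, 2, 0, 1],
  ![2, 2, 1, 1, 2, 2, 2],
  ![2, 2, 1, 2, 2, 1, 0],
  ![2, 0, 1, 2, 1, 0, 1],
  ![2, 0, 1, 0, 1, 2, 2],
  ![2, 1, 1, 1, 1, 1, 0],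
  ![2, 1, 0, 0, 2, 1, 2],
  ![2, 1, 0, 1, 2, 2, 0],
  ![2, 1, 0, 2, 0, 0, 1],
  ![2, 0, 0, 1, 1, 1, 2],
  ![2, 2, 0, 1, 0, 2, 2],
  ![2, 2, 0, 2, 1, 0, 0],
  ![0, 0, 0, 0, 2, 1, 2],
  ![2, 1, 0, 0, 2, 2, 2],
  ![2, 2, 2, 2, 0, 0, 1],
  ![0, 0, 0, 1, 1, 0, 0],
  ![1, 1, 1, 2, 0, 0, 1],
  ![1, 2, 0, 1, 1, 1, 0],
  ![0, 2, 0, 2, 0, 0, 0],
  ![1, 0, 0, 1, 2, 1, 2],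
  ![1, 2, 1, 2, 1, 0, 0],
  ![0, 0, 0, 1, 1, 1, 0],
  ![1, 0, 1, 2, 2, 0, 1],
  ![2, 1, 0, 0, 2, 0, 2],
  ![0, 1, 0, 0, 0, 0, 1],
  ![2, 0, 0, 1, 1, 2, 2],
  ![2, 1, 2, 0, 2, 0, 1],
  ![0, 0, 0, 0, 2, 0, 2],
  ![0, 1, 0, 0, 0, 1, 1],
  ![2, 1, 1, 2, 2, 0, 0],
  ![2, 2, 1, 0, 0, 2, 0],
  ![0, 0, 0, 1, 1, 2, 0],
  ![0, 2, 0, 2, 0, 1, 0],
  ![1, 2, 1, 0, 1, 0, 1],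
  ![1, 0, 1, 0, 2, 2, 0],
  ![0, 0, 2, 2, 1, 1, 2],
  ![1, 1, 2, 1, 0, 2, 1],
  ![1, 2, 0, 1, 2, 2, 1],
  ![0, 1, 2, 2, 2, 1, 1],
  ![1, 1, 1, 0, 0, 2, 2],
  ![0, 1, 1, 1, 2, 2, 2],
  ![1, 1, 1, 1, 0, 1, 1],
  ![0, 2, 1, 1, 0, 2, 1],
  ![2, 0, 1, 1, 0, 1, 1],
  ![1, 2, 0, 0, 1, 0, 0],
  ![2, 1, 1, 0, 2, 0, 2],
  ![2, 1, 1, 2, 2, 2, 2],
  ![2, 2, 1, 0, 2, 1, 0],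
  ![2, 2, 1, 1, 2, 0, 1],
  ![1, 2, 0, 0, 1, 1, 0],
  ![2, 0, 1, 1, 1, 0, 2],
  ![2, 0, 1, 2, 1, 2, 0],
  ![2, 1, 1, 0, 1, 1, 1],
  ![0, 0, 1, 0, 2, 0, 2],
  ![2, 2, 1, 1, 0, 2, 0],
  ![2, 0, 2, 0, 1, 1, 2],
  ![0, 1, 0, 1, 0, 1, 0],
  ![2, 1, 2, 1, 2, 0, 0],
  ![2, 0, 0, 2, 1, 2, 1],
  ![0, 0, 0, 2, 2, 1, 0],
  ![2, 1, 0, 2, 2, 2, 0],
  ![2, 2, 2, 1, 0, 0, 2],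
  ![0, 1, 0, 1, 0, 2, 0],
  ![2, 1, 2, 0, 2, 0, 2],
  ![2, 2, 2, 0, 0, 1, 0],
  ![1, 2, 1, 1, 1, 0, 0],
  ![0, 2, 0, 0, 0, 1, 2],
  ![0, 0, 0, 0, 1, 1, 1],
  ![1, 0, 1, 1, 2, 0, 2],
  ![0, 0, 1, 1, 1, 0, 0],
  ![0, 1, 0, 1, 0, 0, 0],
  ![0, 0, 0, 2, 2, 2, 0],
  ![2, 0, 2, 1, 1, 0, 2],
  ![0, 1, 1, 0, 0, 0, 1],
  ![2, 1, 1, 1, 2, 2, 1],
  ![0, 2, 1, 2, 0, 0, 0],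
  ![0, 0, 1, 2, 1, 2, 2],
  ![0, 1, 2, 0, 2, 2, 0],
  ![0, 1, 1, 2, 2, 2, 1],
  ![0, 1, 1, 0, 2, 1, 0],
  ![0, 0, 1, 1, 0, 1, 2],
  ![0, 1, 1, 1, 1, 1, 1],
  ![2, 2, 0, 1, 2, 0, 1],
  ![0, 1, 1, 1, 0, 0, 0],
  ![2, 1, 2, 2, 2, 1, 2],
  ![2, 0, 1, 0, 1, 2, 0],
  ![2, 0, 1, 1, 1, 1, 1],
  ![2, 1, 1, 2, 1, 0, 2],
  ![2, 2, 0, 1, 2, 1, 1],
  ![1, 1, 0, 0, 2, 0, 0],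
  ![0, 0, 1, 2, 2, 0, 0],
  ![2, 2, 1, 0, 0, 2, 1],
  ![2, 0, 2, 2, 1, 1, 0],
  ![0, 2, 1, 2, 1, 2, 1],
  ![2, 2, 2, 1, 0, 1, 0],
  ![2, 0, 2, 1, 1, 2, 1],
  ![2, 0, 2, 2, 1, 0, 1],
  ![0, 0, 0, 0, 2, 2, 2],
  ![0, 1, 0, 0, 0, 2, 1],
  ![2, 1, 2, 2, 2, 0, 0],
  ![0, 1, 2, 1, 0, 0, 0],
  ![2, 1, 2, 1, 2, 1, 1],
  ![0, 2, 1, 0, 0, 0, 2],
  ![0, 0, 1, 0, 1, 0, 1],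
  ![0, 2, 1, 1, 2, 2, 0],
  ![0, 0, 2, 2, 2, 0, 0],
  ![0, 1, 1, 2, 0, 2, 2],
  ![0, 1, 1, 2, 1, 2, 0],
  ![0, 2, 1, 2, 2, 1, 2],
  ![0, 0, 1, 2, 0, 1, 1],
  ![0, 0, 1, 0, 0, 0, 0],
  ![2, 1, 0, 2, 1, 0, 2],
  ![2, 0, 2, 0, 1, 1, 0],
  ![0, 0, 1, 1, 2, 2, 1],
  ![2, 2, 1, 2, 0, 1, 2],
  ![2, 1, 0, 2, 1, 1, 2],
  ![0, 2, 1, 1, 1, 2, 2],
  ![2, 2, 2, 0, 0, 1, 1],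
  ![0, 2, 2, 2, 1, 1, 1],
  ![2, 2, 2, 2, 0, 2, 2],
  ![0, 0, 2, 0, 2, 0, 2],
  ![0, 1, 2, 0, 0, 0, 1],
  ![0, 1, 2, 2, 0, 1, 2],
  ![0, 2, 2, 1, 2, 1, 0],
  ![0, 1, 1, 0, 1, 2, 2],
  ![0, 2, 1, 0, 2, 2, 1],
  ![0, 1, 2, 2, 1, 1, 0],
  ![0, 0, 0, 0, 0, 1, 0],
  ![0, 0, 2, 1, 2, 1, 1],
  ![0, 2, 1, 0, 1, 1, 0],
  ![0, 2, 2, 1, 1, 1, 2],
  ![0, 2, 2, 0, 1, 2, 0],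
  ![0, 0, 2, 2, 0, 2, 1],
  ![0, 1, 2, 0, 1, 1, 2],
  ![0, 2, 2, 0, 2, 1, 1],
  ![0, 2, 2, 2, 2, 2, 2],
  ![0, 1, 2, 1, 1, 2, 1],
  ![0, 0, 2, 1, 0, 2, 2],
  ![0, 0, 2, 0, 0, 0, 0],
  ![0, 0, 0, 0, 0, 2, 0]]
/-- parents of level 0 -/
def par0 : List ℕ := [0, 0, 1, 2, 3, 4, 4, 5, 5, 6, 7, 8, 8, 10, 10, 11, 11, 13, 13, 13, 15, 15, 16, 17, 17, 18, 18, 19, 20, 20, 21, 23, 23, 23, 24, 25, 25, 26, 28, 29, 30, 31, 31, 31, 32, 32, 33, 34, 35, 36, 37, 38, 39, 40, 41, 41, 41, 41, 42, 43, 44, 45, 46, 47, 48, 49, 50, 51, 52, 52, 53, 54, 54, 54, 55, 55, 56, 57, 58, 59, 60, 61, 62, 62, 63, 64, 65, 65, 66, 67, 67, 68, 68, 71, 71, 71, 72, 72, 73, 74, 75, 76, 77, 78, 79, 79, 80, 81, 81, 82, 82, 83, 84, 85, 85, 86,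 86, 89, 89, 90, 91, 92, 93, 93, 94, 94, 95, 96, 96, 97, 98, 99, 100, 101, 102, 102, 103, 103, 104, 104, 105, 106, 106, 107, 107, 108, 109, 110, 111, 113, 113, 114, 115, 116, 117, 118, 118, 120, 121, 122, 122, 123, 124, 124, 125, 126, 127, 127, 128, 129, 130, 130, 131, 132, 132, 133, 133, 134, 134, 135, 136, 136, 137, 138, 139, 139, 140, 141, 141, 142, 143, 144, 144, 145, 146, 147, 149, 150, 150, 152, 153, 154, 154, 155, 155, 159, 159, 159, 160, 161, 162, 162, 163, 164, 165, 165, 168, 169, 169, 170, 170, 171, 172, 172, 173, 173, 174, 175, 175, 176, 177, 178, 178, 179, 180, 181, 181, 182, 183, 183, 184, 185, 187, 188, 188, 189, 190, 190, 191, 191, 192, 194, 196, 196, 197, 197, 201, 203, 203, 205, 205,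 205, 206, 207, 208, 209, 209, 212, 213, 213, 214, 214, 215, 216, 217, 218, 219, 220, 220, 221, 222, 222, 223, 224, 225, 225, 226, 227, 228, 228, 229, 230, 230, 231, 231, 232, 234, 234, 235, 235, 236, 238, 238, 239, 240, 240, 242, 242, 243, 243, 244, 246, 247, 248, 248, 252, 254, 254, 256, 257, 259, 260, 260, 262, 263, 264, 264, 265, 265, 266, 267, 268, 269, 270, 271, 271, 272, 273, 274, 274, 275, 276, 276, 277, 277, 278, 280, 281, 281, 282, 283, 283, 284, 284, 285, 287, 287, 288, 288, 289, 291, 292, 293, 293, 293, 296, 296, 296, 297, 298, 298, 298, 301, 302, 302, 304, 306, 307, 308, 308, 308, 311, 313, 315, 316, 319, 320, 321, 321, 323, 324, 325, 326, 327, 328, 328, 329, 330, 331, 331, 332, 333, 333,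 334, 334, 335, 337, 338, 339, 341, 341, 341, 342, 343, 343, 343, 346, 346, 347, 347, 348, 350, 351, 352, 352, 352, 355, 356, 357, 357, 357, 360, 360, 362, 362, 363, 365, 365, 366, 366, 366, 369, 369, 370, 372, 372, 373, 375, 376, 376, 378, 378, 379, 384, 385, 386, 386, 389, 390, 391, 391, 392, 393, 393, 394, 394, 395, 397, 398, 399, 401, 401, 401, 402, 403, 403, 403, 407, 407, 409, 410, 410, 410, 413, 413, 414, 416, 417, 418, 418, 418, 421, 421, 423, 423, 424, 426, 426, 428, 428, 429, 431, 433, 433, 436, 436, 436, 437, 438, 438, 439, 441, 441, 442, 444, 444, 446, 448, 450, 451, 453, 455, 457, 458, 459, 460, 462, 462, 462, 463, 464, 464, 464, 468, 468, 470, 471, 471, 471, 474, 474, 475, 477, 479, 479,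 480, 480, 481, 483, 483, 484, 486, 486, 488, 488, 489, 491, 493, 493, 494, 496, 498, 498, 499, 501, 502, 504, 504, 504, 505, 506, 507, 508, 508, 509, 511, 512, 513, 514, 515, 518, 519, 521, 522, 524, 524, 526, 526, 527, 527, 527, 530, 530, 531, 533, 535, 535, 536, 536, 537, 539, 539, 540, 542, 543, 543, 545, 545, 546, 548, 549, 551, 553, 553, 554, 556, 557, 558, 559, 560, 561, 562, 566, 567, 567, 569, 572, 573, 575, 576, 578, 580, 582, 584, 586, 586, 586, 587, 588, 588, 589, 591, 591, 592, 594, 595, 595, 597, 597, 598, 600, 601, 602, 604, 605, 606, 607, 609, 611, 612, 613, 616, 617, 620, 622, 623, 626, 628, 628, 630, 632, 633, 634, 634, 634, 635, 636, 637, 638, 638, 639, 641, 642, 643, 645, 646, 647,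 648, 650, 651, 653, 655, 657, 659, 661, 663, 664, 666, 667, 670, 672, 673, 673, 675, 678, 679, 681, 682, 684, 686, 688, 688, 690, 691, 693, 698, 700, 701, 704, 706, 706, 708, 709, 710, 716, 718, 719, 726]
/-- generators of level 0 -/
def gen0 : List Gen := [.a, .g, .f, .e, .d, .c, .h, .b, .h, .i, .h, .d, .i, .d, .i, .e, .i, .c, .e, .i, .f, .i, .h, .e, .i, .f, .i, .h, .g, .i, .h, .d, .f, .i, .h, .g, .i, .h, .i, .h, .d, .f, .h, .i, .g, .i, .h, .d, .i, .h, .d, .h, .d, .c, .e, .g, .h, .i, .i, .h, .i, .h, .d, .e, .h, .d, .c, .d, .c, .e, .b, .g, .h, .i, .h, .i, .i, .h, .h, .d, .h, .d, .c, .e, .f, .d, .c, .e, .b, .c, .e, .b, .e, .f, .h, .i, .d, .i, .h, .i, .h, .h, .d, .d, .c, .e, .d, .c, .e, .b, .e, .f, .g,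 .c, .e, .b, .e, .b, .e, .f, .e, .d, .h, .i, .d, .i, .h, .c, .i, .h, .d, .h, .d, .d, .c, .e, .c, .e, .b, .e, .f, .c, .e, .b, .e, .f, .e, .f, .g, .b, .e, .f, .e, .d, .e, .d, .f, .d, .h, .d, .i, .h, .c, .i, .h, .d, .b, .i, .h, .d, .c, .e, .d, .c, .e, .c, .e, .b, .e, .f, .b, .e, .f, .e, .d, .f, .g, .b, .e, .f, .e, .d, .f, .g, .f, .g, .e, .d, .f, .d, .h, .d, .f, .f, .h, .c, .e, .i, .h, .d, .b, .i, .h, .d, .c, .e, .d, .c, .e, .b, .e, .f, .c, .e, .b, .e, .f, .b, .e, .f, .e, .d, .f, .g, .e, .d, .f, .g, .d, .f, .f, .g, .e, .d, .f, .g, .d, .f, .f, .h, .g, .g, .d, .f, .f, .h, .f, .e, .h, .b, .e, .i, .i, .h, .d, .c, .e, .d, .c, .e, .b, .e, .f, .e, .e, .f, .e, .d, .f, .g, .b, .e, .f, .e, .d, .f, .g, .e, .d, .f,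 .g, .d, .f, .f, .h, .g, .d, .f, .f, .h, .g, .c, .f, .g, .e, .g, .d, .f, .f, .h, .g, .f, .g, .g, .h, .f, .e, .h, .e, .h, .e, .d, .i, .h, .d, .c, .e, .b, .e, .f, .e, .e, .f, .e, .d, .f, .g, .f, .d, .f, .g, .d, .f, .f, .h, .g, .e, .d, .f, .g, .d, .f, .f, .h, .g, .d, .f, .f, .h, .g, .f, .g, .e, .g, .h, .c, .f, .h, .g, .e, .g, .h, .f, .e, .g, .g, .f, .g, .e, .g, .h, .g, .h, .e, .h, .d, .d, .h, .i, .d, .e, .e, .f, .e, .d, .f, .g, .f, .d, .f, .g, .d, .f, .f, .h, .g, .g, .f, .g, .c, .f, .h, .g, .e, .g, .h, .d, .f, .f, .h, .g, .f, .g, .e, .g, .h, .f, .g, .e, .g, .h, .e, .g, .g, .h, .h, .f, .h, .e, .g, .h, .g, .h, .h, .e, .g, .g, .f, .e, .g, .g, .h, .h, .d, .c, .c, .h, .e, .f, .d, .f, .g, .d, .f, .f, .h, .g,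 .g, .f, .g, .c, .f, .h, .g, .e, .g, .h, .e, .g, .f, .e, .g, .h, .g, .h, .h, .f, .g, .e, .g, .h, .e, .g, .g, .h, .h, .e, .g, .g, .h, .h, .g, .f, .h, .e, .g, .h, .d, .g, .h, .h, .f, .h, .d, .d, .g, .f, .g, .h, .d, .c, .h, .f, .g, .f, .g, .c, .f, .h, .g, .e, .g, .h, .e, .g, .f, .e, .g, .h, .g, .h, .h, .g, .e, .g, .g, .h, .h, .f, .h, .d, .e, .g, .g, .h, .h, .g, .f, .h, .d, .g, .f, .h, .d, .f, .h, .d, .g, .h, .h, .d, .e, .f, .h, .d, .h, .d, .c, .g, .f, .d, .c, .d, .g, .e, .g, .f, .h, .e, .g, .h, .g, .h, .h, .g, .e, .g, .g, .h, .h, .f, .h, .d, .f, .d, .g, .f, .h, .d, .h, .d, .g, .f, .h, .d, .f, .h, .d, .c, .f, .h, .d, .g, .f, .h, .d, .h, .d, .d, .c, .f, .c, .e, .g, .e, .g, .h, .d, .g, .h, .h, .f, .h, .d,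 .f, .d, .g, .f, .h, .d, .h, .d, .c, .g, .f, .h, .d, .d, .f, .h, .d, .d, .c, .d, .f, .h, .d, .c, .e, .e, .f, .f, .d, .g, .h, .h, .d, .e, .f, .h, .d, .h, .d, .c, .g, .f, .h, .d, .d, .c, .f, .d, .e, .d, .c, .e, .e, .e, .e, .g, .g, .f, .h, .d, .h, .d, .d, .c, .f, .d, .c, .e, .e, .e, .e, .d, .f, .h, .d, .c, .e, .e, .e, .e, .e, .e, .e, .d]
/-- allowed generators of level 0 -/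
def lv0 : List Gen := [.b, .c, .d, .e, .f, .g, .h, .i]
theorem chk0 : ∀ i < 728, 0 < i → par0.getD i 0 < i ∧ gen0.getD i .a ∈ lv0 ∧
    (rM (gen0.getD i .a)).mulVec (pts0.getD (par0.getD i 0) 0) = pts0.getD i 0 := by decide +kernel
theorem nd0 : (pts0.map vcode).Nodup := by decide +kernel
theorem len0 : pts0.length = 728 := by decide +kernel
end Cfsg.Agent.Helper92.O7
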