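import Cfsg.Agent.Lib.Helper92.O7Defs
import Cfsg.Agent.Lib.Helper92.O7LB1
import Cfsg.Agent.Lib.Helper92.O7ChainA

/-!
# Schreier trees for the stabilizer chain of the reflections `rM` on vectors (S1686 data track): data part B (levels 1 to 6)
-/

set_option autoImplicit false
set_option maxRecDepth 1000000
set_option linter.all false

namespace Cfsg.Agent.Helper92.O7

open Cfsg.Spor.Fi22 (Gen)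

/-- points of level 1 -/
def pts1 : List (Fin 7 → F3) := [![0, 1, 0, 2, 1, 0, 2],
  ![2, 1, 0, 1, 0, 0, 1],
  ![2, 0, 0, 1, 1, 2, 1],
  ![2, 0, 2, 1, 1, 0, 1],
  ![2, 0, 2, 0, 1, 2, 2],
  ![2, 2, 2, 0, 0, 2, 0],
  ![2, 0, 2, 2, 1, 2, 0],
  ![2, 2, 2, 2, 0, 1, 1],
  ![2, 1, 2, 2, 2, 2, 2],
  ![2, 2, 2, 1, 0, 1, 2],
  ![2, 2, 1, 2, 0, 2, 1],
  ![2, 1, 2, 1, 2, 1, 0],
  ![2, 2, 1, 1, 0, 2, 2],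
  ![2, 1, 2, 0, 2, 1, 1],
  ![2, 1, 1, 2, 1, 1, 1],
  ![2, 1, 1, 1, 2, 2, 0],
  ![2, 2, 1, 0, 0, 1, 0],
  ![2, 1, 1, 1, 1, 1, 2],
  ![2, 1, 1, 0, 2, 2, 1],
  ![1, 1, 1, 1, 0, 1, 0],
  ![2, 0, 1, 1, 0, 1, 0],
  ![2, 0, 1, 0, 1, 1, 2],
  ![2, 1, 1, 0, 1, 0, 0],
  ![2, 1, 1, 2, 2, 1, 2],
  ![1, 1, 1, 0, 0, 1, 1],
  ![2, 0, 1, 0, 0, 1, 1],
  ![2, 0, 1, 2, 1, 1, 0],
  ![1, 0, 1, 0, 2, 1, 2],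
  ![2, 2, 1, 0, 2, 0, 2],
  ![2, 1, 0, 0, 1, 1, 0],
  ![1, 1, 1, 2, 0, 0, 2],
  ![2, 0, 1, 2, 0, 0, 2],
  ![2, 0, 1, 1, 1, 0, 1],
  ![1, 0, 1, 2, 2, 1, 0],
  ![2, 2, 1, 2, 2, 0, 0],
  ![1, 2, 1, 2, 1, 0, 1],
  ![2, 2, 0, 0, 2, 1, 2],
  ![1, 1, 0, 2, 0, 1, 2],
  ![2, 0, 0, 2, 0, 0, 2],
  ![2, 0, 0, 2, 0, 1, 2],
  ![1, 0, 1, 1, 2, 0, 1],
  ![2, 2, 1, 1, 2, 2, 1],
  ![2, 0, 0, 1, 1, 1, 1],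
  ![1, 2, 1, 1, 1, 0, 2],
  ![2, 2, 0, 2, 2, 1, 0],
  ![1, 2, 0, 2, 1, 1, 1],
  ![2, 2, 0, 2, 2, 0, 0],
  ![1, 0, 0, 2, 1, 0, 2],
  ![1, 0, 0, 1, 2, 0, 1],
  ![1, 0, 0, 1, 2, 1, 1],
  ![2, 1, 0, 0, 1, 0, 0],
  ![2, 1, 0, 0, 1, 2, 0],
  ![1, 2, 1, 0, 1, 2, 0],
  ![2, 2, 2, 1, 2, 1, 1],
  ![2, 1, 0, 1, 0, 2, 1],
  ![1, 2, 0, 1, 1, 1, 2],
  ![2, 2, 0, 0, 2, 2, 2],
  ![1, 2, 0, 1, 1, 0, 2],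
  ![1, 1, 0, 2, 2, 0, 1],
  ![2, 2, 0, 0, 2, 0, 2],
  ![1, 2, 0, 1, 0, 2, 1],
  ![1, 2, 0, 1, 0, 0, 1],
  ![1, 1, 0, 2, 0, 0, 2],
  ![1, 1, 0, 2, 0, 2, 2],
  ![2, 0, 0, 2, 0, 2, 2],
  ![2, 1, 2, 0, 1, 0, 0],
  ![1, 2, 2, 0, 1, 1, 0],
  ![2, 2, 2, 0, 2, 0, 2],
  ![2, 1, 2, 1, 0, 0, 1],
  ![0, 1, 0, 2, 1, 2, 2],
  ![1, 2, 0, 2, 1, 2, 1],
  ![1, 1, 0, 1, 2, 0, 2],
  ![2, 2, 0, 2, 2, 2, 0],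
  ![1, 2, 0, 2, 1, 0, 1],
  ![1, 1, 0, 1, 2, 2, 2],
  ![1, 2, 2, 1, 0, 0, 1],
  ![1, 0, 0, 2, 1, 2, 2],
  ![1, 0, 0, 2, 1, 1, 2],
  ![1, 0, 0, 1, 2, 2, 1],
  ![1, 1, 2, 2, 0, 0, 2],
  ![2, 0, 2, 2, 0, 0, 2],
  ![2, 1, 2, 2, 1, 2, 1],
  ![2, 0, 2, 0, 2, 2, 0],
  ![1, 2, 2, 2, 1, 0, 1],
  ![1, 0, 2, 0, 0, 2, 0],
  ![2, 2, 2, 2, 2, 0, 0],
  ![2, 1, 2, 0, 0, 2, 2],
  ![0, 1, 2, 2, 1, 0, 2],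
  ![1, 2, 0, 1, 1, 2, 2],
  ![1, 1, 0, 2, 2, 1, 1],
  ![1, 1, 0, 2, 2, 2, 1],
  ![1, 1, 2, 1, 2, 0, 2],
  ![1, 2, 2, 0, 0, 2, 2],
  ![1, 0, 2, 2, 1, 0, 2],
  ![1, 2, 0, 1, 0, 1, 1],
  ![1, 0, 1, 2, 1, 0, 2],
  ![1, 0, 2, 1, 2, 0, 1],
  ![1, 1, 2, 1, 0, 2, 0],
  ![1, 2, 2, 2, 2, 1, 2],
  ![2, 0, 2, 1, 0, 2, 0],
  ![2, 2, 2, 2, 1, 2, 2],
  ![2, 1, 2, 1, 1, 2, 2],
  ![2, 0, 2, 2, 2, 1, 1],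
  ![0, 0, 2, 1, 0, 2, 1],
  ![1, 2, 2, 1, 1, 0, 2],
  ![1, 0, 2, 2, 0, 1, 1],
  ![0, 0, 2, 2, 2, 2, 2],
  ![2, 1, 2, 2, 0, 2, 0],
  ![0, 1, 2, 1, 1, 2, 0],
  ![1, 1, 0, 1, 2, 1, 2],
  ![1, 1, 1, 2, 2, 0, 1],
  ![1, 1, 2, 2, 2, 0, 1],
  ![1, 0, 2, 0, 1, 2, 1],
  ![1, 2, 2, 2, 0, 2, 0],
  ![1, 0, 2, 1, 1, 2, 0],
  ![1, 1, 2, 0, 2, 1, 0],
  ![1, 2, 1, 1, 0, 0, 1],
  ![1, 0, 1, 0, 1, 1, 1],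
  ![1, 2, 1, 2, 2, 2, 2],
  ![1, 0, 2, 0, 2, 2, 2],
  ![1, 1, 2, 1, 1, 1, 1],
  ![1, 1, 2, 0, 0, 2, 1],
  ![1, 2, 2, 1, 2, 0, 0],
  ![0, 2, 2, 1, 1, 1, 1],
  ![2, 0, 2, 0, 0, 2, 1],
  ![2, 2, 2, 1, 1, 1, 0],
  ![0, 2, 2, 0, 2, 2, 0],
  ![2, 0, 2, 1, 2, 1, 2],
  ![2, 0, 1, 2, 2, 2, 1],
  ![0, 0, 2, 0, 0, 1, 2],
  ![1, 0, 2, 1, 0, 1, 2],
  ![1, 0, 1, 2, 0, 2, 1],
  ![0, 0, 2, 1, 2, 1, 0],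
  ![0, 1, 2, 0, 1, 2, 1],
  ![1, 1, 1, 1, 2, 0, 2],
  ![1, 2, 1, 0, 0, 1, 2],
  ![1, 1, 1, 0, 2, 2, 0],
  ![1, 2, 1, 2, 0, 1, 0],
  ![1, 1, 1, 1, 1, 2, 1],
  ![1, 0, 1, 1, 1, 1, 0],
  ![1, 2, 1, 0, 2, 0, 1],
  ![0, 2, 1, 1, 1, 2, 1],
  ![1, 0, 2, 2, 2, 2, 0],
  ![1, 1, 2, 0, 1, 0, 2],
  ![0, 1, 2, 0, 0, 1, 0],
  ![1, 2, 2, 0, 2, 0, 1],
  ![1, 2, 0, 1, 2, 2, 0],
  ![0, 2, 2, 0, 1, 0, 2],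
  ![2, 2, 2, 0, 1, 1, 1],
  ![2, 2, 1, 1, 1, 2, 0],
  ![0, 2, 2, 2, 2, 1, 1],
  ![2, 0, 1, 1, 2, 2, 2],
  ![0, 0, 2, 2, 0, 1, 0],
  ![0, 0, 1, 0, 0, 2, 2],
  ![1, 0, 1, 1, 0, 2, 2],
  ![0, 0, 2, 0, 2, 1, 1],
  ![0, 0, 1, 1, 2, 2, 0],
  ![1, 1, 1, 0, 1, 0, 2],
  ![1, 0, 1, 0, 0, 1, 0],
  ![1, 1, 1, 2, 1, 0, 0],
  ![0, 1, 1, 0, 0, 2, 0],
  ![1, 2, 1, 1, 2, 0, 0],
  ![1, 2, 0, 0, 2, 1, 1],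
  ![0, 2, 1, 2, 1, 0, 0],
  ![1, 1, 2, 2, 1, 0, 0],
  ![1, 1, 0, 0, 1, 2, 2],
  ![0, 1, 2, 2, 0, 0, 1],
  ![1, 2, 0, 0, 2, 2, 1],
  ![0, 2, 2, 2, 1, 0, 0],
  ![0, 2, 0, 0, 1, 2, 2],
  ![1, 1, 0, 0, 1, 1, 2],
  ![2, 2, 1, 0, 1, 2, 1],
  ![0, 2, 2, 1, 2, 1, 2],
  ![0, 2, 1, 2, 2, 2, 1],
  ![2, 1, 1, 0, 0, 1, 2],
  ![2, 0, 1, 0, 2, 1, 0],
  ![0, 0, 1, 2, 0, 2, 0],
  ![0, 1, 1, 0, 2, 0, 2],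
  ![0, 0, 1, 0, 2, 2, 1],
  ![0, 1, 1, 2, 0, 0, 1],
  ![0, 0, 1, 2, 2, 1, 2],
  ![1, 1, 0, 2, 1, 1, 0],
  ![0, 1, 1, 1, 0, 0, 2],
  ![1, 2, 0, 1, 2, 1, 0],
  ![0, 2, 1, 0, 1, 0, 2],
  ![0, 2, 0, 2, 1, 1, 0],
  ![1, 1, 0, 2, 1, 0, 0],
  ![1, 1, 0, 2, 1, 2, 0],
  ![0, 1, 2, 1, 0, 0, 2],
  ![0, 1, 0, 2, 0, 2, 1],
  ![1, 2, 0, 1, 2, 0, 0],
  ![0, 2, 0, 2, 1, 2, 0],
  ![0, 1, 0, 0, 2, 1, 2],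
  ![0, 1, 0, 2, 0, 1, 1],
  ![2, 2, 1, 2, 1, 1, 2],
  ![0, 2, 1, 1, 2, 2, 2],
  ![2, 1, 1, 2, 0, 1, 0],
  ![0, 0, 1, 2, 1, 0, 1],
  ![0, 1, 1, 1, 1, 1, 0],
  ![0, 0, 1, 1, 0, 1, 1],
  ![0, 1, 1, 2, 2, 0, 0],
  ![0, 1, 0, 1, 0, 1, 2],
  ![1, 2, 0, 0, 2, 0, 1],
  ![0, 2, 0, 0, 1, 1, 2],
  ![1, 1, 0, 0, 1, 0, 2],
  ![0, 1, 0, 2, 2, 0, 0],
  ![0, 1, 0, 1, 0, 0, 2],
  ![0, 1, 0, 1, 0, 2, 2],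
  ![0, 0, 0, 2, 1, 1, 1],
  ![0, 2, 0, 0, 1, 0, 2],
  ![0, 1, 0, 2, 2, 1, 0],
  ![0, 0, 0, 2, 1, 0, 1],
  ![0, 2, 1, 0, 2, 1, 0],
  ![2, 1, 1, 1, 0, 0, 1],
  ![0, 0, 1, 1, 1, 0, 2],
  ![0, 1, 1, 0, 1, 1, 1],
  ![0, 2, 1, 1, 0, 2, 0],
  ![0, 1, 1, 1, 2, 2, 1],
  ![0, 0, 0, 1, 1, 0, 2],
  ![0, 2, 0, 2, 1, 0, 0],
  ![0, 1, 0, 0, 2, 0, 2],
  ![0, 1, 0, 2, 0, 0, 1],
  ![0, 0, 0, 1, 1, 2, 2],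
  ![0, 0, 0, 1, 1, 1, 2],
  ![0, 1, 0, 0, 2, 2, 2],
  ![0, 0, 1, 0, 1, 2, 0],
  ![0, 1, 1, 2, 1, 0, 2],
  ![2, 1, 0, 1, 0, 1, 1],
  ![0, 2, 1, 0, 0, 2, 1],
  ![0, 2, 2, 1, 0, 1, 0],
  ![0, 1, 2, 1, 2, 1, 1],
  ![0, 1, 0, 2, 2, 2, 0],
  ![0, 0, 0, 2, 1, 2, 1],
  ![0, 0, 2, 1, 1, 0, 2],
  ![0, 1, 2, 0, 2, 0, 2],
  ![0, 0, 2, 0, 1, 1, 0],
  ![0, 2, 1, 2, 0, 1, 2],
  ![0, 1, 0, 2, 1, 1, 2],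
  ![2, 0, 0, 1, 1, 0, 1],
  ![0, 2, 2, 0, 0, 1, 1],
  ![0, 2, 2, 2, 0, 2, 2],
  ![0, 1, 2, 2, 2, 0, 0],
  ![0, 0, 2, 2, 1, 0, 1]]
/-- parents of level 1 -/
def par1 : List ℕ := [0, 0, 1, 2, 3, 3, 4, 4, 5, 6, 7, 7, 9, 9, 10, 10, 12, 12, 12, 14, 14, 15, 16, 16, 17, 17, 18, 19, 20, 22, 22, 22, 23, 24, 25, 27, 28, 29, 29, 29, 30, 31, 32, 33, 34, 35, 36, 37, 37, 37, 38, 39, 40, 41, 42, 43, 44, 45, 45, 46, 47, 47, 48, 49, 50, 51, 52, 53, 53, 54, 55, 55, 56, 57, 57, 60, 60, 61, 62, 63, 64, 65, 65, 66, 66, 67, 67, 68, 70, 70, 73, 74, 75, 75, 76, 77, 78, 79, 79, 80, 80, 81, 81, 82, 83, 83, 84, 85, 86, 88, 89, 90, 91, 92, 92, 93, 94, 95, 95, 96, 96, 97, 97, 98, 99, 99, 100, 101, 102, 102, 104, 105, 105, 107, 109, 110, 115, 116, 116, 117, 117, 118,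 119, 119, 120, 121, 122, 122, 124, 125, 125, 127, 127, 128, 130, 130, 131, 131, 136, 137, 138, 139, 140, 140, 142, 143, 143, 145, 145, 146, 146, 148, 148, 149, 149, 151, 151, 153, 154, 156, 158, 159, 159, 161, 161, 162, 162, 164, 164, 165, 165, 167, 169, 169, 171, 171, 171, 173, 173, 175, 176, 181, 183, 183, 183, 185, 185, 187, 189, 189, 191, 192, 194, 194, 195, 195, 197, 199, 201, 202, 203, 203, 205, 207, 208, 212, 212, 213, 214, 216, 217, 219, 220, 222, 224, 225, 225, 226, 227, 228, 229, 231, 232]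
/-- generators of level 1 -/
def gen1 : List Gen := [.a, .f, .e, .d, .c, .h, .b, .h, .i, .h, .d, .i, .d, .i, .e, .i, .c, .e, .i, .f, .i, .h, .e, .i, .f, .i, .h, .i, .h, .d, .f, .i, .h, .i, .h, .h, .d, .f, .h, .i, .i, .h, .d, .h, .d, .d, .c, .e, .h, .i, .i, .h, .h, .d, .e, .d, .c, .c, .e, .b, .h, .i, .i, .h, .h, .d, .d, .c, .e, .f, .c, .e, .b, .b, .e, .d, .i, .h, .h, .d, .d, .c, .e, .c, .e, .b, .e, .f, .b, .e, .e, .d, .c, .i, .h, .d, .d, .c, .e, .c, .e, .b, .e, .f, .b, .e, .f, .e, .f, .e, .d, .d, .h, .b, .i, .h, .d, .c, .e, .c, .e, .b, .e, .f, .b, .e, .f, .e, .d, .f, .e, .d, .f, .f, .d, .h, .d, .c, .e, .b, .e, .f, .b, .e, .f, .e, .d, .f, .e, .d, .f, .d, .f, .f, .d, .f, .f, .h, .e, .e, .f, .e, .d, .f, .e, .d, .f, .d, .f, .f, .h, .d, .f,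 .f, .h, .c, .f, .e, .f, .h, .f, .d, .f, .d, .f, .f, .h, .d, .f, .f, .h, .f, .e, .h, .c, .f, .h, .e, .h, .f, .e, .f, .c, .f, .h, .e, .h, .f, .e, .h, .e, .h, .f, .h, .e, .h, .h, .e, .e, .f, .e, .h, .h, .e, .h, .e, .h, .d, .h, .d, .d, .e, .h, .d, .d, .d, .h, .d, .e, .d, .c, .d, .d]
/-- allowed generators of level 1 -/
def lv1 : List Gen := [.b, .c, .d, .e, .f, .h, .i]
theorem chk1 : ∀ i < 243, 0 < i → par1.getD i 0 < i ∧ gen1.getD i .a ∈ lv1 ∧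
    (rM (gen1.getD i .a)).mulVec (pts1.getD (par1.getD i 0) 0) = pts1.getD i 0 := by decide +kernel
theorem nd1 : (pts1.map vcode).Nodup := by decide +kernel
theorem len1 : pts1.length = 243 := by decide +kernel

/-- points of level 2 -/
def pts2 : List (Fin 7 → F3) := [![0, 0, 0, 1, 1, 0, 1],
  ![0, 1, 0, 1, 0, 1, 1],
  ![0, 1, 1, 1, 0, 0, 1],
  ![0, 1, 1, 2, 0, 1, 0],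
  ![0, 2, 1, 2, 1, 1, 2],
  ![0, 1, 1, 0, 0, 1, 2],
  ![0, 2, 1, 0, 1, 2, 1],
  ![0, 0, 1, 0, 2, 1, 0],
  ![0, 2, 1, 1, 1, 2, 0],
  ![0, 2, 2, 0, 1, 1, 1],
  ![0, 0, 1, 1, 2, 2, 2],
  ![0, 2, 2, 1, 1, 1, 0],
  ![0, 0, 1, 2, 2, 2, 1],
  ![0, 0, 2, 0, 0, 2, 1],
  ![0, 0, 2, 1, 2, 1, 2],
  ![0, 2, 2, 2, 1, 2, 2],
  ![0, 0, 2, 1, 0, 2, 0],
  ![0, 0, 2, 2, 2, 1, 1],
  ![0, 1, 2, 1, 1, 2, 2],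
  ![0, 1, 2, 2, 0, 2, 0],
  ![0, 0, 2, 2, 0, 0, 2],
  ![0, 0, 2, 0, 2, 2, 0],
  ![0, 1, 2, 2, 1, 2, 1],
  ![0, 1, 2, 0, 0, 2, 2],
  ![0, 2, 2, 2, 2, 0, 0],
  ![0, 0, 0, 2, 0, 2, 2],
  ![0, 1, 2, 0, 1, 0, 0],
  ![0, 1, 2, 1, 0, 0, 1],
  ![0, 2, 2, 0, 2, 0, 2],
  ![0, 2, 0, 2, 2, 2, 0],
  ![0, 1, 0, 0, 1, 0, 0],
  ![0, 1, 0, 0, 1, 2, 0],
  ![0, 2, 2, 1, 2, 1, 1],
  ![0, 1, 0, 1, 0, 2, 1],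
  ![0, 2, 0, 0, 2, 2, 2],
  ![0, 2, 0, 0, 2, 0, 2],
  ![0, 0, 0, 2, 0, 0, 2],
  ![0, 0, 0, 2, 0, 1, 2],
  ![0, 2, 1, 1, 2, 2, 1],
  ![0, 0, 0, 1, 1, 1, 1],
  ![0, 2, 0, 2, 2, 1, 0],
  ![0, 2, 0, 2, 2, 0, 0],
  ![0, 1, 0, 0, 1, 1, 0],
  ![0, 0, 1, 2, 0, 0, 2],
  ![0, 2, 1, 2, 2, 0, 0],
  ![0, 0, 1, 1, 1, 0, 1],
  ![0, 2, 0, 0, 2, 1, 2],
  ![0, 1, 1, 0, 1, 0, 0],
  ![0, 0, 1, 0, 0, 1, 1],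
  ![0, 1, 1, 2, 2, 1, 2],
  ![0, 2, 1, 0, 2, 0, 2],
  ![0, 0, 1, 2, 1, 1, 0],
  ![0, 1, 1, 1, 1, 1, 2],
  ![0, 2, 1, 0, 0, 1, 0],
  ![0, 0, 1, 1, 0, 1, 0],
  ![0, 1, 1, 0, 2, 2, 1],
  ![0, 0, 1, 0, 1, 1, 2],
  ![0, 1, 1, 2, 1, 1, 1],
  ![0, 2, 1, 1, 0, 2, 2],
  ![0, 1, 1, 1, 2, 2, 0],
  ![0, 1, 2, 0, 2, 1, 1],
  ![0, 2, 1, 2, 0, 2, 1],
  ![0, 2, 2, 1, 0, 1, 2],
  ![0, 1, 2, 1, 2, 1, 0],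
  ![0, 2, 2, 2, 0, 1, 1],
  ![0, 0, 2, 2, 1, 2, 0],
  ![0, 1, 2, 2, 2, 2, 2],
  ![0, 2, 2, 0, 0, 2, 0],
  ![0, 0, 2, 0, 1, 2, 2],
  ![0, 0, 2, 1, 1, 0, 1],
  ![0, 0, 0, 1, 1, 2, 1],
  ![0, 1, 0, 1, 0, 0, 1]]
/-- parents of level 2 -/
def par2 : List ℕ := [0, 0, 1, 2, 2, 3, 3, 4, 5, 6, 6, 8, 8, 9, 9, 11, 11, 11, 13, 14, 15, 15, 16, 17, 18, 20, 20, 21, 22, 24, 25, 25, 26, 27, 28, 29, 30, 31, 32, 33, 34, 35, 36, 37, 38, 38, 40, 42, 43, 43, 44, 44, 47, 47, 48, 48, 50, 52, 52, 54, 55, 57, 58, 59, 61, 62, 63, 64, 64, 67, 69, 70]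
/-- generators of level 2 -/
def gen2 : List Gen := [.a, .e, .d, .c, .h, .b, .h, .i, .h, .d, .i, .d, .i, .e, .i, .c, .e, .i, .i, .h, .e, .i, .i, .h, .h, .d, .i, .h, .h, .d, .h, .i, .h, .d, .d, .c, .i, .h, .d, .e, .c, .b, .h, .d, .c, .e, .b, .d, .c, .e, .b, .e, .c, .e, .b, .e, .e, .b, .e, .e, .d, .e, .d, .d, .d, .h, .c, .c, .h, .h, .d, .e]
/-- allowed generators of level 2 -/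
def lv2 : List Gen := [.b, .c, .d, .e, .h, .i]
theorem chk2 : ∀ i < 72, 0 < i → par2.getD i 0 < i ∧ gen2.getD i .a ∈ lv2 ∧
    (rM (gen2.getD i .a)).mulVec (pts2.getD (par2.getD i 0) 0) = pts2.getD i 0 := by decide +kernel
theorem nd2 : (pts2.map vcode).Nodup := by decide +kernel
theorem len2 : pts2.length = 72 := by decide +kernel

/-- points of level 3 -/
def pts3 : List (Fin 7 → F3) := [![0, 0, 0, 0, 0, 1, 0],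
  ![0, 0, 1, 0, 0, 0, 0],
  ![0, 0, 1, 1, 0, 1, 2],
  ![0, 1, 1, 1, 1, 1, 1],
  ![0, 0, 1, 2, 0, 1, 1],
  ![0, 1, 1, 2, 1, 2, 0],
  ![0, 2, 1, 2, 2, 1, 2],
  ![0, 1, 1, 0, 1, 2, 2],
  ![0, 1, 2, 2, 1, 1, 0],
  ![0, 2, 1, 0, 2, 2, 1],
  ![0, 1, 2, 0, 1, 1, 2],
  ![0, 2, 1, 1, 2, 2, 0],
  ![0, 2, 2, 0, 2, 1, 1],
  ![0, 1, 2, 1, 1, 2, 1],
  ![0, 2, 2, 1, 2, 1, 0],
  ![0, 0, 2, 1, 0, 2, 2],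
  ![0, 2, 2, 2, 2, 2, 2],
  ![0, 0, 2, 2, 0, 2, 1],
  ![0, 0, 2, 0, 0, 0, 0],
  ![0, 0, 0, 0, 0, 2, 0]]
/-- parents of level 3 -/
def par3 : List ℕ := [0, 0, 1, 1, 2, 2, 3, 4, 5, 5, 7, 7, 8, 10, 10, 12, 13, 14, 16, 18]
/-- generators of level 3 -/
def gen3 : List Gen := [.a, .d, .c, .h, .b, .h, .i, .h, .d, .i, .d, .i, .i, .c, .i, .h, .i, .h, .h, .d]
/-- allowed generators of level 3 -/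
def lv3 : List Gen := [.b, .c, .d, .h, .i]
theorem chk3 : ∀ i < 20, 0 < i → par3.getD i 0 < i ∧ gen3.getD i .a ∈ lv3 ∧
    (rM (gen3.getD i .a)).mulVec (pts3.getD (par3.getD i 0) 0) = pts3.getD i 0 := by decide +kernel
theorem nd3 : (pts3.map vcode).Nodup := by decide +kernel
theorem len3 : pts3.length = 20 := by decide +kernel

/-- points of level 4 -/
def pts4 : List (Fin 7 → F3) := [![0, 0, 0, 0, 1, 0, 0],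
  ![0, 1, 0, 1, 2, 1, 1],
  ![0, 1, 0, 1, 2, 0, 1],
  ![0, 0, 0, 0, 1, 1, 0],
  ![0, 0, 0, 0, 1, 2, 0],
  ![0, 1, 0, 1, 2, 2, 1]]
/-- parents of level 4 -/
def par4 : List ℕ := [0, 0, 0, 1, 2, 3]
/-- generators of level 4 -/
def gen4 : List Gen := [.a, .h, .i, .i, .h, .h]
/-- allowed generators of level 4 -/
def lv4 : List Gen := [.b, .c, .h, .i]
theorem chk4 : ∀ i < 6, 0 < i → par4.getD i 0 < i ∧ gen4.getD i .a ∈ lv4 ∧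
    (rM (gen4.getD i .a)).mulVec (pts4.getD (par4.getD i 0) 0) = pts4.getD i 0 := by decide +kernel
theorem nd4 : (pts4.map vcode).Nodup := by decide +kernel
theorem len4 : pts4.length = 6 := by decide +kernel

/-- points of level 5 -/
def pts5 : List (Fin 7 → F3) := [![0, 0, 1, 0, 0, 0, 0],
  ![0, 0, 1, 1, 0, 1, 2],
  ![0, 0, 1, 2, 0, 1, 1]]
/-- parents of level 5 -/
def par5 : List ℕ := [0, 0, 1]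
/-- generators of level 5 -/
def gen5 : List Gen := [.a, .c, .b]
/-- allowed generators of level 5 -/
def lv5 : List Gen := [.b, .c]
theorem chk5 : ∀ i < 3, 0 < i → par5.getD i 0 < i ∧ gen5.getD i .a ∈ lv5 ∧
    (rM (gen5.getD i .a)).mulVec (pts5.getD (par5.getD i 0) 0) = pts5.getD i 0 := by decide +kernel
theorem nd5 : (pts5.map vcode).Nodup := by decide +kernel
theorem len5 : pts5.length = 3 := by decide +kernel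

/-- points of level 6 -/
def pts6 : List (Fin 7 → F3) := [![0, 0, 0, 0, 0, 0, 1],
  ![0, 0, 0, 1, 0, 0, 0]]
/-- parents of level 6 -/
def par6 : List ℕ := [0, 0]
/-- generators of level 6 -/
def gen6 : List Gen := [.a, .b]
/-- allowed generators of level 6 -/
def lv6 : List Gen := [.b]
theorem chk6 : ∀ i < 2, 0 < i → par6.getD i 0 < i ∧ gen6.getD i .a ∈ lv6 ∧
    (rM (gen6.getD i .a)).mulVec (pts6.getD (par6.getD i 0) 0) = pts6.getD i 0 := by decide +kernel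
theorem nd6 : (pts6.map vcode).Nodup := by decide +kernel
theorem len6 : pts6.length = 2 := by decide +kernel
end Cfsg.Agent.Helper92.O7
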