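import Mathlib
import Cfsg.Prelude.Def_Spor_Fi22
import Cfsg.Prelude.Def_Classical
import Cfsg.Agent.Lib.Lead.IsoReindex

/-!
# Definitions for S1686: the eight reflections of `O_7(3)` on the `Y_{232}` diagram

Index type `Fin 7` (position `0` is the anisotropic coordinate, `1,2,3` the `x_i`, `4,5,6` the
`y_i`); `Q7 v = v 0 ^ 2 + v 1 * v 4 + v 2 * v 5 + v 3 * v 6`.  `rM s` is the reflection in the root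
`rootV s` (all roots have `Q7 = 2`), `mM s = - rM s`.
-/

set_option autoImplicit false

namespace Cfsg.Agent.Helper92.O7

open Cfsg.Spor.Fi22 (Gen)

/-- the field with three elements -/
abbrev F3 : Type := ZMod 3

/-- the index type of the frozen form -/
abbrev I7 : Type := Unit ⊕ (Fin 3 ⊕ Fin 3)

/-- explicit numbering of the index type -/
def e7 : I7 ≃ Fin 7 where
  toFun := fun x => match x with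
    | .inl _ => 0
    | .inr (.inl i) => ⟨i.val + 1, by omega⟩
    | .inr (.inr i) => ⟨i.val + 4, by omega⟩
  invFun := fun k =>
    if k.val = 0 then .inl ()
    else if h : k.val ≤ 3 then .inr (.inl ⟨k.val - 1, by omega⟩)
    else .inr (.inr ⟨k.val - 4, by omega⟩)
  left_inv := by
    rintro (_ | i | i)
    · rfl
    · fin_cases i <;> rfl
    · fin_cases i <;> rfl
  right_inv := by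
    intro k
    fin_cases k <;> rfl

/-- the frozen form transported to `Fin 7` -/
def Q7 : (Fin 7 → F3) → F3 := Cfsg.Agent.Lead.IsoReindex.reQ e7 (Cfsg.quadFormOdd 3 F3)

theorem Q7_apply (v : Fin 7 → F3) :
    Q7 v = v 0 ^ 2 + v 1 * v 4 + v 2 * v 5 + v 3 * v 6 := by
  unfold Q7 Cfsg.Agent.Lead.IsoReindex.reQ Cfsg.quadFormOdd
  simp only [Fin.sum_univ_succ, Fin.sum_univ_zero, Function.comp]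
  simp only [add_zero, add_assoc]
  rfl

/-- the isometry groups of the two forms are isomorphic -/
noncomputable def isoQ7 :
    ↥(Cfsg.isometryGroup F3 (Cfsg.quadFormOdd 3 F3)) ≃* ↥(Cfsg.isometryGroup F3 Q7) :=
  Cfsg.Agent.Lead.IsoReindex.isoReindex e7 (Cfsg.quadFormOdd 3 F3)

/-- the eight roots (the generator `a` is not used) -/
def rootV : Gen → Fin 7 → F3
  | .a => ![0, 0, 0, 0, 0, 0, 0]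
  | .b => ![0, 0, 0, 1, 0, 0, 2]
  | .c => ![0, 0, 0, 1, 0, 1, 2]
  | .d => ![0, 0, 1, 0, 0, 2, 0]
  | .e => ![0, 1, 0, 0, 2, 1, 0]
  | .f => ![1, 0, 0, 1, 1, 0, 1]
  | .g => ![0, 2, 0, 1, 2, 0, 1]
  | .h => ![0, 1, 0, 1, 1, 1, 1]
  | .i => ![0, 1, 0, 1, 1, 0, 1]

/-- the reflections in the roots (`a` goes to the identity) -/
def rM : Gen → Matrix (Fin 7) (Fin 7) F3
  | .a => !![1, 0, 0, 0, 0, 0, 0; 0, 1, 0, 0, 0, 0, 0; 0, 0, 1, 0, 0, 0, 0; 0, 0, 0, 1, 0, 0, 0; 0, 0, 0, 0, 1, 0, 0; 0, 0, 0, 0, 0, 1, 0; 0, 0, 0, 0, 0, 0, 1]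
  | .b => !![1, 0, 0, 0, 0, 0, 0; 0, 1, 0, 0, 0, 0, 0; 0, 0, 1, 0, 0, 0, 0; 0, 0, 0, 0, 0, 0, 1; 0, 0, 0, 0, 1, 0, 0; 0, 0, 0, 0, 0, 1, 0; 0, 0, 0, 1, 0, 0, 0]
  | .c => !![1, 0, 0, 0, 0, 0, 0; 0, 1, 0, 0, 0, 0, 0; 0, 0, 1, 0, 0, 0, 0; 0, 0, 1, 0, 0, 0, 1; 0, 0, 0, 0, 1, 0, 0; 0, 0, 1, 2, 0, 1, 1; 0, 0, 2, 1, 0, 0, 0]
  | .d => !![1, 0, 0, 0, 0, 0, 0; 0, 1, 0, 0, 0, 0, 0; 0, 0, 0, 0, 0, 1, 0; 0, 0, 0, 1, 0, 0, 0; 0, 0, 0, 0, 1, 0, 0; 0, 0, 1, 0, 0, 0, 0; 0, 0, 0, 0, 0, 0, 1]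
  | .e => !![1, 0, 0, 0, 0, 0, 0; 0, 0, 1, 0, 1, 0, 0; 0, 0, 1, 0, 0, 0, 0; 0, 0, 0, 1, 0, 0, 0; 0, 1, 2, 0, 0, 0, 0; 0, 2, 1, 0, 1, 1, 0; 0, 0, 0, 0, 0, 0, 1]
  | .f => !![0, 1, 0, 1, 0, 0, 1; 0, 1, 0, 0, 0, 0, 0; 0, 0, 1, 0, 0, 0, 0; 2, 1, 0, 2, 0, 0, 1; 2, 1, 0, 1, 1, 0, 1; 0, 0, 0, 0, 0, 1, 0; 2, 1, 0, 1, 0, 0, 2]
  | .g => !![1, 0, 0, 0, 0, 0, 0; 0, 2, 0, 2, 1, 0, 2; 0, 0, 1, 0, 0, 0, 0; 0, 2, 0, 2, 2, 0, 1; 0, 1, 0, 2, 2, 0, 2; 0, 0, 0, 0, 0, 1, 0; 0, 2, 0, 1, 2, 0, 2]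
  | .h => !![1, 0, 0, 0, 0, 0, 0; 0, 2, 1, 1, 1, 0, 1; 0, 0, 1, 0, 0, 0, 0; 0, 1, 1, 2, 1, 0, 1; 0, 1, 1, 1, 2, 0, 1; 0, 1, 1, 1, 1, 1, 1; 0, 1, 1, 1, 1, 0, 2]
  | .i => !![1, 0, 0, 0, 0, 0, 0; 0, 2, 0, 1, 1, 0, 1; 0, 0, 1, 0, 0, 0, 0; 0, 1, 0, 2, 1, 0, 1; 0, 1, 0, 1, 2, 0, 1; 0, 0, 0, 0, 0, 1, 0; 0, 1, 0, 1, 1, 0, 2]

/-- the negated reflections (`a` goes to the identity) -/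
def mM : Gen → Matrix (Fin 7) (Fin 7) F3
  | .a => !![1, 0, 0, 0, 0, 0, 0; 0, 1, 0, 0, 0, 0, 0; 0, 0, 1, 0, 0, 0, 0; 0, 0, 0, 1, 0, 0, 0; 0, 0, 0, 0, 1, 0, 0; 0, 0, 0, 0, 0, 1, 0; 0, 0, 0, 0, 0, 0, 1]
  | .b => !![2, 0, 0, 0, 0, 0, 0; 0, 2, 0, 0, 0, 0, 0; 0, 0, 2, 0, 0, 0, 0; 0, 0, 0, 0, 0, 0, 2; 0, 0, 0, 0, 2, 0, 0; 0, 0, 0, 0, 0, 2, 0; 0, 0, 0, 2, 0, 0, 0]
  | .c => !![2, 0, 0, 0, 0, 0, 0; 0, 2, 0, 0, 0, 0, 0; 0, 0, 2, 0, 0, 0, 0; 0, 0, 2, 0, 0, 0, 2; 0, 0, 0, 0, 2, 0, 0; 0, 0, 2, 1, 0, 2, 2; 0, 0, 1, 2, 0, 0, 0]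
  | .d => !![2, 0, 0, 0, 0, 0, 0; 0, 2, 0, 0, 0, 0, 0; 0, 0, 0, 0, 0, 2, 0; 0, 0, 0, 2, 0, 0, 0; 0, 0, 0, 0, 2, 0, 0; 0, 0, 2, 0, 0, 0, 0; 0, 0, 0, 0, 0, 0, 2]
  | .e => !![2, 0, 0, 0, 0, 0, 0; 0, 0, 2, 0, 2, 0, 0; 0, 0, 2, 0, 0, 0, 0; 0, 0, 0, 2, 0, 0, 0; 0, 2, 1, 0, 0, 0, 0; 0, 1, 2, 0, 2, 2, 0; 0, 0, 0, 0, 0, 0, 2]
  | .f => !![0, 2, 0, 2, 0, 0, 2; 0, 2, 0, 0, 0, 0, 0; 0, 0, 2, 0, 0, 0, 0; 1, 2, 0, 1, 0, 0, 2; 1, 2, 0, 2, 2, 0, 2; 0, 0, 0, 0, 0, 2, 0; 1, 2, 0, 2, 0, 0, 1]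
  | .g => !![2, 0, 0, 0, 0, 0, 0; 0, 1, 0, 1, 2, 0, 1; 0, 0, 2, 0, 0, 0, 0; 0, 1, 0, 1, 1, 0, 2; 0, 2, 0, 1, 1, 0, 1; 0, 0, 0, 0, 0, 2, 0; 0, 1, 0, 2, 1, 0, 1]
  | .h => !![2, 0, 0, 0, 0, 0, 0; 0, 1, 2, 2, 2, 0, 2; 0, 0, 2, 0, 0, 0, 0; 0, 2, 2, 1, 2, 0, 2; 0, 2, 2, 2, 1, 0, 2; 0, 2, 2, 2, 2, 2, 2; 0, 2, 2, 2, 2, 0, 1]
  | .i => !![2, 0, 0, 0, 0, 0, 0; 0, 1, 0, 2, 2, 0, 2; 0, 0, 2, 0, 0, 0, 0; 0, 2, 0, 1, 2, 0, 2; 0, 2, 0, 2, 1, 0, 2; 0, 0, 0, 0, 0, 2, 0; 0, 2, 0, 2, 2, 0, 1]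

end Cfsg.Agent.Helper92.O7
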