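import Cfsg.Agent.Lib.Helper92.O7Defs
import Cfsg.Agent.Lib.Helper27.Fi22.A1.Data

/-!
# The relators of helper27's tower level `A1` hold for the negated reflections `mM` (S1686)

Every relator is multiplied out from the right through literal checkpoints, each checked by the kernel.
-/

set_option autoImplicit false
set_option maxRecDepth 100000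
set_option linter.all false

namespace Cfsg.Agent.Helper92.O7

open Cfsg.Spor.Fi22 (Gen)
open Cfsg.Agent.Helper27.Fi22TC


theorem rel_R37 : ((A1.R37).map fun l => mM l.1).prod = 1 := by
  show mM .d * (mM .c * (mM .b * (mM .d * (mM .e * (mM .f * (mM .d * (mM .h * (mM .i * (mM .d * (mM .c * (mM .b * (mM .d * (mM .e * (mM .f * (mM .d * (mM .h * (mM .i * (mM .d * (mM .c * (mM .b * (mM .d * (mM .e * (mM .f * (mM .d * (mM .h * (mM .i * (mM .d * (mM .c * (mM .b * (mM .d * (mM .e * (mM .f * (mM .d * (mM .h * (mM .i * (mM .d * (mM .c * (mM .b * (mM .d * (mM .e * (mM .f * (mM .d * (mM .h * (mM .i * (mM .d * (mM .c * (mM .b * (mM .d * (mM .e * (mM .f * (mM .d * (mM .h * (mM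 .i * (mM .d * (mM .c * (mM .b * (mM .d * (mM .e * (mM .f * (mM .d * (mM .h * (mM .i * (mM .d * (mM .c * (mM .b * (mM .d * (mM .e * (mM .f * (mM .d * (mM .h * (mM .i * (mM .d * (mM .c * (mM .b * (mM .d * (mM .e * (mM .f * (mM .d * (mM .h * (mM .i * (mM .d * (mM .c * (mM .b * (mM .d * (mM .e * (mM .f * (mM .d * (mM .h * (mM .i * 1))))))))))))))))))))))))))))))))))))))))))))))))))))))))))))))))))))))))))))))))))))))))) = 1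
  have c88 : mM .h * (mM .i : Matrix (Fin 7) (Fin 7) F3) = !![1, 0, 0, 0, 0, 0, 0; 0, 1, 1, 0, 0, 0, 0; 0, 0, 1, 0, 0, 0, 0; 0, 0, 1, 1, 0, 0, 0; 0, 0, 1, 0, 1, 0, 0; 0, 2, 1, 2, 2, 1, 2; 0, 0, 1, 0, 0, 0, 1] := by decide +kernel
  have c87 : mM .d * (!![1, 0, 0, 0, 0, 0, 0; 0, 1, 1, 0, 0, 0, 0; 0, 0, 1, 0, 0, 0, 0; 0, 0, 1, 1, 0, 0, 0; 0, 0, 1, 0, 1, 0, 0; 0, 2, 1, 2, 2, 1, 2; 0, 0, 1, 0, 0, 0, 1] : Matrix (Fin 7) (Fin 7) F3) = !![2, 0, 0, 0, 0, 0, 0; 0, 2, 2, 0, 0, 0, 0; 0, 1, 2, 1, 1, 2, 1; 0, 0, 2, 2, 0, 0, 0; 0, 0, 2, 0, 2, 0, 0; 0, 0, 2, 0, 0, 0, 0; 0, 0, 2, 0, 0, 0, 2] := by decide +kernel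
  have c86 : mM .f * (!![2, 0, 0, 0, 0, 0, 0; 0, 2, 2, 0, 0, 0, 0; 0, 1, 2, 1, 1, 2, 1; 0, 0, 2, 2, 0, 0, 0; 0, 0, 2, 0, 2, 0, 0; 0, 0, 2, 0, 0, 0, 0; 0, 0, 2, 0, 0, 0, 2] : Matrix (Fin 7) (Fin 7) F3) = !![0, 1, 0, 1, 0, 0, 1; 0, 1, 1, 0, 0, 0, 0; 0, 2, 1, 2, 2, 1, 2; 2, 1, 1, 2, 0, 0, 1; 2, 1, 1, 1, 1, 0, 1; 0, 0, 1, 0, 0, 0, 0; 2, 1, 1, 1, 0, 0, 2] := by decide +kernel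
  have c85 : mM .e * (!![0, 1, 0, 1, 0, 0, 1; 0, 1, 1, 0, 0, 0, 0; 0, 2, 1, 2, 2, 1, 2; 2, 1, 1, 2, 0, 0, 1; 2, 1, 1, 1, 1, 0, 1; 0, 0, 1, 0, 0, 0, 0; 2, 1, 1, 1, 0, 0, 2] : Matrix (Fin 7) (Fin 7) F3) = !![0, 2, 0, 2, 0, 0, 2; 1, 0, 1, 0, 0, 2, 0; 0, 1, 2, 1, 1, 2, 1; 1, 2, 2, 1, 0, 0, 2; 0, 1, 0, 2, 2, 1, 2; 1, 1, 1, 0, 0, 2, 0; 1, 2, 2, 2, 0, 0, 1] := by decide +kernel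
  have c84 : mM .d * (!![0, 2, 0, 2, 0, 0, 2; 1, 0, 1, 0, 0, 2, 0; 0, 1, 2, 1, 1, 2, 1; 1, 2, 2, 1, 0, 0, 2; 0, 1, 0, 2, 2, 1, 2; 1, 1, 1, 0, 0, 2, 0; 1, 2, 2, 2, 0, 0, 1] : Matrix (Fin 7) (Fin 7) F3) = !![0, 1, 0, 1, 0, 0, 1; 2, 0, 2, 0, 0, 1, 0; 2, 2, 2, 0, 0, 1, 0; 2, 1, 1, 2, 0, 0, 1; 0, 2, 0, 1, 1, 2, 1; 0, 2, 1, 2, 2, 1, 2; 2, 1, 1, 1, 0, 0, 2] := by decide +kernel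
  have c83 : mM .b * (!![0, 1, 0, 1, 0, 0, 1; 2, 0, 2, 0, 0, 1, 0; 2, 2, 2, 0, 0, 1, 0; 2, 1, 1, 2, 0, 0, 1; 0, 2, 0, 1, 1, 2, 1; 0, 2, 1, 2, 2, 1, 2; 2, 1, 1, 1, 0, 0, 2] : Matrix (Fin 7) (Fin 7) F3) = !![0, 2, 0, 2, 0, 0, 2; 1, 0, 1, 0, 0, 2, 0; 1, 1, 1, 0, 0, 2, 0; 1, 2, 2, 2, 0, 0, 1; 0, 1, 0, 2, 2, 1, 2; 0, 1, 2, 1, 1, 2, 1; 1, 2, 2, 1, 0, 0, 2] := by decide +kernel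
  have c82 : mM .c * (!![0, 2, 0, 2, 0, 0, 2; 1, 0, 1, 0, 0, 2, 0; 1, 1, 1, 0, 0, 2, 0; 1, 2, 2, 2, 0, 0, 1; 0, 1, 0, 2, 2, 1, 2; 0, 1, 2, 1, 1, 2, 1; 1, 2, 2, 1, 0, 0, 2] : Matrix (Fin 7) (Fin 7) F3) = !![0, 1, 0, 1, 0, 0, 1; 2, 0, 2, 0, 0, 1, 0; 2, 2, 2, 0, 0, 1, 0; 1, 0, 0, 2, 0, 1, 1; 0, 2, 0, 1, 1, 2, 1; 2, 1, 0, 0, 2, 2, 1; 0, 2, 2, 1, 0, 2, 2] := by decide +kernel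
  have c81 : mM .d * (!![0, 1, 0, 1, 0, 0, 1; 2, 0, 2, 0, 0, 1, 0; 2, 2, 2, 0, 0, 1, 0; 1, 0, 0, 2, 0, 1, 1; 0, 2, 0, 1, 1, 2, 1; 2, 1, 0, 0, 2, 2, 1; 0, 2, 2, 1, 0, 2, 2] : Matrix (Fin 7) (Fin 7) F3) = !![0, 2, 0, 2, 0, 0, 2; 1, 0, 1, 0, 0, 2, 0; 1, 2, 0, 0, 1, 1, 2; 2, 0, 0, 1, 0, 2, 2; 0, 1, 0, 2, 2, 1, 2; 1, 1, 1, 0, 0, 2, 0; 0, 1, 1, 2, 0, 1, 1] := by decide +kernel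
  have c80 : mM .i * (!![0, 2, 0, 2, 0, 0, 2; 1, 0, 1, 0, 0, 2, 0; 1, 2, 0, 0, 1, 1, 2; 2, 0, 0, 1, 0, 2, 2; 0, 1, 0, 2, 2, 1, 2; 1, 1, 1, 0, 0, 2, 0; 0, 1, 1, 2, 0, 1, 1] : Matrix (Fin 7) (Fin 7) F3) = !![0, 1, 0, 1, 0, 0, 1; 2, 1, 0, 1, 1, 1, 1; 2, 1, 0, 0, 2, 2, 1; 1, 1, 1, 0, 1, 1, 2; 0, 0, 1, 2, 2, 2, 2; 2, 2, 2, 0, 0, 1, 0; 0, 0, 0, 2, 1, 2, 0] := by decide +kernel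
  have c79 : mM .h * (!![0, 1, 0, 1, 0, 0, 1; 2, 1, 0, 1, 1, 1, 1; 2, 1, 0, 0, 2, 2, 1; 1, 1, 1, 0, 1, 1, 2; 0, 0, 1, 2, 2, 2, 2; 2, 2, 2, 0, 0, 1, 0; 0, 0, 0, 2, 1, 2, 0] : Matrix (Fin 7) (Fin 7) F3) = !![0, 2, 0, 2, 0, 0, 2; 2, 2, 1, 0, 1, 0, 2; 1, 2, 0, 0, 1, 1, 2; 0, 2, 0, 1, 1, 0, 1; 1, 0, 0, 2, 0, 2, 1; 2, 1, 2, 1, 2, 0, 0; 1, 0, 1, 2, 1, 2, 0] := by decide +kernel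
  have c78 : mM .d * (!![0, 2, 0, 2, 0, 0, 2; 2, 2, 1, 0, 1, 0, 2; 1, 2, 0, 0, 1, 1, 2; 0, 2, 0, 1, 1, 0, 1; 1, 0, 0, 2, 0, 2, 1; 2, 1, 2, 1, 2, 0, 0; 1, 0, 1, 2, 1, 2, 0] : Matrix (Fin 7) (Fin 7) F3) = !![0, 1, 0, 1, 0, 0, 1; 1, 1, 2, 0, 2, 0, 1; 1, 2, 1, 2, 1, 0, 0; 0, 1, 0, 2, 2, 0, 2; 2, 0, 0, 1, 0, 1, 2; 2, 1, 0, 0, 2, 2, 1; 2, 0, 2, 1, 2, 1, 0] := by decide +kernel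
  have c77 : mM .f * (!![0, 1, 0, 1, 0, 0, 1; 1, 1, 2, 0, 2, 0, 1; 1, 2, 1, 2, 1, 0, 0; 0, 1, 0, 2, 2, 0, 2; 2, 0, 0, 1, 0, 1, 2; 2, 1, 0, 0, 2, 2, 1; 2, 0, 2, 1, 2, 1, 0] : Matrix (Fin 7) (Fin 7) F3) = !![0, 1, 2, 0, 0, 2, 0; 2, 2, 1, 0, 1, 0, 2; 2, 1, 2, 1, 2, 0, 0; 0, 1, 2, 2, 1, 2, 2; 1, 2, 2, 0, 0, 1, 2; 1, 2, 0, 0, 1, 1, 2; 1, 2, 0, 0, 1, 1, 1] := by decide +kernel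
  have c76 : mM .e * (!![0, 1, 2, 0, 0, 2, 0; 2, 2, 1, 0, 1, 0, 2; 2, 1, 2, 1, 2, 0, 0; 0, 1, 2, 2, 1, 2, 2; 1, 2, 2, 0, 0, 1, 2; 1, 2, 0, 0, 1, 1, 2; 1, 2, 0, 0, 1, 1, 1] : Matrix (Fin 7) (Fin 7) F3) = !![0, 2, 1, 0, 0, 1, 0; 0, 0, 2, 2, 1, 2, 1; 1, 2, 1, 2, 1, 0, 0; 0, 2, 1, 1, 2, 1, 1; 0, 2, 1, 1, 1, 0, 1; 1, 0, 0, 2, 1, 1, 1; 2, 1, 0, 0, 2, 2, 2] := by decide +kernel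
  have c75 : mM .d * (!![0, 2, 1, 0, 0, 1, 0; 0, 0, 2, 2, 1, 2, 1; 1, 2, 1, 2, 1, 0, 0; 0, 2, 1, 1, 2, 1, 1; 0, 2, 1, 1, 1, 0, 1; 1, 0, 0, 2, 1, 1, 1; 2, 1, 0, 0, 2, 2, 2] : Matrix (Fin 7) (Fin 7) F3) = !![0, 1, 2, 0, 0, 2, 0; 0, 0, 1, 1, 2, 1, 2; 2, 0, 0, 1, 2, 2, 2; 0, 1, 2, 2, 1, 2, 2; 0, 1, 2, 2, 2, 0, 2; 2, 1, 2, 1, 2, 0, 0; 1, 2, 0, 0, 1, 1, 1] := by decide +kernel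
  have c74 : mM .b * (!![0, 1, 2, 0, 0, 2, 0; 0, 0, 1, 1, 2, 1, 2; 2, 0, 0, 1, 2, 2, 2; 0, 1, 2, 2, 1, 2, 2; 0, 1, 2, 2, 2, 0, 2; 2, 1, 2, 1, 2, 0, 0; 1, 2, 0, 0, 1, 1, 1] : Matrix (Fin 7) (Fin 7) F3) = !![0, 2, 1, 0, 0, 1, 0; 0, 0, 2, 2, 1, 2, 1; 1, 0, 0, 2, 1, 1, 1; 2, 1, 0, 0, 2, 2, 2; 0, 2, 1, 1, 1, 0, 1; 1, 2, 1, 2, 1, 0, 0; 0, 2, 1, 1, 2, 1, 1] := by decide +kernel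
  have c73 : mM .c * (!![0, 2, 1, 0, 0, 1, 0; 0, 0, 2, 2, 1, 2, 1; 1, 0, 0, 2, 1, 1, 1; 2, 1, 0, 0, 2, 2, 2; 0, 2, 1, 1, 1, 0, 1; 1, 2, 1, 2, 1, 0, 0; 0, 2, 1, 1, 2, 1, 1] : Matrix (Fin 7) (Fin 7) F3) = !![0, 1, 2, 0, 0, 2, 0; 0, 0, 1, 1, 2, 1, 2; 2, 0, 0, 1, 2, 2, 2; 2, 1, 2, 0, 0, 1, 1; 0, 1, 2, 2, 2, 0, 2; 0, 0, 1, 1, 1, 0, 0; 2, 2, 0, 2, 2, 2, 2] := by decide +kernel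
  have c72 : mM .d * (!![0, 1, 2, 0, 0, 2, 0; 0, 0, 1, 1, 2, 1, 2; 2, 0, 0, 1, 2, 2, 2; 2, 1, 2, 0, 0, 1, 1; 0, 1, 2, 2, 2, 0, 2; 0, 0, 1, 1, 1, 0, 0; 2, 2, 0, 2, 2, 2, 2] : Matrix (Fin 7) (Fin 7) F3) = !![0, 2, 1, 0, 0, 1, 0; 0, 0, 2, 2, 1, 2, 1; 0, 0, 2, 2, 2, 0, 0; 1, 2, 1, 0, 0, 2, 2; 0, 2, 1, 1, 1, 0, 1; 1, 0, 0, 2, 1, 1, 1; 1, 1, 0, 1, 1, 1, 1] := by decide +kernel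
  have c71 : mM .i * (!![0, 2, 1, 0, 0, 1, 0; 0, 0, 2, 2, 1, 2, 1; 0, 0, 2, 2, 2, 0, 0; 1, 2, 1, 0, 0, 2, 2; 0, 2, 1, 1, 1, 0, 1; 1, 0, 0, 2, 1, 1, 1; 1, 1, 0, 1, 1, 1, 1] : Matrix (Fin 7) (Fin 7) F3) = !![0, 1, 2, 0, 0, 2, 0; 1, 1, 0, 0, 2, 2, 0; 0, 0, 1, 1, 1, 0, 0; 0, 2, 1, 2, 0, 2, 2; 1, 2, 1, 1, 2, 1, 0; 2, 0, 0, 1, 2, 2, 2; 0, 0, 2, 1, 2, 0, 0] := by decide +kernel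
  have c70 : mM .h * (!![0, 1, 2, 0, 0, 2, 0; 1, 1, 0, 0, 2, 2, 0; 0, 0, 1, 1, 1, 0, 0; 0, 2, 1, 2, 0, 2, 2; 1, 2, 1, 1, 2, 1, 0; 2, 0, 0, 1, 2, 2, 2; 0, 0, 2, 1, 2, 0, 0] : Matrix (Fin 7) (Fin 7) F3) = !![0, 2, 1, 0, 0, 1, 0; 0, 0, 1, 1, 0, 2, 1; 0, 0, 2, 2, 2, 0, 0; 1, 2, 0, 2, 2, 2, 2; 0, 2, 0, 0, 0, 0, 1; 2, 1, 1, 0, 0, 2, 2; 1, 1, 2, 0, 0, 1, 1] := by decide +kernel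
  have c69 : mM .d * (!![0, 2, 1, 0, 0, 1, 0; 0, 0, 1, 1, 0, 2, 1; 0, 0, 2, 2, 2, 0, 0; 1, 2, 0, 2, 2, 2, 2; 0, 2, 0, 0, 0, 0, 1; 2, 1, 1, 0, 0, 2, 2; 1, 1, 2, 0, 0, 1, 1] : Matrix (Fin 7) (Fin 7) F3) = !![0, 1, 2, 0, 0, 2, 0; 0, 0, 2, 2, 0, 1, 2; 1, 2, 2, 0, 0, 1, 1; 2, 1, 0, 1, 1, 1, 1; 0, 1, 0, 0, 0, 0, 2; 0, 0, 1, 1, 1, 0, 0; 2, 2, 1, 0, 0, 2, 2] := by decide +kernel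
  have c68 : mM .f * (!![0, 1, 2, 0, 0, 2, 0; 0, 0, 2, 2, 0, 1, 2; 1, 2, 2, 0, 0, 1, 1; 2, 1, 0, 1, 1, 1, 1; 0, 1, 0, 0, 0, 0, 2; 0, 0, 1, 1, 1, 0, 0; 2, 2, 1, 0, 0, 2, 2] : Matrix (Fin 7) (Fin 7) F3) = !![2, 0, 0, 0, 2, 2, 1; 0, 0, 1, 1, 0, 2, 1; 2, 1, 1, 0, 0, 2, 2; 0, 0, 2, 2, 1, 0, 0; 2, 0, 2, 0, 2, 1, 2; 0, 0, 2, 2, 2, 0, 0; 0, 2, 1, 0, 2, 2, 2] := by decide +kernel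
  have c67 : mM .e * (!![2, 0, 0, 0, 2, 2, 1; 0, 0, 1, 1, 0, 2, 1; 2, 1, 1, 0, 0, 2, 2; 0, 0, 2, 2, 1, 0, 0; 2, 0, 2, 0, 2, 1, 2; 0, 0, 2, 2, 2, 0, 0; 0, 2, 1, 0, 2, 2, 2] : Matrix (Fin 7) (Fin 7) F3) = !![1, 0, 0, 0, 1, 1, 2; 2, 2, 0, 0, 1, 0, 2; 1, 2, 2, 0, 0, 1, 1; 0, 0, 1, 1, 2, 0, 0; 2, 1, 0, 2, 0, 0, 1; 2, 2, 2, 2, 2, 2, 0; 0, 1, 2, 0, 1, 1, 1] := by decide +kernel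
  have c66 : mM .d * (!![1, 0, 0, 0, 1, 1, 2; 2, 2, 0, 0, 1, 0, 2; 1, 2, 2, 0, 0, 1, 1; 0, 0, 1, 1, 2, 0, 0; 2, 1, 0, 2, 0, 0, 1; 2, 2, 2, 2, 2, 2, 0; 0, 1, 2, 0, 1, 1, 1] : Matrix (Fin 7) (Fin 7) F3) = !![2, 0, 0, 0, 2, 2, 1; 1, 1, 0, 0, 2, 0, 1; 1, 1, 1, 1, 1, 1, 0; 0, 0, 2, 2, 1, 0, 0; 1, 2, 0, 1, 0, 0, 2; 2, 1, 1, 0, 0, 2, 2; 0, 2, 1, 0, 2, 2, 2] := by decide +kernel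
  have c65 : mM .b * (!![2, 0, 0, 0, 2, 2, 1; 1, 1, 0, 0, 2, 0, 1; 1, 1, 1, 1, 1, 1, 0; 0, 0, 2, 2, 1, 0, 0; 1, 2, 0, 1, 0, 0, 2; 2, 1, 1, 0, 0, 2, 2; 0, 2, 1, 0, 2, 2, 2] : Matrix (Fin 7) (Fin 7) F3) = !![1, 0, 0, 0, 1, 1, 2; 2, 2, 0, 0, 1, 0, 2; 2, 2, 2, 2, 2, 2, 0; 0, 1, 2, 0, 1, 1, 1; 2, 1, 0, 2, 0, 0, 1; 1, 2, 2, 0, 0, 1, 1; 0, 0, 1, 1, 2, 0, 0] := by decide +kernel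
  have c64 : mM .c * (!![1, 0, 0, 0, 1, 1, 2; 2, 2, 0, 0, 1, 0, 2; 2, 2, 2, 2, 2, 2, 0; 0, 1, 2, 0, 1, 1, 1; 2, 1, 0, 2, 0, 0, 1; 1, 2, 2, 0, 0, 1, 1; 0, 0, 1, 1, 2, 0, 0] : Matrix (Fin 7) (Fin 7) F3) = !![2, 0, 0, 0, 2, 2, 1; 1, 1, 0, 0, 2, 0, 1; 1, 1, 1, 1, 1, 1, 0; 1, 1, 0, 0, 2, 1, 0; 1, 2, 0, 1, 0, 0, 2; 0, 0, 0, 0, 0, 1, 0; 2, 1, 0, 2, 1, 1, 2] := by decide +kernel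
  have c63 : mM .d * (!![2, 0, 0, 0, 2, 2, 1; 1, 1, 0, 0, 2, 0, 1; 1, 1, 1, 1, 1, 1, 0; 1, 1, 0, 0, 2, 1, 0; 1, 2, 0, 1, 0, 0, 2; 0, 0, 0, 0, 0, 1, 0; 2, 1, 0, 2, 1, 1, 2] : Matrix (Fin 7) (Fin 7) F3) = !![1, 0, 0, 0, 1, 1, 2; 2, 2, 0, 0, 1, 0, 2; 0, 0, 0, 0, 0, 2, 0; 2, 2, 0, 0, 1, 2, 0; 2, 1, 0, 2, 0, 0, 1; 2, 2, 2, 2, 2, 2, 0; 1, 2, 0, 1, 2, 2, 1] := by decide +kernel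
  have c62 : mM .i * (!![1, 0, 0, 0, 1, 1, 2; 2, 2, 0, 0, 1, 0, 2; 0, 0, 0, 0, 0, 2, 0; 2, 2, 0, 0, 1, 2, 0; 2, 1, 0, 2, 0, 0, 1; 2, 2, 2, 2, 2, 2, 0; 1, 2, 0, 1, 2, 2, 1] : Matrix (Fin 7) (Fin 7) F3) = !![2, 0, 0, 0, 2, 2, 1; 0, 0, 0, 0, 1, 2, 0; 0, 0, 0, 0, 0, 1, 0; 0, 0, 0, 0, 1, 0, 2; 0, 1, 0, 1, 2, 2, 1; 1, 1, 1, 1, 1, 1, 0; 1, 0, 0, 2, 0, 0, 1] := by decide +kernel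
  have c61 : mM .h * (!![2, 0, 0, 0, 2, 2, 1; 0, 0, 0, 0, 1, 2, 0; 0, 0, 0, 0, 0, 1, 0; 0, 0, 0, 0, 1, 0, 2; 0, 1, 0, 1, 2, 2, 1; 1, 1, 1, 1, 1, 1, 0; 1, 0, 0, 2, 0, 0, 1] : Matrix (Fin 7) (Fin 7) F3) = !![1, 0, 0, 0, 1, 1, 2; 2, 2, 0, 0, 1, 2, 2; 0, 0, 0, 0, 0, 2, 0; 2, 2, 0, 0, 1, 1, 0; 2, 1, 0, 2, 0, 2, 1; 1, 1, 2, 2, 1, 0, 2; 1, 2, 0, 1, 2, 1, 1] := by decide +kernel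
  have c60 : mM .d * (!![1, 0, 0, 0, 1, 1, 2; 2, 2, 0, 0, 1, 2, 2; 0, 0, 0, 0, 0, 2, 0; 2, 2, 0, 0, 1, 1, 0; 2, 1, 0, 2, 0, 2, 1; 1, 1, 2, 2, 1, 0, 2; 1, 2, 0, 1, 2, 1, 1] : Matrix (Fin 7) (Fin 7) F3) = !![2, 0, 0, 0, 2, 2, 1; 1, 1, 0, 0, 2, 1, 1; 2, 2, 1, 1, 2, 0, 1; 1, 1, 0, 0, 2, 2, 0; 1, 2, 0, 1, 0, 1, 2; 0, 0, 0, 0, 0, 1, 0; 2, 1, 0, 2, 1, 2, 2] := by decide +kernel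
  have c59 : mM .f * (!![2, 0, 0, 0, 2, 2, 1; 1, 1, 0, 0, 2, 1, 1; 2, 2, 1, 1, 2, 0, 1; 1, 1, 0, 0, 2, 2, 0; 1, 2, 0, 1, 0, 1, 2; 0, 0, 0, 0, 0, 1, 0; 2, 1, 0, 2, 1, 2, 2] : Matrix (Fin 7) (Fin 7) F3) = !![2, 0, 0, 1, 1, 1, 0; 2, 2, 0, 0, 1, 2, 2; 1, 1, 2, 2, 1, 0, 2; 0, 2, 0, 1, 1, 1, 1; 0, 1, 0, 0, 0, 2, 2; 0, 0, 0, 0, 0, 2, 0; 2, 2, 0, 2, 2, 1, 2] := by decide +kernel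
  have c58 : mM .e * (!![2, 0, 0, 1, 1, 1, 0; 2, 2, 0, 0, 1, 2, 2; 1, 1, 2, 2, 1, 0, 2; 0, 2, 0, 1, 1, 1, 1; 0, 1, 0, 0, 0, 2, 2; 0, 0, 0, 0, 0, 2, 0; 2, 2, 0, 2, 2, 1, 2] : Matrix (Fin 7) (Fin 7) F3) = !![1, 0, 0, 2, 2, 2, 0; 2, 1, 1, 1, 2, 1, 2; 2, 2, 1, 1, 2, 0, 1; 0, 1, 0, 2, 2, 2, 2; 2, 2, 2, 2, 0, 1, 0; 1, 0, 1, 1, 0, 1, 1; 1, 1, 0, 1, 1, 2, 1] := by decide +kernel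
  have c57 : mM .d * (!![1, 0, 0, 2, 2, 2, 0; 2, 1, 1, 1, 2, 1, 2; 2, 2, 1, 1, 2, 0, 1; 0, 1, 0, 2, 2, 2, 2; 2, 2, 2, 2, 0, 1, 0; 1, 0, 1, 1, 0, 1, 1; 1, 1, 0, 1, 1, 2, 1] : Matrix (Fin 7) (Fin 7) F3) = !![2, 0, 0, 1, 1, 1, 0; 1, 2, 2, 2, 1, 2, 1; 2, 0, 2, 2, 0, 2, 2; 0, 2, 0, 1, 1, 1, 1; 1, 1, 1, 1, 0, 2, 0; 1, 1, 2, 2, 1, 0, 2; 2, 2, 0, 2, 2, 1, 2] := by decide +kernel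
  have c56 : mM .b * (!![2, 0, 0, 1, 1, 1, 0; 1, 2, 2, 2, 1, 2, 1; 2, 0, 2, 2, 0, 2, 2; 0, 2, 0, 1, 1, 1, 1; 1, 1, 1, 1, 0, 2, 0; 1, 1, 2, 2, 1, 0, 2; 2, 2, 0, 2, 2, 1, 2] : Matrix (Fin 7) (Fin 7) F3) = !![1, 0, 0, 2, 2, 2, 0; 2, 1, 1, 1, 2, 1, 2; 1, 0, 1, 1, 0, 1, 1; 1, 1, 0, 1, 1, 2, 1; 2, 2, 2, 2, 0, 1, 0; 2, 2, 1, 1, 2, 0, 1; 0, 1, 0, 2, 2, 2, 2] := by decide +kernel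
  have c55 : mM .c * (!![1, 0, 0, 2, 2, 2, 0; 2, 1, 1, 1, 2, 1, 2; 1, 0, 1, 1, 0, 1, 1; 1, 1, 0, 1, 1, 2, 1; 2, 2, 2, 2, 0, 1, 0; 2, 2, 1, 1, 2, 0, 1; 0, 1, 0, 2, 2, 2, 2] : Matrix (Fin 7) (Fin 7) F3) = !![2, 0, 0, 1, 1, 1, 0; 1, 2, 2, 2, 1, 2, 1; 2, 0, 2, 2, 0, 2, 2; 2, 2, 2, 0, 1, 0, 0; 1, 1, 1, 1, 0, 2, 0; 1, 1, 1, 0, 0, 2, 0; 0, 2, 1, 0, 2, 2, 0] := by decide +kernel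
  have c54 : mM .d * (!![2, 0, 0, 1, 1, 1, 0; 1, 2, 2, 2, 1, 2, 1; 2, 0, 2, 2, 0, 2, 2; 2, 2, 2, 0, 1, 0, 0; 1, 1, 1, 1, 0, 2, 0; 1, 1, 1, 0, 0, 2, 0; 0, 2, 1, 0, 2, 2, 0] : Matrix (Fin 7) (Fin 7) F3) = !![1, 0, 0, 2, 2, 2, 0; 2, 1, 1, 1, 2, 1, 2; 2, 2, 2, 0, 0, 1, 0; 1, 1, 1, 0, 2, 0, 0; 2, 2, 2, 2, 0, 1, 0; 1, 0, 1, 1, 0, 1, 1; 0, 1, 2, 0, 1, 1, 0] := by decide +kernel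
  have c53 : mM .i * (!![1, 0, 0, 2, 2, 2, 0; 2, 1, 1, 1, 2, 1, 2; 2, 2, 2, 0, 0, 1, 0; 1, 1, 1, 0, 2, 0, 0; 2, 2, 2, 2, 0, 1, 0; 1, 0, 1, 1, 0, 1, 1; 0, 1, 2, 0, 1, 1, 0] : Matrix (Fin 7) (Fin 7) F3) = !![2, 0, 0, 1, 1, 1, 0; 2, 0, 2, 2, 2, 2, 2; 1, 1, 1, 0, 0, 2, 0; 0, 0, 2, 0, 2, 0, 1; 2, 2, 1, 1, 1, 2, 1; 2, 0, 2, 2, 0, 2, 2; 1, 0, 1, 0, 0, 2, 1] := by decide +kernel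
  have c52 : mM .h * (!![2, 0, 0, 1, 1, 1, 0; 2, 0, 2, 2, 2, 2, 2; 1, 1, 1, 0, 0, 2, 0; 0, 0, 2, 0, 2, 0, 1; 2, 2, 1, 1, 1, 2, 1; 2, 0, 2, 2, 0, 2, 2; 1, 0, 1, 0, 0, 2, 1] : Matrix (Fin 7) (Fin 7) F3) = !![1, 0, 0, 2, 2, 2, 0; 1, 0, 0, 1, 2, 2, 2; 2, 2, 2, 0, 0, 1, 0; 0, 0, 0, 0, 2, 1, 0; 1, 1, 1, 2, 0, 2, 0; 1, 0, 0, 1, 1, 2, 2; 2, 0, 1, 0, 1, 2, 0] := by decide +kernel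
  have c51 : mM .d * (!![1, 0, 0, 2, 2, 2, 0; 1, 0, 0, 1, 2, 2, 2; 2, 2, 2, 0, 0, 1, 0; 0, 0, 0, 0, 2, 1, 0; 1, 1, 1, 2, 0, 2, 0; 1, 0, 0, 1, 1, 2, 2; 2, 0, 1, 0, 1, 2, 0] : Matrix (Fin 7) (Fin 7) F3) = !![2, 0, 0, 1, 1, 1, 0; 2, 0, 0, 2, 1, 1, 1; 2, 0, 0, 2, 2, 1, 1; 0, 0, 0, 0, 1, 2, 0; 2, 2, 2, 1, 0, 1, 0; 1, 1, 1, 0, 0, 2, 0; 1, 0, 2, 0, 2, 1, 0] := by decide +kernel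
  have c50 : mM .f * (!![2, 0, 0, 1, 1, 1, 0; 2, 0, 0, 2, 1, 1, 1; 2, 0, 0, 2, 2, 1, 1; 0, 0, 0, 0, 1, 2, 0; 2, 2, 2, 1, 0, 1, 0; 1, 1, 1, 0, 0, 2, 0; 1, 0, 2, 0, 2, 1, 0] : Matrix (Fin 7) (Fin 7) F3) = !![0, 0, 1, 1, 2, 2, 2; 1, 0, 0, 1, 2, 2, 2; 1, 0, 0, 1, 1, 2, 2; 2, 0, 1, 2, 2, 1, 2; 0, 1, 2, 1, 0, 2, 2; 2, 2, 2, 0, 0, 1, 0; 1, 0, 2, 2, 1, 2, 2] := by decide +kernel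
  have c49 : mM .e * (!![0, 0, 1, 1, 2, 2, 2; 1, 0, 0, 1, 2, 2, 2; 1, 0, 0, 1, 1, 2, 2; 2, 0, 1, 2, 2, 1, 2; 0, 1, 2, 1, 0, 2, 2; 2, 2, 2, 0, 0, 1, 0; 1, 0, 2, 2, 1, 2, 2] : Matrix (Fin 7) (Fin 7) F3) = !![0, 0, 2, 2, 1, 1, 1; 2, 2, 1, 1, 2, 2, 2; 2, 0, 0, 2, 2, 1, 1; 1, 0, 2, 1, 1, 2, 1; 0, 0, 0, 0, 2, 0, 0; 1, 0, 2, 2, 1, 0, 1; 2, 0, 1, 1, 2, 1, 1] := by decide +kernel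
  have c48 : mM .d * (!![0, 0, 2, 2, 1, 1, 1; 2, 2, 1, 1, 2, 2, 2; 2, 0, 0, 2, 2, 1, 1; 1, 0, 2, 1, 1, 2, 1; 0, 0, 0, 0, 2, 0, 0; 1, 0, 2, 2, 1, 0, 1; 2, 0, 1, 1, 2, 1, 1] : Matrix (Fin 7) (Fin 7) F3) = !![0, 0, 1, 1, 2, 2, 2; 1, 1, 2, 2, 1, 1, 1; 2, 0, 1, 1, 2, 0, 2; 2, 0, 1, 2, 2, 1, 2; 0, 0, 0, 0, 1, 0, 0; 1, 0, 0, 1, 1, 2, 2; 1, 0, 2, 2, 1, 2, 2] := by decide +kernel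
  have c47 : mM .b * (!![0, 0, 1, 1, 2, 2, 2; 1, 1, 2, 2, 1, 1, 1; 2, 0, 1, 1, 2, 0, 2; 2, 0, 1, 2, 2, 1, 2; 0, 0, 0, 0, 1, 0, 0; 1, 0, 0, 1, 1, 2, 2; 1, 0, 2, 2, 1, 2, 2] : Matrix (Fin 7) (Fin 7) F3) = !![0, 0, 2, 2, 1, 1, 1; 2, 2, 1, 1, 2, 2, 2; 1, 0, 2, 2, 1, 0, 1; 2, 0, 1, 1, 2, 1, 1; 0, 0, 0, 0, 2, 0, 0; 2, 0, 0, 2, 2, 1, 1; 1, 0, 2, 1, 1, 2, 1] := by decide +kernel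
  have c46 : mM .c * (!![0, 0, 2, 2, 1, 1, 1; 2, 2, 1, 1, 2, 2, 2; 1, 0, 2, 2, 1, 0, 1; 2, 0, 1, 1, 2, 1, 1; 0, 0, 0, 0, 2, 0, 0; 2, 0, 0, 2, 2, 1, 1; 1, 0, 2, 1, 1, 2, 1] : Matrix (Fin 7) (Fin 7) F3) = !![0, 0, 1, 1, 2, 2, 2; 1, 1, 2, 2, 1, 1, 1; 2, 0, 1, 1, 2, 0, 2; 1, 0, 2, 0, 1, 1, 1; 0, 0, 0, 0, 1, 0, 0; 1, 0, 0, 2, 1, 1, 1; 2, 0, 1, 1, 2, 2, 0] := by decide +kernel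
  have c45 : mM .d * (!![0, 0, 1, 1, 2, 2, 2; 1, 1, 2, 2, 1, 1, 1; 2, 0, 1, 1, 2, 0, 2; 1, 0, 2, 0, 1, 1, 1; 0, 0, 0, 0, 1, 0, 0; 1, 0, 0, 2, 1, 1, 1; 2, 0, 1, 1, 2, 2, 0] : Matrix (Fin 7) (Fin 7) F3) = !![0, 0, 2, 2, 1, 1, 1; 2, 2, 1, 1, 2, 2, 2; 2, 0, 0, 1, 2, 2, 2; 2, 0, 1, 0, 2, 2, 2; 0, 0, 0, 0, 2, 0, 0; 1, 0, 2, 2, 1, 0, 1; 1, 0, 2, 2, 1, 1, 0] := by decide +kernel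
  have c44 : mM .i * (!![0, 0, 2, 2, 1, 1, 1; 2, 2, 1, 1, 2, 2, 2; 2, 0, 0, 1, 2, 2, 2; 2, 0, 1, 0, 2, 2, 2; 0, 0, 0, 0, 2, 0, 0; 1, 0, 2, 2, 1, 0, 1; 1, 0, 2, 2, 1, 1, 0] : Matrix (Fin 7) (Fin 7) F3) = !![0, 0, 1, 1, 2, 2, 2; 2, 2, 1, 2, 0, 2, 0; 1, 0, 0, 2, 1, 1, 1; 2, 1, 1, 0, 0, 2, 0; 1, 1, 2, 0, 0, 1, 2; 2, 0, 1, 1, 2, 0, 2; 0, 1, 0, 1, 1, 0, 2] := by decide +kernel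
  have c43 : mM .h * (!![0, 0, 1, 1, 2, 2, 2; 2, 2, 1, 2, 0, 2, 0; 1, 0, 0, 2, 1, 1, 1; 2, 1, 1, 0, 0, 2, 0; 1, 1, 2, 0, 0, 1, 2; 2, 0, 1, 1, 2, 0, 2; 0, 1, 0, 1, 1, 0, 2] : Matrix (Fin 7) (Fin 7) F3) = !![0, 0, 2, 2, 1, 1, 1; 1, 2, 1, 2, 1, 1, 1; 2, 0, 0, 1, 2, 2, 2; 1, 0, 1, 1, 1, 1, 1; 2, 0, 0, 1, 1, 2, 2; 1, 1, 1, 0, 2, 0, 2; 0, 0, 2, 0, 0, 0, 2] := by decide +kernel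
  have c42 : mM .d * (!![0, 0, 2, 2, 1, 1, 1; 1, 2, 1, 2, 1, 1, 1; 2, 0, 0, 1, 2, 2, 2; 1, 0, 1, 1, 1, 1, 1; 2, 0, 0, 1, 1, 2, 2; 1, 1, 1, 0, 2, 0, 2; 0, 0, 2, 0, 0, 0, 2] : Matrix (Fin 7) (Fin 7) F3) = !![0, 0, 1, 1, 2, 2, 2; 2, 1, 2, 1, 2, 2, 2; 2, 2, 2, 0, 1, 0, 1; 2, 0, 2, 2, 2, 2, 2; 1, 0, 0, 2, 2, 1, 1; 1, 0, 0, 2, 1, 1, 1; 0, 0, 1, 0, 0, 0, 1] := by decide +kernel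
  have c41 : mM .f * (!![0, 0, 1, 1, 2, 2, 2; 2, 1, 2, 1, 2, 2, 2; 2, 2, 2, 0, 1, 0, 1; 2, 0, 2, 2, 2, 2, 2; 1, 0, 0, 2, 2, 1, 1; 1, 0, 0, 2, 1, 1, 1; 0, 0, 1, 0, 0, 0, 1] : Matrix (Fin 7) (Fin 7) F3) = !![2, 2, 1, 0, 2, 2, 1; 1, 2, 1, 2, 1, 1, 1; 1, 1, 1, 0, 2, 0, 2; 0, 2, 0, 2, 2, 2, 1; 1, 2, 2, 2, 2, 0, 2; 2, 0, 0, 1, 2, 2, 2; 2, 2, 1, 1, 1, 1, 2] := by decide +kernel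
  have c40 : mM .e * (!![2, 2, 1, 0, 2, 2, 1; 1, 2, 1, 2, 1, 1, 1; 1, 1, 1, 0, 2, 0, 2; 0, 2, 0, 2, 2, 2, 1; 1, 2, 2, 2, 2, 0, 2; 2, 0, 0, 1, 2, 2, 2; 2, 2, 1, 1, 1, 1, 2] : Matrix (Fin 7) (Fin 7) F3) = !![1, 1, 2, 0, 1, 1, 2; 1, 0, 0, 1, 2, 0, 2; 2, 2, 2, 0, 1, 0, 1; 0, 1, 0, 1, 1, 1, 2; 0, 2, 0, 1, 1, 2, 1; 0, 2, 1, 2, 1, 2, 1; 1, 1, 2, 2, 2, 2, 1] := by decide +kernel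
  have c39 : mM .d * (!![1, 1, 2, 0, 1, 1, 2; 1, 0, 0, 1, 2, 0, 2; 2, 2, 2, 0, 1, 0, 1; 0, 1, 0, 1, 1, 1, 2; 0, 2, 0, 1, 1, 2, 1; 0, 2, 1, 2, 1, 2, 1; 1, 1, 2, 2, 2, 2, 1] : Matrix (Fin 7) (Fin 7) F3) = !![2, 2, 1, 0, 2, 2, 1; 2, 0, 0, 2, 1, 0, 1; 0, 1, 2, 1, 2, 1, 2; 0, 2, 0, 2, 2, 2, 1; 0, 1, 0, 2, 2, 1, 2; 1, 1, 1, 0, 2, 0, 2; 2, 2, 1, 1, 1, 1, 2] := by decide +kernel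
  have c38 : mM .b * (!![2, 2, 1, 0, 2, 2, 1; 2, 0, 0, 2, 1, 0, 1; 0, 1, 2, 1, 2, 1, 2; 0, 2, 0, 2, 2, 2, 1; 0, 1, 0, 2, 2, 1, 2; 1, 1, 1, 0, 2, 0, 2; 2, 2, 1, 1, 1, 1, 2] : Matrix (Fin 7) (Fin 7) F3) = !![1, 1, 2, 0, 1, 1, 2; 1, 0, 0, 1, 2, 0, 2; 0, 2, 1, 2, 1, 2, 1; 1, 1, 2, 2, 2, 2, 1; 0, 2, 0, 1, 1, 2, 1; 2, 2, 2, 0, 1, 0, 1; 0, 1, 0, 1, 1, 1, 2] := by decide +kernel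
  have c37 : mM .c * (!![1, 1, 2, 0, 1, 1, 2; 1, 0, 0, 1, 2, 0, 2; 0, 2, 1, 2, 1, 2, 1; 1, 1, 2, 2, 2, 2, 1; 0, 2, 0, 1, 1, 2, 1; 2, 2, 2, 0, 1, 0, 1; 0, 1, 0, 1, 1, 1, 2] : Matrix (Fin 7) (Fin 7) F3) = !![2, 2, 1, 0, 2, 2, 1; 2, 0, 0, 2, 1, 0, 1; 0, 1, 2, 1, 2, 1, 2; 0, 0, 2, 0, 1, 0, 0; 0, 1, 0, 2, 2, 1, 2; 2, 2, 2, 2, 2, 2, 0; 2, 1, 2, 0, 2, 0, 0] := by decide +kernel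
  have c36 : mM .d * (!![2, 2, 1, 0, 2, 2, 1; 2, 0, 0, 2, 1, 0, 1; 0, 1, 2, 1, 2, 1, 2; 0, 0, 2, 0, 1, 0, 0; 0, 1, 0, 2, 2, 1, 2; 2, 2, 2, 2, 2, 2, 0; 2, 1, 2, 0, 2, 0, 0] : Matrix (Fin 7) (Fin 7) F3) = !![1, 1, 2, 0, 1, 1, 2; 1, 0, 0, 1, 2, 0, 2; 1, 1, 1, 1, 1, 1, 0; 0, 0, 1, 0, 2, 0, 0; 0, 2, 0, 1, 1, 2, 1; 0, 2, 1, 2, 1, 2, 1; 1, 2, 1, 0, 1, 0, 0] := by decide +kernel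
  have c35 : mM .i * (!![1, 1, 2, 0, 1, 1, 2; 1, 0, 0, 1, 2, 0, 2; 1, 1, 1, 1, 1, 1, 0; 0, 0, 1, 0, 2, 0, 0; 0, 2, 0, 1, 1, 2, 1; 0, 2, 1, 2, 1, 2, 1; 1, 2, 1, 0, 1, 0, 0] : Matrix (Fin 7) (Fin 7) F3) = !![2, 2, 1, 0, 2, 2, 1; 0, 2, 1, 0, 1, 1, 1; 2, 2, 2, 2, 2, 2, 0; 1, 2, 0, 1, 1, 1, 0; 1, 0, 1, 0, 2, 2, 2; 0, 1, 2, 1, 2, 1, 2; 0, 0, 0, 1, 2, 1, 0] := by decide +kernel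
  have c34 : mM .h * (!![2, 2, 1, 0, 2, 2, 1; 0, 2, 1, 0, 1, 1, 1; 2, 2, 2, 2, 2, 2, 0; 1, 2, 0, 1, 1, 1, 0; 1, 0, 1, 0, 2, 2, 2; 0, 1, 2, 1, 2, 1, 2; 0, 0, 0, 1, 2, 1, 0] : Matrix (Fin 7) (Fin 7) F3) = !![1, 1, 2, 0, 1, 1, 2; 2, 1, 1, 2, 0, 1, 2; 1, 1, 1, 1, 1, 1, 0; 1, 1, 2, 1, 0, 1, 0; 1, 0, 1, 2, 2, 0, 1; 2, 2, 0, 1, 2, 1, 1; 2, 0, 2, 1, 2, 1, 0] := by decide +kernel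
  have c33 : mM .d * (!![1, 1, 2, 0, 1, 1, 2; 2, 1, 1, 2, 0, 1, 2; 1, 1, 1, 1, 1, 1, 0; 1, 1, 2, 1, 0, 1, 0; 1, 0, 1, 2, 2, 0, 1; 2, 2, 0, 1, 2, 1, 1; 2, 0, 2, 1, 2, 1, 0] : Matrix (Fin 7) (Fin 7) F3) = !![2, 2, 1, 0, 2, 2, 1; 1, 2, 2, 1, 0, 2, 1; 1, 1, 0, 2, 1, 2, 2; 2, 2, 1, 2, 0, 2, 0; 2, 0, 2, 1, 1, 0, 2; 2, 2, 2, 2, 2, 2, 0; 1, 0, 1, 2, 1, 2, 0] := by decide +kernel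
  have c32 : mM .f * (!![2, 2, 1, 0, 2, 2, 1; 1, 2, 2, 1, 0, 2, 1; 1, 1, 0, 2, 1, 2, 2; 2, 2, 1, 2, 0, 2, 0; 2, 0, 2, 1, 1, 0, 2; 2, 2, 2, 2, 2, 2, 0; 1, 0, 1, 2, 1, 2, 0] : Matrix (Fin 7) (Fin 7) F3) = !![2, 2, 2, 1, 2, 0, 2; 2, 1, 1, 2, 0, 1, 2; 2, 2, 0, 1, 2, 1, 1; 2, 2, 2, 2, 1, 0, 0; 2, 1, 1, 0, 0, 2, 1; 1, 1, 1, 1, 1, 1, 0; 0, 1, 2, 2, 0, 0, 0] := by decide +kernel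
  have c31 : mM .e * (!![2, 2, 2, 1, 2, 0, 2; 2, 1, 1, 2, 0, 1, 2; 2, 2, 0, 1, 2, 1, 1; 2, 2, 2, 2, 1, 0, 0; 2, 1, 1, 0, 0, 2, 1; 1, 1, 1, 1, 1, 1, 0; 0, 1, 2, 2, 0, 0, 0] : Matrix (Fin 7) (Fin 7) F3) = !![1, 1, 1, 2, 1, 0, 1; 2, 0, 2, 2, 1, 0, 1; 1, 1, 0, 2, 1, 2, 2; 1, 1, 1, 1, 2, 0, 0; 0, 1, 2, 2, 2, 0, 2; 0, 0, 2, 0, 0, 0, 0; 0, 2, 1, 1, 0, 0, 0] := by decide +kernel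
  have c30 : mM .d * (!![1, 1, 1, 2, 1, 0, 1; 2, 0, 2, 2, 1, 0, 1; 1, 1, 0, 2, 1, 2, 2; 1, 1, 1, 1, 2, 0, 0; 0, 1, 2, 2, 2, 0, 2; 0, 0, 2, 0, 0, 0, 0; 0, 2, 1, 1, 0, 0, 0] : Matrix (Fin 7) (Fin 7) F3) = !![2, 2, 2, 1, 2, 0, 2; 1, 0, 1, 1, 2, 0, 2; 0, 0, 1, 0, 0, 0, 0; 2, 2, 2, 2, 1, 0, 0; 0, 2, 1, 1, 1, 0, 1; 2, 2, 0, 1, 2, 1, 1; 0, 1, 2, 2, 0, 0, 0] := by decide +kernel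
  have c29 : mM .b * (!![2, 2, 2, 1, 2, 0, 2; 1, 0, 1, 1, 2, 0, 2; 0, 0, 1, 0, 0, 0, 0; 2, 2, 2, 2, 1, 0, 0; 0, 2, 1, 1, 1, 0, 1; 2, 2, 0, 1, 2, 1, 1; 0, 1, 2, 2, 0, 0, 0] : Matrix (Fin 7) (Fin 7) F3) = !![1, 1, 1, 2, 1, 0, 1; 2, 0, 2, 2, 1, 0, 1; 0, 0, 2, 0, 0, 0, 0; 0, 2, 1, 1, 0, 0, 0; 0, 1, 2, 2, 2, 0, 2; 1, 1, 0, 2, 1, 2, 2; 1, 1, 1, 1, 2, 0, 0] := by decide +kernel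
  have c28 : mM .c * (!![1, 1, 1, 2, 1, 0, 1; 2, 0, 2, 2, 1, 0, 1; 0, 0, 2, 0, 0, 0, 0; 0, 2, 1, 1, 0, 0, 0; 0, 1, 2, 2, 2, 0, 2; 1, 1, 0, 2, 1, 2, 2; 1, 1, 1, 1, 2, 0, 0] : Matrix (Fin 7) (Fin 7) F3) = !![2, 2, 2, 1, 2, 0, 2; 1, 0, 1, 1, 2, 0, 2; 0, 0, 1, 0, 0, 0, 0; 2, 2, 0, 2, 1, 0, 0; 0, 2, 1, 1, 1, 0, 1; 1, 0, 1, 1, 0, 1, 1; 0, 1, 1, 2, 0, 0, 0] := by decide +kernel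
  have c27 : mM .d * (!![2, 2, 2, 1, 2, 0, 2; 1, 0, 1, 1, 2, 0, 2; 0, 0, 1, 0, 0, 0, 0; 2, 2, 0, 2, 1, 0, 0; 0, 2, 1, 1, 1, 0, 1; 1, 0, 1, 1, 0, 1, 1; 0, 1, 1, 2, 0, 0, 0] : Matrix (Fin 7) (Fin 7) F3) = !![1, 1, 1, 2, 1, 0, 1; 2, 0, 2, 2, 1, 0, 1; 2, 0, 2, 2, 0, 2, 2; 1, 1, 0, 1, 2, 0, 0; 0, 1, 2, 2, 2, 0, 2; 0, 0, 2, 0, 0, 0, 0; 0, 2, 2, 1, 0, 0, 0] := by decide +kernel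
  have c26 : mM .i * (!![1, 1, 1, 2, 1, 0, 1; 2, 0, 2, 2, 1, 0, 1; 2, 0, 2, 2, 0, 2, 2; 1, 1, 0, 1, 2, 0, 0; 0, 1, 2, 2, 2, 0, 2; 0, 0, 2, 0, 0, 0, 0; 0, 2, 2, 1, 0, 0, 0] : Matrix (Fin 7) (Fin 7) F3) = !![2, 2, 2, 1, 2, 0, 2; 1, 2, 1, 1, 0, 0, 2; 1, 0, 1, 1, 0, 1, 1; 2, 1, 0, 2, 2, 0, 0; 0, 1, 1, 1, 2, 0, 1; 0, 0, 1, 0, 0, 0, 0; 0, 0, 1, 2, 1, 0, 0] := by decide +kernel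
  have c25 : mM .h * (!![2, 2, 2, 1, 2, 0, 2; 1, 2, 1, 1, 0, 0, 2; 1, 0, 1, 1, 0, 1, 1; 2, 1, 0, 2, 2, 0, 0; 0, 1, 1, 1, 2, 0, 1; 0, 0, 1, 0, 0, 0, 0; 0, 0, 1, 2, 1, 0, 0] : Matrix (Fin 7) (Fin 7) F3) = !![1, 1, 1, 2, 1, 0, 1; 1, 0, 1, 1, 1, 2, 0; 2, 0, 2, 2, 0, 2, 2; 0, 1, 2, 0, 2, 2, 2; 2, 1, 1, 1, 2, 2, 1; 2, 2, 1, 2, 1, 2, 2; 2, 2, 1, 0, 0, 2, 2] := by decide +kernel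
  have c24 : mM .d * (!![1, 1, 1, 2, 1, 0, 1; 1, 0, 1, 1, 1, 2, 0; 2, 0, 2, 2, 0, 2, 2; 0, 1, 2, 0, 2, 2, 2; 2, 1, 1, 1, 2, 2, 1; 2, 2, 1, 2, 1, 2, 2; 2, 2, 1, 0, 0, 2, 2] : Matrix (Fin 7) (Fin 7) F3) = !![2, 2, 2, 1, 2, 0, 2; 2, 0, 2, 2, 2, 1, 0; 1, 1, 2, 1, 2, 1, 1; 0, 2, 1, 0, 1, 1, 1; 1, 2, 2, 2, 1, 1, 2; 1, 0, 1, 1, 0, 1, 1; 1, 1, 2, 0, 0, 1, 1] := by decide +kernel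
  have c23 : mM .f * (!![2, 2, 2, 1, 2, 0, 2; 2, 0, 2, 2, 2, 1, 0; 1, 1, 2, 1, 2, 1, 1; 0, 2, 1, 0, 1, 1, 1; 1, 2, 2, 2, 1, 1, 2; 1, 0, 1, 1, 0, 1, 1; 1, 1, 2, 0, 0, 1, 1] : Matrix (Fin 7) (Fin 7) F3) = !![0, 0, 1, 1, 0, 0, 1; 1, 0, 1, 1, 1, 2, 0; 2, 2, 1, 2, 1, 2, 2; 2, 0, 2, 2, 1, 2, 2; 1, 0, 1, 0, 1, 2, 1; 2, 0, 2, 2, 0, 2, 2; 1, 1, 1, 2, 2, 2, 2] := by decide +kernel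
  have c22 : mM .e * (!![0, 0, 1, 1, 0, 0, 1; 1, 0, 1, 1, 1, 2, 0; 2, 2, 1, 2, 1, 2, 2; 2, 0, 2, 2, 1, 2, 2; 1, 0, 1, 0, 1, 2, 1; 2, 0, 2, 2, 0, 2, 2; 1, 1, 1, 2, 2, 2, 2] : Matrix (Fin 7) (Fin 7) F3) = !![0, 0, 2, 2, 0, 0, 2; 0, 1, 1, 1, 1, 2, 0; 1, 1, 2, 1, 2, 1, 1; 1, 0, 1, 1, 2, 1, 1; 1, 2, 0, 1, 0, 0, 2; 2, 1, 0, 0, 2, 2, 1; 2, 2, 2, 1, 1, 1, 1] := by decide +kernel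
  have c21 : mM .d * (!![0, 0, 2, 2, 0, 0, 2; 0, 1, 1, 1, 1, 2, 0; 1, 1, 2, 1, 2, 1, 1; 1, 0, 1, 1, 2, 1, 1; 1, 2, 0, 1, 0, 0, 2; 2, 1, 0, 0, 2, 2, 1; 2, 2, 2, 1, 1, 1, 1] : Matrix (Fin 7) (Fin 7) F3) = !![0, 0, 1, 1, 0, 0, 1; 0, 2, 2, 2, 2, 1, 0; 1, 2, 0, 0, 1, 1, 2; 2, 0, 2, 2, 1, 2, 2; 2, 1, 0, 2, 0, 0, 1; 2, 2, 1, 2, 1, 2, 2; 1, 1, 1, 2, 2, 2, 2] := by decide +kernel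
  have c20 : mM .b * (!![0, 0, 1, 1, 0, 0, 1; 0, 2, 2, 2, 2, 1, 0; 1, 2, 0, 0, 1, 1, 2; 2, 0, 2, 2, 1, 2, 2; 2, 1, 0, 2, 0, 0, 1; 2, 2, 1, 2, 1, 2, 2; 1, 1, 1, 2, 2, 2, 2] : Matrix (Fin 7) (Fin 7) F3) = !![0, 0, 2, 2, 0, 0, 2; 0, 1, 1, 1, 1, 2, 0; 2, 1, 0, 0, 2, 2, 1; 2, 2, 2, 1, 1, 1, 1; 1, 2, 0, 1, 0, 0, 2; 1, 1, 2, 1, 2, 1, 1; 1, 0, 1, 1, 2, 1, 1] := by decide +kernel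
  have c19 : mM .c * (!![0, 0, 2, 2, 0, 0, 2; 0, 1, 1, 1, 1, 2, 0; 2, 1, 0, 0, 2, 2, 1; 2, 2, 2, 1, 1, 1, 1; 1, 2, 0, 1, 0, 0, 2; 1, 1, 2, 1, 2, 1, 1; 1, 0, 1, 1, 2, 1, 1] : Matrix (Fin 7) (Fin 7) F3) = !![0, 0, 1, 1, 0, 0, 1; 0, 2, 2, 2, 2, 1, 0; 1, 2, 0, 0, 1, 1, 2; 0, 2, 2, 2, 2, 0, 1; 2, 1, 0, 2, 0, 0, 1; 1, 0, 2, 2, 1, 0, 1; 0, 2, 1, 2, 1, 1, 0] := by decide +kernel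
  have c18 : mM .d * (!![0, 0, 1, 1, 0, 0, 1; 0, 2, 2, 2, 2, 1, 0; 1, 2, 0, 0, 1, 1, 2; 0, 2, 2, 2, 2, 0, 1; 2, 1, 0, 2, 0, 0, 1; 1, 0, 2, 2, 1, 0, 1; 0, 2, 1, 2, 1, 1, 0] : Matrix (Fin 7) (Fin 7) F3) = !![0, 0, 2, 2, 0, 0, 2; 0, 1, 1, 1, 1, 2, 0; 2, 0, 1, 1, 2, 0, 2; 0, 1, 1, 1, 1, 0, 2; 1, 2, 0, 1, 0, 0, 2; 2, 1, 0, 0, 2, 2, 1; 0, 1, 2, 1, 2, 2, 0] := by decide +kernel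
  have c17 : mM .i * (!![0, 0, 2, 2, 0, 0, 2; 0, 1, 1, 1, 1, 2, 0; 2, 0, 1, 1, 2, 0, 2; 0, 1, 1, 1, 1, 0, 2; 1, 2, 0, 1, 0, 0, 2; 2, 1, 0, 0, 2, 2, 1; 0, 1, 2, 1, 2, 2, 0] : Matrix (Fin 7) (Fin 7) F3) = !![0, 0, 1, 1, 0, 0, 1; 2, 0, 1, 1, 1, 0, 2; 1, 0, 2, 2, 1, 0, 1; 2, 0, 1, 1, 1, 2, 0; 1, 2, 2, 1, 2, 2, 0; 1, 2, 0, 0, 1, 1, 2; 2, 0, 0, 1, 0, 0, 2] := by decide +kernel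
  have c16 : mM .h * (!![0, 0, 1, 1, 0, 0, 1; 2, 0, 1, 1, 1, 0, 2; 1, 0, 2, 2, 1, 0, 1; 2, 0, 1, 1, 1, 2, 0; 1, 2, 2, 1, 2, 2, 0; 1, 2, 0, 0, 1, 1, 2; 2, 0, 0, 1, 0, 0, 2] : Matrix (Fin 7) (Fin 7) F3) = !![0, 0, 2, 2, 0, 0, 2; 2, 1, 2, 2, 0, 2, 2; 2, 0, 1, 1, 2, 0, 2; 2, 1, 2, 2, 0, 0, 1; 0, 2, 1, 2, 2, 0, 1; 0, 2, 0, 0, 0, 1, 2; 2, 1, 0, 2, 1, 2, 2] := by decide +kernel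
  have c15 : mM .d * (!![0, 0, 2, 2, 0, 0, 2; 2, 1, 2, 2, 0, 2, 2; 2, 0, 1, 1, 2, 0, 2; 2, 1, 2, 2, 0, 0, 1; 0, 2, 1, 2, 2, 0, 1; 0, 2, 0, 0, 0, 1, 2; 2, 1, 0, 2, 1, 2, 2] : Matrix (Fin 7) (Fin 7) F3) = !![0, 0, 1, 1, 0, 0, 1; 1, 2, 1, 1, 0, 1, 1; 0, 1, 0, 0, 0, 2, 1; 1, 2, 1, 1, 0, 0, 2; 0, 1, 2, 1, 1, 0, 2; 1, 0, 2, 2, 1, 0, 1; 1, 2, 0, 1, 2, 1, 1] := by decide +kernel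
  have c14 : mM .f * (!![0, 0, 1, 1, 0, 0, 1; 1, 2, 1, 1, 0, 1, 1; 0, 1, 0, 0, 0, 2, 1; 1, 2, 1, 1, 0, 0, 2; 0, 1, 2, 1, 1, 0, 2; 1, 0, 2, 2, 1, 0, 1; 1, 2, 0, 1, 2, 1, 1] : Matrix (Fin 7) (Fin 7) F3) = !![0, 0, 1, 0, 1, 1, 2; 2, 1, 2, 2, 0, 2, 2; 0, 2, 0, 0, 0, 1, 2; 2, 1, 1, 0, 1, 1, 1; 0, 2, 0, 0, 0, 1, 1; 2, 0, 1, 1, 2, 0, 2; 2, 1, 2, 0, 2, 0, 2] := by decide +kernel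
  have c13 : mM .e * (!![0, 0, 1, 0, 1, 1, 2; 2, 1, 2, 2, 0, 2, 2; 0, 2, 0, 0, 0, 1, 2; 2, 1, 1, 0, 1, 1, 1; 0, 2, 0, 0, 0, 1, 1; 2, 0, 1, 1, 2, 0, 2; 2, 1, 2, 0, 2, 0, 2] : Matrix (Fin 7) (Fin 7) F3) = !![0, 0, 2, 0, 2, 2, 1; 0, 2, 0, 0, 0, 1, 0; 0, 1, 0, 0, 0, 2, 1; 1, 2, 2, 0, 2, 2, 2; 1, 1, 1, 1, 0, 2, 0; 0, 0, 1, 1, 1, 0, 0; 1, 2, 1, 0, 1, 0, 1] := by decide +kernel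
  have c12 : mM .d * (!![0, 0, 2, 0, 2, 2, 1; 0, 2, 0, 0, 0, 1, 0; 0, 1, 0, 0, 0, 2, 1; 1, 2, 2, 0, 2, 2, 2; 1, 1, 1, 1, 0, 2, 0; 0, 0, 1, 1, 1, 0, 0; 1, 2, 1, 0, 1, 0, 1] : Matrix (Fin 7) (Fin 7) F3) = !![0, 0, 1, 0, 1, 1, 2; 0, 1, 0, 0, 0, 2, 0; 0, 0, 2, 2, 2, 0, 0; 2, 1, 1, 0, 1, 1, 1; 2, 2, 2, 2, 0, 1, 0; 0, 2, 0, 0, 0, 1, 2; 2, 1, 2, 0, 2, 0, 2] := by decide +kernel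
  have c11 : mM .b * (!![0, 0, 1, 0, 1, 1, 2; 0, 1, 0, 0, 0, 2, 0; 0, 0, 2, 2, 2, 0, 0; 2, 1, 1, 0, 1, 1, 1; 2, 2, 2, 2, 0, 1, 0; 0, 2, 0, 0, 0, 1, 2; 2, 1, 2, 0, 2, 0, 2] : Matrix (Fin 7) (Fin 7) F3) = !![0, 0, 2, 0, 2, 2, 1; 0, 2, 0, 0, 0, 1, 0; 0, 0, 1, 1, 1, 0, 0; 1, 2, 1, 0, 1, 0, 1; 1, 1, 1, 1, 0, 2, 0; 0, 1, 0, 0, 0, 2, 1; 1, 2, 2, 0, 2, 2, 2] := by decide +kernel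
  have c10 : mM .c * (!![0, 0, 2, 0, 2, 2, 1; 0, 2, 0, 0, 0, 1, 0; 0, 0, 1, 1, 1, 0, 0; 1, 2, 1, 0, 1, 0, 1; 1, 1, 1, 1, 0, 2, 0; 0, 1, 0, 0, 0, 2, 1; 1, 2, 2, 0, 2, 2, 2] : Matrix (Fin 7) (Fin 7) F3) = !![0, 0, 1, 0, 1, 1, 2; 0, 1, 0, 0, 0, 2, 0; 0, 0, 2, 2, 2, 0, 0; 2, 1, 0, 2, 0, 1, 1; 2, 2, 2, 2, 0, 1, 0; 0, 2, 1, 2, 1, 2, 1; 2, 1, 0, 1, 0, 0, 2] := by decide +kernel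
  have c9 : mM .d * (!![0, 0, 1, 0, 1, 1, 2; 0, 1, 0, 0, 0, 2, 0; 0, 0, 2, 2, 2, 0, 0; 2, 1, 0, 2, 0, 1, 1; 2, 2, 2, 2, 0, 1, 0; 0, 2, 1, 2, 1, 2, 1; 2, 1, 0, 1, 0, 0, 2] : Matrix (Fin 7) (Fin 7) F3) = !![0, 0, 2, 0, 2, 2, 1; 0, 2, 0, 0, 0, 1, 0; 0, 1, 2, 1, 2, 1, 2; 1, 2, 0, 1, 0, 2, 2; 1, 1, 1, 1, 0, 2, 0; 0, 0, 1, 1, 1, 0, 0; 1, 2, 0, 2, 0, 0, 1] := by decide +kernel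
  have c8 : mM .i * (!![0, 0, 2, 0, 2, 2, 1; 0, 2, 0, 0, 0, 1, 0; 0, 1, 2, 1, 2, 1, 2; 1, 2, 0, 1, 0, 2, 2; 1, 1, 1, 1, 0, 2, 0; 0, 0, 1, 1, 1, 0, 0; 1, 2, 0, 2, 0, 0, 1] : Matrix (Fin 7) (Fin 7) F3) = !![0, 0, 1, 0, 1, 1, 2; 0, 0, 2, 2, 0, 0, 0; 0, 2, 1, 2, 1, 2, 1; 2, 0, 2, 1, 0, 2, 1; 2, 1, 1, 1, 0, 2, 0; 0, 0, 2, 2, 2, 0, 0; 2, 0, 2, 0, 0, 1, 2] := by decide +kernel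
  have c7 : mM .h * (!![0, 0, 1, 0, 1, 1, 2; 0, 0, 2, 2, 0, 0, 0; 0, 2, 1, 2, 1, 2, 1; 2, 0, 2, 1, 0, 2, 1; 2, 1, 1, 1, 0, 2, 0; 0, 0, 2, 2, 2, 0, 0; 2, 0, 2, 0, 0, 1, 2] : Matrix (Fin 7) (Fin 7) F3) = !![0, 0, 2, 0, 2, 2, 1; 0, 0, 2, 1, 2, 2, 2; 0, 1, 2, 1, 2, 1, 2; 1, 0, 2, 2, 2, 0, 1; 1, 2, 0, 2, 2, 0, 2; 0, 0, 2, 1, 0, 2, 2; 1, 0, 2, 0, 2, 1, 0] := by decide +kernel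
  have c6 : mM .d * (!![0, 0, 2, 0, 2, 2, 1; 0, 0, 2, 1, 2, 2, 2; 0, 1, 2, 1, 2, 1, 2; 1, 0, 2, 2, 2, 0, 1; 1, 2, 0, 2, 2, 0, 2; 0, 0, 2, 1, 0, 2, 2; 1, 0, 2, 0, 2, 1, 0] : Matrix (Fin 7) (Fin 7) F3) = !![0, 0, 1, 0, 1, 1, 2; 0, 0, 1, 2, 1, 1, 1; 0, 0, 1, 2, 0, 1, 1; 2, 0, 1, 1, 1, 0, 2; 2, 1, 0, 1, 1, 0, 1; 0, 2, 1, 2, 1, 2, 1; 2, 0, 1, 0, 1, 2, 0] := by decide +kernel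
  have c5 : mM .f * (!![0, 0, 1, 0, 1, 1, 2; 0, 0, 1, 2, 1, 1, 1; 0, 0, 1, 2, 0, 1, 1; 2, 0, 1, 1, 1, 0, 2; 2, 1, 0, 1, 1, 0, 1; 0, 2, 1, 2, 1, 2, 1; 2, 0, 1, 0, 1, 2, 0] : Matrix (Fin 7) (Fin 7) F3) = !![2, 0, 0, 0, 0, 0, 0; 0, 0, 2, 1, 2, 2, 2; 0, 0, 2, 1, 0, 2, 2; 0, 0, 0, 2, 0, 1, 0; 0, 2, 1, 2, 0, 1, 1; 0, 1, 2, 1, 2, 1, 2; 0, 0, 0, 0, 0, 2, 2] := by decide +kernel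
  have c4 : mM .e * (!![2, 0, 0, 0, 0, 0, 0; 0, 0, 2, 1, 2, 2, 2; 0, 0, 2, 1, 0, 2, 2; 0, 0, 0, 2, 0, 1, 0; 0, 2, 1, 2, 0, 1, 1; 0, 1, 2, 1, 2, 1, 2; 0, 0, 0, 0, 0, 2, 2] : Matrix (Fin 7) (Fin 7) F3) = !![1, 0, 0, 0, 0, 0, 0; 0, 1, 0, 0, 0, 0, 0; 0, 0, 1, 2, 0, 1, 1; 0, 0, 0, 1, 0, 2, 0; 0, 0, 0, 0, 1, 0, 0; 0, 0, 0, 0, 0, 1, 0; 0, 0, 0, 0, 0, 1, 1] := by decide +kernel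
  have c3 : mM .d * (!![1, 0, 0, 0, 0, 0, 0; 0, 1, 0, 0, 0, 0, 0; 0, 0, 1, 2, 0, 1, 1; 0, 0, 0, 1, 0, 2, 0; 0, 0, 0, 0, 1, 0, 0; 0, 0, 0, 0, 0, 1, 0; 0, 0, 0, 0, 0, 1, 1] : Matrix (Fin 7) (Fin 7) F3) = !![2, 0, 0, 0, 0, 0, 0; 0, 2, 0, 0, 0, 0, 0; 0, 0, 0, 0, 0, 2, 0; 0, 0, 0, 2, 0, 1, 0; 0, 0, 0, 0, 2, 0, 0; 0, 0, 2, 1, 0, 2, 2; 0, 0, 0, 0, 0, 2, 2] := by decide +kernel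
  have c2 : mM .b * (!![2, 0, 0, 0, 0, 0, 0; 0, 2, 0, 0, 0, 0, 0; 0, 0, 0, 0, 0, 2, 0; 0, 0, 0, 2, 0, 1, 0; 0, 0, 0, 0, 2, 0, 0; 0, 0, 2, 1, 0, 2, 2; 0, 0, 0, 0, 0, 2, 2] : Matrix (Fin 7) (Fin 7) F3) = !![1, 0, 0, 0, 0, 0, 0; 0, 1, 0, 0, 0, 0, 0; 0, 0, 0, 0, 0, 1, 0; 0, 0, 0, 0, 0, 1, 1; 0, 0, 0, 0, 1, 0, 0; 0, 0, 1, 2, 0, 1, 1; 0, 0, 0, 1, 0, 2, 0] := by decide +kernel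
  have c1 : mM .c * (!![1, 0, 0, 0, 0, 0, 0; 0, 1, 0, 0, 0, 0, 0; 0, 0, 0, 0, 0, 1, 0; 0, 0, 0, 0, 0, 1, 1; 0, 0, 0, 0, 1, 0, 0; 0, 0, 1, 2, 0, 1, 1; 0, 0, 0, 1, 0, 2, 0] : Matrix (Fin 7) (Fin 7) F3) = !![2, 0, 0, 0, 0, 0, 0; 0, 2, 0, 0, 0, 0, 0; 0, 0, 0, 0, 0, 2, 0; 0, 0, 0, 2, 0, 0, 0; 0, 0, 0, 0, 2, 0, 0; 0, 0, 2, 0, 0, 0, 0; 0, 0, 0, 0, 0, 0, 2] := by decide +kernel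
  have c0 : mM .d * (!![2, 0, 0, 0, 0, 0, 0; 0, 2, 0, 0, 0, 0, 0; 0, 0, 0, 0, 0, 2, 0; 0, 0, 0, 2, 0, 0, 0; 0, 0, 0, 0, 2, 0, 0; 0, 0, 2, 0, 0, 0, 0; 0, 0, 0, 0, 0, 0, 2] : Matrix (Fin 7) (Fin 7) F3) = 1 := by decide +kernel
  rw [mul_one, c88, c87, c86, c85, c84, c83, c82, c81, c80, c79, c78, c77, c76, c75, c74, c73, c72, c71, c70, c69, c68, c67, c66, c65, c64, c63, c62, c61, c60, c59, c58, c57, c56, c55, c54, c53, c52, c51, c50, c49, c48, c47, c46, c45, c44, c43, c42, c41, c40, c39, c38, c37, c36, c35, c34, c33, c32, c31, c30, c29, c28, c27, c26, c25, c24, c23, c22, c21, c20, c19, c18, c17, c16, c15, c14, c13, c12, c11, c10, c9, c8, c7, c6, c5, c4, c3, c2, c1, c0]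

end Cfsg.Agent.Helper92.O7
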