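import Cfsg.Agent.Lib.Helper92.O7RelA
import Cfsg.Agent.Lib.Helper92.O7RelB
import Cfsg.Agent.Lib.Helper92.O7RelC

/-!
# All relators of helper27's tower level `A1` hold for the negated reflections `mM` (S1686)
-/

set_option autoImplicit false
set_option maxRecDepth 100000

namespace Cfsg.Agent.Helper92.O7

open Cfsg.Spor.Fi22 (Gen)
open Cfsg.Agent.Helper27.Fi22TC

theorem mM_sq (x : Gen) : mM x * mM x = 1 := by
  cases x <;> decide +kernel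

theorem rM_sq (x : Gen) : rM x * rM x = 1 := by
  cases x <;> decide +kernel

theorem mM_relL : ∀ w ∈ A1.D.relL, (w.map fun l => mM l.1).prod = 1 :=
  show ∀ w ∈ A1.relL, _ from
    List.forall_mem_cons.2 ⟨rel_R0,
    List.forall_mem_cons.2 ⟨rel_R1,
    List.forall_mem_cons.2 ⟨rel_R2,
    List.forall_mem_cons.2 ⟨rel_R3,
    List.forall_mem_cons.2 ⟨rel_R4,
    List.forall_mem_cons.2 ⟨rel_R5,
    List.forall_mem_cons.2 ⟨rel_R6,
    List.forall_mem_cons.2 ⟨rel_R7,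
    List.forall_mem_cons.2 ⟨rel_R8,
    List.forall_mem_cons.2 ⟨rel_R9,
    List.forall_mem_cons.2 ⟨rel_R10,
    List.forall_mem_cons.2 ⟨rel_R11,
    List.forall_mem_cons.2 ⟨rel_R12,
    List.forall_mem_cons.2 ⟨rel_R13,
    List.forall_mem_cons.2 ⟨rel_R14,
    List.forall_mem_cons.2 ⟨rel_R15,
    List.forall_mem_cons.2 ⟨rel_R16,
    List.forall_mem_cons.2 ⟨rel_R17,
    List.forall_mem_cons.2 ⟨rel_R18,
    List.forall_mem_cons.2 ⟨rel_R19,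
    List.forall_mem_cons.2 ⟨rel_R20,
    List.forall_mem_cons.2 ⟨rel_R21,
    List.forall_mem_cons.2 ⟨rel_R22,
    List.forall_mem_cons.2 ⟨rel_R23,
    List.forall_mem_cons.2 ⟨rel_R24,
    List.forall_mem_cons.2 ⟨rel_R25,
    List.forall_mem_cons.2 ⟨rel_R26,
    List.forall_mem_cons.2 ⟨rel_R27,
    List.forall_mem_cons.2 ⟨rel_R28,
    List.forall_mem_cons.2 ⟨rel_R29,
    List.forall_mem_cons.2 ⟨rel_R30,
    List.forall_mem_cons.2 ⟨rel_R31,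
    List.forall_mem_cons.2 ⟨rel_R32,
    List.forall_mem_cons.2 ⟨rel_R33,
    List.forall_mem_cons.2 ⟨rel_R34,
    List.forall_mem_cons.2 ⟨rel_R35,
    List.forall_mem_cons.2 ⟨rel_R36,
    List.forall_mem_cons.2 ⟨rel_R37,
    List.forall_mem_cons.2 ⟨rel_R38,
    (fun _ hw => (List.not_mem_nil hw).elim)⟩⟩⟩⟩⟩⟩⟩⟩⟩⟩⟩⟩⟩⟩⟩⟩⟩⟩⟩⟩⟩⟩⟩⟩⟩⟩⟩⟩⟩⟩⟩⟩⟩⟩⟩⟩⟩⟩⟩

end Cfsg.Agent.Helper92.O7
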