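import Cfsg.Agent.Lib.Helper92.O7Defs
import Cfsg.Agent.Lib.Helper27.Fi22.A1.Data

/-!
# The relators of helper27's tower level `A1` hold for the negated reflections `mM` (S1686)

Every relator is multiplied out from the right through literal checkpoints, each checked by the kernel.
-/

set_option autoImplicit false
set_option maxRecDepth 100000
set_option linter.all false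

namespace Cfsg.Agent.Helper92.O7

open Cfsg.Spor.Fi22 (Gen)
open Cfsg.Agent.Helper27.Fi22TC


theorem rel_R0 : ((A1.R0).map fun l => mM l.1).prod = 1 := by
  show mM .a * 1 = 1
  rw [mul_one]
  decide +kernel

theorem rel_R1 : ((A1.R1).map fun l => mM l.1).prod = 1 := by
  show mM .b * (mM .b * 1) = 1
  have c0 : mM .b * (mM .b : Matrix (Fin 7) (Fin 7) F3) = 1 := by decide +kernel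
  rw [mul_one, c0]

theorem rel_R2 : ((A1.R2).map fun l => mM l.1).prod = 1 := by
  show mM .c * (mM .c * 1) = 1
  have c0 : mM .c * (mM .c : Matrix (Fin 7) (Fin 7) F3) = 1 := by decide +kernel
  rw [mul_one, c0]

theorem rel_R3 : ((A1.R3).map fun l => mM l.1).prod = 1 := by
  show mM .d * (mM .d * 1) = 1
  have c0 : mM .d * (mM .d : Matrix (Fin 7) (Fin 7) F3) = 1 := by decide +kernel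
  rw [mul_one, c0]

theorem rel_R4 : ((A1.R4).map fun l => mM l.1).prod = 1 := by
  show mM .e * (mM .e * 1) = 1
  have c0 : mM .e * (mM .e : Matrix (Fin 7) (Fin 7) F3) = 1 := by decide +kernel
  rw [mul_one, c0]

theorem rel_R5 : ((A1.R5).map fun l => mM l.1).prod = 1 := by
  show mM .f * (mM .f * 1) = 1
  have c0 : mM .f * (mM .f : Matrix (Fin 7) (Fin 7) F3) = 1 := by decide +kernel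
  rw [mul_one, c0]

theorem rel_R6 : ((A1.R6).map fun l => mM l.1).prod = 1 := by
  show mM .g * (mM .g * 1) = 1
  have c0 : mM .g * (mM .g : Matrix (Fin 7) (Fin 7) F3) = 1 := by decide +kernel
  rw [mul_one, c0]

theorem rel_R7 : ((A1.R7).map fun l => mM l.1).prod = 1 := by
  show mM .h * (mM .h * 1) = 1
  have c0 : mM .h * (mM .h : Matrix (Fin 7) (Fin 7) F3) = 1 := by decide +kernel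
  rw [mul_one, c0]

theorem rel_R8 : ((A1.R8).map fun l => mM l.1).prod = 1 := by
  show mM .i * (mM .i * 1) = 1
  have c0 : mM .i * (mM .i : Matrix (Fin 7) (Fin 7) F3) = 1 := by decide +kernel
  rw [mul_one, c0]

theorem rel_R9 : ((A1.R9).map fun l => mM l.1).prod = 1 := by
  show mM .b * (mM .c * (mM .b * (mM .c * (mM .b * (mM .c * 1))))) = 1
  have c4 : mM .b * (mM .c : Matrix (Fin 7) (Fin 7) F3) = !![1, 0, 0, 0, 0, 0, 0; 0, 1, 0, 0, 0, 0, 0; 0, 0, 1, 0, 0, 0, 0; 0, 0, 2, 1, 0, 0, 0; 0, 0, 0, 0, 1, 0, 0; 0, 0, 1, 2, 0, 1, 1; 0, 0, 1, 0, 0, 0, 1] := by decide +kernel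
  have c3 : mM .c * (!![1, 0, 0, 0, 0, 0, 0; 0, 1, 0, 0, 0, 0, 0; 0, 0, 1, 0, 0, 0, 0; 0, 0, 2, 1, 0, 0, 0; 0, 0, 0, 0, 1, 0, 0; 0, 0, 1, 2, 0, 1, 1; 0, 0, 1, 0, 0, 0, 1] : Matrix (Fin 7) (Fin 7) F3) = !![2, 0, 0, 0, 0, 0, 0; 0, 2, 0, 0, 0, 0, 0; 0, 0, 2, 0, 0, 0, 0; 0, 0, 1, 0, 0, 0, 2; 0, 0, 0, 0, 2, 0, 0; 0, 0, 2, 2, 0, 2, 1; 0, 0, 2, 2, 0, 0, 0] := by decide +kernel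
  have c2 : mM .b * (!![2, 0, 0, 0, 0, 0, 0; 0, 2, 0, 0, 0, 0, 0; 0, 0, 2, 0, 0, 0, 0; 0, 0, 1, 0, 0, 0, 2; 0, 0, 0, 0, 2, 0, 0; 0, 0, 2, 2, 0, 2, 1; 0, 0, 2, 2, 0, 0, 0] : Matrix (Fin 7) (Fin 7) F3) = !![1, 0, 0, 0, 0, 0, 0; 0, 1, 0, 0, 0, 0, 0; 0, 0, 1, 0, 0, 0, 0; 0, 0, 1, 1, 0, 0, 0; 0, 0, 0, 0, 1, 0, 0; 0, 0, 1, 1, 0, 1, 2; 0, 0, 2, 0, 0, 0, 1] := by decide +kernel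
  have c1 : mM .c * (!![1, 0, 0, 0, 0, 0, 0; 0, 1, 0, 0, 0, 0, 0; 0, 0, 1, 0, 0, 0, 0; 0, 0, 1, 1, 0, 0, 0; 0, 0, 0, 0, 1, 0, 0; 0, 0, 1, 1, 0, 1, 2; 0, 0, 2, 0, 0, 0, 1] : Matrix (Fin 7) (Fin 7) F3) = !![2, 0, 0, 0, 0, 0, 0; 0, 2, 0, 0, 0, 0, 0; 0, 0, 2, 0, 0, 0, 0; 0, 0, 0, 0, 0, 0, 2; 0, 0, 0, 0, 2, 0, 0; 0, 0, 0, 0, 0, 2, 0; 0, 0, 0, 2, 0, 0, 0] := by decide +kernel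
  have c0 : mM .b * (!![2, 0, 0, 0, 0, 0, 0; 0, 2, 0, 0, 0, 0, 0; 0, 0, 2, 0, 0, 0, 0; 0, 0, 0, 0, 0, 0, 2; 0, 0, 0, 0, 2, 0, 0; 0, 0, 0, 0, 0, 2, 0; 0, 0, 0, 2, 0, 0, 0] : Matrix (Fin 7) (Fin 7) F3) = 1 := by decide +kernel
  rw [mul_one, c4, c3, c2, c1, c0]

theorem rel_R10 : ((A1.R10).map fun l => mM l.1).prod = 1 := by
  show mM .b * (mM .d * (mM .b * (mM .d * 1))) = 1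
  have c2 : mM .b * (mM .d : Matrix (Fin 7) (Fin 7) F3) = !![1, 0, 0, 0, 0, 0, 0; 0, 1, 0, 0, 0, 0, 0; 0, 0, 0, 0, 0, 1, 0; 0, 0, 0, 0, 0, 0, 1; 0, 0, 0, 0, 1, 0, 0; 0, 0, 1, 0, 0, 0, 0; 0, 0, 0, 1, 0, 0, 0] := by decide +kernel
  have c1 : mM .d * (!![1, 0, 0, 0, 0, 0, 0; 0, 1, 0, 0, 0, 0, 0; 0, 0, 0, 0, 0, 1, 0; 0, 0, 0, 0, 0, 0, 1; 0, 0, 0, 0, 1, 0, 0; 0, 0, 1, 0, 0, 0, 0; 0, 0, 0, 1, 0, 0, 0] : Matrix (Fin 7) (Fin 7) F3) = !![2, 0, 0, 0, 0, 0, 0; 0, 2, 0, 0, 0, 0, 0; 0, 0, 2, 0, 0, 0, 0; 0, 0, 0, 0, 0, 0, 2; 0, 0, 0, 0, 2, 0, 0; 0, 0, 0, 0, 0, 2, 0; 0, 0, 0, 2, 0, 0, 0] := by decide +kernel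
  have c0 : mM .b * (!![2, 0, 0, 0, 0, 0, 0; 0, 2, 0, 0, 0, 0, 0; 0, 0, 2, 0, 0, 0, 0; 0, 0, 0, 0, 0, 0, 2; 0, 0, 0, 0, 2, 0, 0; 0, 0, 0, 0, 0, 2, 0; 0, 0, 0, 2, 0, 0, 0] : Matrix (Fin 7) (Fin 7) F3) = 1 := by decide +kernel
  rw [mul_one, c2, c1, c0]

theorem rel_R11 : ((A1.R11).map fun l => mM l.1).prod = 1 := by
  show mM .b * (mM .e * (mM .b * (mM .e * 1))) = 1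
  have c2 : mM .b * (mM .e : Matrix (Fin 7) (Fin 7) F3) = !![1, 0, 0, 0, 0, 0, 0; 0, 0, 1, 0, 1, 0, 0; 0, 0, 1, 0, 0, 0, 0; 0, 0, 0, 0, 0, 0, 1; 0, 1, 2, 0, 0, 0, 0; 0, 2, 1, 0, 1, 1, 0; 0, 0, 0, 1, 0, 0, 0] := by decide +kernel
  have c1 : mM .e * (!![1, 0, 0, 0, 0, 0, 0; 0, 0, 1, 0, 1, 0, 0; 0, 0, 1, 0, 0, 0, 0; 0, 0, 0, 0, 0, 0, 1; 0, 1, 2, 0, 0, 0, 0; 0, 2, 1, 0, 1, 1, 0; 0, 0, 0, 1, 0, 0, 0] : Matrix (Fin 7) (Fin 7) F3) = !![2, 0, 0, 0, 0, 0, 0; 0, 2, 0, 0, 0, 0, 0; 0, 0, 2, 0, 0, 0, 0; 0, 0, 0, 0, 0, 0, 2; 0, 0, 0, 0, 2, 0, 0; 0, 0, 0, 0, 0, 2, 0; 0, 0, 0, 2, 0, 0, 0] := by decide +kernel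
  have c0 : mM .b * (!![2, 0, 0, 0, 0, 0, 0; 0, 2, 0, 0, 0, 0, 0; 0, 0, 2, 0, 0, 0, 0; 0, 0, 0, 0, 0, 0, 2; 0, 0, 0, 0, 2, 0, 0; 0, 0, 0, 0, 0, 2, 0; 0, 0, 0, 2, 0, 0, 0] : Matrix (Fin 7) (Fin 7) F3) = 1 := by decide +kernel
  rw [mul_one, c2, c1, c0]

theorem rel_R12 : ((A1.R12).map fun l => mM l.1).prod = 1 := by
  show mM .b * (mM .f * (mM .b * (mM .f * 1))) = 1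
  have c2 : mM .b * (mM .f : Matrix (Fin 7) (Fin 7) F3) = !![0, 1, 0, 1, 0, 0, 1; 0, 1, 0, 0, 0, 0, 0; 0, 0, 1, 0, 0, 0, 0; 2, 1, 0, 1, 0, 0, 2; 2, 1, 0, 1, 1, 0, 1; 0, 0, 0, 0, 0, 1, 0; 2, 1, 0, 2, 0, 0, 1] := by decide +kernel
  have c1 : mM .f * (!![0, 1, 0, 1, 0, 0, 1; 0, 1, 0, 0, 0, 0, 0; 0, 0, 1, 0, 0, 0, 0; 2, 1, 0, 1, 0, 0, 2; 2, 1, 0, 1, 1, 0, 1; 0, 0, 0, 0, 0, 1, 0; 2, 1, 0, 2, 0, 0, 1] : Matrix (Fin 7) (Fin 7) F3) = !![2, 0, 0, 0, 0, 0, 0; 0, 2, 0, 0, 0, 0, 0; 0, 0, 2, 0, 0, 0, 0; 0, 0, 0, 0, 0, 0, 2; 0, 0, 0, 0, 2, 0, 0; 0, 0, 0, 0, 0, 2, 0; 0, 0, 0, 2, 0, 0, 0] := by decide +kernel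
  have c0 : mM .b * (!![2, 0, 0, 0, 0, 0, 0; 0, 2, 0, 0, 0, 0, 0; 0, 0, 2, 0, 0, 0, 0; 0, 0, 0, 0, 0, 0, 2; 0, 0, 0, 0, 2, 0, 0; 0, 0, 0, 0, 0, 2, 0; 0, 0, 0, 2, 0, 0, 0] : Matrix (Fin 7) (Fin 7) F3) = 1 := by decide +kernel
  rw [mul_one, c2, c1, c0]

theorem rel_R13 : ((A1.R13).map fun l => mM l.1).prod = 1 := by
  show mM .b * (mM .g * (mM .b * (mM .g * 1))) = 1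
  have c2 : mM .b * (mM .g : Matrix (Fin 7) (Fin 7) F3) = !![1, 0, 0, 0, 0, 0, 0; 0, 2, 0, 2, 1, 0, 2; 0, 0, 1, 0, 0, 0, 0; 0, 2, 0, 1, 2, 0, 2; 0, 1, 0, 2, 2, 0, 2; 0, 0, 0, 0, 0, 1, 0; 0, 2, 0, 2, 2, 0, 1] := by decide +kernel
  have c1 : mM .g * (!![1, 0, 0, 0, 0, 0, 0; 0, 2, 0, 2, 1, 0, 2; 0, 0, 1, 0, 0, 0, 0; 0, 2, 0, 1, 2, 0, 2; 0, 1, 0, 2, 2, 0, 2; 0, 0, 0, 0, 0, 1, 0; 0, 2, 0, 2, 2, 0, 1] : Matrix (Fin 7) (Fin 7) F3) = !![2, 0, 0, 0, 0, 0, 0; 0, 2, 0, 0, 0, 0, 0; 0, 0, 2, 0, 0, 0, 0; 0, 0, 0, 0, 0, 0, 2; 0, 0, 0, 0, 2, 0, 0; 0, 0, 0, 0, 0, 2, 0; 0, 0, 0, 2, 0, 0, 0] := by decide +kernel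
  have c0 : mM .b * (!![2, 0, 0, 0, 0, 0, 0; 0, 2, 0, 0, 0, 0, 0; 0, 0, 2, 0, 0, 0, 0; 0, 0, 0, 0, 0, 0, 2; 0, 0, 0, 0, 2, 0, 0; 0, 0, 0, 0, 0, 2, 0; 0, 0, 0, 2, 0, 0, 0] : Matrix (Fin 7) (Fin 7) F3) = 1 := by decide +kernel
  rw [mul_one, c2, c1, c0]

theorem rel_R14 : ((A1.R14).map fun l => mM l.1).prod = 1 := by
  show mM .b * (mM .h * (mM .b * (mM .h * 1))) = 1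
  have c2 : mM .b * (mM .h : Matrix (Fin 7) (Fin 7) F3) = !![1, 0, 0, 0, 0, 0, 0; 0, 2, 1, 1, 1, 0, 1; 0, 0, 1, 0, 0, 0, 0; 0, 1, 1, 1, 1, 0, 2; 0, 1, 1, 1, 2, 0, 1; 0, 1, 1, 1, 1, 1, 1; 0, 1, 1, 2, 1, 0, 1] := by decide +kernel
  have c1 : mM .h * (!![1, 0, 0, 0, 0, 0, 0; 0, 2, 1, 1, 1, 0, 1; 0, 0, 1, 0, 0, 0, 0; 0, 1, 1, 1, 1, 0, 2; 0, 1, 1, 1, 2, 0, 1; 0, 1, 1, 1, 1, 1, 1; 0, 1, 1, 2, 1, 0, 1] : Matrix (Fin 7) (Fin 7) F3) = !![2, 0, 0, 0, 0, 0, 0; 0, 2, 0, 0, 0, 0, 0; 0, 0, 2, 0, 0, 0, 0; 0, 0, 0, 0, 0, 0, 2; 0, 0, 0, 0, 2, 0, 0; 0, 0, 0, 0, 0, 2, 0; 0, 0, 0, 2, 0, 0, 0] := by decide +kernel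
  have c0 : mM .b * (!![2, 0, 0, 0, 0, 0, 0; 0, 2, 0, 0, 0, 0, 0; 0, 0, 2, 0, 0, 0, 0; 0, 0, 0, 0, 0, 0, 2; 0, 0, 0, 0, 2, 0, 0; 0, 0, 0, 0, 0, 2, 0; 0, 0, 0, 2, 0, 0, 0] : Matrix (Fin 7) (Fin 7) F3) = 1 := by decide +kernel
  rw [mul_one, c2, c1, c0]

theorem rel_R15 : ((A1.R15).map fun l => mM l.1).prod = 1 := by
  show mM .b * (mM .i * (mM .b * (mM .i * 1))) = 1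
  have c2 : mM .b * (mM .i : Matrix (Fin 7) (Fin 7) F3) = !![1, 0, 0, 0, 0, 0, 0; 0, 2, 0, 1, 1, 0, 1; 0, 0, 1, 0, 0, 0, 0; 0, 1, 0, 1, 1, 0, 2; 0, 1, 0, 1, 2, 0, 1; 0, 0, 0, 0, 0, 1, 0; 0, 1, 0, 2, 1, 0, 1] := by decide +kernel
  have c1 : mM .i * (!![1, 0, 0, 0, 0, 0, 0; 0, 2, 0, 1, 1, 0, 1; 0, 0, 1, 0, 0, 0, 0; 0, 1, 0, 1, 1, 0, 2; 0, 1, 0, 1, 2, 0, 1; 0, 0, 0, 0, 0, 1, 0; 0, 1, 0, 2, 1, 0, 1] : Matrix (Fin 7) (Fin 7) F3) = !![2, 0, 0, 0, 0, 0, 0; 0, 2, 0, 0, 0, 0, 0; 0, 0, 2, 0, 0, 0, 0; 0, 0, 0, 0, 0, 0, 2; 0, 0, 0, 0, 2, 0, 0; 0, 0, 0, 0, 0, 2, 0; 0, 0, 0, 2, 0, 0, 0] := by decide +kernel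
  have c0 : mM .b * (!![2, 0, 0, 0, 0, 0, 0; 0, 2, 0, 0, 0, 0, 0; 0, 0, 2, 0, 0, 0, 0; 0, 0, 0, 0, 0, 0, 2; 0, 0, 0, 0, 2, 0, 0; 0, 0, 0, 0, 0, 2, 0; 0, 0, 0, 2, 0, 0, 0] : Matrix (Fin 7) (Fin 7) F3) = 1 := by decide +kernel
  rw [mul_one, c2, c1, c0]

theorem rel_R16 : ((A1.R16).map fun l => mM l.1).prod = 1 := by
  show mM .c * (mM .d * (mM .c * (mM .d * (mM .c * (mM .d * 1))))) = 1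
  have c4 : mM .c * (mM .d : Matrix (Fin 7) (Fin 7) F3) = !![1, 0, 0, 0, 0, 0, 0; 0, 1, 0, 0, 0, 0, 0; 0, 0, 0, 0, 0, 1, 0; 0, 0, 0, 0, 0, 1, 1; 0, 0, 0, 0, 1, 0, 0; 0, 0, 1, 2, 0, 1, 1; 0, 0, 0, 1, 0, 2, 0] := by decide +kernel
  have c3 : mM .d * (!![1, 0, 0, 0, 0, 0, 0; 0, 1, 0, 0, 0, 0, 0; 0, 0, 0, 0, 0, 1, 0; 0, 0, 0, 0, 0, 1, 1; 0, 0, 0, 0, 1, 0, 0; 0, 0, 1, 2, 0, 1, 1; 0, 0, 0, 1, 0, 2, 0] : Matrix (Fin 7) (Fin 7) F3) = !![2, 0, 0, 0, 0, 0, 0; 0, 2, 0, 0, 0, 0, 0; 0, 0, 2, 1, 0, 2, 2; 0, 0, 0, 0, 0, 2, 2; 0, 0, 0, 0, 2, 0, 0; 0, 0, 0, 0, 0, 2, 0; 0, 0, 0, 2, 0, 1, 0] := by decide +kernel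
  have c2 : mM .c * (!![2, 0, 0, 0, 0, 0, 0; 0, 2, 0, 0, 0, 0, 0; 0, 0, 2, 1, 0, 2, 2; 0, 0, 0, 0, 0, 2, 2; 0, 0, 0, 0, 2, 0, 0; 0, 0, 0, 0, 0, 2, 0; 0, 0, 0, 2, 0, 1, 0] : Matrix (Fin 7) (Fin 7) F3) = !![1, 0, 0, 0, 0, 0, 0; 0, 1, 0, 0, 0, 0, 0; 0, 0, 1, 2, 0, 1, 1; 0, 0, 1, 0, 0, 0, 1; 0, 0, 0, 0, 1, 0, 0; 0, 0, 1, 0, 0, 0, 0; 0, 0, 2, 1, 0, 0, 0] := by decide +kernel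
  have c1 : mM .d * (!![1, 0, 0, 0, 0, 0, 0; 0, 1, 0, 0, 0, 0, 0; 0, 0, 1, 2, 0, 1, 1; 0, 0, 1, 0, 0, 0, 1; 0, 0, 0, 0, 1, 0, 0; 0, 0, 1, 0, 0, 0, 0; 0, 0, 2, 1, 0, 0, 0] : Matrix (Fin 7) (Fin 7) F3) = !![2, 0, 0, 0, 0, 0, 0; 0, 2, 0, 0, 0, 0, 0; 0, 0, 2, 0, 0, 0, 0; 0, 0, 2, 0, 0, 0, 2; 0, 0, 0, 0, 2, 0, 0; 0, 0, 2, 1, 0, 2, 2; 0, 0, 1, 2, 0, 0, 0] := by decide +kernel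
  have c0 : mM .c * (!![2, 0, 0, 0, 0, 0, 0; 0, 2, 0, 0, 0, 0, 0; 0, 0, 2, 0, 0, 0, 0; 0, 0, 2, 0, 0, 0, 2; 0, 0, 0, 0, 2, 0, 0; 0, 0, 2, 1, 0, 2, 2; 0, 0, 1, 2, 0, 0, 0] : Matrix (Fin 7) (Fin 7) F3) = 1 := by decide +kernel
  rw [mul_one, c4, c3, c2, c1, c0]

theorem rel_R17 : ((A1.R17).map fun l => mM l.1).prod = 1 := by
  show mM .c * (mM .e * (mM .c * (mM .e * 1))) = 1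
  have c2 : mM .c * (mM .e : Matrix (Fin 7) (Fin 7) F3) = !![1, 0, 0, 0, 0, 0, 0; 0, 0, 1, 0, 1, 0, 0; 0, 0, 1, 0, 0, 0, 0; 0, 0, 1, 0, 0, 0, 1; 0, 1, 2, 0, 0, 0, 0; 0, 2, 2, 2, 1, 1, 1; 0, 0, 2, 1, 0, 0, 0] := by decide +kernel
  have c1 : mM .e * (!![1, 0, 0, 0, 0, 0, 0; 0, 0, 1, 0, 1, 0, 0; 0, 0, 1, 0, 0, 0, 0; 0, 0, 1, 0, 0, 0, 1; 0, 1, 2, 0, 0, 0, 0; 0, 2, 2, 2, 1, 1, 1; 0, 0, 2, 1, 0, 0, 0] : Matrix (Fin 7) (Fin 7) F3) = !![2, 0, 0, 0, 0, 0, 0; 0, 2, 0, 0, 0, 0, 0; 0, 0, 2, 0, 0, 0, 0; 0, 0, 2, 0, 0, 0, 2; 0, 0, 0, 0, 2, 0, 0; 0, 0, 2, 1, 0, 2, 2; 0, 0, 1, 2, 0, 0, 0] := by decide +kernel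
  have c0 : mM .c * (!![2, 0, 0, 0, 0, 0, 0; 0, 2, 0, 0, 0, 0, 0; 0, 0, 2, 0, 0, 0, 0; 0, 0, 2, 0, 0, 0, 2; 0, 0, 0, 0, 2, 0, 0; 0, 0, 2, 1, 0, 2, 2; 0, 0, 1, 2, 0, 0, 0] : Matrix (Fin 7) (Fin 7) F3) = 1 := by decide +kernel
  rw [mul_one, c2, c1, c0]

theorem rel_R18 : ((A1.R18).map fun l => mM l.1).prod = 1 := by
  show mM .c * (mM .f * (mM .c * (mM .f * 1))) = 1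
  have c2 : mM .c * (mM .f : Matrix (Fin 7) (Fin 7) F3) = !![0, 1, 0, 1, 0, 0, 1; 0, 1, 0, 0, 0, 0, 0; 0, 0, 1, 0, 0, 0, 0; 2, 1, 1, 1, 0, 0, 2; 2, 1, 0, 1, 1, 0, 1; 0, 0, 1, 2, 0, 1, 1; 2, 1, 2, 2, 0, 0, 1] := by decide +kernel
  have c1 : mM .f * (!![0, 1, 0, 1, 0, 0, 1; 0, 1, 0, 0, 0, 0, 0; 0, 0, 1, 0, 0, 0, 0; 2, 1, 1, 1, 0, 0, 2; 2, 1, 0, 1, 1, 0, 1; 0, 0, 1, 2, 0, 1, 1; 2, 1, 2, 2, 0, 0, 1] : Matrix (Fin 7) (Fin 7) F3) = !![2, 0, 0, 0, 0, 0, 0; 0, 2, 0, 0, 0, 0, 0; 0, 0, 2, 0, 0, 0, 0; 0, 0, 2, 0, 0, 0, 2; 0, 0, 0, 0, 2, 0, 0; 0, 0, 2, 1, 0, 2, 2; 0, 0, 1, 2, 0, 0, 0] := by decide +kernel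
  have c0 : mM .c * (!![2, 0, 0, 0, 0, 0, 0; 0, 2, 0, 0, 0, 0, 0; 0, 0, 2, 0, 0, 0, 0; 0, 0, 2, 0, 0, 0, 2; 0, 0, 0, 0, 2, 0, 0; 0, 0, 2, 1, 0, 2, 2; 0, 0, 1, 2, 0, 0, 0] : Matrix (Fin 7) (Fin 7) F3) = 1 := by decide +kernel
  rw [mul_one, c2, c1, c0]

theorem rel_R19 : ((A1.R19).map fun l => mM l.1).prod = 1 := by
  show mM .c * (mM .g * (mM .c * (mM .g * 1))) = 1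
  have c2 : mM .c * (mM .g : Matrix (Fin 7) (Fin 7) F3) = !![1, 0, 0, 0, 0, 0, 0; 0, 2, 0, 2, 1, 0, 2; 0, 0, 1, 0, 0, 0, 0; 0, 2, 1, 1, 2, 0, 2; 0, 1, 0, 2, 2, 0, 2; 0, 0, 1, 2, 0, 1, 1; 0, 2, 2, 2, 2, 0, 1] := by decide +kernel
  have c1 : mM .g * (!![1, 0, 0, 0, 0, 0, 0; 0, 2, 0, 2, 1, 0, 2; 0, 0, 1, 0, 0, 0, 0; 0, 2, 1, 1, 2, 0, 2; 0, 1, 0, 2, 2, 0, 2; 0, 0, 1, 2, 0, 1, 1; 0, 2, 2, 2, 2, 0, 1] : Matrix (Fin 7) (Fin 7) F3) = !![2, 0, 0, 0, 0, 0, 0; 0, 2, 0, 0, 0, 0, 0; 0, 0, 2, 0, 0, 0, 0; 0, 0, 2, 0, 0, 0, 2; 0, 0, 0, 0, 2, 0, 0; 0, 0, 2, 1, 0, 2, 2; 0, 0, 1, 2, 0, 0, 0] := by decide +kernel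
  have c0 : mM .c * (!![2, 0, 0, 0, 0, 0, 0; 0, 2, 0, 0, 0, 0, 0; 0, 0, 2, 0, 0, 0, 0; 0, 0, 2, 0, 0, 0, 2; 0, 0, 0, 0, 2, 0, 0; 0, 0, 2, 1, 0, 2, 2; 0, 0, 1, 2, 0, 0, 0] : Matrix (Fin 7) (Fin 7) F3) = 1 := by decide +kernel
  rw [mul_one, c2, c1, c0]

theorem rel_R20 : ((A1.R20).map fun l => mM l.1).prod = 1 := by
  show mM .c * (mM .h * (mM .c * (mM .h * 1))) = 1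
  have c2 : mM .c * (mM .h : Matrix (Fin 7) (Fin 7) F3) = !![1, 0, 0, 0, 0, 0, 0; 0, 2, 1, 1, 1, 0, 1; 0, 0, 1, 0, 0, 0, 0; 0, 1, 2, 1, 1, 0, 2; 0, 1, 1, 1, 2, 0, 1; 0, 1, 2, 0, 1, 1, 2; 0, 1, 0, 2, 1, 0, 1] := by decide +kernel
  have c1 : mM .h * (!![1, 0, 0, 0, 0, 0, 0; 0, 2, 1, 1, 1, 0, 1; 0, 0, 1, 0, 0, 0, 0; 0, 1, 2, 1, 1, 0, 2; 0, 1, 1, 1, 2, 0, 1; 0, 1, 2, 0, 1, 1, 2; 0, 1, 0, 2, 1, 0, 1] : Matrix (Fin 7) (Fin 7) F3) = !![2, 0, 0, 0, 0, 0, 0; 0, 2, 0, 0, 0, 0, 0; 0, 0, 2, 0, 0, 0, 0; 0, 0, 2, 0, 0, 0, 2; 0, 0, 0, 0, 2, 0, 0; 0, 0, 2, 1, 0, 2, 2; 0, 0, 1, 2, 0, 0, 0] := by decide +kernel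
  have c0 : mM .c * (!![2, 0, 0, 0, 0, 0, 0; 0, 2, 0, 0, 0, 0, 0; 0, 0, 2, 0, 0, 0, 0; 0, 0, 2, 0, 0, 0, 2; 0, 0, 0, 0, 2, 0, 0; 0, 0, 2, 1, 0, 2, 2; 0, 0, 1, 2, 0, 0, 0] : Matrix (Fin 7) (Fin 7) F3) = 1 := by decide +kernel
  rw [mul_one, c2, c1, c0]

theorem rel_R21 : ((A1.R21).map fun l => mM l.1).prod = 1 := by
  show mM .c * (mM .i * (mM .c * (mM .i * 1))) = 1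
  have c2 : mM .c * (mM .i : Matrix (Fin 7) (Fin 7) F3) = !![1, 0, 0, 0, 0, 0, 0; 0, 2, 0, 1, 1, 0, 1; 0, 0, 1, 0, 0, 0, 0; 0, 1, 1, 1, 1, 0, 2; 0, 1, 0, 1, 2, 0, 1; 0, 0, 1, 2, 0, 1, 1; 0, 1, 2, 2, 1, 0, 1] := by decide +kernel
  have c1 : mM .i * (!![1, 0, 0, 0, 0, 0, 0; 0, 2, 0, 1, 1, 0, 1; 0, 0, 1, 0, 0, 0, 0; 0, 1, 1, 1, 1, 0, 2; 0, 1, 0, 1, 2, 0, 1; 0, 0, 1, 2, 0, 1, 1; 0, 1, 2, 2, 1, 0, 1] : Matrix (Fin 7) (Fin 7) F3) = !![2, 0, 0, 0, 0, 0, 0; 0, 2, 0, 0, 0, 0, 0; 0, 0, 2, 0, 0, 0, 0; 0, 0, 2, 0, 0, 0, 2; 0, 0, 0, 0, 2, 0, 0; 0, 0, 2, 1, 0, 2, 2; 0, 0, 1, 2, 0, 0, 0] := by decide +kernel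
  have c0 : mM .c * (!![2, 0, 0, 0, 0, 0, 0; 0, 2, 0, 0, 0, 0, 0; 0, 0, 2, 0, 0, 0, 0; 0, 0, 2, 0, 0, 0, 2; 0, 0, 0, 0, 2, 0, 0; 0, 0, 2, 1, 0, 2, 2; 0, 0, 1, 2, 0, 0, 0] : Matrix (Fin 7) (Fin 7) F3) = 1 := by decide +kernel
  rw [mul_one, c2, c1, c0]

theorem rel_R22 : ((A1.R22).map fun l => mM l.1).prod = 1 := by
  show mM .d * (mM .e * (mM .d * (mM .e * (mM .d * (mM .e * 1))))) = 1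
  have c4 : mM .d * (mM .e : Matrix (Fin 7) (Fin 7) F3) = !![1, 0, 0, 0, 0, 0, 0; 0, 0, 1, 0, 1, 0, 0; 0, 2, 1, 0, 1, 1, 0; 0, 0, 0, 1, 0, 0, 0; 0, 1, 2, 0, 0, 0, 0; 0, 0, 1, 0, 0, 0, 0; 0, 0, 0, 0, 0, 0, 1] := by decide +kernel
  have c3 : mM .e * (!![1, 0, 0, 0, 0, 0, 0; 0, 0, 1, 0, 1, 0, 0; 0, 2, 1, 0, 1, 1, 0; 0, 0, 0, 1, 0, 0, 0; 0, 1, 2, 0, 0, 0, 0; 0, 0, 1, 0, 0, 0, 0; 0, 0, 0, 0, 0, 0, 1] : Matrix (Fin 7) (Fin 7) F3) = !![2, 0, 0, 0, 0, 0, 0; 0, 0, 0, 0, 2, 2, 0; 0, 1, 2, 0, 2, 2, 0; 0, 0, 0, 2, 0, 0, 0; 0, 2, 0, 0, 0, 1, 0; 0, 0, 0, 0, 0, 2, 0; 0, 0, 0, 0, 0, 0, 2] := by decide +kernel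
  have c2 : mM .d * (!![2, 0, 0, 0, 0, 0, 0; 0, 0, 0, 0, 2, 2, 0; 0, 1, 2, 0, 2, 2, 0; 0, 0, 0, 2, 0, 0, 0; 0, 2, 0, 0, 0, 1, 0; 0, 0, 0, 0, 0, 2, 0; 0, 0, 0, 0, 0, 0, 2] : Matrix (Fin 7) (Fin 7) F3) = !![1, 0, 0, 0, 0, 0, 0; 0, 0, 0, 0, 1, 1, 0; 0, 0, 0, 0, 0, 1, 0; 0, 0, 0, 1, 0, 0, 0; 0, 1, 0, 0, 0, 2, 0; 0, 2, 1, 0, 1, 1, 0; 0, 0, 0, 0, 0, 0, 1] := by decide +kernel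
  have c1 : mM .e * (!![1, 0, 0, 0, 0, 0, 0; 0, 0, 0, 0, 1, 1, 0; 0, 0, 0, 0, 0, 1, 0; 0, 0, 0, 1, 0, 0, 0; 0, 1, 0, 0, 0, 2, 0; 0, 2, 1, 0, 1, 1, 0; 0, 0, 0, 0, 0, 0, 1] : Matrix (Fin 7) (Fin 7) F3) = !![2, 0, 0, 0, 0, 0, 0; 0, 2, 0, 0, 0, 0, 0; 0, 0, 0, 0, 0, 2, 0; 0, 0, 0, 2, 0, 0, 0; 0, 0, 0, 0, 2, 0, 0; 0, 0, 2, 0, 0, 0, 0; 0, 0, 0, 0, 0, 0, 2] := by decide +kernel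
  have c0 : mM .d * (!![2, 0, 0, 0, 0, 0, 0; 0, 2, 0, 0, 0, 0, 0; 0, 0, 0, 0, 0, 2, 0; 0, 0, 0, 2, 0, 0, 0; 0, 0, 0, 0, 2, 0, 0; 0, 0, 2, 0, 0, 0, 0; 0, 0, 0, 0, 0, 0, 2] : Matrix (Fin 7) (Fin 7) F3) = 1 := by decide +kernel
  rw [mul_one, c4, c3, c2, c1, c0]

theorem rel_R23 : ((A1.R23).map fun l => mM l.1).prod = 1 := by
  show mM .d * (mM .f * (mM .d * (mM .f * 1))) = 1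
  have c2 : mM .d * (mM .f : Matrix (Fin 7) (Fin 7) F3) = !![0, 1, 0, 1, 0, 0, 1; 0, 1, 0, 0, 0, 0, 0; 0, 0, 0, 0, 0, 1, 0; 2, 1, 0, 2, 0, 0, 1; 2, 1, 0, 1, 1, 0, 1; 0, 0, 1, 0, 0, 0, 0; 2, 1, 0, 1, 0, 0, 2] := by decide +kernel
  have c1 : mM .f * (!![0, 1, 0, 1, 0, 0, 1; 0, 1, 0, 0, 0, 0, 0; 0, 0, 0, 0, 0, 1, 0; 2, 1, 0, 2, 0, 0, 1; 2, 1, 0, 1, 1, 0, 1; 0, 0, 1, 0, 0, 0, 0; 2, 1, 0, 1, 0, 0, 2] : Matrix (Fin 7) (Fin 7) F3) = !![2, 0, 0, 0, 0, 0, 0; 0, 2, 0, 0, 0, 0, 0; 0, 0, 0, 0, 0, 2, 0; 0, 0, 0, 2, 0, 0, 0; 0, 0, 0, 0, 2, 0, 0; 0, 0, 2, 0, 0, 0, 0; 0, 0, 0, 0, 0, 0, 2] := by decide +kernel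
  have c0 : mM .d * (!![2, 0, 0, 0, 0, 0, 0; 0, 2, 0, 0, 0, 0, 0; 0, 0, 0, 0, 0, 2, 0; 0, 0, 0, 2, 0, 0, 0; 0, 0, 0, 0, 2, 0, 0; 0, 0, 2, 0, 0, 0, 0; 0, 0, 0, 0, 0, 0, 2] : Matrix (Fin 7) (Fin 7) F3) = 1 := by decide +kernel
  rw [mul_one, c2, c1, c0]

theorem rel_R24 : ((A1.R24).map fun l => mM l.1).prod = 1 := by
  show mM .d * (mM .g * (mM .d * (mM .g * 1))) = 1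
  have c2 : mM .d * (mM .g : Matrix (Fin 7) (Fin 7) F3) = !![1, 0, 0, 0, 0, 0, 0; 0, 2, 0, 2, 1, 0, 2; 0, 0, 0, 0, 0, 1, 0; 0, 2, 0, 2, 2, 0, 1; 0, 1, 0, 2, 2, 0, 2; 0, 0, 1, 0, 0, 0, 0; 0, 2, 0, 1, 2, 0, 2] := by decide +kernel
  have c1 : mM .g * (!![1, 0, 0, 0, 0, 0, 0; 0, 2, 0, 2, 1, 0, 2; 0, 0, 0, 0, 0, 1, 0; 0, 2, 0, 2, 2, 0, 1; 0, 1, 0, 2, 2, 0, 2; 0, 0, 1, 0, 0, 0, 0; 0, 2, 0, 1, 2, 0, 2] : Matrix (Fin 7) (Fin 7) F3) = !![2, 0, 0, 0, 0, 0, 0; 0, 2, 0, 0, 0, 0, 0; 0, 0, 0, 0, 0, 2, 0; 0, 0, 0, 2, 0, 0, 0; 0, 0, 0, 0, 2, 0, 0; 0, 0, 2, 0, 0, 0, 0; 0, 0, 0, 0, 0, 0, 2] := by decide +kernel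
  have c0 : mM .d * (!![2, 0, 0, 0, 0, 0, 0; 0, 2, 0, 0, 0, 0, 0; 0, 0, 0, 0, 0, 2, 0; 0, 0, 0, 2, 0, 0, 0; 0, 0, 0, 0, 2, 0, 0; 0, 0, 2, 0, 0, 0, 0; 0, 0, 0, 0, 0, 0, 2] : Matrix (Fin 7) (Fin 7) F3) = 1 := by decide +kernel
  rw [mul_one, c2, c1, c0]

theorem rel_R25 : ((A1.R25).map fun l => mM l.1).prod = 1 := by
  show mM .d * (mM .h * (mM .d * (mM .h * (mM .d * (mM .h * 1))))) = 1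
  have c4 : mM .d * (mM .h : Matrix (Fin 7) (Fin 7) F3) = !![1, 0, 0, 0, 0, 0, 0; 0, 2, 1, 1, 1, 0, 1; 0, 1, 1, 1, 1, 1, 1; 0, 1, 1, 2, 1, 0, 1; 0, 1, 1, 1, 2, 0, 1; 0, 0, 1, 0, 0, 0, 0; 0, 1, 1, 1, 1, 0, 2] := by decide +kernel
  have c3 : mM .h * (!![1, 0, 0, 0, 0, 0, 0; 0, 2, 1, 1, 1, 0, 1; 0, 1, 1, 1, 1, 1, 1; 0, 1, 1, 2, 1, 0, 1; 0, 1, 1, 1, 2, 0, 1; 0, 0, 1, 0, 0, 0, 0; 0, 1, 1, 1, 1, 0, 2] : Matrix (Fin 7) (Fin 7) F3) = !![2, 0, 0, 0, 0, 0, 0; 0, 1, 0, 2, 2, 2, 2; 0, 2, 2, 2, 2, 2, 2; 0, 2, 0, 1, 2, 2, 2; 0, 2, 0, 2, 1, 2, 2; 0, 0, 0, 0, 0, 2, 0; 0, 2, 0, 2, 2, 2, 1] := by decide +kernel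
  have c2 : mM .d * (!![2, 0, 0, 0, 0, 0, 0; 0, 1, 0, 2, 2, 2, 2; 0, 2, 2, 2, 2, 2, 2; 0, 2, 0, 1, 2, 2, 2; 0, 2, 0, 2, 1, 2, 2; 0, 0, 0, 0, 0, 2, 0; 0, 2, 0, 2, 2, 2, 1] : Matrix (Fin 7) (Fin 7) F3) = !![1, 0, 0, 0, 0, 0, 0; 0, 2, 0, 1, 1, 1, 1; 0, 0, 0, 0, 0, 1, 0; 0, 1, 0, 2, 1, 1, 1; 0, 1, 0, 1, 2, 1, 1; 0, 1, 1, 1, 1, 1, 1; 0, 1, 0, 1, 1, 1, 2] := by decide +kernel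
  have c1 : mM .h * (!![1, 0, 0, 0, 0, 0, 0; 0, 2, 0, 1, 1, 1, 1; 0, 0, 0, 0, 0, 1, 0; 0, 1, 0, 2, 1, 1, 1; 0, 1, 0, 1, 2, 1, 1; 0, 1, 1, 1, 1, 1, 1; 0, 1, 0, 1, 1, 1, 2] : Matrix (Fin 7) (Fin 7) F3) = !![2, 0, 0, 0, 0, 0, 0; 0, 2, 0, 0, 0, 0, 0; 0, 0, 0, 0, 0, 2, 0; 0, 0, 0, 2, 0, 0, 0; 0, 0, 0, 0, 2, 0, 0; 0, 0, 2, 0, 0, 0, 0; 0, 0, 0, 0, 0, 0, 2] := by decide +kernel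
  have c0 : mM .d * (!![2, 0, 0, 0, 0, 0, 0; 0, 2, 0, 0, 0, 0, 0; 0, 0, 0, 0, 0, 2, 0; 0, 0, 0, 2, 0, 0, 0; 0, 0, 0, 0, 2, 0, 0; 0, 0, 2, 0, 0, 0, 0; 0, 0, 0, 0, 0, 0, 2] : Matrix (Fin 7) (Fin 7) F3) = 1 := by decide +kernel
  rw [mul_one, c4, c3, c2, c1, c0]

theorem rel_R26 : ((A1.R26).map fun l => mM l.1).prod = 1 := by
  show mM .d * (mM .i * (mM .d * (mM .i * 1))) = 1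
  have c2 : mM .d * (mM .i : Matrix (Fin 7) (Fin 7) F3) = !![1, 0, 0, 0, 0, 0, 0; 0, 2, 0, 1, 1, 0, 1; 0, 0, 0, 0, 0, 1, 0; 0, 1, 0, 2, 1, 0, 1; 0, 1, 0, 1, 2, 0, 1; 0, 0, 1, 0, 0, 0, 0; 0, 1, 0, 1, 1, 0, 2] := by decide +kernel
  have c1 : mM .i * (!![1, 0, 0, 0, 0, 0, 0; 0, 2, 0, 1, 1, 0, 1; 0, 0, 0, 0, 0, 1, 0; 0, 1, 0, 2, 1, 0, 1; 0, 1, 0, 1, 2, 0, 1; 0, 0, 1, 0, 0, 0, 0; 0, 1, 0, 1, 1, 0, 2] : Matrix (Fin 7) (Fin 7) F3) = !![2, 0, 0, 0, 0, 0, 0; 0, 2, 0, 0, 0, 0, 0; 0, 0, 0, 0, 0, 2, 0; 0, 0, 0, 2, 0, 0, 0; 0, 0, 0, 0, 2, 0, 0; 0, 0, 2, 0, 0, 0, 0; 0, 0, 0, 0, 0, 0, 2] := by decide +kernel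
  have c0 : mM .d * (!![2, 0, 0, 0, 0, 0, 0; 0, 2, 0, 0, 0, 0, 0; 0, 0, 0, 0, 0, 2, 0; 0, 0, 0, 2, 0, 0, 0; 0, 0, 0, 0, 2, 0, 0; 0, 0, 2, 0, 0, 0, 0; 0, 0, 0, 0, 0, 0, 2] : Matrix (Fin 7) (Fin 7) F3) = 1 := by decide +kernel
  rw [mul_one, c2, c1, c0]

theorem rel_R27 : ((A1.R27).map fun l => mM l.1).prod = 1 := by
  show mM .e * (mM .f * (mM .e * (mM .f * (mM .e * (mM .f * 1))))) = 1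
  have c4 : mM .e * (mM .f : Matrix (Fin 7) (Fin 7) F3) = !![0, 1, 0, 1, 0, 0, 1; 2, 1, 1, 1, 1, 0, 1; 0, 0, 1, 0, 0, 0, 0; 2, 1, 0, 2, 0, 0, 1; 0, 1, 2, 0, 0, 0, 0; 2, 0, 1, 1, 1, 1, 1; 2, 1, 0, 1, 0, 0, 2] := by decide +kernel
  have c3 : mM .f * (!![0, 1, 0, 1, 0, 0, 1; 2, 1, 1, 1, 1, 0, 1; 0, 0, 1, 0, 0, 0, 0; 2, 1, 0, 2, 0, 0, 1; 0, 1, 2, 0, 0, 0, 0; 2, 0, 1, 1, 1, 1, 1; 2, 1, 0, 1, 0, 0, 2] : Matrix (Fin 7) (Fin 7) F3) = !![0, 0, 2, 2, 2, 0, 2; 1, 2, 2, 2, 2, 0, 2; 0, 0, 2, 0, 0, 0, 0; 1, 0, 2, 1, 2, 0, 2; 0, 0, 0, 0, 2, 0, 0; 1, 0, 2, 2, 2, 2, 2; 1, 0, 2, 2, 2, 0, 1] := by decide +kernel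
  have c2 : mM .e * (!![0, 0, 2, 2, 2, 0, 2; 1, 2, 2, 2, 2, 0, 2; 0, 0, 2, 0, 0, 0, 0; 1, 0, 2, 1, 2, 0, 2; 0, 0, 0, 0, 2, 0, 0; 1, 0, 2, 2, 2, 2, 2; 1, 0, 2, 2, 2, 0, 1] : Matrix (Fin 7) (Fin 7) F3) = !![0, 0, 1, 1, 1, 0, 1; 0, 0, 1, 0, 1, 0, 0; 0, 0, 1, 0, 0, 0, 0; 2, 0, 1, 2, 1, 0, 1; 2, 1, 0, 1, 1, 0, 1; 0, 2, 1, 0, 1, 1, 0; 2, 0, 1, 1, 1, 0, 2] := by decide +kernel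
  have c1 : mM .f * (!![0, 0, 1, 1, 1, 0, 1; 0, 0, 1, 0, 1, 0, 0; 0, 0, 1, 0, 0, 0, 0; 2, 0, 1, 2, 1, 0, 1; 2, 1, 0, 1, 1, 0, 1; 0, 2, 1, 0, 1, 1, 0; 2, 0, 1, 1, 1, 0, 2] : Matrix (Fin 7) (Fin 7) F3) = !![2, 0, 0, 0, 0, 0, 0; 0, 0, 2, 0, 2, 0, 0; 0, 0, 2, 0, 0, 0, 0; 0, 0, 0, 2, 0, 0, 0; 0, 2, 1, 0, 0, 0, 0; 0, 1, 2, 0, 2, 2, 0; 0, 0, 0, 0, 0, 0, 2] := by decide +kernel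
  have c0 : mM .e * (!![2, 0, 0, 0, 0, 0, 0; 0, 0, 2, 0, 2, 0, 0; 0, 0, 2, 0, 0, 0, 0; 0, 0, 0, 2, 0, 0, 0; 0, 2, 1, 0, 0, 0, 0; 0, 1, 2, 0, 2, 2, 0; 0, 0, 0, 0, 0, 0, 2] : Matrix (Fin 7) (Fin 7) F3) = 1 := by decide +kernel
  rw [mul_one, c4, c3, c2, c1, c0]

theorem rel_R28 : ((A1.R28).map fun l => mM l.1).prod = 1 := by
  show mM .e * (mM .g * (mM .e * (mM .g * 1))) = 1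
  have c2 : mM .e * (mM .g : Matrix (Fin 7) (Fin 7) F3) = !![1, 0, 0, 0, 0, 0, 0; 0, 1, 1, 2, 2, 0, 2; 0, 0, 1, 0, 0, 0, 0; 0, 2, 0, 2, 2, 0, 1; 0, 2, 2, 2, 1, 0, 2; 0, 2, 1, 0, 1, 1, 0; 0, 2, 0, 1, 2, 0, 2] := by decide +kernel
  have c1 : mM .g * (!![1, 0, 0, 0, 0, 0, 0; 0, 1, 1, 2, 2, 0, 2; 0, 0, 1, 0, 0, 0, 0; 0, 2, 0, 2, 2, 0, 1; 0, 2, 2, 2, 1, 0, 2; 0, 2, 1, 0, 1, 1, 0; 0, 2, 0, 1, 2, 0, 2] : Matrix (Fin 7) (Fin 7) F3) = !![2, 0, 0, 0, 0, 0, 0; 0, 0, 2, 0, 2, 0, 0; 0, 0, 2, 0, 0, 0, 0; 0, 0, 0, 2, 0, 0, 0; 0, 2, 1, 0, 0, 0, 0; 0, 1, 2, 0, 2, 2, 0; 0, 0, 0, 0, 0, 0, 2] := by decide +kernel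
  have c0 : mM .e * (!![2, 0, 0, 0, 0, 0, 0; 0, 0, 2, 0, 2, 0, 0; 0, 0, 2, 0, 0, 0, 0; 0, 0, 0, 2, 0, 0, 0; 0, 2, 1, 0, 0, 0, 0; 0, 1, 2, 0, 2, 2, 0; 0, 0, 0, 0, 0, 0, 2] : Matrix (Fin 7) (Fin 7) F3) = 1 := by decide +kernel
  rw [mul_one, c2, c1, c0]

theorem rel_R29 : ((A1.R29).map fun l => mM l.1).prod = 1 := by
  show mM .e * (mM .h * (mM .e * (mM .h * 1))) = 1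
  have c2 : mM .e * (mM .h : Matrix (Fin 7) (Fin 7) F3) = !![1, 0, 0, 0, 0, 0, 0; 0, 1, 2, 1, 2, 0, 1; 0, 0, 1, 0, 0, 0, 0; 0, 1, 1, 2, 1, 0, 1; 0, 2, 0, 1, 1, 0, 1; 0, 0, 2, 1, 2, 1, 1; 0, 1, 1, 1, 1, 0, 2] := by decide +kernel
  have c1 : mM .h * (!![1, 0, 0, 0, 0, 0, 0; 0, 1, 2, 1, 2, 0, 1; 0, 0, 1, 0, 0, 0, 0; 0, 1, 1, 2, 1, 0, 1; 0, 2, 0, 1, 1, 0, 1; 0, 0, 2, 1, 2, 1, 1; 0, 1, 1, 1, 1, 0, 2] : Matrix (Fin 7) (Fin 7) F3) = !![2, 0, 0, 0, 0, 0, 0; 0, 0, 2, 0, 2, 0, 0; 0, 0, 2, 0, 0, 0, 0; 0, 0, 0, 2, 0, 0, 0; 0, 2, 1, 0, 0, 0, 0; 0, 1, 2, 0, 2, 2, 0; 0, 0, 0, 0, 0, 0, 2] := by decide +kernel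
  have c0 : mM .e * (!![2, 0, 0, 0, 0, 0, 0; 0, 0, 2, 0, 2, 0, 0; 0, 0, 2, 0, 0, 0, 0; 0, 0, 0, 2, 0, 0, 0; 0, 2, 1, 0, 0, 0, 0; 0, 1, 2, 0, 2, 2, 0; 0, 0, 0, 0, 0, 0, 2] : Matrix (Fin 7) (Fin 7) F3) = 1 := by decide +kernel
  rw [mul_one, c2, c1, c0]

theorem rel_R30 : ((A1.R30).map fun l => mM l.1).prod = 1 := by
  show mM .e * (mM .i * (mM .e * (mM .i * 1))) = 1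
  have c2 : mM .e * (mM .i : Matrix (Fin 7) (Fin 7) F3) = !![1, 0, 0, 0, 0, 0, 0; 0, 1, 1, 1, 2, 0, 1; 0, 0, 1, 0, 0, 0, 0; 0, 1, 0, 2, 1, 0, 1; 0, 2, 2, 1, 1, 0, 1; 0, 2, 1, 0, 1, 1, 0; 0, 1, 0, 1, 1, 0, 2] := by decide +kernel
  have c1 : mM .i * (!![1, 0, 0, 0, 0, 0, 0; 0, 1, 1, 1, 2, 0, 1; 0, 0, 1, 0, 0, 0, 0; 0, 1, 0, 2, 1, 0, 1; 0, 2, 2, 1, 1, 0, 1; 0, 2, 1, 0, 1, 1, 0; 0, 1, 0, 1, 1, 0, 2] : Matrix (Fin 7) (Fin 7) F3) = !![2, 0, 0, 0, 0, 0, 0; 0, 0, 2, 0, 2, 0, 0; 0, 0, 2, 0, 0, 0, 0; 0, 0, 0, 2, 0, 0, 0; 0, 2, 1, 0, 0, 0, 0; 0, 1, 2, 0, 2, 2, 0; 0, 0, 0, 0, 0, 0, 2] := by decide +kernel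
  have c0 : mM .e * (!![2, 0, 0, 0, 0, 0, 0; 0, 0, 2, 0, 2, 0, 0; 0, 0, 2, 0, 0, 0, 0; 0, 0, 0, 2, 0, 0, 0; 0, 2, 1, 0, 0, 0, 0; 0, 1, 2, 0, 2, 2, 0; 0, 0, 0, 0, 0, 0, 2] : Matrix (Fin 7) (Fin 7) F3) = 1 := by decide +kernel
  rw [mul_one, c2, c1, c0]

theorem rel_R31 : ((A1.R31).map fun l => mM l.1).prod = 1 := by
  show mM .f * (mM .g * (mM .f * (mM .g * (mM .f * (mM .g * 1))))) = 1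
  have c4 : mM .f * (mM .g : Matrix (Fin 7) (Fin 7) F3) = !![0, 0, 0, 2, 2, 0, 2; 0, 2, 0, 2, 1, 0, 2; 0, 0, 1, 0, 0, 0, 0; 2, 2, 0, 1, 1, 0, 0; 2, 1, 0, 1, 1, 0, 1; 0, 0, 0, 0, 0, 1, 0; 2, 2, 0, 0, 1, 0, 1] := by decide +kernel
  have c3 : mM .g * (!![0, 0, 0, 2, 2, 0, 2; 0, 2, 0, 2, 1, 0, 2; 0, 0, 1, 0, 0, 0, 0; 2, 2, 0, 1, 1, 0, 0; 2, 1, 0, 1, 1, 0, 1; 0, 0, 0, 0, 0, 1, 0; 2, 2, 0, 0, 1, 0, 1] : Matrix (Fin 7) (Fin 7) F3) = !![0, 0, 0, 1, 1, 0, 1; 2, 2, 0, 2, 2, 0, 2; 0, 0, 2, 0, 0, 0, 0; 2, 0, 0, 1, 2, 0, 2; 0, 0, 0, 0, 2, 0, 0; 0, 0, 0, 0, 0, 2, 0; 2, 0, 0, 2, 2, 0, 1] := by decide +kernel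
  have c2 : mM .f * (!![0, 0, 0, 1, 1, 0, 1; 2, 2, 0, 2, 2, 0, 2; 0, 0, 2, 0, 0, 0, 0; 2, 0, 0, 1, 2, 0, 2; 0, 0, 0, 0, 2, 0, 0; 0, 0, 0, 0, 0, 2, 0; 2, 0, 0, 2, 2, 0, 1] : Matrix (Fin 7) (Fin 7) F3) = !![0, 1, 0, 1, 0, 0, 1; 1, 1, 0, 1, 1, 0, 1; 0, 0, 1, 0, 0, 0, 0; 1, 1, 0, 1, 2, 0, 0; 0, 1, 0, 2, 2, 0, 2; 0, 0, 0, 0, 0, 1, 0; 1, 1, 0, 0, 2, 0, 1] := by decide +kernel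
  have c1 : mM .g * (!![0, 1, 0, 1, 0, 0, 1; 1, 1, 0, 1, 1, 0, 1; 0, 0, 1, 0, 0, 0, 0; 1, 1, 0, 1, 2, 0, 0; 0, 1, 0, 2, 2, 0, 2; 0, 0, 0, 0, 0, 1, 0; 1, 1, 0, 0, 2, 0, 1] : Matrix (Fin 7) (Fin 7) F3) = !![0, 2, 0, 2, 0, 0, 2; 0, 2, 0, 0, 0, 0, 0; 0, 0, 2, 0, 0, 0, 0; 1, 2, 0, 1, 0, 0, 2; 1, 2, 0, 2, 2, 0, 2; 0, 0, 0, 0, 0, 2, 0; 1, 2, 0, 2, 0, 0, 1] := by decide +kernel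
  have c0 : mM .f * (!![0, 2, 0, 2, 0, 0, 2; 0, 2, 0, 0, 0, 0, 0; 0, 0, 2, 0, 0, 0, 0; 1, 2, 0, 1, 0, 0, 2; 1, 2, 0, 2, 2, 0, 2; 0, 0, 0, 0, 0, 2, 0; 1, 2, 0, 2, 0, 0, 1] : Matrix (Fin 7) (Fin 7) F3) = 1 := by decide +kernel
  rw [mul_one, c4, c3, c2, c1, c0]

theorem rel_R32 : ((A1.R32).map fun l => mM l.1).prod = 1 := by
  show mM .f * (mM .h * (mM .f * (mM .h * 1))) = 1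
  have c2 : mM .f * (mM .h : Matrix (Fin 7) (Fin 7) F3) = !![0, 1, 0, 1, 0, 0, 1; 0, 2, 1, 1, 1, 0, 1; 0, 0, 1, 0, 0, 0, 0; 2, 2, 1, 0, 1, 0, 2; 2, 2, 1, 2, 2, 0, 2; 0, 1, 1, 1, 1, 1, 1; 2, 2, 1, 2, 1, 0, 0] := by decide +kernel
  have c1 : mM .h * (!![0, 1, 0, 1, 0, 0, 1; 0, 2, 1, 1, 1, 0, 1; 0, 0, 1, 0, 0, 0, 0; 2, 2, 1, 0, 1, 0, 2; 2, 2, 1, 2, 2, 0, 2; 0, 1, 1, 1, 1, 1, 1; 2, 2, 1, 2, 1, 0, 0] : Matrix (Fin 7) (Fin 7) F3) = !![0, 2, 0, 2, 0, 0, 2; 0, 2, 0, 0, 0, 0, 0; 0, 0, 2, 0, 0, 0, 0; 1, 2, 0, 1, 0, 0, 2; 1, 2, 0, 2, 2, 0, 2; 0, 0, 0, 0, 0, 2, 0; 1, 2, 0, 2, 0, 0, 1] := by decide +kernel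
  have c0 : mM .f * (!![0, 2, 0, 2, 0, 0, 2; 0, 2, 0, 0, 0, 0, 0; 0, 0, 2, 0, 0, 0, 0; 1, 2, 0, 1, 0, 0, 2; 1, 2, 0, 2, 2, 0, 2; 0, 0, 0, 0, 0, 2, 0; 1, 2, 0, 2, 0, 0, 1] : Matrix (Fin 7) (Fin 7) F3) = 1 := by decide +kernel
  rw [mul_one, c2, c1, c0]

theorem rel_R33 : ((A1.R33).map fun l => mM l.1).prod = 1 := by
  show mM .f * (mM .i * (mM .f * (mM .i * 1))) = 1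
  have c2 : mM .f * (mM .i : Matrix (Fin 7) (Fin 7) F3) = !![0, 1, 0, 1, 0, 0, 1; 0, 2, 0, 1, 1, 0, 1; 0, 0, 1, 0, 0, 0, 0; 2, 2, 0, 0, 1, 0, 2; 2, 2, 0, 2, 2, 0, 2; 0, 0, 0, 0, 0, 1, 0; 2, 2, 0, 2, 1, 0, 0] := by decide +kernel
  have c1 : mM .i * (!![0, 1, 0, 1, 0, 0, 1; 0, 2, 0, 1, 1, 0, 1; 0, 0, 1, 0, 0, 0, 0; 2, 2, 0, 0, 1, 0, 2; 2, 2, 0, 2, 2, 0, 2; 0, 0, 0, 0, 0, 1, 0; 2, 2, 0, 2, 1, 0, 0] : Matrix (Fin 7) (Fin 7) F3) = !![0, 2, 0, 2, 0, 0, 2; 0, 2, 0, 0, 0, 0, 0; 0, 0, 2, 0, 0, 0, 0; 1, 2, 0, 1, 0, 0, 2; 1, 2, 0, 2, 2, 0, 2; 0, 0, 0, 0, 0, 2, 0; 1, 2, 0, 2, 0, 0, 1] := by decide +kernel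
  have c0 : mM .f * (!![0, 2, 0, 2, 0, 0, 2; 0, 2, 0, 0, 0, 0, 0; 0, 0, 2, 0, 0, 0, 0; 1, 2, 0, 1, 0, 0, 2; 1, 2, 0, 2, 2, 0, 2; 0, 0, 0, 0, 0, 2, 0; 1, 2, 0, 2, 0, 0, 1] : Matrix (Fin 7) (Fin 7) F3) = 1 := by decide +kernel
  rw [mul_one, c2, c1, c0]

theorem rel_R34 : ((A1.R34).map fun l => mM l.1).prod = 1 := by
  show mM .g * (mM .h * (mM .g * (mM .h * 1))) = 1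
  have c2 : mM .g * (mM .h : Matrix (Fin 7) (Fin 7) F3) = !![1, 0, 0, 0, 0, 0, 0; 0, 0, 1, 0, 2, 0, 0; 0, 0, 1, 0, 0, 0, 0; 0, 0, 1, 0, 0, 0, 2; 0, 2, 1, 0, 0, 0, 0; 0, 1, 1, 1, 1, 1, 1; 0, 0, 1, 2, 0, 0, 0] := by decide +kernel
  have c1 : mM .h * (!![1, 0, 0, 0, 0, 0, 0; 0, 0, 1, 0, 2, 0, 0; 0, 0, 1, 0, 0, 0, 0; 0, 0, 1, 0, 0, 0, 2; 0, 2, 1, 0, 0, 0, 0; 0, 1, 1, 1, 1, 1, 1; 0, 0, 1, 2, 0, 0, 0] : Matrix (Fin 7) (Fin 7) F3) = !![2, 0, 0, 0, 0, 0, 0; 0, 1, 0, 1, 2, 0, 1; 0, 0, 2, 0, 0, 0, 0; 0, 1, 0, 1, 1, 0, 2; 0, 2, 0, 1, 1, 0, 1; 0, 0, 0, 0, 0, 2, 0; 0, 1, 0, 2, 1, 0, 1] := by decide +kernel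
  have c0 : mM .g * (!![2, 0, 0, 0, 0, 0, 0; 0, 1, 0, 1, 2, 0, 1; 0, 0, 2, 0, 0, 0, 0; 0, 1, 0, 1, 1, 0, 2; 0, 2, 0, 1, 1, 0, 1; 0, 0, 0, 0, 0, 2, 0; 0, 1, 0, 2, 1, 0, 1] : Matrix (Fin 7) (Fin 7) F3) = 1 := by decide +kernel
  rw [mul_one, c2, c1, c0]

theorem rel_R35 : ((A1.R35).map fun l => mM l.1).prod = 1 := by
  show mM .g * (mM .i * (mM .g * (mM .i * 1))) = 1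
  have c2 : mM .g * (mM .i : Matrix (Fin 7) (Fin 7) F3) = !![1, 0, 0, 0, 0, 0, 0; 0, 0, 0, 0, 2, 0, 0; 0, 0, 1, 0, 0, 0, 0; 0, 0, 0, 0, 0, 0, 2; 0, 2, 0, 0, 0, 0, 0; 0, 0, 0, 0, 0, 1, 0; 0, 0, 0, 2, 0, 0, 0] := by decide +kernel
  have c1 : mM .i * (!![1, 0, 0, 0, 0, 0, 0; 0, 0, 0, 0, 2, 0, 0; 0, 0, 1, 0, 0, 0, 0; 0, 0, 0, 0, 0, 0, 2; 0, 2, 0, 0, 0, 0, 0; 0, 0, 0, 0, 0, 1, 0; 0, 0, 0, 2, 0, 0, 0] : Matrix (Fin 7) (Fin 7) F3) = !![2, 0, 0, 0, 0, 0, 0; 0, 1, 0, 1, 2, 0, 1; 0, 0, 2, 0, 0, 0, 0; 0, 1, 0, 1, 1, 0, 2; 0, 2, 0, 1, 1, 0, 1; 0, 0, 0, 0, 0, 2, 0; 0, 1, 0, 2, 1, 0, 1] := by decide +kernel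
  have c0 : mM .g * (!![2, 0, 0, 0, 0, 0, 0; 0, 1, 0, 1, 2, 0, 1; 0, 0, 2, 0, 0, 0, 0; 0, 1, 0, 1, 1, 0, 2; 0, 2, 0, 1, 1, 0, 1; 0, 0, 0, 0, 0, 2, 0; 0, 1, 0, 2, 1, 0, 1] : Matrix (Fin 7) (Fin 7) F3) = 1 := by decide +kernel
  rw [mul_one, c2, c1, c0]

theorem rel_R36 : ((A1.R36).map fun l => mM l.1).prod = 1 := by
  show mM .h * (mM .i * (mM .h * (mM .i * (mM .h * (mM .i * 1))))) = 1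
  have c4 : mM .h * (mM .i : Matrix (Fin 7) (Fin 7) F3) = !![1, 0, 0, 0, 0, 0, 0; 0, 1, 1, 0, 0, 0, 0; 0, 0, 1, 0, 0, 0, 0; 0, 0, 1, 1, 0, 0, 0; 0, 0, 1, 0, 1, 0, 0; 0, 2, 1, 2, 2, 1, 2; 0, 0, 1, 0, 0, 0, 1] := by decide +kernel
  have c3 : mM .i * (!![1, 0, 0, 0, 0, 0, 0; 0, 1, 1, 0, 0, 0, 0; 0, 0, 1, 0, 0, 0, 0; 0, 0, 1, 1, 0, 0, 0; 0, 0, 1, 0, 1, 0, 0; 0, 2, 1, 2, 2, 1, 2; 0, 0, 1, 0, 0, 0, 1] : Matrix (Fin 7) (Fin 7) F3) = !![2, 0, 0, 0, 0, 0, 0; 0, 1, 1, 2, 2, 0, 2; 0, 0, 2, 0, 0, 0, 0; 0, 2, 1, 1, 2, 0, 2; 0, 2, 1, 2, 1, 0, 2; 0, 1, 2, 1, 1, 2, 1; 0, 2, 1, 2, 2, 0, 1] := by decide +kernel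
  have c2 : mM .h * (!![2, 0, 0, 0, 0, 0, 0; 0, 1, 1, 2, 2, 0, 2; 0, 0, 2, 0, 0, 0, 0; 0, 2, 1, 1, 2, 0, 2; 0, 2, 1, 2, 1, 0, 2; 0, 1, 2, 1, 1, 2, 1; 0, 2, 1, 2, 2, 0, 1] : Matrix (Fin 7) (Fin 7) F3) = !![1, 0, 0, 0, 0, 0, 0; 0, 1, 2, 0, 0, 0, 0; 0, 0, 1, 0, 0, 0, 0; 0, 0, 2, 1, 0, 0, 0; 0, 0, 2, 0, 1, 0, 0; 0, 1, 1, 1, 1, 1, 1; 0, 0, 2, 0, 0, 0, 1] := by decide +kernel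
  have c1 : mM .i * (!![1, 0, 0, 0, 0, 0, 0; 0, 1, 2, 0, 0, 0, 0; 0, 0, 1, 0, 0, 0, 0; 0, 0, 2, 1, 0, 0, 0; 0, 0, 2, 0, 1, 0, 0; 0, 1, 1, 1, 1, 1, 1; 0, 0, 2, 0, 0, 0, 1] : Matrix (Fin 7) (Fin 7) F3) = !![2, 0, 0, 0, 0, 0, 0; 0, 1, 2, 2, 2, 0, 2; 0, 0, 2, 0, 0, 0, 0; 0, 2, 2, 1, 2, 0, 2; 0, 2, 2, 2, 1, 0, 2; 0, 2, 2, 2, 2, 2, 2; 0, 2, 2, 2, 2, 0, 1] := by decide +kernel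
  have c0 : mM .h * (!![2, 0, 0, 0, 0, 0, 0; 0, 1, 2, 2, 2, 0, 2; 0, 0, 2, 0, 0, 0, 0; 0, 2, 2, 1, 2, 0, 2; 0, 2, 2, 2, 1, 0, 2; 0, 2, 2, 2, 2, 2, 2; 0, 2, 2, 2, 2, 0, 1] : Matrix (Fin 7) (Fin 7) F3) = 1 := by decide +kernel
  rw [mul_one, c4, c3, c2, c1, c0]

end Cfsg.Agent.Helper92.O7
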