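import Cfsg.Agent.Lib.Helper7.Octads
import Cfsg.Agent.Lib.Helper7.Steiner
import Cfsg.Agent.Lib.Helper92.CodeBasic

/-!
# The disjointness graph on the octads

Existence of common disjoint neighbours, by reduction to the root octad (transitivity of `M24`
on the octads) and a kernel-checked enumeration.
-/

set_option autoImplicit false

namespace Cfsg.Agent.Helper92

open Cfsg Cfsg.Agent.Helper7
open scoped Pointwise

/-- The 30 octads disjoint from the root octad. -/
def c30 : List ℕ := [1009728, 1256224, 1852256, 2220640, 3050016, 3328320, 4038912, 4645632, 4819776, 5621792, 5939296, 6750560, 6842656, 7612992, 8077824, 8694112, 9158944, 9929280, 10021376, 10832640, 11150144, 11952160, 12126304, 12733024, 13443616, 13721920, 14551296, 14919680, 15515712, 15762208]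

theorem c30_ok : c30.all (fun a => isOct a && Nat.beq (Nat.land a octRoot) 0) = true := by
  decide +kernel

/-- The Boolean check on a code word `m`: if it is an octad meeting the root in four points some
member of `c30` is disjoint from it; if it meets the root in two points some member of `c30` meets
it in four points. -/
def chkOG (m : ℕ) : Bool :=
  !(Nat.beq (popcF m) 8) ||
    ((!(Nat.beq (popcF (Nat.land octRoot m)) 4) || c30.any (fun a => Nat.beq (Nat.land a m) 0)) &&
     (!(Nat.beq (popcF (Nat.land octRoot m)) 2) ||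
        c30.any (fun a => Nat.beq (popcF (Nat.land a m)) 4)))

theorem chkOG_all : codeList.all chkOG = true := by decide +kernel

theorem c30_spec {a : ℕ} (ha : a ∈ c30) :
    ofMask a ∈ octads ∧ Disjoint (ofMask a) (ofMask octRoot) := by
  have h := List.all_eq_true.mp c30_ok a ha
  rw [Bool.and_eq_true, Nat.beq_eq] at h
  refine ⟨isOct_spec h.1, ?_⟩
  rw [Finset.disjoint_iff_inter_eq_empty, ← ofMask_land, h.2]
  ext p
  simp [ofMask]

theorem ofMask_zero : ofMask 0 = ∅ := by
  ext p
  simp [ofMask]

theorem root_cases : ∀ b ∈ supports (golayCode : Set W), b.card = 8 →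
    ((ofMask octRoot ∩ b).card = 4 →
      ∃ a ∈ octads, Disjoint a (ofMask octRoot) ∧ Disjoint a b) ∧
    ((ofMask octRoot ∩ b).card = 2 →
      ∃ a ∈ octads, Disjoint a (ofMask octRoot) ∧ (a ∩ b).card = 4) := by
  refine forall_code' _ chkOG ?_ chkOG_all
  intro m hm hc
  rw [card_ofMask'] at hc
  simp only [chkOG, hc, Nat.beq_refl, Bool.not_true, Bool.false_or, Bool.and_eq_true,
    Bool.or_eq_true, Bool.not_eq_true', List.any_eq_true] at hm
  constructor
  · intro h4
    rw [← ofMask_land, card_ofMask'] at h4
    rcases hm.1 with h | ⟨a, ha, hz⟩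
    · rw [h4] at h; exact absurd h (by decide)
    · obtain ⟨h1, h2⟩ := c30_spec ha
      refine ⟨ofMask a, h1, h2, ?_⟩
      rw [Nat.beq_eq] at hz
      rw [Finset.disjoint_iff_inter_eq_empty, ← ofMask_land, hz, ofMask_zero]
  · intro h2
    rw [← ofMask_land, card_ofMask'] at h2
    rcases hm.2 with h | ⟨a, ha, hz⟩
    · rw [h2] at h; exact absurd h (by decide)
    · obtain ⟨h1, h2'⟩ := c30_spec ha
      refine ⟨ofMask a, h1, h2', ?_⟩
      rw [Nat.beq_eq] at hz
      rw [← ofMask_land, card_ofMask', hz]

theorem octad_transport {o : Finset GolayPt} (ho : o ∈ octads) :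
    ∃ g ∈ M24, g • ofMask octRoot = o :=
  octad_reach M24 le_rfl shift_mem projInv_mem cubeTwist_mem o ho

theorem disjoint_smul_iff (g : Equiv.Perm GolayPt) (s t : Finset GolayPt) :
    Disjoint (g • s) (g • t) ↔ Disjoint s t := by
  rw [Finset.disjoint_iff_inter_eq_empty, Finset.disjoint_iff_inter_eq_empty,
    ← Finset.smul_finset_inter]
  constructor
  · intro h
    have := congrArg Finset.card h
    rw [Finset.card_smul_finset, Finset.card_empty] at this
    exact Finset.card_eq_zero.mp this
  · intro h
    rw [h, Finset.smul_finset_empty]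

/-- Two octads meeting in four points have a common disjoint octad. -/
theorem exists_disjoint_both {o o' : Finset GolayPt} (ho : o ∈ octads) (ho' : o' ∈ octads)
    (h4 : (o ∩ o').card = 4) : ∃ a ∈ octads, Disjoint a o ∧ Disjoint a o' := by
  obtain ⟨g, hg, rfl⟩ := octad_transport ho
  have hb : g⁻¹ • o' ∈ octads := smul_mem_octads (M24.inv_mem hg) ho'
  have hcard : (ofMask octRoot ∩ g⁻¹ • o').card = 4 := by
    rw [← Finset.card_smul_finset g, Finset.smul_finset_inter, smul_inv_smul]
    exact h4
  obtain ⟨a, ha, h1, h2⟩ := (root_cases _ hb.1 hb.2).1 hcard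
  refine ⟨g • a, smul_mem_octads hg ha, (disjoint_smul_iff g _ _).mpr h1, ?_⟩
  have := (disjoint_smul_iff g _ _).mpr h2
  rwa [smul_inv_smul] at this

/-- For two octads meeting in two points, some octad is disjoint from the first and meets the
second in four points. -/
theorem exists_disjoint_four {o o' : Finset GolayPt} (ho : o ∈ octads) (ho' : o' ∈ octads)
    (h2 : (o ∩ o').card = 2) : ∃ a ∈ octads, Disjoint a o ∧ (a ∩ o').card = 4 := by
  obtain ⟨g, hg, rfl⟩ := octad_transport ho
  have hb : g⁻¹ • o' ∈ octads := smul_mem_octads (M24.inv_mem hg) ho'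
  have hcard : (ofMask octRoot ∩ g⁻¹ • o').card = 2 := by
    rw [← Finset.card_smul_finset g, Finset.smul_finset_inter, smul_inv_smul]
    exact h2
  obtain ⟨a, ha, h1, h4⟩ := (root_cases _ hb.1 hb.2).2 hcard
  refine ⟨g • a, smul_mem_octads hg ha, (disjoint_smul_iff g _ _).mpr h1, ?_⟩
  rw [← Finset.card_smul_finset g, Finset.smul_finset_inter, smul_inv_smul] at h4
  exact h4

end Cfsg.Agent.Helper92
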