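import Cfsg.Agent.Lib.Helper92.OrbitFams

/-!
# Orbit certificate data (generated)
-/

set_option autoImplicit false
set_option maxRecDepth 1000000

namespace Cfsg.Agent.Helper92
open Cfsg Cfsg.Agent.Helper7
open scoped Pointwise

def bM_q0 : List ℕ := []

def bM_prog : List (ℕ × ℕ) := []

def bM_tabs : List (List ℕ) := [[1, 2, 3, 4, 5, 6, 7, 8, 9, 10, 11, 12, 13, 14, 15, 16, 17, 18, 19, 20, 21, 22, 0, 23], [23, 22, 11, 15, 17, 9, 19, 13, 20, 5, 16, 2, 21, 7, 18, 3, 10, 4, 14, 6, 8, 12, 1, 0], [0, 18, 6, 3, 2, 21, 1, 5, 16, 12, 7, 19, 8, 9, 17, 15, 13, 11, 4, 22, 10, 20, 14, 23]]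

def bM_oct : List (ℕ × List ℕ × List ℕ) := [(0, [5279], [nat_lit 0, nat_lit 0, nat_lit 0, nat_lit 0, nat_lit 0, nat_lit 0, nat_lit 0, nat_lit 0, nat_lit 17, nat_lit 18, nat_lit 0, nat_lit 49, nat_lit 33, nat_lit 0, nat_lit 0, nat_lit 0, nat_lit 17, nat_lit 2, nat_lit 34, nat_lit 33, nat_lit 18, nat_lit 0, nat_lit 18, nat_lit 50, nat_lit 0, nat_lit 0, nat_lit 18, nat_lit 66, nat_lit 33, nat_lit 0, nat_lit 34, nat_lit 2, nat_lit 0, nat_lit 18, nat_lit 0, nat_lit 1, nat_lit 34, nat_lit 81, nat_lit 0, nat_lit 2, nat_lit 0, nat_lit 1, nat_lit 18, nat_lit 34, nat_lit 50, nat_lit 0, nat_lit 1, nat_lit 2, nat_lit 34, nat_lit 34, nat_lit 0, nat_lit 0, nat_lit 18, nat_lit 34, nat_lit 0, nat_lit 0, nat_lit 17, nat_lit 34, nat_lit 82, nat_lit 0, nat_lit 0, nat_lit 0, nat_lit 17, nat_lit 0, nat_lit 34, nat_lit 33, nat_lit 18, nat_lit 0, nat_lit 0, nat_lit 0, nat_lit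 17, nat_lit 82, nat_lit 0, nat_lit 0, nat_lit 0, nat_lit 17, nat_lit 33, nat_lit 0, nat_lit 34, nat_lit 34, nat_lit 0, nat_lit 0, nat_lit 0, nat_lit 17, nat_lit 33, nat_lit 2, nat_lit 34, nat_lit 0, nat_lit 50, nat_lit 81, nat_lit 0, nat_lit 0, nat_lit 0, nat_lit 0, nat_lit 0, nat_lit 49, nat_lit 0, nat_lit 34, nat_lit 33, nat_lit 2, nat_lit 0, nat_lit 1, nat_lit 18, nat_lit 2, nat_lit 82, nat_lit 0, nat_lit 0, nat_lit 1, nat_lit 18, nat_lit 0, nat_lit 49, nat_lit 66, nat_lit 0, nat_lit 0, nat_lit 0, nat_lit 1, nat_lit 2, nat_lit 34, nat_lit 0, nat_lit 49, nat_lit 0, nat_lit 1, nat_lit 50, nat_lit 2, nat_lit 49, nat_lit 0, nat_lit 2, nat_lit 50, nat_lit 2, nat_lit 0, nat_lit 66, nat_lit 0, nat_lit 0, nat_lit 17, nat_lit 0, nat_lit 1, nat_lit 66, nat_lit 0, nat_lit 2, nat_lit 98, nat_lit 0, nat_lit 0, nat_lit 0, nat_lit 1, nat_lit 2, nat_lit 34, nat_lit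 0, nat_lit 49, nat_lit 2, nat_lit 2, nat_lit 50, nat_lit 0, nat_lit 0, nat_lit 18, nat_lit 0, nat_lit 50, nat_lit 49, nat_lit 0, nat_lit 50, nat_lit 0, nat_lit 0, nat_lit 0, nat_lit 0, nat_lit 1, nat_lit 34, nat_lit 33, nat_lit 2, nat_lit 34, nat_lit 2, nat_lit 49, nat_lit 0, nat_lit 1, nat_lit 34, nat_lit 34, nat_lit 34, nat_lit 0, nat_lit 1, nat_lit 0, nat_lit 18, nat_lit 2, nat_lit 50, nat_lit 2, nat_lit 113, nat_lit 0, nat_lit 0, nat_lit 0, nat_lit 0, nat_lit 0, nat_lit 0, nat_lit 0, nat_lit 66, nat_lit 0, nat_lit 0, nat_lit 1, nat_lit 50, nat_lit 50, nat_lit 0, nat_lit 0, nat_lit 17, nat_lit 18, nat_lit 0, nat_lit 1, nat_lit 66, nat_lit 0, nat_lit 18, nat_lit 0, nat_lit 18, nat_lit 82, nat_lit 0, nat_lit 0, nat_lit 2, nat_lit 0, nat_lit 0, nat_lit 65, nat_lit 0, nat_lit 2, nat_lit 34, nat_lit 2, nat_lit 50, nat_lit 0, nat_lit 0, nat_lit 2, nat_lit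 50, nat_lit 0, nat_lit 18, nat_lit 66, nat_lit 0, nat_lit 0, nat_lit 0, nat_lit 17, nat_lit 33, nat_lit 0, nat_lit 18, nat_lit 34, nat_lit 0, nat_lit 50, nat_lit 2, nat_lit 0, nat_lit 98, nat_lit 0, nat_lit 0, nat_lit 0, nat_lit 0, nat_lit 18, nat_lit 2, nat_lit 0, nat_lit 18, nat_lit 65, nat_lit 0, nat_lit 1, nat_lit 65, nat_lit 0, nat_lit 0, nat_lit 0, nat_lit 18, nat_lit 33, nat_lit 34, nat_lit 2, nat_lit 2, nat_lit 66, nat_lit 0, nat_lit 0, nat_lit 0, nat_lit 17, nat_lit 0, nat_lit 34, nat_lit 33, nat_lit 34, nat_lit 0, nat_lit 1, nat_lit 0, nat_lit 50, nat_lit 0, nat_lit 82, nat_lit 0, nat_lit 0, nat_lit 1, nat_lit 18, nat_lit 0, nat_lit 1, nat_lit 65, nat_lit 0, nat_lit 0, nat_lit 66, nat_lit 0, nat_lit 1, nat_lit 18, nat_lit 0, nat_lit 1, nat_lit 66, nat_lit 82, nat_lit 0, nat_lit 0, nat_lit 0, nat_lit 0, nat_lit 0, nat_lit 17, nat_lit 18, nat_lit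 0, nat_lit 18, nat_lit 65, nat_lit 0, nat_lit 0, nat_lit 0, nat_lit 17, nat_lit 18, nat_lit 0, nat_lit 49, nat_lit 18, nat_lit 34, nat_lit 34, nat_lit 0, nat_lit 1, nat_lit 65, nat_lit 0, nat_lit 0, nat_lit 0, nat_lit 0, nat_lit 18, nat_lit 33, nat_lit 0, nat_lit 1, nat_lit 34, nat_lit 34, nat_lit 2, nat_lit 49, nat_lit 34, nat_lit 0, nat_lit 0, nat_lit 17, nat_lit 34, nat_lit 50, nat_lit 0, nat_lit 0, nat_lit 0, nat_lit 0, nat_lit 33, nat_lit 18, nat_lit 0, nat_lit 0, nat_lit 34, nat_lit 50, nat_lit 2, nat_lit 2, nat_lit 66, nat_lit 0, nat_lit 0, nat_lit 0, nat_lit 2, nat_lit 49, nat_lit 2, nat_lit 34, nat_lit 2, nat_lit 98, nat_lit 0, nat_lit 0, nat_lit 0, nat_lit 0, nat_lit 2, nat_lit 33, nat_lit 2, nat_lit 34, nat_lit 33, nat_lit 2, nat_lit 34, nat_lit 33, nat_lit 2, nat_lit 0, nat_lit 18, nat_lit 50, nat_lit 0, nat_lit 0, nat_lit 2, nat_lit 33,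 nat_lit 34, nat_lit 0, nat_lit 0, nat_lit 34, nat_lit 66, nat_lit 0, nat_lit 0, nat_lit 1, nat_lit 33, nat_lit 34, nat_lit 0, nat_lit 0, nat_lit 0, nat_lit 33, nat_lit 0, nat_lit 129, nat_lit 0, nat_lit 0, nat_lit 0, nat_lit 0, nat_lit 0, nat_lit 0, nat_lit 1, nat_lit 18, nat_lit 0, nat_lit 49, nat_lit 18, nat_lit 0, nat_lit 50, nat_lit 0, nat_lit 0, nat_lit 17, nat_lit 34, nat_lit 2, nat_lit 65, nat_lit 0, nat_lit 0, nat_lit 1, nat_lit 0, nat_lit 49, nat_lit 2, nat_lit 34, nat_lit 0, nat_lit 1, nat_lit 18, nat_lit 66, nat_lit 2, nat_lit 50, nat_lit 0, nat_lit 0, nat_lit 2, nat_lit 33, nat_lit 34, nat_lit 2, nat_lit 65, nat_lit 0, nat_lit 0, nat_lit 0, nat_lit 18, nat_lit 33, nat_lit 2, nat_lit 2, nat_lit 50, nat_lit 0, nat_lit 18, nat_lit 0, nat_lit 66, nat_lit 0, nat_lit 0, nat_lit 0, nat_lit 0, nat_lit 33, nat_lit 33, nat_lit 0, nat_lit 50, nat_lit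 2, nat_lit 0, nat_lit 18, nat_lit 82, nat_lit 0, nat_lit 0, nat_lit 0, nat_lit 0, nat_lit 34, nat_lit 0, nat_lit 49, nat_lit 0, nat_lit 0, nat_lit 17, nat_lit 50, nat_lit 2, nat_lit 0, nat_lit 0, nat_lit 82, nat_lit 0, nat_lit 0, nat_lit 34, nat_lit 0, nat_lit 0, nat_lit 18, nat_lit 0, nat_lit 50, nat_lit 0, nat_lit 0, nat_lit 18, nat_lit 113, nat_lit 0, nat_lit 0, nat_lit 0, nat_lit 0, nat_lit 0, nat_lit 33, nat_lit 0, nat_lit 49, nat_lit 0, nat_lit 1, nat_lit 50, nat_lit 33, nat_lit 2, nat_lit 34, nat_lit 0, nat_lit 0, nat_lit 0, nat_lit 17, nat_lit 34, nat_lit 2, nat_lit 50, nat_lit 2, nat_lit 66, nat_lit 0, nat_lit 0, nat_lit 1, nat_lit 2, nat_lit 34, nat_lit 0, nat_lit 0, nat_lit 65, nat_lit 0, nat_lit 50, nat_lit 0, nat_lit 18, nat_lit 0, nat_lit 0, nat_lit 34, nat_lit 82, nat_lit 0, nat_lit 0, nat_lit 0, nat_lit 1, nat_lit 33, nat_lit 2, nat_lit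 34, nat_lit 33, nat_lit 0, nat_lit 18, nat_lit 0, nat_lit 1, nat_lit 34, nat_lit 50, nat_lit 0, nat_lit 0, nat_lit 0, nat_lit 2, nat_lit 33, nat_lit 34, nat_lit 34, nat_lit 0, nat_lit 2, nat_lit 82, nat_lit 0, nat_lit 0, nat_lit 0, nat_lit 2, nat_lit 33, nat_lit 33, nat_lit 0, nat_lit 1, nat_lit 34, nat_lit 34, nat_lit 34, nat_lit 0, nat_lit 0, nat_lit 0, nat_lit 0, nat_lit 50, nat_lit 34, nat_lit 0, nat_lit 1, nat_lit 18, nat_lit 114, nat_lit 0, nat_lit 2, nat_lit 0, nat_lit 2, nat_lit 0, nat_lit 2, nat_lit 66, nat_lit 2, nat_lit 0, nat_lit 18, nat_lit 82, nat_lit 0, nat_lit 0, nat_lit 0, nat_lit 0, nat_lit 18, nat_lit 33, nat_lit 2, nat_lit 34, nat_lit 0, nat_lit 0, nat_lit 65, nat_lit 0, nat_lit 0, nat_lit 18, nat_lit 34, nat_lit 0, nat_lit 2, nat_lit 34, nat_lit 50, nat_lit 2, nat_lit 2, nat_lit 66, nat_lit 0, nat_lit 0, nat_lit 1, nat_lit 33,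 nat_lit 0, nat_lit 50, nat_lit 82, nat_lit 0, nat_lit 0, nat_lit 0, nat_lit 0, nat_lit 0, nat_lit 0, nat_lit 17, nat_lit 34, nat_lit 0, nat_lit 18, nat_lit 0, nat_lit 65, nat_lit 0, nat_lit 0, nat_lit 17, nat_lit 18, nat_lit 34, nat_lit 0, nat_lit 1, nat_lit 18, nat_lit 66, nat_lit 0, nat_lit 49, nat_lit 0, nat_lit 0, nat_lit 0, nat_lit 0, nat_lit 17, nat_lit 49, nat_lit 18, nat_lit 34, nat_lit 0, nat_lit 0, nat_lit 2, nat_lit 33, nat_lit 34, nat_lit 2, nat_lit 66, nat_lit 0, nat_lit 0, nat_lit 2, nat_lit 2, nat_lit 49, nat_lit 0, nat_lit 0, nat_lit 2, nat_lit 66, nat_lit 0, nat_lit 50, nat_lit 0, nat_lit 1, nat_lit 2, nat_lit 34, nat_lit 34, nat_lit 65, nat_lit 0, nat_lit 1, nat_lit 2, nat_lit 2, nat_lit 50, nat_lit 2, nat_lit 0, nat_lit 0, nat_lit 18, nat_lit 34, nat_lit 66, nat_lit 0, nat_lit 0, nat_lit 0, nat_lit 17, nat_lit 2, nat_lit 34, nat_lit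 2, nat_lit 49, nat_lit 0, nat_lit 1, nat_lit 2, nat_lit 34, nat_lit 34, nat_lit 0, nat_lit 50, nat_lit 34, nat_lit 0, nat_lit 0, nat_lit 0, nat_lit 33, nat_lit 0, nat_lit 50, nat_lit 0, nat_lit 1, nat_lit 34, nat_lit 82, nat_lit 0, nat_lit 0, nat_lit 0, nat_lit 1, nat_lit 18, nat_lit 2, nat_lit 2, nat_lit 66, nat_lit 0, nat_lit 1, nat_lit 34, nat_lit 0, nat_lit 18, nat_lit 65, nat_lit 0, nat_lit 0, nat_lit 0, nat_lit 34, nat_lit 0, nat_lit 82, nat_lit 0, nat_lit 0, nat_lit 0, nat_lit 17, nat_lit 33, nat_lit 0, nat_lit 18, nat_lit 34, nat_lit 2, nat_lit 50, nat_lit 2, nat_lit 0, nat_lit 98, nat_lit 0, nat_lit 2, nat_lit 0, nat_lit 18, nat_lit 0, nat_lit 0, nat_lit 34, nat_lit 66, nat_lit 0, nat_lit 0, nat_lit 2, nat_lit 2, nat_lit 2, nat_lit 65, nat_lit 0, nat_lit 1, nat_lit 2, nat_lit 34, nat_lit 34, nat_lit 34, nat_lit 0, nat_lit 0, nat_lit 2, nat_lit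 33, nat_lit 0, nat_lit 82, nat_lit 0, nat_lit 1, nat_lit 0])]

def bM_sext : List (ℕ × List ℕ × List ℕ) := [(0, [15, 5264, 622848, 3416064, 4196928, 8536096], [nat_lit 0, nat_lit 0, nat_lit 0, nat_lit 0, nat_lit 1, nat_lit 0, nat_lit 0, nat_lit 0, nat_lit 1, nat_lit 0, nat_lit 49, nat_lit 2, nat_lit 34, nat_lit 2, nat_lit 0, nat_lit 66, nat_lit 0, nat_lit 1, nat_lit 18, nat_lit 0, nat_lit 82, nat_lit 0, nat_lit 0, nat_lit 1, nat_lit 18, nat_lit 50, nat_lit 0, nat_lit 2, nat_lit 34, nat_lit 2, nat_lit 82, nat_lit 0, nat_lit 0, nat_lit 0, nat_lit 0, nat_lit 0, nat_lit 33, nat_lit 33, nat_lit 18, nat_lit 33, nat_lit 0, nat_lit 0, nat_lit 0, nat_lit 17, nat_lit 33, nat_lit 18, nat_lit 50, nat_lit 0, nat_lit 0, nat_lit 1, nat_lit 34, nat_lit 34, nat_lit 50, nat_lit 0, nat_lit 0, nat_lit 1, nat_lit 18, nat_lit 33, nat_lit 34, nat_lit 0, nat_lit 18, nat_lit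 81, nat_lit 0, nat_lit 0, nat_lit 0, nat_lit 0, nat_lit 1, nat_lit 34, nat_lit 2, nat_lit 49, nat_lit 0, nat_lit 0, nat_lit 17, nat_lit 2, nat_lit 34, nat_lit 2, nat_lit 66, nat_lit 0, nat_lit 2, nat_lit 34, nat_lit 0, nat_lit 18, nat_lit 65, nat_lit 2, nat_lit 0, nat_lit 50, nat_lit 0, nat_lit 0, nat_lit 0, nat_lit 18, nat_lit 33, nat_lit 0, nat_lit 34, nat_lit 2, nat_lit 50, nat_lit 2, nat_lit 66, nat_lit 0, nat_lit 0, nat_lit 0, nat_lit 0, nat_lit 18, nat_lit 34, nat_lit 0, nat_lit 49, nat_lit 0, nat_lit 0, nat_lit 18, nat_lit 2, nat_lit 82, nat_lit 0, nat_lit 0, nat_lit 0, nat_lit 17, nat_lit 18, nat_lit 33, nat_lit 0, nat_lit 2, nat_lit 34, nat_lit 0, nat_lit 50, nat_lit 34, nat_lit 0, nat_lit 1, nat_lit 98, nat_lit 0, nat_lit 0, nat_lit 0, nat_lit 0, nat_lit 0, nat_lit 1, nat_lit 49, nat_lit 0, nat_lit 18, nat_lit 34, nat_lit 0, nat_lit 49, nat_lit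 0, nat_lit 18, nat_lit 34, nat_lit 0, nat_lit 49, nat_lit 0, nat_lit 1, nat_lit 34, nat_lit 2, nat_lit 2, nat_lit 66, nat_lit 0, nat_lit 0, nat_lit 0, nat_lit 17, nat_lit 34, nat_lit 34, nat_lit 0, nat_lit 0, nat_lit 1, nat_lit 33, nat_lit 34, nat_lit 0, nat_lit 2, nat_lit 34, nat_lit 82, nat_lit 0, nat_lit 0, nat_lit 0, nat_lit 1, nat_lit 33, nat_lit 0, nat_lit 1, nat_lit 65, nat_lit 0, nat_lit 18, nat_lit 2, nat_lit 50, nat_lit 0, nat_lit 18, nat_lit 0, nat_lit 66, nat_lit 0, nat_lit 0, nat_lit 0, nat_lit 17, nat_lit 18, nat_lit 33, nat_lit 18, nat_lit 0, nat_lit 113, nat_lit 0, nat_lit 0, nat_lit 0, nat_lit 0, nat_lit 0, nat_lit 0, nat_lit 33, nat_lit 2, nat_lit 0, nat_lit 50, nat_lit 0, nat_lit 49, nat_lit 2, nat_lit 2, nat_lit 0, nat_lit 66, nat_lit 0, nat_lit 0, nat_lit 17, nat_lit 18, nat_lit 2, nat_lit 50, nat_lit 2, nat_lit 65, nat_lit 0,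 nat_lit 0, nat_lit 0, nat_lit 2, nat_lit 50, nat_lit 2, nat_lit 0, nat_lit 66, nat_lit 2, nat_lit 50, nat_lit 0, nat_lit 0, nat_lit 2, nat_lit 2, nat_lit 49, nat_lit 34, nat_lit 0, nat_lit 0, nat_lit 1, nat_lit 33, nat_lit 2, nat_lit 2, nat_lit 50, nat_lit 0, nat_lit 18, nat_lit 97, nat_lit 2, nat_lit 2, nat_lit 0, nat_lit 1, nat_lit 0, nat_lit 50, nat_lit 66, nat_lit 0, nat_lit 1, nat_lit 0, nat_lit 2, nat_lit 34, nat_lit 2, nat_lit 50, nat_lit 2, nat_lit 0, nat_lit 18, nat_lit 66, nat_lit 0, nat_lit 0, nat_lit 0, nat_lit 17, nat_lit 33, nat_lit 34, nat_lit 66, nat_lit 0, nat_lit 0, nat_lit 0, nat_lit 0, nat_lit 2, nat_lit 2, nat_lit 49, nat_lit 2, nat_lit 34, nat_lit 2, nat_lit 49, nat_lit 0, nat_lit 1, nat_lit 34, nat_lit 2, nat_lit 50, nat_lit 0, nat_lit 1, nat_lit 18, nat_lit 34, nat_lit 0, nat_lit 18, nat_lit 65, nat_lit 0, nat_lit 0, nat_lit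 1, nat_lit 33, nat_lit 2, nat_lit 34, nat_lit 34, nat_lit 2, nat_lit 0, nat_lit 1, nat_lit 34, nat_lit 66, nat_lit 0, nat_lit 0, nat_lit 0, nat_lit 17, nat_lit 34, nat_lit 0, nat_lit 2, nat_lit 34, nat_lit 0, nat_lit 66, nat_lit 2, nat_lit 0, nat_lit 0, nat_lit 34, nat_lit 82, nat_lit 0, nat_lit 0, nat_lit 2, nat_lit 0, nat_lit 18, nat_lit 49, nat_lit 0, nat_lit 0, nat_lit 17, nat_lit 66, nat_lit 0, nat_lit 0, nat_lit 34, nat_lit 0, nat_lit 1, nat_lit 0, nat_lit 34, nat_lit 114, nat_lit 0, nat_lit 0, nat_lit 0, nat_lit 1, nat_lit 0, nat_lit 1, nat_lit 34, nat_lit 2, nat_lit 0, nat_lit 66, nat_lit 0, nat_lit 0, nat_lit 17, nat_lit 0, nat_lit 50, nat_lit 0, nat_lit 65, nat_lit 2, nat_lit 0, nat_lit 2, nat_lit 34, nat_lit 0, nat_lit 66, nat_lit 0, nat_lit 2, nat_lit 2, nat_lit 0, nat_lit 66, nat_lit 0, nat_lit 18, nat_lit 2, nat_lit 0, nat_lit 97, nat_lit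 0, nat_lit 0, nat_lit 0, nat_lit 2, nat_lit 49, nat_lit 2, nat_lit 0, nat_lit 18, nat_lit 50, nat_lit 0, nat_lit 0, nat_lit 0, nat_lit 33, nat_lit 18, nat_lit 34, nat_lit 0, nat_lit 0, nat_lit 34, nat_lit 66, nat_lit 2, nat_lit 2, nat_lit 0, nat_lit 18, nat_lit 82, nat_lit 0, nat_lit 0, nat_lit 0, nat_lit 1, nat_lit 18, nat_lit 33, nat_lit 2, nat_lit 34, nat_lit 0, nat_lit 18, nat_lit 50, nat_lit 2, nat_lit 0, nat_lit 0, nat_lit 82, nat_lit 0, nat_lit 0, nat_lit 0, nat_lit 18, nat_lit 34, nat_lit 34, nat_lit 0, nat_lit 1, nat_lit 34, nat_lit 82, nat_lit 0, nat_lit 0, nat_lit 0, nat_lit 0, nat_lit 17, nat_lit 0, nat_lit 18, nat_lit 34, nat_lit 33, nat_lit 33, nat_lit 0, nat_lit 0, nat_lit 1, nat_lit 34, nat_lit 34, nat_lit 0, nat_lit 0, nat_lit 34, nat_lit 2, nat_lit 66, nat_lit 0, nat_lit 0, nat_lit 1, nat_lit 33, nat_lit 18, nat_lit 2, nat_lit 50,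 nat_lit 0, nat_lit 0, nat_lit 17, nat_lit 34, nat_lit 0, nat_lit 82, nat_lit 0, nat_lit 0, nat_lit 0, nat_lit 0, nat_lit 18, nat_lit 33, nat_lit 33, nat_lit 0, nat_lit 18, nat_lit 0, nat_lit 0, nat_lit 34, nat_lit 50, nat_lit 2, nat_lit 0, nat_lit 18, nat_lit 66, nat_lit 0, nat_lit 0, nat_lit 2, nat_lit 33, nat_lit 0, nat_lit 129, nat_lit 0, nat_lit 0, nat_lit 0, nat_lit 0, nat_lit 0, nat_lit 1, nat_lit 33, nat_lit 18, nat_lit 2, nat_lit 2, nat_lit 65, nat_lit 0, nat_lit 2, nat_lit 34, nat_lit 0, nat_lit 0, nat_lit 34, nat_lit 50, nat_lit 0, nat_lit 0, nat_lit 17, nat_lit 18, nat_lit 2, nat_lit 50, nat_lit 0, nat_lit 2, nat_lit 34, nat_lit 65, nat_lit 2, nat_lit 0, nat_lit 1, nat_lit 34, nat_lit 0, nat_lit 66, nat_lit 0, nat_lit 0, nat_lit 0, nat_lit 0, nat_lit 17, nat_lit 18, nat_lit 33, nat_lit 0, nat_lit 49, nat_lit 0, nat_lit 0, nat_lit 66, nat_lit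 0, nat_lit 0, nat_lit 0, nat_lit 33, nat_lit 0, nat_lit 18, nat_lit 34, nat_lit 2, nat_lit 50, nat_lit 0, nat_lit 0, nat_lit 17, nat_lit 97, nat_lit 2, nat_lit 0, nat_lit 0, nat_lit 0, nat_lit 1, nat_lit 2, nat_lit 34, nat_lit 0, nat_lit 18, nat_lit 49, nat_lit 50, nat_lit 0, nat_lit 18, nat_lit 66, nat_lit 0, nat_lit 0, nat_lit 0, nat_lit 18, nat_lit 2, nat_lit 50, nat_lit 0, nat_lit 0, nat_lit 18, nat_lit 34, nat_lit 0, nat_lit 0, nat_lit 82, nat_lit 0, nat_lit 0, nat_lit 1, nat_lit 33, nat_lit 34, nat_lit 0, nat_lit 0, nat_lit 17, nat_lit 0, nat_lit 114, nat_lit 2, nat_lit 0, nat_lit 0, nat_lit 0, nat_lit 0, nat_lit 0, nat_lit 18, nat_lit 33, nat_lit 0, nat_lit 49, nat_lit 0, nat_lit 1, nat_lit 34, nat_lit 0, nat_lit 50, nat_lit 0, nat_lit 1, nat_lit 65, nat_lit 0, nat_lit 0, nat_lit 18, nat_lit 2, nat_lit 50, nat_lit 2, nat_lit 50, nat_lit 2, nat_lit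 0, nat_lit 0, nat_lit 18, nat_lit 34, nat_lit 0, nat_lit 0, nat_lit 17, nat_lit 34, nat_lit 82, nat_lit 0, nat_lit 1, nat_lit 0, nat_lit 1, nat_lit 2, nat_lit 34, nat_lit 34, nat_lit 0, nat_lit 50, nat_lit 0, nat_lit 2, nat_lit 66, nat_lit 0, nat_lit 1, nat_lit 0, nat_lit 18, nat_lit 34, nat_lit 114, nat_lit 0, nat_lit 0, nat_lit 0, nat_lit 0, nat_lit 0, nat_lit 2, nat_lit 2, nat_lit 49, nat_lit 0, nat_lit 0, nat_lit 0, nat_lit 33, nat_lit 18, nat_lit 2, nat_lit 50, nat_lit 34, nat_lit 33, nat_lit 0, nat_lit 0, nat_lit 1, nat_lit 33, nat_lit 18, nat_lit 34, nat_lit 0, nat_lit 0, nat_lit 2, nat_lit 33, nat_lit 34, nat_lit 0, nat_lit 66, nat_lit 0, nat_lit 0, nat_lit 0, nat_lit 18, nat_lit 2, nat_lit 50, nat_lit 34, nat_lit 0, nat_lit 1, nat_lit 81, nat_lit 0, nat_lit 0, nat_lit 1, nat_lit 2, nat_lit 34, nat_lit 0, nat_lit 49, nat_lit 2, nat_lit 0, nat_lit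 50, nat_lit 2, nat_lit 50, nat_lit 2, nat_lit 50, nat_lit 0, nat_lit 0, nat_lit 1, nat_lit 0, nat_lit 18, nat_lit 34, nat_lit 0, nat_lit 49, nat_lit 2, nat_lit 2, nat_lit 50, nat_lit 0, nat_lit 18, nat_lit 0, nat_lit 0, nat_lit 34, nat_lit 66, nat_lit 0, nat_lit 0, nat_lit 17, nat_lit 18, nat_lit 34, nat_lit 65, nat_lit 0, nat_lit 0, nat_lit 0, nat_lit 17, nat_lit 2, nat_lit 0, nat_lit 50, nat_lit 33, nat_lit 2, nat_lit 0, nat_lit 2, nat_lit 2, nat_lit 82, nat_lit 0, nat_lit 0, nat_lit 34, nat_lit 2, nat_lit 66, nat_lit 0, nat_lit 0, nat_lit 2, nat_lit 2, nat_lit 49, nat_lit 0, nat_lit 2, nat_lit 66, nat_lit 0, nat_lit 0, nat_lit 1, nat_lit 18, nat_lit 2, nat_lit 49, nat_lit 0, nat_lit 34, nat_lit 0, nat_lit 1, nat_lit 18, nat_lit 66, nat_lit 0, nat_lit 0, nat_lit 34, nat_lit 0, nat_lit 98, nat_lit 2, nat_lit 0, nat_lit 0, nat_lit 0, nat_lit 17, nat_lit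 0, nat_lit 34, nat_lit 33, nat_lit 2, nat_lit 34, nat_lit 0, nat_lit 2, nat_lit 34, nat_lit 2, nat_lit 66, nat_lit 0, nat_lit 0, nat_lit 1, nat_lit 18, nat_lit 33, nat_lit 0, nat_lit 50, nat_lit 82, nat_lit 0, nat_lit 0, nat_lit 0, nat_lit 0, nat_lit 2, nat_lit 33, nat_lit 0, nat_lit 0, nat_lit 18, nat_lit 34, nat_lit 0, nat_lit 50, nat_lit 33, nat_lit 0, nat_lit 1, nat_lit 2, nat_lit 34, nat_lit 34, nat_lit 0, nat_lit 0, nat_lit 17, nat_lit 2, nat_lit 34, nat_lit 34, nat_lit 2, nat_lit 66, nat_lit 0, nat_lit 0, nat_lit 18, nat_lit 34, nat_lit 0, nat_lit 2, nat_lit 34, nat_lit 65, nat_lit 0, nat_lit 1, nat_lit 2, nat_lit 2, nat_lit 50, nat_lit 0, nat_lit 0, nat_lit 18, nat_lit 34, nat_lit 50, nat_lit 0, nat_lit 0, nat_lit 17, nat_lit 34, nat_lit 0, nat_lit 18, nat_lit 0, nat_lit 82, nat_lit 0, nat_lit 1, nat_lit 2, nat_lit 2, nat_lit 50, nat_lit 0,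 nat_lit 18, nat_lit 0, nat_lit 0, nat_lit 82, nat_lit 0, nat_lit 0, nat_lit 0, nat_lit 1, nat_lit 50, nat_lit 0, nat_lit 50, nat_lit 2, nat_lit 82, nat_lit 0, nat_lit 1, nat_lit 0, nat_lit 0, nat_lit 17, nat_lit 18, nat_lit 2, nat_lit 82, nat_lit 0, nat_lit 0, nat_lit 0, nat_lit 0, nat_lit 2, nat_lit 65, nat_lit 2, nat_lit 34, nat_lit 113, nat_lit 0, nat_lit 0, nat_lit 0, nat_lit 0, nat_lit 0, nat_lit 0, nat_lit 1, nat_lit 0, nat_lit 34, nat_lit 33, nat_lit 0, nat_lit 1, nat_lit 65, nat_lit 0, nat_lit 0, nat_lit 1, nat_lit 34, nat_lit 34, nat_lit 0, nat_lit 50, nat_lit 0, nat_lit 0, nat_lit 2, nat_lit 34, nat_lit 65, nat_lit 0, nat_lit 0, nat_lit 1, nat_lit 18, nat_lit 2, nat_lit 49, nat_lit 18, nat_lit 0, nat_lit 18, nat_lit 2, nat_lit 66, nat_lit 0, nat_lit 1, nat_lit 18, nat_lit 34, nat_lit 0, nat_lit 18, nat_lit 2, nat_lit 82, nat_lit 0, nat_lit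 0, nat_lit 0, nat_lit 2, nat_lit 49, nat_lit 2, nat_lit 0, nat_lit 50, nat_lit 34, nat_lit 0, nat_lit 2, nat_lit 34, nat_lit 0, nat_lit 0, nat_lit 34, nat_lit 0, nat_lit 97, nat_lit 0, nat_lit 1, nat_lit 2, nat_lit 0, nat_lit 0, nat_lit 66, nat_lit 0, nat_lit 0, nat_lit 0, nat_lit 18, nat_lit 33, nat_lit 34, nat_lit 50, nat_lit 0, nat_lit 0, nat_lit 0, nat_lit 33, nat_lit 0, nat_lit 2, nat_lit 34, nat_lit 0, nat_lit 2, nat_lit 66, nat_lit 0, nat_lit 0, nat_lit 18, nat_lit 66, nat_lit 2, nat_lit 0, nat_lit 0, nat_lit 34, nat_lit 0, nat_lit 98, nat_lit 0, nat_lit 1, nat_lit 0, nat_lit 2, nat_lit 50, nat_lit 34, nat_lit 0, nat_lit 0, nat_lit 0, nat_lit 1, nat_lit 34, nat_lit 33, nat_lit 0, nat_lit 18, nat_lit 0, nat_lit 18, nat_lit 50, nat_lit 0, nat_lit 2, nat_lit 34, nat_lit 50, nat_lit 0, nat_lit 0, nat_lit 1, nat_lit 33, nat_lit 34, nat_lit 0, nat_lit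 2, nat_lit 113, nat_lit 0, nat_lit 0, nat_lit 0, nat_lit 0, nat_lit 0, nat_lit 0, nat_lit 18, nat_lit 33, nat_lit 33, nat_lit 0, nat_lit 0, nat_lit 34, nat_lit 34, nat_lit 33, nat_lit 0, nat_lit 18, nat_lit 0, nat_lit 1, nat_lit 34, nat_lit 50, nat_lit 0, nat_lit 2, nat_lit 0, nat_lit 1, nat_lit 66, nat_lit 0, nat_lit 2, nat_lit 2, nat_lit 50, nat_lit 65, nat_lit 2, nat_lit 0, nat_lit 1, nat_lit 18, nat_lit 34, nat_lit 2, nat_lit 66, nat_lit 0, nat_lit 0, nat_lit 1, nat_lit 0, nat_lit 2, nat_lit 50, nat_lit 0, nat_lit 2, nat_lit 34, nat_lit 49, nat_lit 34, nat_lit 0, nat_lit 0, nat_lit 2, nat_lit 33, nat_lit 18, nat_lit 34, nat_lit 66, nat_lit 0, nat_lit 0, nat_lit 0, nat_lit 2, nat_lit 0, nat_lit 49, nat_lit 0, nat_lit 0, nat_lit 0, nat_lit 66, nat_lit 0, nat_lit 0, nat_lit 17, nat_lit 34, nat_lit 49, nat_lit 0, nat_lit 0, nat_lit 34, nat_lit 34,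 nat_lit 0, nat_lit 1, nat_lit 0, nat_lit 34, nat_lit 34, nat_lit 0, nat_lit 1, nat_lit 82, nat_lit 0, nat_lit 0, nat_lit 1, nat_lit 0, nat_lit 18, nat_lit 34, nat_lit 33, nat_lit 0, nat_lit 2, nat_lit 34, nat_lit 34, nat_lit 0, nat_lit 0, nat_lit 34, nat_lit 50, nat_lit 0, nat_lit 1, nat_lit 18, nat_lit 34, nat_lit 82, nat_lit 0, nat_lit 0, nat_lit 1, nat_lit 0, nat_lit 1, nat_lit 18, nat_lit 65, nat_lit 0, nat_lit 0, nat_lit 0, nat_lit 1, nat_lit 33, nat_lit 34, nat_lit 0, nat_lit 18, nat_lit 50, nat_lit 0, nat_lit 0, nat_lit 17, nat_lit 0, nat_lit 82, nat_lit 0, nat_lit 0, nat_lit 0, nat_lit 17, nat_lit 0, nat_lit 50, nat_lit 66, nat_lit 0, nat_lit 0, nat_lit 0, nat_lit 0, nat_lit 0, nat_lit 49, nat_lit 0, nat_lit 0, nat_lit 2, nat_lit 34, nat_lit 34, nat_lit 2, nat_lit 50, nat_lit 2, nat_lit 0, nat_lit 18, nat_lit 65, nat_lit 0, nat_lit 0, nat_lit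 0, nat_lit 18, nat_lit 0, nat_lit 66, nat_lit 0, nat_lit 1, nat_lit 66, nat_lit 2, nat_lit 2, nat_lit 66, nat_lit 0, nat_lit 0, nat_lit 1, nat_lit 33, nat_lit 0, nat_lit 1, nat_lit 2, nat_lit 34, nat_lit 0, nat_lit 50, nat_lit 34, nat_lit 34, nat_lit 0, nat_lit 98, nat_lit 0, nat_lit 0, nat_lit 0, nat_lit 1, nat_lit 2, nat_lit 2, nat_lit 0, nat_lit 66, nat_lit 2, nat_lit 0, nat_lit 0, nat_lit 34, nat_lit 0, nat_lit 81, nat_lit 0, nat_lit 0, nat_lit 0, nat_lit 0, nat_lit 18, nat_lit 33, nat_lit 2, nat_lit 34, nat_lit 2, nat_lit 49, nat_lit 34, nat_lit 0, nat_lit 1, nat_lit 2, nat_lit 34, nat_lit 2, nat_lit 50, nat_lit 50, nat_lit 0, nat_lit 0, nat_lit 0, nat_lit 0, nat_lit 18, nat_lit 33, nat_lit 0, nat_lit 34, nat_lit 33, nat_lit 0, nat_lit 50, nat_lit 0, nat_lit 0, nat_lit 0, nat_lit 33, nat_lit 34, nat_lit 2, nat_lit 81, nat_lit 0, nat_lit 0, nat_lit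 0, nat_lit 0, nat_lit 17, nat_lit 2, nat_lit 34, nat_lit 2, nat_lit 49, nat_lit 0, nat_lit 2, nat_lit 34, nat_lit 0, nat_lit 50, nat_lit 33, nat_lit 2, nat_lit 0, nat_lit 0, nat_lit 34, nat_lit 2, nat_lit 66, nat_lit 0, nat_lit 2, nat_lit 34, nat_lit 0, nat_lit 18, nat_lit 0, nat_lit 82, nat_lit 0, nat_lit 0, nat_lit 1, nat_lit 2, nat_lit 34, nat_lit 33, nat_lit 2, nat_lit 0, nat_lit 50, nat_lit 0, nat_lit 1, nat_lit 18, nat_lit 66, nat_lit 0, nat_lit 0, nat_lit 17, nat_lit 18, nat_lit 34, nat_lit 66, nat_lit 0, nat_lit 0, nat_lit 2, nat_lit 2, nat_lit 49, nat_lit 0, nat_lit 0, nat_lit 2, nat_lit 50, nat_lit 2, nat_lit 2, nat_lit 66, nat_lit 0, nat_lit 0, nat_lit 1, nat_lit 33, nat_lit 0, nat_lit 18, nat_lit 34, nat_lit 2, nat_lit 50, nat_lit 0, nat_lit 1, nat_lit 34, nat_lit 0, nat_lit 82, nat_lit 0, nat_lit 0, nat_lit 2, nat_lit 2, nat_lit 0, nat_lit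 65, nat_lit 2, nat_lit 34, nat_lit 0, nat_lit 18, nat_lit 0, nat_lit 66, nat_lit 2, nat_lit 82, nat_lit 0, nat_lit 0, nat_lit 0, nat_lit 0, nat_lit 2, nat_lit 33, nat_lit 0, nat_lit 2, nat_lit 50, nat_lit 0, nat_lit 2, nat_lit 34, nat_lit 49, nat_lit 2, nat_lit 2, nat_lit 2, nat_lit 66, nat_lit 0, nat_lit 1, nat_lit 2, nat_lit 34, nat_lit 34, nat_lit 0, nat_lit 18, nat_lit 0, nat_lit 81, nat_lit 0, nat_lit 0, nat_lit 0, nat_lit 0, nat_lit 0, nat_lit 33, nat_lit 33, nat_lit 33, nat_lit 2, nat_lit 0, nat_lit 50, nat_lit 2, nat_lit 50, nat_lit 0, nat_lit 0, nat_lit 0, nat_lit 18, nat_lit 0, nat_lit 50, nat_lit 34, nat_lit 0, nat_lit 18, nat_lit 66, nat_lit 0, nat_lit 0, nat_lit 0, nat_lit 0, nat_lit 33, nat_lit 18, nat_lit 33, nat_lit 0, nat_lit 1, nat_lit 34, nat_lit 0, nat_lit 18, nat_lit 50, nat_lit 0, nat_lit 2, nat_lit 34, nat_lit 50, nat_lit 0,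 nat_lit 0, nat_lit 1, nat_lit 18, nat_lit 50, nat_lit 66, nat_lit 0, nat_lit 0, nat_lit 0, nat_lit 17, nat_lit 2, nat_lit 34, nat_lit 2, nat_lit 49, nat_lit 2, nat_lit 2, nat_lit 0, nat_lit 66, nat_lit 0, nat_lit 0, nat_lit 2, nat_lit 34, nat_lit 34, nat_lit 50, nat_lit 82, nat_lit 0, nat_lit 0, nat_lit 0, nat_lit 0, nat_lit 0, nat_lit 0, nat_lit 0, nat_lit 33, nat_lit 18, nat_lit 0, nat_lit 49, nat_lit 2, nat_lit 0, nat_lit 1, nat_lit 34, nat_lit 2, nat_lit 66, nat_lit 0, nat_lit 0, nat_lit 1, nat_lit 50, nat_lit 0, nat_lit 1, nat_lit 34, nat_lit 2, nat_lit 81, nat_lit 0, nat_lit 0, nat_lit 1, nat_lit 2, nat_lit 34, nat_lit 0, nat_lit 49, nat_lit 2, nat_lit 2, nat_lit 50, nat_lit 2, nat_lit 2, nat_lit 66, nat_lit 0, nat_lit 0, nat_lit 0, nat_lit 17, nat_lit 34, nat_lit 34, nat_lit 50, nat_lit 0, nat_lit 1, nat_lit 0, nat_lit 0, nat_lit 34, nat_lit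 34, nat_lit 2, nat_lit 0, nat_lit 66, nat_lit 0, nat_lit 0, nat_lit 17, nat_lit 34, nat_lit 0, nat_lit 18, nat_lit 81, nat_lit 0, nat_lit 0, nat_lit 0, nat_lit 0, nat_lit 0, nat_lit 33, nat_lit 18, nat_lit 34, nat_lit 2, nat_lit 0, nat_lit 65, nat_lit 18, nat_lit 0, nat_lit 0, nat_lit 17, nat_lit 34, nat_lit 0, nat_lit 66, nat_lit 0, nat_lit 0, nat_lit 0, nat_lit 33, nat_lit 0, nat_lit 0, nat_lit 34, nat_lit 34, nat_lit 0, nat_lit 1, nat_lit 66, nat_lit 50, nat_lit 0, nat_lit 1, nat_lit 2, nat_lit 34, nat_lit 0, nat_lit 2, nat_lit 0, nat_lit 18, nat_lit 50, nat_lit 0, nat_lit 1, nat_lit 34, nat_lit 66, nat_lit 0, nat_lit 0, nat_lit 1, nat_lit 18, nat_lit 33, nat_lit 0, nat_lit 0, nat_lit 17, nat_lit 50, nat_lit 0, nat_lit 18, nat_lit 2, nat_lit 66, nat_lit 65, nat_lit 0, nat_lit 0, nat_lit 1, nat_lit 0, nat_lit 18, nat_lit 0, nat_lit 18, nat_lit 50,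 nat_lit 0, nat_lit 0, nat_lit 0, nat_lit 17, nat_lit 34, nat_lit 34, nat_lit 49, nat_lit 2, nat_lit 0, nat_lit 0, nat_lit 1, nat_lit 50, nat_lit 0, nat_lit 66, nat_lit 0, nat_lit 0, nat_lit 2, nat_lit 33, nat_lit 0, nat_lit 2, nat_lit 66, nat_lit 0, nat_lit 18, nat_lit 0, nat_lit 2, nat_lit 98, nat_lit 0, nat_lit 0, nat_lit 0, nat_lit 0, nat_lit 1, nat_lit 33, nat_lit 0, nat_lit 49, nat_lit 0, nat_lit 0, nat_lit 18, nat_lit 34, nat_lit 34, nat_lit 0, nat_lit 2, nat_lit 34, nat_lit 49, nat_lit 18, nat_lit 2, nat_lit 0, nat_lit 66, nat_lit 0, nat_lit 1, nat_lit 0, nat_lit 1, nat_lit 18, nat_lit 34, nat_lit 34, nat_lit 34, nat_lit 0, nat_lit 18, nat_lit 0, nat_lit 98, nat_lit 0, nat_lit 0, nat_lit 0, nat_lit 1, nat_lit 33, nat_lit 0, nat_lit 2, nat_lit 50, nat_lit 0, nat_lit 1, nat_lit 65, nat_lit 0, nat_lit 0, nat_lit 0, nat_lit 2, nat_lit 34, nat_lit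 33, nat_lit 18, nat_lit 0, nat_lit 0, nat_lit 17, nat_lit 66, nat_lit 0, nat_lit 18, nat_lit 2, nat_lit 66, nat_lit 0, nat_lit 1, nat_lit 0, nat_lit 0, nat_lit 66, nat_lit 2, nat_lit 0, nat_lit 82, nat_lit 0, nat_lit 0, nat_lit 0, nat_lit 0, nat_lit 17, nat_lit 33, nat_lit 2, nat_lit 2, nat_lit 50, nat_lit 2, nat_lit 0, nat_lit 65, nat_lit 2, nat_lit 0, nat_lit 50, nat_lit 34, nat_lit 0, nat_lit 18, nat_lit 0, nat_lit 1, nat_lit 0, nat_lit 130, nat_lit 0, nat_lit 0, nat_lit 0, nat_lit 0, nat_lit 0, nat_lit 0, nat_lit 18, nat_lit 33, nat_lit 0, nat_lit 49, nat_lit 2, nat_lit 0, nat_lit 18, nat_lit 50, nat_lit 0, nat_lit 2, nat_lit 2, nat_lit 50, nat_lit 0, nat_lit 65, nat_lit 0, nat_lit 0, nat_lit 0, nat_lit 33, nat_lit 2, nat_lit 34, nat_lit 34, nat_lit 0, nat_lit 1, nat_lit 34, nat_lit 50, nat_lit 0, nat_lit 0, nat_lit 0, nat_lit 17, nat_lit 33, nat_lit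 2, nat_lit 34, nat_lit 34, nat_lit 49, nat_lit 0, nat_lit 0, nat_lit 0, nat_lit 17, nat_lit 0, nat_lit 0, nat_lit 34, nat_lit 34, nat_lit 0, nat_lit 2, nat_lit 65, nat_lit 2, nat_lit 0, nat_lit 1, nat_lit 34, nat_lit 2, nat_lit 66, nat_lit 0, nat_lit 18, nat_lit 2, nat_lit 66, nat_lit 0, nat_lit 0, nat_lit 17, nat_lit 34, nat_lit 0, nat_lit 0, nat_lit 34, nat_lit 0, nat_lit 82, nat_lit 0, nat_lit 2, nat_lit 0, nat_lit 0, nat_lit 0, nat_lit 33, nat_lit 0, nat_lit 50, nat_lit 0, nat_lit 18, nat_lit 2, nat_lit 82, nat_lit 0, nat_lit 0, nat_lit 0, nat_lit 17, nat_lit 18, nat_lit 33, nat_lit 0, nat_lit 34, nat_lit 2, nat_lit 50, nat_lit 0, nat_lit 1, nat_lit 34, nat_lit 0, nat_lit 98, nat_lit 0, nat_lit 0, nat_lit 0, nat_lit 2, nat_lit 0, nat_lit 0, nat_lit 65, nat_lit 0, nat_lit 1, nat_lit 34, nat_lit 34, nat_lit 0, nat_lit 0, nat_lit 18, nat_lit 0, nat_lit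 50, nat_lit 0, nat_lit 18, nat_lit 0, nat_lit 81, nat_lit 0, nat_lit 0, nat_lit 2, nat_lit 33, nat_lit 2, nat_lit 0, nat_lit 50, nat_lit 34, nat_lit 0, nat_lit 0, nat_lit 0, nat_lit 34, nat_lit 34, nat_lit 0, nat_lit 1, nat_lit 34, nat_lit 66, nat_lit 0, nat_lit 0, nat_lit 1, nat_lit 50, nat_lit 2, nat_lit 2, nat_lit 82, nat_lit 0, nat_lit 0, nat_lit 0, nat_lit 17, nat_lit 0, nat_lit 0, nat_lit 65, nat_lit 0, nat_lit 34, nat_lit 0, nat_lit 0, nat_lit 1, nat_lit 33, nat_lit 34])]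

def bM_trio : List (ℕ × List ℕ × List ℕ) := [(0, [5279, 1009728, 15762208], [nat_lit 0, nat_lit 0, nat_lit 0, nat_lit 0, nat_lit 0, nat_lit 0, nat_lit 0, nat_lit 0, nat_lit 0, nat_lit 1, nat_lit 33, nat_lit 0, nat_lit 18, nat_lit 34, nat_lit 0, nat_lit 49, nat_lit 33, nat_lit 33, nat_lit 0, nat_lit 2, nat_lit 0, nat_lit 18, nat_lit 0, nat_lit 0, nat_lit 34, nat_lit 0, nat_lit 1, nat_lit 98, nat_lit 0, nat_lit 0, nat_lit 17, nat_lit 0, nat_lit 50, nat_lit 0, nat_lit 0, nat_lit 1, nat_lit 18, nat_lit 34, nat_lit 2, nat_lit 50, nat_lit 66, nat_lit 0, nat_lit 0, nat_lit 1, nat_lit 2, nat_lit 2, nat_lit 50, nat_lit 0, nat_lit 18, nat_lit 49, nat_lit 0, nat_lit 1, nat_lit 18, nat_lit 34, nat_lit 2, nat_lit 0, nat_lit 18, nat_lit 66, nat_lit 0, nat_lit 0, nat_lit 34, nat_lit 2, nat_lit 0, nat_lit 2, nat_lit 34, nat_lit 82, nat_lit 0, nat_lit 0, nat_lit 0,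 nat_lit 17, nat_lit 2, nat_lit 34, nat_lit 33, nat_lit 34, nat_lit 0, nat_lit 1, nat_lit 97, nat_lit 0, nat_lit 0, nat_lit 0, nat_lit 0, nat_lit 0, nat_lit 2, nat_lit 34, nat_lit 34, nat_lit 0, nat_lit 18, nat_lit 49, nat_lit 33, nat_lit 2, nat_lit 0, nat_lit 0, nat_lit 17, nat_lit 34, nat_lit 0, nat_lit 18, nat_lit 0, nat_lit 82, nat_lit 0, nat_lit 0, nat_lit 0, nat_lit 50, nat_lit 2, nat_lit 0, nat_lit 82, nat_lit 0, nat_lit 0, nat_lit 0, nat_lit 0, nat_lit 17, nat_lit 33, nat_lit 18, nat_lit 2, nat_lit 49, nat_lit 0, nat_lit 1, nat_lit 2, nat_lit 34, nat_lit 34, nat_lit 0, nat_lit 18, nat_lit 0, nat_lit 66, nat_lit 0, nat_lit 0, nat_lit 1, nat_lit 50, nat_lit 50, nat_lit 0, nat_lit 0, nat_lit 17, nat_lit 18, nat_lit 0, nat_lit 2, nat_lit 66, nat_lit 0, nat_lit 2, nat_lit 34, nat_lit 82, nat_lit 0, nat_lit 0, nat_lit 0, nat_lit 0, nat_lit 0, nat_lit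 34, nat_lit 0, nat_lit 0, nat_lit 34, nat_lit 49, nat_lit 33, nat_lit 0, nat_lit 0, nat_lit 1, nat_lit 33, nat_lit 2, nat_lit 34, nat_lit 0, nat_lit 50, nat_lit 0, nat_lit 0, nat_lit 34, nat_lit 0, nat_lit 18, nat_lit 66, nat_lit 0, nat_lit 0, nat_lit 1, nat_lit 0, nat_lit 34, nat_lit 33, nat_lit 2, nat_lit 2, nat_lit 50, nat_lit 0, nat_lit 18, nat_lit 2, nat_lit 66, nat_lit 0, nat_lit 1, nat_lit 34, nat_lit 0, nat_lit 82, nat_lit 0, nat_lit 0, nat_lit 1, nat_lit 0, nat_lit 18, nat_lit 34, nat_lit 2, nat_lit 2, nat_lit 0, nat_lit 81, nat_lit 0, nat_lit 34, nat_lit 34, nat_lit 0, nat_lit 1, nat_lit 0, nat_lit 18, nat_lit 34, nat_lit 2, nat_lit 50, nat_lit 0, nat_lit 0, nat_lit 2, nat_lit 33, nat_lit 113, nat_lit 0, nat_lit 2, nat_lit 0, nat_lit 0, nat_lit 17, nat_lit 0, nat_lit 1, nat_lit 50, nat_lit 0, nat_lit 2, nat_lit 34, nat_lit 0, nat_lit 2, nat_lit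 82, nat_lit 2, nat_lit 0, nat_lit 0, nat_lit 0, nat_lit 17, nat_lit 33, nat_lit 34, nat_lit 0, nat_lit 98, nat_lit 0, nat_lit 0, nat_lit 0, nat_lit 1, nat_lit 34, nat_lit 0, nat_lit 49, nat_lit 2, nat_lit 0, nat_lit 1, nat_lit 34, nat_lit 50, nat_lit 0, nat_lit 0, nat_lit 2, nat_lit 33, nat_lit 2, nat_lit 34, nat_lit 34, nat_lit 50, nat_lit 0, nat_lit 0, nat_lit 0, nat_lit 17, nat_lit 0, nat_lit 0, nat_lit 34, nat_lit 2, nat_lit 50, nat_lit 2, nat_lit 49, nat_lit 18, nat_lit 0, nat_lit 18, nat_lit 50, nat_lit 2, nat_lit 82, nat_lit 0, nat_lit 0, nat_lit 0, nat_lit 0, nat_lit 1, nat_lit 33, nat_lit 0, nat_lit 1, nat_lit 18, nat_lit 50, nat_lit 0, nat_lit 1, nat_lit 18, nat_lit 34, nat_lit 2, nat_lit 65, nat_lit 0, nat_lit 0, nat_lit 0, nat_lit 1, nat_lit 49, nat_lit 18, nat_lit 34, nat_lit 0, nat_lit 1, nat_lit 2, nat_lit 34, nat_lit 66, nat_lit 0,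 nat_lit 0, nat_lit 17, nat_lit 34, nat_lit 0, nat_lit 0, nat_lit 17, nat_lit 81, nat_lit 0, nat_lit 0, nat_lit 0, nat_lit 0, nat_lit 2, nat_lit 33, nat_lit 33, nat_lit 33, nat_lit 2, nat_lit 0, nat_lit 50, nat_lit 0, nat_lit 2, nat_lit 66, nat_lit 0, nat_lit 0, nat_lit 0, nat_lit 2, nat_lit 33, nat_lit 2, nat_lit 34, nat_lit 0, nat_lit 50, nat_lit 0, nat_lit 50, nat_lit 0, nat_lit 18, nat_lit 2, nat_lit 82, nat_lit 2, nat_lit 0, nat_lit 0, nat_lit 0, nat_lit 1, nat_lit 33, nat_lit 50, nat_lit 2, nat_lit 82, nat_lit 0, nat_lit 0, nat_lit 0, nat_lit 0, nat_lit 0, nat_lit 17, nat_lit 18, nat_lit 49, nat_lit 0, nat_lit 0, nat_lit 17, nat_lit 18, nat_lit 34, nat_lit 0, nat_lit 50, nat_lit 0, nat_lit 49, nat_lit 0, nat_lit 1, nat_lit 2, nat_lit 34, nat_lit 0, nat_lit 1, nat_lit 66, nat_lit 0, nat_lit 0, nat_lit 17, nat_lit 18, nat_lit 66, nat_lit 0, nat_lit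 1, nat_lit 0, nat_lit 18, nat_lit 34, nat_lit 0, nat_lit 0, nat_lit 34, nat_lit 2, nat_lit 66, nat_lit 0, nat_lit 0, nat_lit 17, nat_lit 34, nat_lit 66, nat_lit 0, nat_lit 0, nat_lit 0, nat_lit 2, nat_lit 33, nat_lit 33, nat_lit 0, nat_lit 1, nat_lit 18, nat_lit 0, nat_lit 18, nat_lit 50, nat_lit 34, nat_lit 0, nat_lit 0, nat_lit 34, nat_lit 2, nat_lit 66, nat_lit 0, nat_lit 0, nat_lit 17, nat_lit 18, nat_lit 0, nat_lit 2, nat_lit 34, nat_lit 129, nat_lit 0, nat_lit 0, nat_lit 0, nat_lit 0, nat_lit 0, nat_lit 0, nat_lit 2, nat_lit 34, nat_lit 33, nat_lit 2, nat_lit 0, nat_lit 18, nat_lit 2, nat_lit 66, nat_lit 0, nat_lit 0, nat_lit 0, nat_lit 33, nat_lit 34, nat_lit 0, nat_lit 18, nat_lit 66, nat_lit 0, nat_lit 0, nat_lit 1, nat_lit 0, nat_lit 49, nat_lit 2, nat_lit 2, nat_lit 50, nat_lit 0, nat_lit 18, nat_lit 50, nat_lit 0, nat_lit 1, nat_lit 81,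 nat_lit 0, nat_lit 0, nat_lit 1, nat_lit 2, nat_lit 0, nat_lit 50, nat_lit 0, nat_lit 49, nat_lit 34, nat_lit 0, nat_lit 1, nat_lit 0, nat_lit 1, nat_lit 34, nat_lit 0, nat_lit 50, nat_lit 0, nat_lit 50, nat_lit 50, nat_lit 0, nat_lit 0, nat_lit 0, nat_lit 1, nat_lit 34, nat_lit 2, nat_lit 49, nat_lit 0, nat_lit 2, nat_lit 34, nat_lit 34, nat_lit 2, nat_lit 0, nat_lit 2, nat_lit 34, nat_lit 66, nat_lit 0, nat_lit 2, nat_lit 0, nat_lit 18, nat_lit 97, nat_lit 2, nat_lit 0, nat_lit 0, nat_lit 0, nat_lit 17, nat_lit 0, nat_lit 0, nat_lit 65, nat_lit 0, nat_lit 0, nat_lit 1, nat_lit 33, nat_lit 34, nat_lit 0, nat_lit 0, nat_lit 18, nat_lit 66, nat_lit 0, nat_lit 0, nat_lit 2, nat_lit 33, nat_lit 34, nat_lit 0, nat_lit 66, nat_lit 0, nat_lit 18, nat_lit 0, nat_lit 0, nat_lit 34, nat_lit 0, nat_lit 1, nat_lit 114, nat_lit 0, nat_lit 0, nat_lit 1, nat_lit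 2, nat_lit 34, nat_lit 0, nat_lit 0, nat_lit 65, nat_lit 2, nat_lit 2, nat_lit 50, nat_lit 0, nat_lit 0, nat_lit 2, nat_lit 2, nat_lit 50, nat_lit 0, nat_lit 50, nat_lit 0, nat_lit 0, nat_lit 17, nat_lit 82, nat_lit 0, nat_lit 1, nat_lit 0, nat_lit 34, nat_lit 0, nat_lit 2, nat_lit 34, nat_lit 0, nat_lit 18, nat_lit 66, nat_lit 0, nat_lit 0, nat_lit 0, nat_lit 1, nat_lit 34, nat_lit 33, nat_lit 0, nat_lit 0, nat_lit 34, nat_lit 34, nat_lit 34, nat_lit 0, nat_lit 98, nat_lit 0, nat_lit 0, nat_lit 0, nat_lit 1, nat_lit 0, nat_lit 1, nat_lit 34, nat_lit 34, nat_lit 0, nat_lit 18, nat_lit 49, nat_lit 0, nat_lit 2, nat_lit 34, nat_lit 0, nat_lit 2, nat_lit 66, nat_lit 2, nat_lit 0, nat_lit 0, nat_lit 17, nat_lit 81, nat_lit 0, nat_lit 0, nat_lit 0, nat_lit 0, nat_lit 33, nat_lit 18, nat_lit 0, nat_lit 0, nat_lit 65, nat_lit 18, nat_lit 2, nat_lit 50, nat_lit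 2, nat_lit 0, nat_lit 0, nat_lit 2, nat_lit 98, nat_lit 0, nat_lit 0, nat_lit 0, nat_lit 17, nat_lit 0, nat_lit 34, nat_lit 33, nat_lit 0, nat_lit 18, nat_lit 0, nat_lit 50, nat_lit 0, nat_lit 0, nat_lit 18, nat_lit 66, nat_lit 0, nat_lit 0, nat_lit 0, nat_lit 0, nat_lit 18, nat_lit 33, nat_lit 33, nat_lit 18, nat_lit 82, nat_lit 0, nat_lit 0, nat_lit 0, nat_lit 0, nat_lit 17, nat_lit 2, nat_lit 34, nat_lit 33, nat_lit 2, nat_lit 34, nat_lit 0, nat_lit 2, nat_lit 2, nat_lit 50, nat_lit 0, nat_lit 0, nat_lit 17, nat_lit 34, nat_lit 65, nat_lit 0, nat_lit 50, nat_lit 0, nat_lit 0, nat_lit 2, nat_lit 34, nat_lit 0, nat_lit 2, nat_lit 66, nat_lit 0, nat_lit 0, nat_lit 1, nat_lit 0, nat_lit 50, nat_lit 114, nat_lit 0, nat_lit 0, nat_lit 0, nat_lit 0, nat_lit 0, nat_lit 0, nat_lit 0, nat_lit 18, nat_lit 33, nat_lit 0, nat_lit 18, nat_lit 34, nat_lit 33,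 nat_lit 0, nat_lit 18, nat_lit 2, nat_lit 50, nat_lit 0, nat_lit 0, nat_lit 18, nat_lit 34, nat_lit 2, nat_lit 65, nat_lit 2, nat_lit 34, nat_lit 0, nat_lit 0, nat_lit 0, nat_lit 0, nat_lit 50, nat_lit 34, nat_lit 2, nat_lit 65, nat_lit 0, nat_lit 0, nat_lit 0, nat_lit 2, nat_lit 34, nat_lit 0, nat_lit 2, nat_lit 34, nat_lit 2, nat_lit 65, nat_lit 2, nat_lit 2, nat_lit 50, nat_lit 0, nat_lit 1, nat_lit 34, nat_lit 0, nat_lit 18, nat_lit 66, nat_lit 0, nat_lit 0, nat_lit 2, nat_lit 34, nat_lit 34, nat_lit 0, nat_lit 1, nat_lit 34, nat_lit 66, nat_lit 0, nat_lit 0, nat_lit 1, nat_lit 34, nat_lit 0, nat_lit 50, nat_lit 0, nat_lit 1, nat_lit 0, nat_lit 0, nat_lit 34, nat_lit 34, nat_lit 0, nat_lit 18, nat_lit 50, nat_lit 0, nat_lit 2, nat_lit 34, nat_lit 0, nat_lit 97, nat_lit 0, nat_lit 0, nat_lit 0, nat_lit 2, nat_lit 33, nat_lit 2, nat_lit 0, nat_lit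 18, nat_lit 50, nat_lit 2, nat_lit 49, nat_lit 2, nat_lit 0, nat_lit 18, nat_lit 2, nat_lit 66, nat_lit 0, nat_lit 0, nat_lit 17, nat_lit 0, nat_lit 18, nat_lit 34, nat_lit 34, nat_lit 0, nat_lit 18, nat_lit 66, nat_lit 0, nat_lit 0, nat_lit 0, nat_lit 0, nat_lit 2, nat_lit 50, nat_lit 0, nat_lit 18, nat_lit 2, nat_lit 66, nat_lit 0, nat_lit 1, nat_lit 34, nat_lit 2, nat_lit 66, nat_lit 0, nat_lit 0, nat_lit 1, nat_lit 33, nat_lit 82, nat_lit 0, nat_lit 0, nat_lit 0, nat_lit 0, nat_lit 0, nat_lit 17, nat_lit 33, nat_lit 0, nat_lit 49, nat_lit 0, nat_lit 2, nat_lit 34, nat_lit 34, nat_lit 0, nat_lit 2, nat_lit 65, nat_lit 0, nat_lit 18, nat_lit 0, nat_lit 18, nat_lit 2, nat_lit 66, nat_lit 0, nat_lit 2, nat_lit 2, nat_lit 50, nat_lit 0, nat_lit 0, nat_lit 1, nat_lit 34, nat_lit 34, nat_lit 0, nat_lit 82, nat_lit 0, nat_lit 0, nat_lit 2, nat_lit 0, nat_lit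 50, nat_lit 82, nat_lit 0, nat_lit 0, nat_lit 0, nat_lit 0, nat_lit 1, nat_lit 18, nat_lit 0, nat_lit 18, nat_lit 49, nat_lit 0, nat_lit 0, nat_lit 18, nat_lit 34, nat_lit 2, nat_lit 50, nat_lit 0, nat_lit 1, nat_lit 2, nat_lit 34, nat_lit 34, nat_lit 49, nat_lit 0, nat_lit 1, nat_lit 34, nat_lit 0, nat_lit 2, nat_lit 34, nat_lit 50, nat_lit 0, nat_lit 0, nat_lit 17, nat_lit 2, nat_lit 34, nat_lit 34, nat_lit 0, nat_lit 0, nat_lit 17, nat_lit 18, nat_lit 34, nat_lit 2, nat_lit 81, nat_lit 0, nat_lit 0, nat_lit 0, nat_lit 0, nat_lit 0, nat_lit 18, nat_lit 33, nat_lit 33, nat_lit 0, nat_lit 2, nat_lit 34, nat_lit 34, nat_lit 2, nat_lit 49, nat_lit 18, nat_lit 2, nat_lit 0, nat_lit 18, nat_lit 2, nat_lit 82, nat_lit 0, nat_lit 1, nat_lit 18, nat_lit 0, nat_lit 18, nat_lit 50, nat_lit 0, nat_lit 0, nat_lit 82, nat_lit 0, nat_lit 0, nat_lit 0, nat_lit 0,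 nat_lit 18, nat_lit 34, nat_lit 0, nat_lit 50, nat_lit 0, nat_lit 0, nat_lit 17, nat_lit 18, nat_lit 34, nat_lit 50, nat_lit 0, nat_lit 0, nat_lit 2, nat_lit 33, nat_lit 2, nat_lit 34, nat_lit 2, nat_lit 2, nat_lit 66, nat_lit 0, nat_lit 2, nat_lit 34, nat_lit 0, nat_lit 98, nat_lit 0, nat_lit 1, nat_lit 0, nat_lit 0, nat_lit 18, nat_lit 0, nat_lit 50, nat_lit 0, nat_lit 50, nat_lit 0, nat_lit 0, nat_lit 1, nat_lit 0, nat_lit 34, nat_lit 50, nat_lit 0, nat_lit 2, nat_lit 34, nat_lit 0, nat_lit 0, nat_lit 34, nat_lit 82, nat_lit 0, nat_lit 0, nat_lit 1, nat_lit 0, nat_lit 49, nat_lit 113, nat_lit 0, nat_lit 0, nat_lit 0, nat_lit 0, nat_lit 0, nat_lit 0, nat_lit 0, nat_lit 0, nat_lit 34, nat_lit 2, nat_lit 49, nat_lit 0, nat_lit 0, nat_lit 18, nat_lit 34, nat_lit 0, nat_lit 18, nat_lit 2, nat_lit 66, nat_lit 0, nat_lit 2, nat_lit 34, nat_lit 2, nat_lit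 0, nat_lit 81, nat_lit 2, nat_lit 2, nat_lit 2, nat_lit 2, nat_lit 82, nat_lit 0, nat_lit 2, nat_lit 0, nat_lit 50, nat_lit 2, nat_lit 0, nat_lit 18, nat_lit 0, nat_lit 97, nat_lit 0, nat_lit 0, nat_lit 1, nat_lit 2, nat_lit 34, nat_lit 2, nat_lit 49, nat_lit 34, nat_lit 0, nat_lit 1, nat_lit 18, nat_lit 34, nat_lit 0, nat_lit 1, nat_lit 82, nat_lit 0, nat_lit 0, nat_lit 0, nat_lit 1, nat_lit 33, nat_lit 18, nat_lit 2, nat_lit 49, nat_lit 0, nat_lit 0, nat_lit 34, nat_lit 34, nat_lit 0, nat_lit 0, nat_lit 18, nat_lit 34, nat_lit 2, nat_lit 0, nat_lit 82, nat_lit 49, nat_lit 0, nat_lit 0, nat_lit 0, nat_lit 0, nat_lit 2, nat_lit 33, nat_lit 33, nat_lit 0, nat_lit 0, nat_lit 34, nat_lit 0, nat_lit 50, nat_lit 0, nat_lit 18, nat_lit 0, nat_lit 2, nat_lit 81, nat_lit 2, nat_lit 0, nat_lit 1, nat_lit 34, nat_lit 2, nat_lit 0, nat_lit 82, nat_lit 0, nat_lit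 0, nat_lit 18, nat_lit 2, nat_lit 50, nat_lit 0, nat_lit 1, nat_lit 34, nat_lit 0, nat_lit 1, nat_lit 98, nat_lit 0, nat_lit 0, nat_lit 1, nat_lit 18, nat_lit 2, nat_lit 49, nat_lit 0, nat_lit 18, nat_lit 0, nat_lit 0, nat_lit 66, nat_lit 0, nat_lit 1, nat_lit 66, nat_lit 0, nat_lit 1, nat_lit 18, nat_lit 2, nat_lit 50, nat_lit 0, nat_lit 18, nat_lit 82, nat_lit 0, nat_lit 0, nat_lit 0, nat_lit 2, nat_lit 0, nat_lit 49, nat_lit 0, nat_lit 0, nat_lit 18, nat_lit 34, nat_lit 0, nat_lit 50, nat_lit 2, nat_lit 2, nat_lit 65, nat_lit 0, nat_lit 2, nat_lit 0, nat_lit 50, nat_lit 0, nat_lit 0, nat_lit 2, nat_lit 50, nat_lit 0, nat_lit 66, nat_lit 0, nat_lit 0, nat_lit 0, nat_lit 2, nat_lit 34, nat_lit 34, nat_lit 34, nat_lit 2, nat_lit 0, nat_lit 82, nat_lit 0, nat_lit 0, nat_lit 0, nat_lit 18, nat_lit 0, nat_lit 50, nat_lit 0, nat_lit 0, nat_lit 17, nat_lit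 18, nat_lit 34, nat_lit 0, nat_lit 0, nat_lit 34, nat_lit 66, nat_lit 0, nat_lit 0, nat_lit 17, nat_lit 2, nat_lit 34, nat_lit 34, nat_lit 0, nat_lit 1, nat_lit 113, nat_lit 2, nat_lit 2, nat_lit 0, nat_lit 2, nat_lit 0, nat_lit 0, nat_lit 34, nat_lit 50, nat_lit 0, nat_lit 0, nat_lit 0, nat_lit 17, nat_lit 33, nat_lit 2, nat_lit 34, nat_lit 0, nat_lit 50, nat_lit 0, nat_lit 0, nat_lit 2, nat_lit 33, nat_lit 2, nat_lit 34, nat_lit 114, nat_lit 0, nat_lit 0, nat_lit 1, nat_lit 0, nat_lit 1, nat_lit 2, nat_lit 34, nat_lit 0, nat_lit 50, nat_lit 0, nat_lit 2, nat_lit 34, nat_lit 50, nat_lit 0, nat_lit 0, nat_lit 17, nat_lit 2, nat_lit 34, nat_lit 34, nat_lit 0, nat_lit 2, nat_lit 2, nat_lit 97, nat_lit 0, nat_lit 1, nat_lit 2, nat_lit 0, nat_lit 2, nat_lit 66, nat_lit 0, nat_lit 0, nat_lit 0, nat_lit 33, nat_lit 66, nat_lit 0, nat_lit 0, nat_lit 0, nat_lit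 17, nat_lit 2, nat_lit 34, nat_lit 33, nat_lit 18, nat_lit 34, nat_lit 2, nat_lit 0, nat_lit 18, nat_lit 82, nat_lit 0, nat_lit 0, nat_lit 0, nat_lit 1, nat_lit 18, nat_lit 34, nat_lit 0, nat_lit 49, nat_lit 0, nat_lit 18, nat_lit 0, nat_lit 50, nat_lit 0, nat_lit 1, nat_lit 66, nat_lit 0, nat_lit 0, nat_lit 0, nat_lit 0, nat_lit 18, nat_lit 34, nat_lit 33, nat_lit 2, nat_lit 34, nat_lit 34, nat_lit 0, nat_lit 0, nat_lit 34, nat_lit 82, nat_lit 0, nat_lit 0, nat_lit 0, nat_lit 0, nat_lit 17, nat_lit 0, nat_lit 34, nat_lit 2, nat_lit 0, nat_lit 65, nat_lit 2, nat_lit 0, nat_lit 18, nat_lit 50, nat_lit 0, nat_lit 2, nat_lit 34, nat_lit 49, nat_lit 0, nat_lit 1, nat_lit 18, nat_lit 0, nat_lit 50, nat_lit 0, nat_lit 0, nat_lit 66, nat_lit 0, nat_lit 2, nat_lit 66, nat_lit 0, nat_lit 0, nat_lit 18, nat_lit 0, nat_lit 18, nat_lit 2, nat_lit 66, nat_lit 0,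 nat_lit 0, nat_lit 0, nat_lit 17, nat_lit 18, nat_lit 33, nat_lit 2, nat_lit 34, nat_lit 0, nat_lit 18, nat_lit 130, nat_lit 0, nat_lit 0, nat_lit 0, nat_lit 0, nat_lit 0, nat_lit 0, nat_lit 0, nat_lit 17, nat_lit 18, nat_lit 33, nat_lit 2, nat_lit 34, nat_lit 33, nat_lit 0, nat_lit 0, nat_lit 34, nat_lit 0, nat_lit 50, nat_lit 0, nat_lit 1, nat_lit 65, nat_lit 0, nat_lit 0, nat_lit 1, nat_lit 33, nat_lit 50, nat_lit 2, nat_lit 0, nat_lit 0, nat_lit 18, nat_lit 0, nat_lit 50, nat_lit 2, nat_lit 81, nat_lit 2, nat_lit 2, nat_lit 2, nat_lit 66, nat_lit 0, nat_lit 0, nat_lit 2, nat_lit 2, nat_lit 0, nat_lit 66, nat_lit 0, nat_lit 18, nat_lit 50, nat_lit 0, nat_lit 1, nat_lit 2, nat_lit 0, nat_lit 50, nat_lit 0, nat_lit 0, nat_lit 66, nat_lit 0, nat_lit 0, nat_lit 17, nat_lit 18, nat_lit 97, nat_lit 0, nat_lit 0, nat_lit 0, nat_lit 17, nat_lit 18, nat_lit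 2, nat_lit 2, nat_lit 0, nat_lit 81, nat_lit 2, nat_lit 0, nat_lit 2, nat_lit 34, nat_lit 0, nat_lit 18, nat_lit 66, nat_lit 2, nat_lit 0, nat_lit 18, nat_lit 2, nat_lit 82, nat_lit 0, nat_lit 0, nat_lit 1, nat_lit 2, nat_lit 34, nat_lit 0, nat_lit 49, nat_lit 0, nat_lit 1, nat_lit 34, nat_lit 2, nat_lit 50, nat_lit 0, nat_lit 2, nat_lit 34, nat_lit 0, nat_lit 66, nat_lit 0, nat_lit 1, nat_lit 18, nat_lit 0, nat_lit 50, nat_lit 2, nat_lit 82, nat_lit 0, nat_lit 0, nat_lit 0, nat_lit 0, nat_lit 0, nat_lit 1, nat_lit 34, nat_lit 33, nat_lit 2, nat_lit 34, nat_lit 2, nat_lit 49, nat_lit 0, nat_lit 0, nat_lit 34, nat_lit 2, nat_lit 50, nat_lit 0, nat_lit 18, nat_lit 2, nat_lit 65, nat_lit 0, nat_lit 2, nat_lit 0, nat_lit 82, nat_lit 0, nat_lit 1, nat_lit 0, nat_lit 18, nat_lit 0, nat_lit 50, nat_lit 0, nat_lit 1, nat_lit 18, nat_lit 0, nat_lit 50, nat_lit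 2, nat_lit 66, nat_lit 0, nat_lit 0, nat_lit 17, nat_lit 0, nat_lit 18, nat_lit 34, nat_lit 34, nat_lit 82, nat_lit 0, nat_lit 0, nat_lit 0, nat_lit 0, nat_lit 0, nat_lit 2, nat_lit 49, nat_lit 18, nat_lit 0, nat_lit 1, nat_lit 34, nat_lit 0, nat_lit 65, nat_lit 0, nat_lit 0, nat_lit 2, nat_lit 50, nat_lit 0, nat_lit 2, nat_lit 34, nat_lit 2, nat_lit 66, nat_lit 0, nat_lit 1, nat_lit 34, nat_lit 0, nat_lit 0, nat_lit 18, nat_lit 34, nat_lit 2, nat_lit 81, nat_lit 0, nat_lit 2, nat_lit 2, nat_lit 2, nat_lit 98, nat_lit 0, nat_lit 1, nat_lit 2, nat_lit 0, nat_lit 2, nat_lit 66, nat_lit 0, nat_lit 0, nat_lit 0, nat_lit 1, nat_lit 33, nat_lit 34, nat_lit 66, nat_lit 0, nat_lit 0, nat_lit 0, nat_lit 2, nat_lit 2, nat_lit 50, nat_lit 0, nat_lit 18, nat_lit 50, nat_lit 114, nat_lit 0, nat_lit 0, nat_lit 0, nat_lit 0, nat_lit 0, nat_lit 0, nat_lit 0, nat_lit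 1, nat_lit 33, nat_lit 0, nat_lit 34, nat_lit 33, nat_lit 0, nat_lit 2, nat_lit 65, nat_lit 2, nat_lit 0, nat_lit 0, nat_lit 34, nat_lit 2, nat_lit 66, nat_lit 0, nat_lit 0, nat_lit 17, nat_lit 34, nat_lit 2, nat_lit 66, nat_lit 0, nat_lit 0, nat_lit 1, nat_lit 34, nat_lit 0, nat_lit 0, nat_lit 17, nat_lit 0, nat_lit 82, nat_lit 0, nat_lit 0, nat_lit 1, nat_lit 18, nat_lit 33, nat_lit 2, nat_lit 34, nat_lit 2, nat_lit 2, nat_lit 66, nat_lit 2, nat_lit 81, nat_lit 0, nat_lit 0, nat_lit 0, nat_lit 0, nat_lit 0, nat_lit 0, nat_lit 33, nat_lit 50, nat_lit 0, nat_lit 0, nat_lit 18, nat_lit 2, nat_lit 50, nat_lit 2, nat_lit 2, nat_lit 81, nat_lit 18, nat_lit 0, nat_lit 0, nat_lit 0, nat_lit 2, nat_lit 33, nat_lit 33, nat_lit 18, nat_lit 34, nat_lit 0, nat_lit 2, nat_lit 82, nat_lit 0, nat_lit 0, nat_lit 2, nat_lit 0, nat_lit 2, nat_lit 65, nat_lit 2, nat_lit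 0, nat_lit 2, nat_lit 34, nat_lit 50, nat_lit 0, nat_lit 2, nat_lit 34, nat_lit 82, nat_lit 0, nat_lit 0, nat_lit 0, nat_lit 1, nat_lit 18, nat_lit 0, nat_lit 49, nat_lit 0, nat_lit 0, nat_lit 34, nat_lit 34, nat_lit 0, nat_lit 0, nat_lit 2, nat_lit 33, nat_lit 34, nat_lit 0, nat_lit 65, nat_lit 0, nat_lit 0, nat_lit 18, nat_lit 0, nat_lit 1, nat_lit 34, nat_lit 82, nat_lit 0, nat_lit 0, nat_lit 0, nat_lit 1, nat_lit 2, nat_lit 34, nat_lit 33, nat_lit 0, nat_lit 1, nat_lit 34, nat_lit 34, nat_lit 33, nat_lit 18, nat_lit 2, nat_lit 2, nat_lit 2, nat_lit 82, nat_lit 0, nat_lit 1, nat_lit 0, nat_lit 18, nat_lit 34, nat_lit 0, nat_lit 2, nat_lit 66, nat_lit 0, nat_lit 0, nat_lit 18, nat_lit 0, nat_lit 129, nat_lit 0, nat_lit 0, nat_lit 0, nat_lit 0, nat_lit 0, nat_lit 49, nat_lit 0, nat_lit 0, nat_lit 1, nat_lit 0, nat_lit 34, nat_lit 2, nat_lit 49, nat_lit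 34, nat_lit 0, nat_lit 50, nat_lit 0, nat_lit 0, nat_lit 18, nat_lit 65, nat_lit 2, nat_lit 0, nat_lit 18, nat_lit 0, nat_lit 0, nat_lit 18, nat_lit 0, nat_lit 50, nat_lit 2, nat_lit 82, nat_lit 0, nat_lit 1, nat_lit 2, nat_lit 0, nat_lit 50, nat_lit 0, nat_lit 0, nat_lit 66, nat_lit 2, nat_lit 0, nat_lit 2, nat_lit 34, nat_lit 0, nat_lit 98, nat_lit 0, nat_lit 0, nat_lit 0, nat_lit 17, nat_lit 2, nat_lit 34, nat_lit 0, nat_lit 1, nat_lit 66, nat_lit 0, nat_lit 2, nat_lit 2, nat_lit 50, nat_lit 50, nat_lit 0, nat_lit 0, nat_lit 1, nat_lit 2, nat_lit 34, nat_lit 33, nat_lit 0, nat_lit 2, nat_lit 50, nat_lit 0, nat_lit 1, nat_lit 34, nat_lit 0, nat_lit 18, nat_lit 66, nat_lit 2, nat_lit 0, nat_lit 98, nat_lit 0, nat_lit 0, nat_lit 0, nat_lit 0, nat_lit 0, nat_lit 0, nat_lit 33, nat_lit 18, nat_lit 2, nat_lit 49, nat_lit 0, nat_lit 0, nat_lit 18, nat_lit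 34, nat_lit 34, nat_lit 0, nat_lit 0, nat_lit 65, nat_lit 0, nat_lit 0, nat_lit 0, nat_lit 50, nat_lit 0, nat_lit 18, nat_lit 50, nat_lit 0, nat_lit 0, nat_lit 18, nat_lit 34, nat_lit 49, nat_lit 0, nat_lit 0, nat_lit 0, nat_lit 17, nat_lit 2, nat_lit 34, nat_lit 33, nat_lit 2, nat_lit 0, nat_lit 0, nat_lit 66, nat_lit 2, nat_lit 2, nat_lit 66, nat_lit 2, nat_lit 0, nat_lit 1, nat_lit 34, nat_lit 2, nat_lit 82, nat_lit 0, nat_lit 0, nat_lit 0, nat_lit 17, nat_lit 0, nat_lit 49, nat_lit 0, nat_lit 0, nat_lit 66, nat_lit 2, nat_lit 2, nat_lit 82, nat_lit 0, nat_lit 0, nat_lit 0, nat_lit 2, nat_lit 2, nat_lit 49, nat_lit 0, nat_lit 0, nat_lit 65, nat_lit 0, nat_lit 0, nat_lit 0, nat_lit 33, nat_lit 2, nat_lit 34, nat_lit 34, nat_lit 0, nat_lit 0, nat_lit 18, nat_lit 66, nat_lit 0, nat_lit 2, nat_lit 34, nat_lit 2, nat_lit 0, nat_lit 18, nat_lit 82, nat_lit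 0, nat_lit 0, nat_lit 0, nat_lit 18, nat_lit 34, nat_lit 34, nat_lit 82, nat_lit 0, nat_lit 0, nat_lit 0, nat_lit 0, nat_lit 0, nat_lit 0, nat_lit 18, nat_lit 33, nat_lit 18, nat_lit 33, nat_lit 0, nat_lit 0, nat_lit 1, nat_lit 33, nat_lit 18, nat_lit 34, nat_lit 2, nat_lit 50, nat_lit 0, nat_lit 0, nat_lit 0, nat_lit 1, nat_lit 50, nat_lit 2, nat_lit 50, nat_lit 0, nat_lit 2, nat_lit 2, nat_lit 97, nat_lit 0, nat_lit 0, nat_lit 17, nat_lit 34, nat_lit 2, nat_lit 0, nat_lit 1, nat_lit 18, nat_lit 34, nat_lit 66, nat_lit 2, nat_lit 0, nat_lit 18, nat_lit 0, nat_lit 2, nat_lit 34, nat_lit 0, nat_lit 97, nat_lit 0, nat_lit 0, nat_lit 0, nat_lit 1, nat_lit 0, nat_lit 18, nat_lit 34, nat_lit 0, nat_lit 49, nat_lit 0, nat_lit 0, nat_lit 34, nat_lit 34, nat_lit 0, nat_lit 1, nat_lit 18, nat_lit 34, nat_lit 2, nat_lit 2, nat_lit 81, nat_lit 2, nat_lit 0, nat_lit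 1, nat_lit 66, nat_lit 0, nat_lit 0, nat_lit 17, nat_lit 0, nat_lit 34, nat_lit 66, nat_lit 0, nat_lit 0, nat_lit 1, nat_lit 18, nat_lit 33, nat_lit 0, nat_lit 1, nat_lit 34, nat_lit 0, nat_lit 18, nat_lit 50, nat_lit 2, nat_lit 2, nat_lit 66, nat_lit 0, nat_lit 0, nat_lit 0, nat_lit 17, nat_lit 0, nat_lit 34, nat_lit 33, nat_lit 0, nat_lit 1, nat_lit 66, nat_lit 2, nat_lit 82, nat_lit 0, nat_lit 0, nat_lit 0, nat_lit 0, nat_lit 2, nat_lit 49, nat_lit 0, nat_lit 2, nat_lit 50, nat_lit 0, nat_lit 1, nat_lit 18, nat_lit 65, nat_lit 0, nat_lit 1, nat_lit 18, nat_lit 34, nat_lit 2, nat_lit 50, nat_lit 0, nat_lit 1, nat_lit 0, nat_lit 18, nat_lit 0, nat_lit 50, nat_lit 34, nat_lit 0, nat_lit 18, nat_lit 2, nat_lit 82, nat_lit 2, nat_lit 2, nat_lit 82, nat_lit 0, nat_lit 0, nat_lit 1, nat_lit 0, nat_lit 1, nat_lit 18, nat_lit 34, nat_lit 2, nat_lit 2, nat_lit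 66, nat_lit 0, nat_lit 1, nat_lit 2, nat_lit 2, nat_lit 50, nat_lit 2, nat_lit 50, nat_lit 0, nat_lit 18, nat_lit 65, nat_lit 0, nat_lit 0, nat_lit 0, nat_lit 0, nat_lit 18, nat_lit 33, nat_lit 33, nat_lit 50, nat_lit 2, nat_lit 0, nat_lit 0, nat_lit 1, nat_lit 33, nat_lit 18, nat_lit 2, nat_lit 50, nat_lit 2, nat_lit 82, nat_lit 0, nat_lit 0, nat_lit 0, nat_lit 1, nat_lit 34, nat_lit 2, nat_lit 2, nat_lit 2, nat_lit 81, nat_lit 0, nat_lit 0, nat_lit 0, nat_lit 50, nat_lit 0, nat_lit 18, nat_lit 2, nat_lit 66, nat_lit 0, nat_lit 0, nat_lit 2, nat_lit 33, nat_lit 0, nat_lit 18, nat_lit 34, nat_lit 34, nat_lit 0, nat_lit 18, nat_lit 2, nat_lit 161, nat_lit 0, nat_lit 0, nat_lit 0, nat_lit 0, nat_lit 0, nat_lit 0, nat_lit 0, nat_lit 1, nat_lit 33, nat_lit 2, nat_lit 2, nat_lit 50, nat_lit 0, nat_lit 18, nat_lit 49, nat_lit 2, nat_lit 34, nat_lit 34, nat_lit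 0, nat_lit 0, nat_lit 0, nat_lit 17, nat_lit 0, nat_lit 49, nat_lit 2, nat_lit 34, nat_lit 0, nat_lit 50, nat_lit 0, nat_lit 0, nat_lit 0, nat_lit 17, nat_lit 34, nat_lit 34, nat_lit 66, nat_lit 0, nat_lit 0, nat_lit 0, nat_lit 0, nat_lit 0, nat_lit 17, nat_lit 34, nat_lit 0, nat_lit 50, nat_lit 2, nat_lit 49, nat_lit 2, nat_lit 0, nat_lit 18, nat_lit 50, nat_lit 0, nat_lit 0, nat_lit 1, nat_lit 33, nat_lit 0, nat_lit 18, nat_lit 34, nat_lit 34, nat_lit 0, nat_lit 66, nat_lit 0, nat_lit 0, nat_lit 0, nat_lit 17, nat_lit 18, nat_lit 2, nat_lit 50, nat_lit 0, nat_lit 50, nat_lit 0, nat_lit 0, nat_lit 0, nat_lit 34, nat_lit 2, nat_lit 113, nat_lit 0, nat_lit 0, nat_lit 0, nat_lit 1, nat_lit 2, nat_lit 2, nat_lit 50, nat_lit 0, nat_lit 2, nat_lit 34, nat_lit 49, nat_lit 0, nat_lit 0, nat_lit 0, nat_lit 18, nat_lit 33, nat_lit 18, nat_lit 0, nat_lit 18,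 nat_lit 50, nat_lit 0, nat_lit 0, nat_lit 34, nat_lit 50, nat_lit 0, nat_lit 2, nat_lit 34, nat_lit 49, nat_lit 2, nat_lit 0, nat_lit 0, nat_lit 17, nat_lit 34, nat_lit 0, nat_lit 1, nat_lit 0, nat_lit 50, nat_lit 66, nat_lit 0, nat_lit 0, nat_lit 1, nat_lit 18, nat_lit 0, nat_lit 49, nat_lit 2, nat_lit 0, nat_lit 18, nat_lit 50, nat_lit 0, nat_lit 2, nat_lit 34, nat_lit 50, nat_lit 0, nat_lit 0, nat_lit 0, nat_lit 17, nat_lit 0, nat_lit 49, nat_lit 0, nat_lit 50, nat_lit 0, nat_lit 0, nat_lit 18, nat_lit 34, nat_lit 82, nat_lit 0, nat_lit 0, nat_lit 0, nat_lit 0, nat_lit 17, nat_lit 18, nat_lit 0, nat_lit 18, nat_lit 49, nat_lit 0, nat_lit 0, nat_lit 17, nat_lit 18, nat_lit 0, nat_lit 66, nat_lit 33, nat_lit 0, nat_lit 0, nat_lit 2, nat_lit 50, nat_lit 0, nat_lit 1, nat_lit 18, nat_lit 34, nat_lit 50, nat_lit 0, nat_lit 0, nat_lit 17, nat_lit 18,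 nat_lit 0, nat_lit 18, nat_lit 50, nat_lit 0, nat_lit 0, nat_lit 1, nat_lit 98, nat_lit 2, nat_lit 0, nat_lit 1, nat_lit 2, nat_lit 34, nat_lit 34, nat_lit 82, nat_lit 0, nat_lit 0, nat_lit 0, nat_lit 0, nat_lit 1, nat_lit 18, nat_lit 33, nat_lit 0, nat_lit 0, nat_lit 65, nat_lit 0, nat_lit 1, nat_lit 18, nat_lit 34, nat_lit 0, nat_lit 0, nat_lit 18, nat_lit 66, nat_lit 0, nat_lit 0, nat_lit 2, nat_lit 33, nat_lit 2, nat_lit 34, nat_lit 34, nat_lit 2, nat_lit 0, nat_lit 2, nat_lit 97, nat_lit 0, nat_lit 0, nat_lit 0, nat_lit 0, nat_lit 18, nat_lit 2, nat_lit 49, nat_lit 33, nat_lit 34, nat_lit 0, nat_lit 1, nat_lit 18, nat_lit 2, nat_lit 50, nat_lit 0, nat_lit 18, nat_lit 2, nat_lit 82, nat_lit 0, nat_lit 0, nat_lit 1, nat_lit 2, nat_lit 34, nat_lit 33, nat_lit 34, nat_lit 0, nat_lit 1, nat_lit 0, nat_lit 50, nat_lit 0, nat_lit 2, nat_lit 34, nat_lit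 82, nat_lit 0, nat_lit 0, nat_lit 0, nat_lit 2, nat_lit 2, nat_lit 2, nat_lit 81, nat_lit 0, nat_lit 0, nat_lit 0, nat_lit 18, nat_lit 50, nat_lit 0, nat_lit 0, nat_lit 0, nat_lit 17, nat_lit 33, nat_lit 34, nat_lit 0, nat_lit 66, nat_lit 0, nat_lit 0, nat_lit 17, nat_lit 0, nat_lit 18, nat_lit 34, nat_lit 0, nat_lit 50, nat_lit 2, nat_lit 66, nat_lit 0, nat_lit 0, nat_lit 2, nat_lit 0, nat_lit 49, nat_lit 2, nat_lit 34, nat_lit 2, nat_lit 2, nat_lit 66, nat_lit 0, nat_lit 0, nat_lit 113, nat_lit 0, nat_lit 0, nat_lit 0, nat_lit 0, nat_lit 0, nat_lit 0, nat_lit 18, nat_lit 33, nat_lit 0, nat_lit 49, nat_lit 0, nat_lit 0, nat_lit 17, nat_lit 2, nat_lit 34, nat_lit 34, nat_lit 0, nat_lit 50, nat_lit 0, nat_lit 1, nat_lit 0, nat_lit 50, nat_lit 49, nat_lit 0, nat_lit 0, nat_lit 0, nat_lit 34, nat_lit 2, nat_lit 50, nat_lit 0, nat_lit 1, nat_lit 34, nat_lit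 0, nat_lit 2, nat_lit 34, nat_lit 66, nat_lit 0, nat_lit 0, nat_lit 0, nat_lit 0, nat_lit 18, nat_lit 33, nat_lit 0, nat_lit 2, nat_lit 50, nat_lit 34, nat_lit 34, nat_lit 2, nat_lit 0, nat_lit 0, nat_lit 97, nat_lit 2, nat_lit 0, nat_lit 0, nat_lit 0, nat_lit 2, nat_lit 0, nat_lit 49, nat_lit 18, nat_lit 33, nat_lit 2, nat_lit 0, nat_lit 50, nat_lit 0, nat_lit 18, nat_lit 82, nat_lit 0, nat_lit 0, nat_lit 0, nat_lit 0, nat_lit 0, nat_lit 17, nat_lit 49, nat_lit 0, nat_lit 49, nat_lit 0, nat_lit 1, nat_lit 34, nat_lit 0, nat_lit 0, nat_lit 0, nat_lit 33, nat_lit 66, nat_lit 0, nat_lit 0, nat_lit 17, nat_lit 2, nat_lit 34, nat_lit 2, nat_lit 50, nat_lit 2, nat_lit 2, nat_lit 82, nat_lit 0, nat_lit 0, nat_lit 0, nat_lit 2, nat_lit 33, nat_lit 33, nat_lit 2, nat_lit 2, nat_lit 50, nat_lit 0, nat_lit 18, nat_lit 50, nat_lit 2, nat_lit 0, nat_lit 2, nat_lit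 114, nat_lit 0, nat_lit 0, nat_lit 0, nat_lit 1, nat_lit 2, nat_lit 34, nat_lit 0, nat_lit 1, nat_lit 65, nat_lit 2, nat_lit 34, nat_lit 0, nat_lit 0, nat_lit 17, nat_lit 0, nat_lit 50, nat_lit 0, nat_lit 0, nat_lit 82, nat_lit 0, nat_lit 1, nat_lit 0, nat_lit 0, nat_lit 18, nat_lit 2, nat_lit 82, nat_lit 0, nat_lit 1, nat_lit 0, nat_lit 50, nat_lit 66, nat_lit 0, nat_lit 0, nat_lit 0, nat_lit 0, nat_lit 2, nat_lit 2, nat_lit 49, nat_lit 33, nat_lit 18, nat_lit 2, nat_lit 2, nat_lit 66, nat_lit 0, nat_lit 0, nat_lit 17, nat_lit 2, nat_lit 34, nat_lit 0, nat_lit 82, nat_lit 0, nat_lit 0, nat_lit 1, nat_lit 0, nat_lit 18, nat_lit 34, nat_lit 33, nat_lit 0, nat_lit 0, nat_lit 17, nat_lit 50, nat_lit 0, nat_lit 18, nat_lit 2, nat_lit 66, nat_lit 0, nat_lit 1, nat_lit 114, nat_lit 0, nat_lit 0, nat_lit 0, nat_lit 0, nat_lit 1, nat_lit 33, nat_lit 33, nat_lit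 0, nat_lit 2, nat_lit 2, nat_lit 50, nat_lit 34, nat_lit 0, nat_lit 1, nat_lit 0, nat_lit 0, nat_lit 18, nat_lit 34, nat_lit 0, nat_lit 50, nat_lit 0, nat_lit 1, nat_lit 18, nat_lit 34, nat_lit 81, nat_lit 0, nat_lit 0, nat_lit 2, nat_lit 0, nat_lit 2, nat_lit 34, nat_lit 49, nat_lit 34, nat_lit 0, nat_lit 0, nat_lit 1, nat_lit 33, nat_lit 0, nat_lit 1, nat_lit 50, nat_lit 0, nat_lit 2, nat_lit 0, nat_lit 18, nat_lit 50, nat_lit 50, nat_lit 0, nat_lit 0, nat_lit 17, nat_lit 0, nat_lit 18, nat_lit 34, nat_lit 0, nat_lit 50, nat_lit 2, nat_lit 82, nat_lit 0, nat_lit 0, nat_lit 0, nat_lit 0, nat_lit 1, nat_lit 33, nat_lit 18, nat_lit 0, nat_lit 49, nat_lit 0, nat_lit 1, nat_lit 34, nat_lit 0, nat_lit 50, nat_lit 2, nat_lit 2, nat_lit 65, nat_lit 0, nat_lit 0, nat_lit 0, nat_lit 18, nat_lit 34, nat_lit 34, nat_lit 0, nat_lit 0, nat_lit 34, nat_lit 50,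 nat_lit 2, nat_lit 0, nat_lit 18, nat_lit 2, nat_lit 82, nat_lit 0, nat_lit 0, nat_lit 0, nat_lit 0, nat_lit 1, nat_lit 18, nat_lit 49, nat_lit 33, nat_lit 0, nat_lit 34, nat_lit 2, nat_lit 50, nat_lit 0, nat_lit 0, nat_lit 17, nat_lit 2, nat_lit 34, nat_lit 34, nat_lit 82, nat_lit 0, nat_lit 0, nat_lit 0, nat_lit 0, nat_lit 1, nat_lit 34, nat_lit 0, nat_lit 18, nat_lit 49, nat_lit 2, nat_lit 0, nat_lit 1, nat_lit 66, nat_lit 0, nat_lit 0, nat_lit 1, nat_lit 33, nat_lit 2, nat_lit 34, nat_lit 34, nat_lit 0, nat_lit 2, nat_lit 82, nat_lit 0, nat_lit 0, nat_lit 1, nat_lit 0, nat_lit 49, nat_lit 0, nat_lit 1, nat_lit 34, nat_lit 0, nat_lit 18, nat_lit 50, nat_lit 0, nat_lit 1, nat_lit 18, nat_lit 34, nat_lit 0, nat_lit 98, nat_lit 0, nat_lit 0, nat_lit 0, nat_lit 0, nat_lit 17, nat_lit 2, nat_lit 34, nat_lit 0, nat_lit 49, nat_lit 2, nat_lit 34, nat_lit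 34, nat_lit 0, nat_lit 0, nat_lit 2, nat_lit 50, nat_lit 50, nat_lit 0, nat_lit 0, nat_lit 1, nat_lit 33, nat_lit 0, nat_lit 1, nat_lit 18, nat_lit 0, nat_lit 50, nat_lit 34, nat_lit 0, nat_lit 130, nat_lit 2, nat_lit 0, nat_lit 0, nat_lit 0, nat_lit 0, nat_lit 0, nat_lit 0, nat_lit 0, nat_lit 34, nat_lit 2, nat_lit 49, nat_lit 0, nat_lit 18, nat_lit 34, nat_lit 33, nat_lit 0, nat_lit 18, nat_lit 0, nat_lit 2, nat_lit 34, nat_lit 50, nat_lit 2, nat_lit 0, nat_lit 0, nat_lit 18, nat_lit 0, nat_lit 18, nat_lit 97, nat_lit 0, nat_lit 0, nat_lit 0, nat_lit 2, nat_lit 34, nat_lit 2, nat_lit 49, nat_lit 34, nat_lit 0, nat_lit 18, nat_lit 2, nat_lit 2, nat_lit 82, nat_lit 0, nat_lit 0, nat_lit 0, nat_lit 1, nat_lit 49, nat_lit 2, nat_lit 34, nat_lit 34, nat_lit 0, nat_lit 0, nat_lit 2, nat_lit 50, nat_lit 0, nat_lit 2, nat_lit 34, nat_lit 81, nat_lit 0, nat_lit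 0, nat_lit 2, nat_lit 33, nat_lit 18, nat_lit 0, nat_lit 0, nat_lit 0, nat_lit 34, nat_lit 2, nat_lit 82, nat_lit 0, nat_lit 18, nat_lit 0, nat_lit 0, nat_lit 17, nat_lit 34, nat_lit 0, nat_lit 2, nat_lit 34, nat_lit 82, nat_lit 0, nat_lit 0, nat_lit 0, nat_lit 1, nat_lit 33, nat_lit 0, nat_lit 18, nat_lit 34, nat_lit 33, nat_lit 0, nat_lit 0, nat_lit 17, nat_lit 2, nat_lit 34, nat_lit 2, nat_lit 50, nat_lit 0, nat_lit 0, nat_lit 34, nat_lit 50, nat_lit 0, nat_lit 1, nat_lit 18, nat_lit 34, nat_lit 50, nat_lit 0, nat_lit 0, nat_lit 2, nat_lit 34, nat_lit 2, nat_lit 0, nat_lit 18, nat_lit 66, nat_lit 0, nat_lit 2, nat_lit 34, nat_lit 0, nat_lit 2, nat_lit 114, nat_lit 0, nat_lit 0, nat_lit 0, nat_lit 0, nat_lit 1, nat_lit 0, nat_lit 49, nat_lit 0, nat_lit 0, nat_lit 17, nat_lit 34, nat_lit 34, nat_lit 33, nat_lit 0, nat_lit 1, nat_lit 2, nat_lit 34,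 nat_lit 0, nat_lit 50, nat_lit 34, nat_lit 0, nat_lit 2, nat_lit 65, nat_lit 0, nat_lit 0, nat_lit 0, nat_lit 1, nat_lit 33, nat_lit 33, nat_lit 2, nat_lit 2, nat_lit 50, nat_lit 0, nat_lit 1, nat_lit 18, nat_lit 34, nat_lit 50, nat_lit 0, nat_lit 0, nat_lit 34, nat_lit 0, nat_lit 18, nat_lit 0, nat_lit 82, nat_lit 0, nat_lit 0, nat_lit 1, nat_lit 2, nat_lit 34, nat_lit 2, nat_lit 49, nat_lit 0, nat_lit 34, nat_lit 0, nat_lit 50, nat_lit 0, nat_lit 1, nat_lit 18, nat_lit 0, nat_lit 50, nat_lit 0, nat_lit 0, nat_lit 98, nat_lit 0, nat_lit 0, nat_lit 0, nat_lit 0, nat_lit 0, nat_lit 17, nat_lit 33, nat_lit 33, nat_lit 2, nat_lit 34, nat_lit 0, nat_lit 49, nat_lit 0, nat_lit 2, nat_lit 2, nat_lit 2, nat_lit 66, nat_lit 0, nat_lit 18, nat_lit 0, nat_lit 66, nat_lit 0, nat_lit 0, nat_lit 1, nat_lit 33, nat_lit 34, nat_lit 130, nat_lit 0, nat_lit 0, nat_lit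 0, nat_lit 0, nat_lit 0, nat_lit 0, nat_lit 17, nat_lit 0, nat_lit 1, nat_lit 2, nat_lit 34, nat_lit 34, nat_lit 0, nat_lit 50, nat_lit 0, nat_lit 1, nat_lit 65, nat_lit 0, nat_lit 0, nat_lit 0, nat_lit 17, nat_lit 33, nat_lit 2, nat_lit 2, nat_lit 50, nat_lit 0, nat_lit 0, nat_lit 1, nat_lit 33, nat_lit 34, nat_lit 66, nat_lit 0, nat_lit 0, nat_lit 0, nat_lit 2, nat_lit 33, nat_lit 18, nat_lit 2, nat_lit 49, nat_lit 18, nat_lit 2, nat_lit 50, nat_lit 0, nat_lit 0, nat_lit 1, nat_lit 34, nat_lit 34, nat_lit 65, nat_lit 0, nat_lit 0, nat_lit 0, nat_lit 0, nat_lit 17, nat_lit 0, nat_lit 49, nat_lit 2, nat_lit 34, nat_lit 33, nat_lit 2, nat_lit 34, nat_lit 0, nat_lit 1, nat_lit 66, nat_lit 0, nat_lit 0, nat_lit 0, nat_lit 1, nat_lit 33, nat_lit 2, nat_lit 34, nat_lit 0, nat_lit 49, nat_lit 2, nat_lit 34, nat_lit 0, nat_lit 1, nat_lit 66, nat_lit 0, nat_lit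 1, nat_lit 18, nat_lit 0, nat_lit 50, nat_lit 2, nat_lit 82, nat_lit 0, nat_lit 0, nat_lit 0, nat_lit 0, nat_lit 17, nat_lit 18, nat_lit 2, nat_lit 49, nat_lit 0, nat_lit 1, nat_lit 34, nat_lit 34, nat_lit 0, nat_lit 0, nat_lit 65, nat_lit 0, nat_lit 0, nat_lit 2, nat_lit 50, nat_lit 0, nat_lit 0, nat_lit 17, nat_lit 34, nat_lit 50, nat_lit 2, nat_lit 50, nat_lit 0, nat_lit 0, nat_lit 0, nat_lit 1, nat_lit 34, nat_lit 2, nat_lit 50, nat_lit 34, nat_lit 2, nat_lit 81, nat_lit 0, nat_lit 0, nat_lit 0, nat_lit 1, nat_lit 0, nat_lit 1, nat_lit 50, nat_lit 33, nat_lit 0, nat_lit 0, nat_lit 2, nat_lit 50, nat_lit 0, nat_lit 0, nat_lit 18, nat_lit 34, nat_lit 50, nat_lit 2, nat_lit 0, nat_lit 1, nat_lit 34, nat_lit 66, nat_lit 0, nat_lit 0, nat_lit 0, nat_lit 0, nat_lit 17, nat_lit 33, nat_lit 34, nat_lit 0, nat_lit 1, nat_lit 34, nat_lit 50, nat_lit 0, nat_lit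 2, nat_lit 0, nat_lit 50, nat_lit 0, nat_lit 82, nat_lit 0, nat_lit 1, nat_lit 0, nat_lit 2, nat_lit 2, nat_lit 50, nat_lit 0, nat_lit 0, nat_lit 34, nat_lit 50, nat_lit 0, nat_lit 1, nat_lit 34, nat_lit 50, nat_lit 0, nat_lit 1, nat_lit 0, nat_lit 2, nat_lit 66, nat_lit 0, nat_lit 0, nat_lit 18, nat_lit 2, nat_lit 114, nat_lit 0, nat_lit 0, nat_lit 0, nat_lit 0, nat_lit 0, nat_lit 17, nat_lit 33, nat_lit 0, nat_lit 18, nat_lit 2, nat_lit 50, nat_lit 0, nat_lit 18, nat_lit 49, nat_lit 18, nat_lit 2, nat_lit 0, nat_lit 0, nat_lit 34, nat_lit 2, nat_lit 81, nat_lit 0, nat_lit 0, nat_lit 2, nat_lit 33, nat_lit 2, nat_lit 0, nat_lit 50, nat_lit 34, nat_lit 0, nat_lit 0, nat_lit 34, nat_lit 0, nat_lit 66, nat_lit 0, nat_lit 0, nat_lit 0, nat_lit 18, nat_lit 0, nat_lit 50, nat_lit 0, nat_lit 0, nat_lit 18, nat_lit 66, nat_lit 0, nat_lit 0, nat_lit 1, nat_lit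 34, nat_lit 82, nat_lit 0, nat_lit 0, nat_lit 0, nat_lit 0, nat_lit 1, nat_lit 18, nat_lit 33, nat_lit 33, nat_lit 0, nat_lit 0, nat_lit 17, nat_lit 34, nat_lit 2, nat_lit 50, nat_lit 2, nat_lit 49, nat_lit 2, nat_lit 34, nat_lit 0, nat_lit 18, nat_lit 50, nat_lit 0, nat_lit 0, nat_lit 0, nat_lit 33, nat_lit 18, nat_lit 0, nat_lit 18, nat_lit 113, nat_lit 0, nat_lit 0, nat_lit 0, nat_lit 0, nat_lit 0, nat_lit 1, nat_lit 18, nat_lit 33, nat_lit 0, nat_lit 0, nat_lit 65, nat_lit 0, nat_lit 1, nat_lit 2, nat_lit 34, nat_lit 34, nat_lit 2, nat_lit 2, nat_lit 66, nat_lit 0, nat_lit 2, nat_lit 0, nat_lit 50, nat_lit 2, nat_lit 0, nat_lit 81, nat_lit 2, nat_lit 0, nat_lit 2, nat_lit 0, nat_lit 18, nat_lit 50, nat_lit 0, nat_lit 0, nat_lit 34, nat_lit 66, nat_lit 0, nat_lit 2, nat_lit 0, nat_lit 50, nat_lit 0, nat_lit 0, nat_lit 1, nat_lit 33, nat_lit 2, nat_lit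 34, nat_lit 34, nat_lit 0, nat_lit 0, nat_lit 17, nat_lit 34, nat_lit 81, nat_lit 2, nat_lit 0, nat_lit 0, nat_lit 1, nat_lit 33, nat_lit 0, nat_lit 1, nat_lit 2, nat_lit 34, nat_lit 34, nat_lit 34, nat_lit 0, nat_lit 0, nat_lit 66, nat_lit 2, nat_lit 0, nat_lit 1, nat_lit 98, nat_lit 0, nat_lit 0, nat_lit 0, nat_lit 0, nat_lit 17, nat_lit 18, nat_lit 33, nat_lit 2, nat_lit 34, nat_lit 33, nat_lit 0, nat_lit 0, nat_lit 0, nat_lit 33, nat_lit 2, nat_lit 34, nat_lit 34, nat_lit 34, nat_lit 34, nat_lit 0, nat_lit 0, nat_lit 1, nat_lit 0, nat_lit 34, nat_lit 33, nat_lit 2, nat_lit 2, nat_lit 50, nat_lit 0, nat_lit 18, nat_lit 2, nat_lit 66, nat_lit 66, nat_lit 0, nat_lit 0, nat_lit 0, nat_lit 0, nat_lit 0, nat_lit 0, nat_lit 17, nat_lit 33, nat_lit 18, nat_lit 2, nat_lit 49, nat_lit 0, nat_lit 0, nat_lit 65, nat_lit 0, nat_lit 18, nat_lit 0, nat_lit 18,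 nat_lit 50, nat_lit 2, nat_lit 49, nat_lit 0, nat_lit 0, nat_lit 0, nat_lit 18, nat_lit 0, nat_lit 50, nat_lit 0, nat_lit 18, nat_lit 50, nat_lit 2, nat_lit 0, nat_lit 1, nat_lit 82, nat_lit 0, nat_lit 18, nat_lit 0, nat_lit 2, nat_lit 34, nat_lit 2, nat_lit 82, nat_lit 0, nat_lit 0, nat_lit 0, nat_lit 0, nat_lit 18, nat_lit 2, nat_lit 49, nat_lit 0, nat_lit 0, nat_lit 65, nat_lit 0, nat_lit 1, nat_lit 18, nat_lit 34, nat_lit 0, nat_lit 1, nat_lit 34, nat_lit 50, nat_lit 2, nat_lit 0, nat_lit 66, nat_lit 0, nat_lit 0, nat_lit 0, nat_lit 2, nat_lit 33, nat_lit 2, nat_lit 34, nat_lit 33, nat_lit 18, nat_lit 2, nat_lit 0, nat_lit 66, nat_lit 0, nat_lit 1, nat_lit 0, nat_lit 130, nat_lit 0, nat_lit 0, nat_lit 0, nat_lit 0, nat_lit 0, nat_lit 17, nat_lit 18, nat_lit 33, nat_lit 0, nat_lit 0, nat_lit 1, nat_lit 33, nat_lit 34, nat_lit 0, nat_lit 1, nat_lit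 34, nat_lit 50, nat_lit 0, nat_lit 2, nat_lit 34, nat_lit 0, nat_lit 65, nat_lit 0, nat_lit 0, nat_lit 0, nat_lit 18, nat_lit 0, nat_lit 18, nat_lit 49, nat_lit 2, nat_lit 34, nat_lit 34, nat_lit 2, nat_lit 0, nat_lit 18, nat_lit 2, nat_lit 82, nat_lit 0, nat_lit 1, nat_lit 0, nat_lit 2, nat_lit 66, nat_lit 0, nat_lit 0, nat_lit 34, nat_lit 2, nat_lit 81, nat_lit 0, nat_lit 0, nat_lit 0, nat_lit 0, nat_lit 33, nat_lit 0, nat_lit 34, nat_lit 33, nat_lit 2, nat_lit 2, nat_lit 0, nat_lit 66, nat_lit 0, nat_lit 0, nat_lit 34, nat_lit 66, nat_lit 2, nat_lit 2, nat_lit 0, nat_lit 0, nat_lit 18, nat_lit 34, nat_lit 82, nat_lit 0, nat_lit 0, nat_lit 0, nat_lit 0, nat_lit 17, nat_lit 2, nat_lit 0, nat_lit 50, nat_lit 34, nat_lit 0, nat_lit 0, nat_lit 2, nat_lit 34, nat_lit 65, nat_lit 0, nat_lit 0, nat_lit 0, nat_lit 0, nat_lit 33, nat_lit 18, nat_lit 33, nat_lit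 34, nat_lit 0, nat_lit 0, nat_lit 2, nat_lit 34, nat_lit 34, nat_lit 50, nat_lit 2, nat_lit 0, nat_lit 0, nat_lit 17, nat_lit 18, nat_lit 34, nat_lit 2, nat_lit 82, nat_lit 0, nat_lit 0, nat_lit 0, nat_lit 0, nat_lit 17, nat_lit 2, nat_lit 34, nat_lit 2, nat_lit 50, nat_lit 33, nat_lit 0, nat_lit 0, nat_lit 18, nat_lit 34, nat_lit 0, nat_lit 1, nat_lit 18, nat_lit 34, nat_lit 0, nat_lit 66, nat_lit 0, nat_lit 1, nat_lit 34, nat_lit 0, nat_lit 2, nat_lit 82, nat_lit 0, nat_lit 0, nat_lit 1, nat_lit 18, nat_lit 2, nat_lit 50, nat_lit 2, nat_lit 130, nat_lit 0, nat_lit 0, nat_lit 0, nat_lit 0, nat_lit 0, nat_lit 0, nat_lit 0, nat_lit 34, nat_lit 33, nat_lit 0, nat_lit 2, nat_lit 50, nat_lit 0, nat_lit 1, nat_lit 34, nat_lit 0, nat_lit 18, nat_lit 2, nat_lit 81, nat_lit 0, nat_lit 0, nat_lit 2, nat_lit 0, nat_lit 18, nat_lit 49, nat_lit 18, nat_lit 34,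 nat_lit 0, nat_lit 0, nat_lit 0, nat_lit 34, nat_lit 34, nat_lit 50, nat_lit 0, nat_lit 1, nat_lit 34, nat_lit 49, nat_lit 0, nat_lit 0, nat_lit 0, nat_lit 0, nat_lit 17, nat_lit 18, nat_lit 33, nat_lit 0, nat_lit 49, nat_lit 2, nat_lit 0, nat_lit 50, nat_lit 2, nat_lit 0, nat_lit 66, nat_lit 0, nat_lit 0, nat_lit 1, nat_lit 33, nat_lit 0, nat_lit 50, nat_lit 0, nat_lit 0, nat_lit 34, nat_lit 0, nat_lit 82, nat_lit 0, nat_lit 0, nat_lit 0, nat_lit 17, nat_lit 0, nat_lit 2, nat_lit 34, nat_lit 34, nat_lit 0, nat_lit 1, nat_lit 34, nat_lit 49, nat_lit 0, nat_lit 0, nat_lit 0, nat_lit 33, nat_lit 66, nat_lit 2, nat_lit 0, nat_lit 1, nat_lit 18, nat_lit 97, nat_lit 0, nat_lit 0, nat_lit 0, nat_lit 0, nat_lit 0, nat_lit 0, nat_lit 33, nat_lit 18, nat_lit 0, nat_lit 49, nat_lit 2, nat_lit 34, nat_lit 0, nat_lit 18, nat_lit 0, nat_lit 65, nat_lit 2, nat_lit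 0, nat_lit 2, nat_lit 34, nat_lit 50, nat_lit 0, nat_lit 0, nat_lit 18, nat_lit 34, nat_lit 50, nat_lit 2, nat_lit 0, nat_lit 0, nat_lit 2, nat_lit 34, nat_lit 0, nat_lit 98, nat_lit 0, nat_lit 0, nat_lit 0, nat_lit 17, nat_lit 18, nat_lit 2, nat_lit 2, nat_lit 65, nat_lit 0, nat_lit 0, nat_lit 34, nat_lit 34, nat_lit 0, nat_lit 2, nat_lit 34, nat_lit 50, nat_lit 0, nat_lit 1, nat_lit 18, nat_lit 0, nat_lit 50, nat_lit 2, nat_lit 0, nat_lit 0, nat_lit 114, nat_lit 0, nat_lit 0, nat_lit 1, nat_lit 0, nat_lit 0, nat_lit 17, nat_lit 18, nat_lit 34, nat_lit 0, nat_lit 1, nat_lit 34, nat_lit 50, nat_lit 2, nat_lit 49, nat_lit 0, nat_lit 0, nat_lit 0, nat_lit 17, nat_lit 0, nat_lit 49, nat_lit 2, nat_lit 34, nat_lit 34, nat_lit 0, nat_lit 2, nat_lit 2, nat_lit 50, nat_lit 0, nat_lit 1, nat_lit 82, nat_lit 0, nat_lit 0, nat_lit 0, nat_lit 17, nat_lit 0, nat_lit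 18, nat_lit 34, nat_lit 34, nat_lit 34, nat_lit 2, nat_lit 2, nat_lit 82, nat_lit 0, nat_lit 1, nat_lit 0, nat_lit 0, nat_lit 0, nat_lit 50, nat_lit 34, nat_lit 0, nat_lit 0, nat_lit 18, nat_lit 66, nat_lit 0, nat_lit 0, nat_lit 1, nat_lit 18, nat_lit 33, nat_lit 0, nat_lit 18, nat_lit 34, nat_lit 34, nat_lit 82, nat_lit 0, nat_lit 0, nat_lit 1, nat_lit 0, nat_lit 0, nat_lit 0, nat_lit 2, nat_lit 34, nat_lit 2, nat_lit 49, nat_lit 2, nat_lit 34, nat_lit 0, nat_lit 0, nat_lit 66, nat_lit 0, nat_lit 0, nat_lit 2, nat_lit 33, nat_lit 0, nat_lit 50, nat_lit 0, nat_lit 66, nat_lit 0, nat_lit 1, nat_lit 18, nat_lit 2, nat_lit 50, nat_lit 0, nat_lit 1, nat_lit 18, nat_lit 2, nat_lit 50, nat_lit 65, nat_lit 0, nat_lit 0, nat_lit 0, nat_lit 1, nat_lit 33, nat_lit 18, nat_lit 2, nat_lit 49, nat_lit 18, nat_lit 0, nat_lit 1, nat_lit 18, nat_lit 2, nat_lit 50,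 nat_lit 2, nat_lit 66, nat_lit 0, nat_lit 0, nat_lit 34, nat_lit 2, nat_lit 66, nat_lit 0, nat_lit 0, nat_lit 0, nat_lit 17, nat_lit 0, nat_lit 18, nat_lit 34, nat_lit 0, nat_lit 1, nat_lit 34, nat_lit 2, nat_lit 65, nat_lit 0, nat_lit 1, nat_lit 18, nat_lit 34, nat_lit 34, nat_lit 2, nat_lit 50, nat_lit 0, nat_lit 0, nat_lit 1, nat_lit 2, nat_lit 34, nat_lit 33, nat_lit 34, nat_lit 0, nat_lit 0, nat_lit 1, nat_lit 33, nat_lit 34, nat_lit 0, nat_lit 98, nat_lit 0, nat_lit 0, nat_lit 0, nat_lit 0, nat_lit 0, nat_lit 0, nat_lit 18, nat_lit 34, nat_lit 0, nat_lit 49, nat_lit 0, nat_lit 18, nat_lit 0, nat_lit 18, nat_lit 50, nat_lit 2, nat_lit 49, nat_lit 0, nat_lit 0, nat_lit 18, nat_lit 34, nat_lit 34, nat_lit 0, nat_lit 2, nat_lit 34, nat_lit 49, nat_lit 0, nat_lit 1, nat_lit 2, nat_lit 34, nat_lit 34, nat_lit 0, nat_lit 1, nat_lit 34, nat_lit 2, nat_lit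 66, nat_lit 0, nat_lit 2, nat_lit 2, nat_lit 0, nat_lit 66, nat_lit 0, nat_lit 1, nat_lit 18, nat_lit 34, nat_lit 0, nat_lit 1, nat_lit 18, nat_lit 34])]


theorem bM_tabs_sub : ∀ l ∈ bM_tabs, l ∈ slpTabs bM_prog m24InitTabs := by decide +kernel

theorem bM_q0_incr : incrB bM_q0 = true := by decide +kernel

theorem bM_fix : bM_tabs.all (fun l => fixB l bM_q0) = true := by decide +kernel

theorem bM_good : GoodTabs (baseStab bM_q0) bM_tabs :=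
  goodTabs_baseStab bM_q0_incr
    ((goodTabs_slp bM_prog _ (goodTabs_init M24 shift_mem projInv_mem cubeTwist_mem)).subset
      bM_tabs_sub) bM_fix

theorem bM_oct_vals : (bM_oct.map (·.1)).Nodup := by decide +kernel

theorem bM_oct_reps : ∀ x ∈ bM_oct, x.2.1 ∈ octData := by decide +kernel

theorem bM_oct_cover : coverCheck bM_q0 (bitmaps bM_tabs keyO bM_oct) keyO octData = true := by
  decide +kernel

theorem bM_oct_sum : bM_oct.map (fun x => (x.1, x.2.2.length + 1)) = [(0, 759)] := by decide +kernel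

theorem bM_sext_vals : (bM_sext.map (·.1)).Nodup := by decide +kernel

theorem bM_sext_reps : ∀ x ∈ bM_sext, x.2.1 ∈ sextetData := by decide +kernel

theorem bM_sext_cover : coverCheck bM_q0 (bitmaps bM_tabs keyS bM_sext) keyS sextetData = true := by
  decide +kernel

theorem bM_sext_sum : bM_sext.map (fun x => (x.1, x.2.2.length + 1)) = [(0, 1771)] := by decide +kernel

theorem bM_trio_vals : (bM_trio.map (·.1)).Nodup := by decide +kernel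

theorem bM_trio_reps : ∀ x ∈ bM_trio, x.2.1 ∈ trioData := by decide +kernel

theorem bM_trio_cover : coverCheck bM_q0 (bitmaps bM_tabs keyT bM_trio) keyT trioData = true := by
  decide +kernel

theorem bM_trio_sum : bM_trio.map (fun x => (x.1, x.2.2.length + 1)) = [(0, 3795)] := by decide +kernel

end Cfsg.Agent.Helper92
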