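import Cfsg.Agent.Lib.Helper92.OrbitFams

/-!
# Orbit certificate data (generated)
-/

set_option autoImplicit false
set_option maxRecDepth 1000000

namespace Cfsg.Agent.Helper92
open Cfsg Cfsg.Agent.Helper7
open scoped Pointwise

def bO_q0 : List ℕ := [5279]

def bO_prog : List (ℕ × ℕ) := [(0, 0), (1, 3), (6, 3), (7, 3), (2, 0), (1, 5), (2, 9), (2, 10), (0, 11), (2, 12), (2, 13), (0, 14), (0, 15), (0, 16), (1, 17), (8, 1), (20, 4), (21, 4), (0, 18), (22, 23), (3, 1), (25, 4), (26, 3), (27, 3), (28, 3), (2, 19), (29, 30)]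

def bO_tabs : List (List ℕ) := [[2, 10, 1, 3, 12, 23, 5, 0, 17, 6, 4, 20, 7, 18, 11, 13, 15, 16, 14, 22, 9, 8, 19, 21], [2, 10, 4, 1, 12, 22, 23, 0, 16, 19, 3, 17, 7, 21, 18, 15, 14, 20, 13, 5, 9, 6, 8, 11]]

def bO_trio : List (ℕ × List ℕ × List ℕ) := [(100000002, [5279, 1009728, 15762208], [nat_lit 0, nat_lit 0, nat_lit 1, nat_lit 33, nat_lit 1, nat_lit 1, nat_lit 0, nat_lit 81, nat_lit 0, nat_lit 0, nat_lit 0, nat_lit 17, nat_lit 49, nat_lit 0]), (10200, [10558, 902657, 15864000], [nat_lit 0, nat_lit 0, nat_lit 0, nat_lit 0, nat_lit 0, nat_lit 0, nat_lit 0, nat_lit 0, nat_lit 0, nat_lit 0, nat_lit 0, nat_lit 1, nat_lit 49, nat_lit 0, nat_lit 17, nat_lit 49, nat_lit 0, nat_lit 0, nat_lit 17, nat_lit 0, nat_lit 1, nat_lit 33, nat_lit 49, nat_lit 0, nat_lit 0, nat_lit 0, nat_lit 49, nat_lit 0, nat_lit 81, nat_lit 0, nat_lit 0, nat_lit 0, nat_lit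 1, nat_lit 1, nat_lit 49, nat_lit 1, nat_lit 0, nat_lit 1, nat_lit 81, nat_lit 0, nat_lit 17, nat_lit 49, nat_lit 0, nat_lit 0, nat_lit 0, nat_lit 1, nat_lit 0, nat_lit 49, nat_lit 0, nat_lit 17, nat_lit 49, nat_lit 1, nat_lit 0, nat_lit 17, nat_lit 65, nat_lit 0, nat_lit 81, nat_lit 0, nat_lit 0, nat_lit 1, nat_lit 0, nat_lit 0, nat_lit 17, nat_lit 0, nat_lit 0, nat_lit 65, nat_lit 49, nat_lit 1, nat_lit 0, nat_lit 17, nat_lit 65, nat_lit 1, nat_lit 0, nat_lit 0, nat_lit 0, nat_lit 1, nat_lit 33, nat_lit 0, nat_lit 49, nat_lit 0, nat_lit 17, nat_lit 49, nat_lit 0, nat_lit 17, nat_lit 1, nat_lit 1, nat_lit 129, nat_lit 0, nat_lit 0, nat_lit 0, nat_lit 0, nat_lit 0, nat_lit 17, nat_lit 0, nat_lit 17, nat_lit 1, nat_lit 65, nat_lit 0, nat_lit 0, nat_lit 0, nat_lit 33, nat_lit 65, nat_lit 0, nat_lit 0, nat_lit 1, nat_lit 0, nat_lit 17, nat_lit 49,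 nat_lit 0, nat_lit 0, nat_lit 33, nat_lit 0, nat_lit 65, nat_lit 49, nat_lit 0, nat_lit 0, nat_lit 0, nat_lit 1, nat_lit 33, nat_lit 1, nat_lit 49, nat_lit 0, nat_lit 0, nat_lit 17, nat_lit 0, nat_lit 0, nat_lit 0, nat_lit 17, nat_lit 81, nat_lit 0, nat_lit 65, nat_lit 0, nat_lit 0, nat_lit 1, nat_lit 33, nat_lit 0, nat_lit 0, nat_lit 65, nat_lit 0, nat_lit 0, nat_lit 17, nat_lit 97, nat_lit 0, nat_lit 0, nat_lit 0, nat_lit 17, nat_lit 0, nat_lit 0, nat_lit 33, nat_lit 49, nat_lit 0, nat_lit 1, nat_lit 0, nat_lit 0, nat_lit 33, nat_lit 49, nat_lit 0, nat_lit 0, nat_lit 0, nat_lit 33, nat_lit 0, nat_lit 49, nat_lit 0, nat_lit 81, nat_lit 0, nat_lit 0, nat_lit 0, nat_lit 0, nat_lit 1, nat_lit 33, nat_lit 49, nat_lit 0, nat_lit 0, nat_lit 0, nat_lit 49, nat_lit 1, nat_lit 65, nat_lit 0, nat_lit 1, nat_lit 1, nat_lit 0, nat_lit 17, nat_lit 65, nat_lit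 0, nat_lit 1, nat_lit 1, nat_lit 145, nat_lit 0, nat_lit 0, nat_lit 0, nat_lit 0, nat_lit 0, nat_lit 0, nat_lit 0, nat_lit 0, nat_lit 17, nat_lit 1, nat_lit 65, nat_lit 33, nat_lit 0, nat_lit 1, nat_lit 1, nat_lit 1, nat_lit 65, nat_lit 0, nat_lit 65, nat_lit 0, nat_lit 0, nat_lit 0, nat_lit 0, nat_lit 33, nat_lit 0, nat_lit 49, nat_lit 33, nat_lit 0, nat_lit 0, nat_lit 1, nat_lit 33, nat_lit 0, nat_lit 0, nat_lit 65, nat_lit 0, nat_lit 81, nat_lit 0, nat_lit 0, nat_lit 0, nat_lit 0, nat_lit 1, nat_lit 49, nat_lit 33, nat_lit 1, nat_lit 0, nat_lit 65, nat_lit 1, nat_lit 0, nat_lit 1, nat_lit 33, nat_lit 0, nat_lit 0, nat_lit 1, nat_lit 49, nat_lit 0, nat_lit 1, nat_lit 0, nat_lit 49, nat_lit 113, nat_lit 0, nat_lit 0, nat_lit 1, nat_lit 0, nat_lit 0, nat_lit 1, nat_lit 1, nat_lit 49, nat_lit 1, nat_lit 49, nat_lit 49, nat_lit 0, nat_lit 1, nat_lit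 1, nat_lit 81, nat_lit 0, nat_lit 1, nat_lit 0, nat_lit 0, nat_lit 33, nat_lit 0, nat_lit 65, nat_lit 65, nat_lit 0, nat_lit 0, nat_lit 0, nat_lit 0, nat_lit 0, nat_lit 0, nat_lit 0, nat_lit 17, nat_lit 33, nat_lit 0, nat_lit 0, nat_lit 17, nat_lit 65, nat_lit 33, nat_lit 0, nat_lit 1, nat_lit 33, nat_lit 1, nat_lit 81, nat_lit 1, nat_lit 0, nat_lit 0, nat_lit 1, nat_lit 33, nat_lit 0, nat_lit 0, nat_lit 17, nat_lit 33, nat_lit 49, nat_lit 0, nat_lit 17, nat_lit 1, nat_lit 97, nat_lit 0, nat_lit 0, nat_lit 0, nat_lit 1, nat_lit 1, nat_lit 49, nat_lit 0, nat_lit 0, nat_lit 1, nat_lit 33, nat_lit 0, nat_lit 49, nat_lit 0, nat_lit 0, nat_lit 33, nat_lit 65, nat_lit 0, nat_lit 0, nat_lit 0, nat_lit 1, nat_lit 49, nat_lit 0, nat_lit 0, nat_lit 33, nat_lit 1, nat_lit 65, nat_lit 0, nat_lit 17, nat_lit 1, nat_lit 1, nat_lit 97, nat_lit 0, nat_lit 0, nat_lit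 0, nat_lit 0, nat_lit 17, nat_lit 0, nat_lit 17, nat_lit 49, nat_lit 33, nat_lit 0, nat_lit 0, nat_lit 0, nat_lit 17, nat_lit 81, nat_lit 0, nat_lit 0, nat_lit 17, nat_lit 129, nat_lit 0, nat_lit 0, nat_lit 0, nat_lit 0, nat_lit 1, nat_lit 0, nat_lit 0, nat_lit 1, nat_lit 81, nat_lit 0, nat_lit 0, nat_lit 17, nat_lit 1, nat_lit 1, nat_lit 0, nat_lit 113, nat_lit 0, nat_lit 0, nat_lit 0, nat_lit 17, nat_lit 0, nat_lit 0, nat_lit 0, nat_lit 49, nat_lit 0, nat_lit 0, nat_lit 17, nat_lit 33, nat_lit 0, nat_lit 81, nat_lit 0, nat_lit 0, nat_lit 17, nat_lit 0, nat_lit 17, nat_lit 49, nat_lit 49, nat_lit 0, nat_lit 0, nat_lit 1, nat_lit 0, nat_lit 17, nat_lit 49, nat_lit 0, nat_lit 1, nat_lit 33, nat_lit 1, nat_lit 1, nat_lit 129, nat_lit 0, nat_lit 0, nat_lit 0, nat_lit 0, nat_lit 0, nat_lit 17, nat_lit 0, nat_lit 1, nat_lit 0, nat_lit 17, nat_lit 1,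 nat_lit 65, nat_lit 49, nat_lit 0, nat_lit 0, nat_lit 33, nat_lit 0, nat_lit 17, nat_lit 1, nat_lit 81, nat_lit 0, nat_lit 17, nat_lit 1, nat_lit 0, nat_lit 1, nat_lit 0, nat_lit 49, nat_lit 81, nat_lit 0, nat_lit 0, nat_lit 0, nat_lit 1, nat_lit 0, nat_lit 49, nat_lit 0, nat_lit 0, nat_lit 0, nat_lit 17, nat_lit 49, nat_lit 0, nat_lit 81, nat_lit 0, nat_lit 0, nat_lit 1, nat_lit 33, nat_lit 0, nat_lit 1, nat_lit 1, nat_lit 49, nat_lit 1, nat_lit 0, nat_lit 81, nat_lit 0, nat_lit 17, nat_lit 0, nat_lit 0, nat_lit 17, nat_lit 113, nat_lit 0, nat_lit 0, nat_lit 0, nat_lit 1, nat_lit 0, nat_lit 17, nat_lit 49, nat_lit 0, nat_lit 0, nat_lit 1, nat_lit 33, nat_lit 1, nat_lit 49, nat_lit 0, nat_lit 17, nat_lit 1, nat_lit 81, nat_lit 0, nat_lit 0, nat_lit 0, nat_lit 17, nat_lit 33, nat_lit 0, nat_lit 1, nat_lit 33, nat_lit 49, nat_lit 0, nat_lit 1, nat_lit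 33, nat_lit 0, nat_lit 1, nat_lit 33, nat_lit 1, nat_lit 97, nat_lit 0, nat_lit 0, nat_lit 0, nat_lit 0, nat_lit 0, nat_lit 65, nat_lit 33, nat_lit 0, nat_lit 0, nat_lit 0, nat_lit 0, nat_lit 1, nat_lit 0, nat_lit 49, nat_lit 33, nat_lit 0, nat_lit 49, nat_lit 0, nat_lit 0, nat_lit 17, nat_lit 145, nat_lit 0, nat_lit 0, nat_lit 0, nat_lit 0, nat_lit 1, nat_lit 33, nat_lit 0, nat_lit 0, nat_lit 1, nat_lit 49, nat_lit 0, nat_lit 0, nat_lit 1, nat_lit 1, nat_lit 49, nat_lit 0, nat_lit 17, nat_lit 49, nat_lit 1, nat_lit 81, nat_lit 0, nat_lit 0, nat_lit 0, nat_lit 0, nat_lit 17, nat_lit 33, nat_lit 33, nat_lit 0, nat_lit 1, nat_lit 1, nat_lit 49, nat_lit 1, nat_lit 65, nat_lit 49, nat_lit 0, nat_lit 0, nat_lit 0, nat_lit 0, nat_lit 1, nat_lit 1, nat_lit 49, nat_lit 1, nat_lit 0, nat_lit 17, nat_lit 1, nat_lit 81, nat_lit 0, nat_lit 1, nat_lit 33, nat_lit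 49, nat_lit 0, nat_lit 0, nat_lit 1, nat_lit 1, nat_lit 49, nat_lit 0, nat_lit 81, nat_lit 0, nat_lit 0, nat_lit 0, nat_lit 0, nat_lit 1, nat_lit 81, nat_lit 0, nat_lit 0, nat_lit 0, nat_lit 17, nat_lit 33, nat_lit 0, nat_lit 1, nat_lit 33, nat_lit 0, nat_lit 65, nat_lit 0, nat_lit 0, nat_lit 1, nat_lit 49, nat_lit 1, nat_lit 0, nat_lit 129, nat_lit 0, nat_lit 0, nat_lit 1, nat_lit 0, nat_lit 0, nat_lit 0, nat_lit 0, nat_lit 65, nat_lit 49, nat_lit 0, nat_lit 0, nat_lit 0, nat_lit 17, nat_lit 0, nat_lit 0, nat_lit 33, nat_lit 65, nat_lit 0, nat_lit 0, nat_lit 0, nat_lit 17, nat_lit 0, nat_lit 17, nat_lit 0, nat_lit 1, nat_lit 81, nat_lit 0, nat_lit 1, nat_lit 33, nat_lit 49, nat_lit 0, nat_lit 17, nat_lit 81, nat_lit 0, nat_lit 0, nat_lit 1, nat_lit 0, nat_lit 0, nat_lit 1, nat_lit 49, nat_lit 0, nat_lit 65, nat_lit 0, nat_lit 0, nat_lit 1, nat_lit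 0, nat_lit 49, nat_lit 33, nat_lit 1, nat_lit 1, nat_lit 81, nat_lit 0, nat_lit 0, nat_lit 0, nat_lit 0, nat_lit 1, nat_lit 49, nat_lit 0, nat_lit 1, nat_lit 65, nat_lit 33, nat_lit 113, nat_lit 0, nat_lit 0, nat_lit 0, nat_lit 0, nat_lit 0, nat_lit 0, nat_lit 0, nat_lit 0, nat_lit 0, nat_lit 0, nat_lit 33, nat_lit 0, nat_lit 0, nat_lit 33, nat_lit 65, nat_lit 0, nat_lit 17, nat_lit 0, nat_lit 0, nat_lit 1, nat_lit 33, nat_lit 1, nat_lit 97, nat_lit 1, nat_lit 0, nat_lit 17, nat_lit 65, nat_lit 0, nat_lit 0, nat_lit 0, nat_lit 17, nat_lit 0, nat_lit 0, nat_lit 33, nat_lit 1, nat_lit 81, nat_lit 0, nat_lit 0, nat_lit 0, nat_lit 1, nat_lit 49, nat_lit 0, nat_lit 17, nat_lit 1, nat_lit 65, nat_lit 0, nat_lit 0, nat_lit 17, nat_lit 0, nat_lit 17, nat_lit 49, nat_lit 81, nat_lit 0, nat_lit 1, nat_lit 1, nat_lit 0, nat_lit 1, nat_lit 1, nat_lit 1, nat_lit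 113, nat_lit 0, nat_lit 0, nat_lit 0, nat_lit 0, nat_lit 1, nat_lit 33, nat_lit 1, nat_lit 0, nat_lit 65, nat_lit 0, nat_lit 0, nat_lit 33, nat_lit 0, nat_lit 81, nat_lit 0, nat_lit 0, nat_lit 17, nat_lit 0, nat_lit 17, nat_lit 49, nat_lit 0, nat_lit 0, nat_lit 0, nat_lit 33, nat_lit 0, nat_lit 1, nat_lit 65, nat_lit 0, nat_lit 0, nat_lit 33, nat_lit 0, nat_lit 129, nat_lit 0, nat_lit 0, nat_lit 0, nat_lit 0, nat_lit 0, nat_lit 0, nat_lit 0, nat_lit 17, nat_lit 33, nat_lit 0, nat_lit 49, nat_lit 1, nat_lit 49, nat_lit 33, nat_lit 1, nat_lit 0, nat_lit 0, nat_lit 81, nat_lit 0, nat_lit 0, nat_lit 0, nat_lit 1, nat_lit 65, nat_lit 0, nat_lit 1, nat_lit 0, nat_lit 17, nat_lit 0, nat_lit 17, nat_lit 65, nat_lit 0, nat_lit 0, nat_lit 97, nat_lit 0, nat_lit 0, nat_lit 1, nat_lit 0, nat_lit 0, nat_lit 65, nat_lit 0, nat_lit 0, nat_lit 0, nat_lit 1, nat_lit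 33, nat_lit 49, nat_lit 1, nat_lit 1, nat_lit 81, nat_lit 0, nat_lit 0, nat_lit 0, nat_lit 17, nat_lit 33, nat_lit 33, nat_lit 0, nat_lit 0, nat_lit 0, nat_lit 1, nat_lit 33, nat_lit 33, nat_lit 0, nat_lit 0, nat_lit 145, nat_lit 0, nat_lit 0, nat_lit 0, nat_lit 0, nat_lit 0, nat_lit 0, nat_lit 1, nat_lit 0, nat_lit 49, nat_lit 33, nat_lit 0, nat_lit 1, nat_lit 65, nat_lit 0, nat_lit 0, nat_lit 0, nat_lit 33, nat_lit 33, nat_lit 0, nat_lit 0, nat_lit 1, nat_lit 33, nat_lit 0, nat_lit 49, nat_lit 0, nat_lit 0, nat_lit 97, nat_lit 0, nat_lit 0, nat_lit 0, nat_lit 0, nat_lit 17, nat_lit 33, nat_lit 0, nat_lit 17, nat_lit 0, nat_lit 17, nat_lit 65, nat_lit 0, nat_lit 1, nat_lit 33, nat_lit 0, nat_lit 17, nat_lit 65, nat_lit 0, nat_lit 0, nat_lit 1, nat_lit 1, nat_lit 49, nat_lit 1, nat_lit 0, nat_lit 113, nat_lit 0, nat_lit 0, nat_lit 1, nat_lit 1,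 nat_lit 49, nat_lit 0, nat_lit 0, nat_lit 33, nat_lit 0, nat_lit 65, nat_lit 0, nat_lit 0, nat_lit 17, nat_lit 0, nat_lit 0, nat_lit 1, nat_lit 33, nat_lit 65, nat_lit 0, nat_lit 0, nat_lit 0, nat_lit 0, nat_lit 33, nat_lit 49, nat_lit 0, nat_lit 0, nat_lit 0, nat_lit 49, nat_lit 0, nat_lit 17, nat_lit 0, nat_lit 129, nat_lit 0, nat_lit 0, nat_lit 0, nat_lit 0, nat_lit 17, nat_lit 0, nat_lit 1, nat_lit 33, nat_lit 0, nat_lit 0, nat_lit 1, nat_lit 0, nat_lit 113, nat_lit 0, nat_lit 1, nat_lit 0, nat_lit 0, nat_lit 33, nat_lit 0, nat_lit 65, nat_lit 0, nat_lit 65, nat_lit 0, nat_lit 1, nat_lit 1, nat_lit 0, nat_lit 0, nat_lit 0, nat_lit 97, nat_lit 0, nat_lit 0, nat_lit 0, nat_lit 17, nat_lit 33, nat_lit 0, nat_lit 1, nat_lit 33, nat_lit 0, nat_lit 17, nat_lit 65, nat_lit 0, nat_lit 1, nat_lit 1, nat_lit 113, nat_lit 0, nat_lit 0, nat_lit 0, nat_lit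 1, nat_lit 1, nat_lit 49, nat_lit 0, nat_lit 1, nat_lit 0, nat_lit 81, nat_lit 0, nat_lit 0, nat_lit 33, nat_lit 49, nat_lit 0, nat_lit 0, nat_lit 0, nat_lit 17, nat_lit 1, nat_lit 65, nat_lit 0, nat_lit 0, nat_lit 0, nat_lit 17, nat_lit 1, nat_lit 49, nat_lit 33, nat_lit 0, nat_lit 17, nat_lit 0, nat_lit 1, nat_lit 33, nat_lit 0, nat_lit 161, nat_lit 0, nat_lit 0, nat_lit 0, nat_lit 0, nat_lit 0, nat_lit 0, nat_lit 1, nat_lit 33, nat_lit 0, nat_lit 1, nat_lit 33, nat_lit 49, nat_lit 0, nat_lit 17, nat_lit 0, nat_lit 1, nat_lit 33, nat_lit 0, nat_lit 81, nat_lit 0, nat_lit 0, nat_lit 0, nat_lit 1, nat_lit 33, nat_lit 0, nat_lit 1, nat_lit 65, nat_lit 0, nat_lit 0, nat_lit 1, nat_lit 1, nat_lit 49, nat_lit 0, nat_lit 49, nat_lit 49, nat_lit 1, nat_lit 0, nat_lit 1, nat_lit 97, nat_lit 0, nat_lit 0, nat_lit 1, nat_lit 0, nat_lit 65, nat_lit 0, nat_lit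 0, nat_lit 17, nat_lit 0, nat_lit 0, nat_lit 33, nat_lit 1, nat_lit 65, nat_lit 1, nat_lit 0, nat_lit 0, nat_lit 17, nat_lit 0, nat_lit 49, nat_lit 97, nat_lit 0, nat_lit 0, nat_lit 0, nat_lit 0, nat_lit 0, nat_lit 17, nat_lit 1, nat_lit 49, nat_lit 1, nat_lit 49, nat_lit 0, nat_lit 0, nat_lit 33, nat_lit 0, nat_lit 17, nat_lit 0, nat_lit 81, nat_lit 0, nat_lit 1, nat_lit 0, nat_lit 0, nat_lit 33, nat_lit 0, nat_lit 97, nat_lit 0, nat_lit 0, nat_lit 0, nat_lit 0, nat_lit 1, nat_lit 65, nat_lit 0, nat_lit 0, nat_lit 0, nat_lit 17, nat_lit 1, nat_lit 49, nat_lit 33, nat_lit 0, nat_lit 0, nat_lit 0, nat_lit 33, nat_lit 1, nat_lit 49, nat_lit 0, nat_lit 81, nat_lit 0, nat_lit 0, nat_lit 0, nat_lit 17, nat_lit 0, nat_lit 17, nat_lit 49, nat_lit 0, nat_lit 0, nat_lit 0, nat_lit 81, nat_lit 0, nat_lit 97, nat_lit 0, nat_lit 0, nat_lit 0, nat_lit 0, nat_lit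 0, nat_lit 1, nat_lit 0, nat_lit 49, nat_lit 0, nat_lit 1, nat_lit 65, nat_lit 0, nat_lit 0, nat_lit 0, nat_lit 49, nat_lit 0, nat_lit 0, nat_lit 17, nat_lit 0, nat_lit 0, nat_lit 65, nat_lit 65, nat_lit 0, nat_lit 0, nat_lit 0, nat_lit 1, nat_lit 33, nat_lit 0, nat_lit 17, nat_lit 49, nat_lit 0, nat_lit 0, nat_lit 33, nat_lit 0, nat_lit 65, nat_lit 0, nat_lit 0, nat_lit 17, nat_lit 33, nat_lit 0, nat_lit 17, nat_lit 0, nat_lit 17, nat_lit 0, nat_lit 17, nat_lit 113, nat_lit 0, nat_lit 0, nat_lit 0, nat_lit 1, nat_lit 1, nat_lit 49, nat_lit 1, nat_lit 1, nat_lit 81, nat_lit 0, nat_lit 0, nat_lit 1, nat_lit 33, nat_lit 1, nat_lit 0, nat_lit 0, nat_lit 17, nat_lit 33, nat_lit 65, nat_lit 0, nat_lit 1, nat_lit 0, nat_lit 0, nat_lit 0, nat_lit 81, nat_lit 0, nat_lit 17, nat_lit 97, nat_lit 0, nat_lit 0, nat_lit 0, nat_lit 0, nat_lit 0, nat_lit 17,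 nat_lit 33, nat_lit 1, nat_lit 49, nat_lit 0, nat_lit 0, nat_lit 0, nat_lit 0, nat_lit 49, nat_lit 33, nat_lit 0, nat_lit 17, nat_lit 0, nat_lit 17, nat_lit 81, nat_lit 0, nat_lit 0, nat_lit 0, nat_lit 17, nat_lit 0, nat_lit 49, nat_lit 0, nat_lit 17, nat_lit 0, nat_lit 65, nat_lit 0, nat_lit 0, nat_lit 0, nat_lit 49, nat_lit 0, nat_lit 17, nat_lit 1, nat_lit 97, nat_lit 0, nat_lit 0, nat_lit 0, nat_lit 1, nat_lit 0, nat_lit 49, nat_lit 33, nat_lit 0, nat_lit 1, nat_lit 33, nat_lit 0, nat_lit 1, nat_lit 0, nat_lit 17, nat_lit 49, nat_lit 1, nat_lit 81, nat_lit 0, nat_lit 0, nat_lit 0, nat_lit 1, nat_lit 0, nat_lit 17, nat_lit 49, nat_lit 0, nat_lit 17, nat_lit 49, nat_lit 1, nat_lit 1, nat_lit 65, nat_lit 0, nat_lit 1, nat_lit 33, nat_lit 0, nat_lit 1, nat_lit 1, nat_lit 0, nat_lit 65, nat_lit 0, nat_lit 0, nat_lit 193, nat_lit 0, nat_lit 0, nat_lit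 0, nat_lit 0, nat_lit 0, nat_lit 0, nat_lit 1, nat_lit 0, nat_lit 0, nat_lit 0, nat_lit 1, nat_lit 33, nat_lit 1, nat_lit 65, nat_lit 0, nat_lit 17, nat_lit 65, nat_lit 0, nat_lit 0, nat_lit 0, nat_lit 1, nat_lit 49, nat_lit 0, nat_lit 0, nat_lit 17, nat_lit 33, nat_lit 0, nat_lit 17, nat_lit 65, nat_lit 1, nat_lit 0, nat_lit 1, nat_lit 33, nat_lit 0, nat_lit 97, nat_lit 1, nat_lit 0, nat_lit 0, nat_lit 17, nat_lit 1, nat_lit 0, nat_lit 0, nat_lit 81, nat_lit 1, nat_lit 0, nat_lit 17, nat_lit 0, nat_lit 17, nat_lit 113, nat_lit 0, nat_lit 0, nat_lit 0, nat_lit 1, nat_lit 0, nat_lit 0, nat_lit 0, nat_lit 17, nat_lit 33, nat_lit 1, nat_lit 49, nat_lit 49, nat_lit 33, nat_lit 0, nat_lit 0, nat_lit 0, nat_lit 17, nat_lit 1, nat_lit 0, nat_lit 65, nat_lit 0, nat_lit 17, nat_lit 0, nat_lit 65, nat_lit 0, nat_lit 0, nat_lit 33, nat_lit 0, nat_lit 1, nat_lit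 0, nat_lit 17, nat_lit 49, nat_lit 81, nat_lit 0, nat_lit 0, nat_lit 0, nat_lit 33, nat_lit 0, nat_lit 0, nat_lit 1, nat_lit 1, nat_lit 49, nat_lit 65, nat_lit 0, nat_lit 0, nat_lit 17, nat_lit 0, nat_lit 0, nat_lit 0, nat_lit 145, nat_lit 0, nat_lit 0, nat_lit 0, nat_lit 0, nat_lit 1, nat_lit 0, nat_lit 0, nat_lit 0, nat_lit 17, nat_lit 97, nat_lit 0, nat_lit 1, nat_lit 0, nat_lit 17, nat_lit 0, nat_lit 65, nat_lit 0, nat_lit 0, nat_lit 17, nat_lit 0, nat_lit 17, nat_lit 49, nat_lit 1, nat_lit 1, nat_lit 97, nat_lit 0, nat_lit 0, nat_lit 0, nat_lit 1, nat_lit 0, nat_lit 1, nat_lit 33, nat_lit 81, nat_lit 0, nat_lit 0, nat_lit 0, nat_lit 0, nat_lit 33, nat_lit 0, nat_lit 1, nat_lit 65, nat_lit 0, nat_lit 1, nat_lit 0, nat_lit 49, nat_lit 0, nat_lit 65, nat_lit 0, nat_lit 1, nat_lit 1, nat_lit 0, nat_lit 0, nat_lit 33, nat_lit 65, nat_lit 0, nat_lit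 0, nat_lit 33, nat_lit 0, nat_lit 17, nat_lit 1, nat_lit 129, nat_lit 0, nat_lit 0, nat_lit 17, nat_lit 0, nat_lit 1, nat_lit 0, nat_lit 0, nat_lit 33, nat_lit 0, nat_lit 17, nat_lit 65, nat_lit 0, nat_lit 0, nat_lit 0, nat_lit 33, nat_lit 81, nat_lit 0, nat_lit 0, nat_lit 0, nat_lit 0, nat_lit 0, nat_lit 17, nat_lit 1, nat_lit 49, nat_lit 33, nat_lit 0, nat_lit 0, nat_lit 0, nat_lit 17, nat_lit 81, nat_lit 0, nat_lit 0, nat_lit 0, nat_lit 33, nat_lit 0, nat_lit 17, nat_lit 81, nat_lit 0, nat_lit 0, nat_lit 0, nat_lit 1, nat_lit 49, nat_lit 1, nat_lit 49, nat_lit 1, nat_lit 0, nat_lit 17, nat_lit 129, nat_lit 0, nat_lit 0, nat_lit 0, nat_lit 1, nat_lit 0, nat_lit 0, nat_lit 1, nat_lit 33, nat_lit 0, nat_lit 0, nat_lit 17, nat_lit 33, nat_lit 0, nat_lit 65, nat_lit 0, nat_lit 0, nat_lit 1, nat_lit 33, nat_lit 0, nat_lit 0, nat_lit 17, nat_lit 33,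 nat_lit 49, nat_lit 0, nat_lit 81, nat_lit 0, nat_lit 0, nat_lit 0, nat_lit 1, nat_lit 0, nat_lit 17, nat_lit 65, nat_lit 0, nat_lit 0, nat_lit 0, nat_lit 1, nat_lit 97, nat_lit 0, nat_lit 0, nat_lit 17, nat_lit 1, nat_lit 49, nat_lit 0, nat_lit 0, nat_lit 0, nat_lit 1, nat_lit 33, nat_lit 0, nat_lit 49, nat_lit 1, nat_lit 1, nat_lit 65, nat_lit 81, nat_lit 1, nat_lit 0, nat_lit 1, nat_lit 0, nat_lit 0, nat_lit 1, nat_lit 1, nat_lit 49, nat_lit 0, nat_lit 81, nat_lit 0, nat_lit 0, nat_lit 1, nat_lit 0, nat_lit 49, nat_lit 33, nat_lit 0, nat_lit 0, nat_lit 0, nat_lit 49, nat_lit 0, nat_lit 1, nat_lit 129, nat_lit 0, nat_lit 0, nat_lit 0, nat_lit 0, nat_lit 0, nat_lit 0, nat_lit 33, nat_lit 1, nat_lit 0, nat_lit 0, nat_lit 33, nat_lit 65, nat_lit 0, nat_lit 1, nat_lit 0, nat_lit 17, nat_lit 1, nat_lit 65, nat_lit 1, nat_lit 1, nat_lit 1, nat_lit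 97, nat_lit 0, nat_lit 0, nat_lit 1, nat_lit 49, nat_lit 1, nat_lit 1, nat_lit 0, nat_lit 17, nat_lit 97, nat_lit 0, nat_lit 0, nat_lit 0, nat_lit 0, nat_lit 1, nat_lit 0, nat_lit 81, nat_lit 0, nat_lit 0, nat_lit 1, nat_lit 0, nat_lit 49, nat_lit 1, nat_lit 49, nat_lit 0, nat_lit 0, nat_lit 1, nat_lit 33, nat_lit 81, nat_lit 0, nat_lit 1, nat_lit 0, nat_lit 17, nat_lit 0, nat_lit 17, nat_lit 0, nat_lit 17, nat_lit 0, nat_lit 97, nat_lit 0, nat_lit 1, nat_lit 33, nat_lit 0, nat_lit 0, nat_lit 113, nat_lit 0, nat_lit 0, nat_lit 0, nat_lit 0, nat_lit 0, nat_lit 17, nat_lit 0, nat_lit 49, nat_lit 1, nat_lit 49, nat_lit 1, nat_lit 1, nat_lit 65, nat_lit 0, nat_lit 0, nat_lit 0, nat_lit 17, nat_lit 0, nat_lit 17, nat_lit 49, nat_lit 1, nat_lit 0, nat_lit 17, nat_lit 1, nat_lit 81, nat_lit 0, nat_lit 0, nat_lit 17, nat_lit 0, nat_lit 17, nat_lit 97,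 nat_lit 0, nat_lit 0, nat_lit 0, nat_lit 0, nat_lit 17, nat_lit 0, nat_lit 49, nat_lit 1, nat_lit 49, nat_lit 1, nat_lit 1, nat_lit 65, nat_lit 0, nat_lit 0, nat_lit 0, nat_lit 17, nat_lit 1, nat_lit 49, nat_lit 0, nat_lit 17, nat_lit 49, nat_lit 0, nat_lit 0, nat_lit 17, nat_lit 145, nat_lit 0, nat_lit 0, nat_lit 0, nat_lit 0, nat_lit 0, nat_lit 0, nat_lit 17, nat_lit 0, nat_lit 0, nat_lit 1, nat_lit 49, nat_lit 1, nat_lit 0, nat_lit 17, nat_lit 81, nat_lit 0, nat_lit 0, nat_lit 0, nat_lit 17, nat_lit 0, nat_lit 49, nat_lit 1, nat_lit 0, nat_lit 1, nat_lit 1, nat_lit 97, nat_lit 0, nat_lit 0, nat_lit 0, nat_lit 33, nat_lit 33, nat_lit 1, nat_lit 0, nat_lit 97, nat_lit 0, nat_lit 0, nat_lit 33, nat_lit 0, nat_lit 0, nat_lit 0, nat_lit 0, nat_lit 0, nat_lit 0, nat_lit 49, nat_lit 33, nat_lit 33, nat_lit 0, nat_lit 0, nat_lit 0, nat_lit 33, nat_lit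 0, nat_lit 49, nat_lit 49, nat_lit 0, nat_lit 1, nat_lit 1, nat_lit 1, nat_lit 65, nat_lit 0, nat_lit 17, nat_lit 1, nat_lit 0, nat_lit 129, nat_lit 0, nat_lit 0, nat_lit 0, nat_lit 0, nat_lit 0, nat_lit 1, nat_lit 33, nat_lit 33, nat_lit 0, nat_lit 0, nat_lit 17, nat_lit 1, nat_lit 1, nat_lit 65, nat_lit 0, nat_lit 65, nat_lit 0, nat_lit 1, nat_lit 0, nat_lit 81, nat_lit 0, nat_lit 0, nat_lit 0, nat_lit 0, nat_lit 33, nat_lit 0, nat_lit 1, nat_lit 81, nat_lit 0, nat_lit 65, nat_lit 0, nat_lit 0, nat_lit 1, nat_lit 0, nat_lit 49, nat_lit 33, nat_lit 0, nat_lit 0, nat_lit 0, nat_lit 49, nat_lit 0, nat_lit 0, nat_lit 1, nat_lit 33, nat_lit 1, nat_lit 49, nat_lit 0, nat_lit 0, nat_lit 1, nat_lit 49, nat_lit 113, nat_lit 0, nat_lit 0, nat_lit 0, nat_lit 0, nat_lit 0, nat_lit 0, nat_lit 33, nat_lit 1, nat_lit 49, nat_lit 0, nat_lit 0, nat_lit 17, nat_lit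 0, nat_lit 49, nat_lit 0, nat_lit 0, nat_lit 1, nat_lit 49, nat_lit 0, nat_lit 0, nat_lit 33, nat_lit 0, nat_lit 97, nat_lit 0, nat_lit 0, nat_lit 0, nat_lit 0, nat_lit 17, nat_lit 0, nat_lit 0, nat_lit 17, nat_lit 81, nat_lit 0, nat_lit 0, nat_lit 17, nat_lit 97, nat_lit 0, nat_lit 1, nat_lit 1, nat_lit 0, nat_lit 17, nat_lit 0, nat_lit 81, nat_lit 0, nat_lit 0, nat_lit 0, nat_lit 0, nat_lit 49, nat_lit 0, nat_lit 0, nat_lit 33, nat_lit 49, nat_lit 0, nat_lit 1, nat_lit 1, nat_lit 0, nat_lit 65, nat_lit 0, nat_lit 1, nat_lit 33, nat_lit 0, nat_lit 17, nat_lit 1, nat_lit 129, nat_lit 0, nat_lit 1, nat_lit 0, nat_lit 0, nat_lit 0, nat_lit 0, nat_lit 33, nat_lit 1, nat_lit 49, nat_lit 1, nat_lit 49, nat_lit 0, nat_lit 0, nat_lit 17, nat_lit 1, nat_lit 0, nat_lit 65, nat_lit 1, nat_lit 0, nat_lit 17, nat_lit 97, nat_lit 0, nat_lit 0, nat_lit 1, nat_lit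 0, nat_lit 1, nat_lit 33, nat_lit 49, nat_lit 1, nat_lit 0, nat_lit 0, nat_lit 1, nat_lit 49, nat_lit 0, nat_lit 17, nat_lit 81, nat_lit 0, nat_lit 0, nat_lit 0, nat_lit 17, nat_lit 49, nat_lit 0, nat_lit 0, nat_lit 0, nat_lit 17, nat_lit 49, nat_lit 0, nat_lit 17, nat_lit 129, nat_lit 0, nat_lit 0, nat_lit 0, nat_lit 0, nat_lit 0, nat_lit 0, nat_lit 1, nat_lit 1, nat_lit 49, nat_lit 1, nat_lit 0, nat_lit 1, nat_lit 81, nat_lit 0, nat_lit 0, nat_lit 1, nat_lit 33, nat_lit 33, nat_lit 0, nat_lit 65, nat_lit 0, nat_lit 0, nat_lit 0, nat_lit 0, nat_lit 17, nat_lit 1, nat_lit 65, nat_lit 0, nat_lit 1, nat_lit 65, nat_lit 0, nat_lit 17, nat_lit 65, nat_lit 0, nat_lit 0, nat_lit 0, nat_lit 0, nat_lit 0, nat_lit 33, nat_lit 1, nat_lit 0, nat_lit 65, nat_lit 0, nat_lit 49, nat_lit 0, nat_lit 17, nat_lit 0, nat_lit 0, nat_lit 33, nat_lit 0, nat_lit 17,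 nat_lit 81, nat_lit 0, nat_lit 0, nat_lit 17, nat_lit 0, nat_lit 17, nat_lit 49, nat_lit 0, nat_lit 0, nat_lit 0, nat_lit 33, nat_lit 0, nat_lit 1, nat_lit 33, nat_lit 0, nat_lit 129, nat_lit 0, nat_lit 0, nat_lit 0, nat_lit 1, nat_lit 0, nat_lit 0, nat_lit 65, nat_lit 0, nat_lit 0, nat_lit 0, nat_lit 33, nat_lit 0, nat_lit 0, nat_lit 33, nat_lit 49, nat_lit 0, nat_lit 17, nat_lit 65, nat_lit 0, nat_lit 49, nat_lit 0, nat_lit 1, nat_lit 1, nat_lit 0, nat_lit 0, nat_lit 17, nat_lit 1, nat_lit 97, nat_lit 0, nat_lit 0, nat_lit 1, nat_lit 0, nat_lit 17, nat_lit 129, nat_lit 0, nat_lit 0, nat_lit 0, nat_lit 0, nat_lit 1, nat_lit 33, nat_lit 1, nat_lit 0, nat_lit 0, nat_lit 0, nat_lit 33, nat_lit 0, nat_lit 17, nat_lit 49, nat_lit 1, nat_lit 81, nat_lit 0, nat_lit 0, nat_lit 1, nat_lit 0, nat_lit 49, nat_lit 0, nat_lit 0, nat_lit 33, nat_lit 49, nat_lit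 0, nat_lit 1, nat_lit 97, nat_lit 0, nat_lit 0, nat_lit 1, nat_lit 0, nat_lit 1, nat_lit 0, nat_lit 81, nat_lit 0, nat_lit 1, nat_lit 1, nat_lit 1, nat_lit 65, nat_lit 0, nat_lit 0, nat_lit 177, nat_lit 0, nat_lit 0, nat_lit 0, nat_lit 0, nat_lit 0, nat_lit 0, nat_lit 0, nat_lit 0, nat_lit 0, nat_lit 17, nat_lit 1, nat_lit 1, nat_lit 65, nat_lit 0, nat_lit 0, nat_lit 0, nat_lit 33, nat_lit 0, nat_lit 17, nat_lit 0, nat_lit 97, nat_lit 0, nat_lit 0, nat_lit 0, nat_lit 17, nat_lit 1, nat_lit 1, nat_lit 65, nat_lit 1, nat_lit 49, nat_lit 0, nat_lit 0, nat_lit 17, nat_lit 33, nat_lit 0, nat_lit 1, nat_lit 0, nat_lit 113, nat_lit 0, nat_lit 17, nat_lit 0, nat_lit 0, nat_lit 0, nat_lit 0, nat_lit 1, nat_lit 33, nat_lit 0, nat_lit 65, nat_lit 0, nat_lit 0, nat_lit 17, nat_lit 65, nat_lit 0, nat_lit 0, nat_lit 33, nat_lit 0, nat_lit 0, nat_lit 1, nat_lit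 49, nat_lit 1, nat_lit 113, nat_lit 0, nat_lit 1, nat_lit 1, nat_lit 0, nat_lit 0, nat_lit 0, nat_lit 0, nat_lit 17, nat_lit 1, nat_lit 81, nat_lit 0, nat_lit 17, nat_lit 81, nat_lit 0, nat_lit 17, nat_lit 1, nat_lit 0, nat_lit 0, nat_lit 1, nat_lit 33, nat_lit 0, nat_lit 17, nat_lit 0, nat_lit 65, nat_lit 0, nat_lit 0, nat_lit 1, nat_lit 0, nat_lit 17, nat_lit 65, nat_lit 0, nat_lit 0, nat_lit 33, nat_lit 1, nat_lit 145, nat_lit 0, nat_lit 0, nat_lit 0, nat_lit 1, nat_lit 0, nat_lit 1, nat_lit 0, nat_lit 49, nat_lit 0, nat_lit 0, nat_lit 0, nat_lit 33, nat_lit 0, nat_lit 49, nat_lit 65, nat_lit 0, nat_lit 0, nat_lit 0, nat_lit 0, nat_lit 49, nat_lit 1, nat_lit 49, nat_lit 0, nat_lit 0, nat_lit 17, nat_lit 33, nat_lit 0, nat_lit 0, nat_lit 0, nat_lit 33, nat_lit 33, nat_lit 81, nat_lit 0, nat_lit 0, nat_lit 0, nat_lit 0, nat_lit 0, nat_lit 33,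 nat_lit 33, nat_lit 1, nat_lit 0, nat_lit 65, nat_lit 0, nat_lit 1, nat_lit 0, nat_lit 17, nat_lit 81, nat_lit 49, nat_lit 0, nat_lit 0, nat_lit 0, nat_lit 0, nat_lit 0, nat_lit 0, nat_lit 1, nat_lit 49, nat_lit 0, nat_lit 65, nat_lit 0, nat_lit 0, nat_lit 17, nat_lit 0, nat_lit 49, nat_lit 0, nat_lit 1, nat_lit 33, nat_lit 0, nat_lit 81, nat_lit 1, nat_lit 0, nat_lit 0, nat_lit 17, nat_lit 0, nat_lit 1, nat_lit 65, nat_lit 0, nat_lit 17, nat_lit 0, nat_lit 1, nat_lit 113, nat_lit 0, nat_lit 1, nat_lit 0, nat_lit 1, nat_lit 1, nat_lit 0, nat_lit 65, nat_lit 0, nat_lit 0, nat_lit 0, nat_lit 49, nat_lit 1, nat_lit 1, nat_lit 97, nat_lit 0, nat_lit 0, nat_lit 0, nat_lit 1, nat_lit 49, nat_lit 0, nat_lit 1, nat_lit 33, nat_lit 0, nat_lit 0, nat_lit 81, nat_lit 0, nat_lit 1, nat_lit 129, nat_lit 0, nat_lit 0, nat_lit 0, nat_lit 0, nat_lit 0, nat_lit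 0, nat_lit 1, nat_lit 0, nat_lit 0, nat_lit 33, nat_lit 49, nat_lit 0, nat_lit 0, nat_lit 81, nat_lit 0, nat_lit 17, nat_lit 1, nat_lit 1, nat_lit 81, nat_lit 0, nat_lit 0, nat_lit 0, nat_lit 0, nat_lit 33, nat_lit 33, nat_lit 0, nat_lit 1, nat_lit 65, nat_lit 1, nat_lit 1, nat_lit 81, nat_lit 0, nat_lit 0, nat_lit 0, nat_lit 0, nat_lit 1, nat_lit 33, nat_lit 1, nat_lit 1, nat_lit 65, nat_lit 0, nat_lit 0, nat_lit 0, nat_lit 0, nat_lit 33, nat_lit 33, nat_lit 33, nat_lit 0, nat_lit 1, nat_lit 81, nat_lit 0, nat_lit 1, nat_lit 0, nat_lit 0, nat_lit 65, nat_lit 0, nat_lit 1, nat_lit 1, nat_lit 49, nat_lit 1, nat_lit 81, nat_lit 0, nat_lit 0, nat_lit 0, nat_lit 1, nat_lit 0, nat_lit 0, nat_lit 17, nat_lit 65, nat_lit 1, nat_lit 1, nat_lit 0, nat_lit 17, nat_lit 81, nat_lit 0, nat_lit 1, nat_lit 0, nat_lit 49, nat_lit 49, nat_lit 0, nat_lit 17, nat_lit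 0, nat_lit 0, nat_lit 0, nat_lit 1, nat_lit 1, nat_lit 161, nat_lit 0, nat_lit 0, nat_lit 1, nat_lit 0, nat_lit 0, nat_lit 0, nat_lit 0, nat_lit 33, nat_lit 33, nat_lit 0, nat_lit 17, nat_lit 1, nat_lit 65, nat_lit 0, nat_lit 65, nat_lit 0, nat_lit 1, nat_lit 1, nat_lit 0, nat_lit 0, nat_lit 0, nat_lit 49, nat_lit 0, nat_lit 81, nat_lit 0, nat_lit 0, nat_lit 0, nat_lit 1, nat_lit 33, nat_lit 33, nat_lit 1, nat_lit 1, nat_lit 65, nat_lit 65, nat_lit 0, nat_lit 0, nat_lit 0, nat_lit 0, nat_lit 0, nat_lit 1, nat_lit 33, nat_lit 33, nat_lit 0, nat_lit 17, nat_lit 0, nat_lit 1, nat_lit 33, nat_lit 81, nat_lit 0, nat_lit 0, nat_lit 0, nat_lit 17, nat_lit 49, nat_lit 0, nat_lit 0, nat_lit 17, nat_lit 1, nat_lit 49, nat_lit 65, nat_lit 0, nat_lit 0, nat_lit 0, nat_lit 0, nat_lit 0, nat_lit 17, nat_lit 49, nat_lit 0, nat_lit 0, nat_lit 0, nat_lit 33, nat_lit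 65, nat_lit 1, nat_lit 1, nat_lit 65, nat_lit 0, nat_lit 0, nat_lit 0, nat_lit 17, nat_lit 1, nat_lit 49, nat_lit 1, nat_lit 1, nat_lit 65, nat_lit 0, nat_lit 17, nat_lit 1, nat_lit 0, nat_lit 17, nat_lit 161, nat_lit 0, nat_lit 0, nat_lit 0, nat_lit 0, nat_lit 0, nat_lit 0, nat_lit 1, nat_lit 1, nat_lit 1, nat_lit 65, nat_lit 1, nat_lit 1, nat_lit 0, nat_lit 17, nat_lit 97, nat_lit 0, nat_lit 0, nat_lit 0, nat_lit 33, nat_lit 0, nat_lit 0, nat_lit 0, nat_lit 33, nat_lit 0, nat_lit 49, nat_lit 49, nat_lit 0, nat_lit 0, nat_lit 0, nat_lit 33, nat_lit 0, nat_lit 17, nat_lit 0, nat_lit 17, nat_lit 65, nat_lit 0, nat_lit 0, nat_lit 0, nat_lit 17, nat_lit 0, nat_lit 0, nat_lit 81, nat_lit 1, nat_lit 0, nat_lit 113, nat_lit 0, nat_lit 0, nat_lit 0, nat_lit 0, nat_lit 0, nat_lit 0, nat_lit 49, nat_lit 33, nat_lit 0, nat_lit 0, nat_lit 0, nat_lit 0, nat_lit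 49, nat_lit 0, nat_lit 17, nat_lit 81, nat_lit 0, nat_lit 0, nat_lit 17, nat_lit 33, nat_lit 0, nat_lit 0, nat_lit 0, nat_lit 49, nat_lit 0, nat_lit 17, nat_lit 1, nat_lit 97, nat_lit 0, nat_lit 0, nat_lit 1, nat_lit 0, nat_lit 17, nat_lit 1, nat_lit 65, nat_lit 0, nat_lit 17, nat_lit 0, nat_lit 113, nat_lit 0, nat_lit 0, nat_lit 0, nat_lit 0, nat_lit 1, nat_lit 0, nat_lit 17, nat_lit 0, nat_lit 17, nat_lit 1, nat_lit 81, nat_lit 0, nat_lit 17, nat_lit 49, nat_lit 0, nat_lit 17, nat_lit 1, nat_lit 0, nat_lit 1, nat_lit 97, nat_lit 0, nat_lit 0, nat_lit 1, nat_lit 0, nat_lit 1, nat_lit 0, nat_lit 97, nat_lit 1, nat_lit 1, nat_lit 1, nat_lit 0, nat_lit 113, nat_lit 0, nat_lit 0, nat_lit 0, nat_lit 0, nat_lit 33, nat_lit 0, nat_lit 49, nat_lit 0, nat_lit 0, nat_lit 0, nat_lit 17, nat_lit 0, nat_lit 49, nat_lit 0, nat_lit 17, nat_lit 0, nat_lit 65,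 nat_lit 0, nat_lit 0, nat_lit 33, nat_lit 0, nat_lit 0, nat_lit 17, nat_lit 97, nat_lit 0, nat_lit 0, nat_lit 0, nat_lit 1, nat_lit 49, nat_lit 0, nat_lit 17, nat_lit 49, nat_lit 0, nat_lit 0, nat_lit 17, nat_lit 1, nat_lit 0, nat_lit 145, nat_lit 0, nat_lit 0, nat_lit 0, nat_lit 0, nat_lit 0, nat_lit 0, nat_lit 49, nat_lit 0, nat_lit 17, nat_lit 0, nat_lit 0, nat_lit 0, nat_lit 33, nat_lit 81, nat_lit 0, nat_lit 1, nat_lit 1, nat_lit 0, nat_lit 17, nat_lit 0, nat_lit 1, nat_lit 97, nat_lit 0, nat_lit 1, nat_lit 0, nat_lit 97, nat_lit 0, nat_lit 0, nat_lit 0, nat_lit 1, nat_lit 0, nat_lit 1, nat_lit 33, nat_lit 0, nat_lit 0, nat_lit 33, nat_lit 65, nat_lit 1, nat_lit 0, nat_lit 0, nat_lit 33, nat_lit 65, nat_lit 0, nat_lit 0, nat_lit 1, nat_lit 0, nat_lit 49, nat_lit 0, nat_lit 0, nat_lit 97, nat_lit 0, nat_lit 0, nat_lit 0, nat_lit 1, nat_lit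 0, nat_lit 17, nat_lit 1, nat_lit 65, nat_lit 0, nat_lit 0, nat_lit 65, nat_lit 0, nat_lit 17, nat_lit 0, nat_lit 0, nat_lit 17, nat_lit 33, nat_lit 65, nat_lit 1, nat_lit 1, nat_lit 97, nat_lit 0, nat_lit 0, nat_lit 0, nat_lit 0, nat_lit 0, nat_lit 0, nat_lit 33, nat_lit 0, nat_lit 0, nat_lit 17, nat_lit 33, nat_lit 49, nat_lit 1, nat_lit 1, nat_lit 65, nat_lit 0, nat_lit 0, nat_lit 0, nat_lit 1, nat_lit 1, nat_lit 0, nat_lit 81, nat_lit 33, nat_lit 0, nat_lit 1, nat_lit 1, nat_lit 0, nat_lit 65, nat_lit 0, nat_lit 1, nat_lit 97, nat_lit 0, nat_lit 0, nat_lit 0, nat_lit 1, nat_lit 1, nat_lit 1, nat_lit 65, nat_lit 1, nat_lit 0, nat_lit 0, nat_lit 33, nat_lit 81, nat_lit 0, nat_lit 0, nat_lit 33, nat_lit 0, nat_lit 0, nat_lit 33, nat_lit 0, nat_lit 0, nat_lit 113, nat_lit 0, nat_lit 0, nat_lit 0, nat_lit 1, nat_lit 1, nat_lit 1, nat_lit 65, nat_lit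 1, nat_lit 0, nat_lit 17, nat_lit 65, nat_lit 0, nat_lit 0, nat_lit 0, nat_lit 1, nat_lit 1, nat_lit 65, nat_lit 1, nat_lit 0, nat_lit 0, nat_lit 17, nat_lit 81, nat_lit 0, nat_lit 1, nat_lit 1, nat_lit 97, nat_lit 0, nat_lit 0, nat_lit 0, nat_lit 1, nat_lit 0, nat_lit 17, nat_lit 0, nat_lit 65, nat_lit 0, nat_lit 17, nat_lit 1, nat_lit 65, nat_lit 33, nat_lit 0, nat_lit 0, nat_lit 1, nat_lit 1, nat_lit 49, nat_lit 0, nat_lit 1, nat_lit 65, nat_lit 129, nat_lit 0, nat_lit 0, nat_lit 0, nat_lit 0, nat_lit 0, nat_lit 0, nat_lit 0, nat_lit 0, nat_lit 17, nat_lit 0, nat_lit 49, nat_lit 0, nat_lit 0, nat_lit 0, nat_lit 0, nat_lit 97, nat_lit 1, nat_lit 0, nat_lit 17, nat_lit 65, nat_lit 0, nat_lit 0, nat_lit 0, nat_lit 1, nat_lit 1, nat_lit 0, nat_lit 65, nat_lit 0, nat_lit 0, nat_lit 33, nat_lit 1, nat_lit 65, nat_lit 0, nat_lit 0, nat_lit 33, nat_lit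 0, nat_lit 0, nat_lit 0, nat_lit 33, nat_lit 33, nat_lit 65, nat_lit 1, nat_lit 0, nat_lit 0, nat_lit 17, nat_lit 0, nat_lit 49, nat_lit 0, nat_lit 17, nat_lit 0, nat_lit 113, nat_lit 0, nat_lit 0, nat_lit 0, nat_lit 0, nat_lit 1, nat_lit 1, nat_lit 49, nat_lit 0, nat_lit 17, nat_lit 0, nat_lit 17, nat_lit 65, nat_lit 0, nat_lit 0, nat_lit 1, nat_lit 33, nat_lit 65, nat_lit 0, nat_lit 0, nat_lit 0, nat_lit 1, nat_lit 1, nat_lit 65, nat_lit 1, nat_lit 0, nat_lit 0, nat_lit 113, nat_lit 0, nat_lit 0, nat_lit 0, nat_lit 0, nat_lit 0, nat_lit 0, nat_lit 0, nat_lit 65, nat_lit 0, nat_lit 0, nat_lit 33, nat_lit 0, nat_lit 0, nat_lit 97, nat_lit 0, nat_lit 0, nat_lit 17, nat_lit 33, nat_lit 0, nat_lit 65, nat_lit 0, nat_lit 0, nat_lit 1, nat_lit 0, nat_lit 0, nat_lit 65, nat_lit 33, nat_lit 0, nat_lit 0, nat_lit 0, nat_lit 49, nat_lit 1, nat_lit 113,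 nat_lit 0, nat_lit 0, nat_lit 0, nat_lit 0, nat_lit 0, nat_lit 1, nat_lit 1, nat_lit 65, nat_lit 1, nat_lit 0, nat_lit 0, nat_lit 81, nat_lit 0, nat_lit 17, nat_lit 49, nat_lit 0, nat_lit 0, nat_lit 0, nat_lit 0, nat_lit 17, nat_lit 33, nat_lit 1, nat_lit 49, nat_lit 0, nat_lit 0, nat_lit 1, nat_lit 33, nat_lit 1, nat_lit 49, nat_lit 0, nat_lit 0, nat_lit 33, nat_lit 65, nat_lit 0, nat_lit 1, nat_lit 0, nat_lit 1, nat_lit 33, nat_lit 0, nat_lit 17, nat_lit 65, nat_lit 0, nat_lit 0, nat_lit 33, nat_lit 0, nat_lit 17, nat_lit 0, nat_lit 113, nat_lit 0, nat_lit 0, nat_lit 17, nat_lit 0, nat_lit 0, nat_lit 1, nat_lit 1, nat_lit 1, nat_lit 65, nat_lit 33, nat_lit 97, nat_lit 0, nat_lit 0, nat_lit 0, nat_lit 0, nat_lit 0, nat_lit 0, nat_lit 0, nat_lit 1, nat_lit 1, nat_lit 49, nat_lit 1, nat_lit 65, nat_lit 1, nat_lit 1, nat_lit 0, nat_lit 97, nat_lit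 1, nat_lit 0, nat_lit 0, nat_lit 1, nat_lit 0, nat_lit 49, nat_lit 1, nat_lit 49, nat_lit 0, nat_lit 1, nat_lit 0, nat_lit 49, nat_lit 0, nat_lit 97, nat_lit 0, nat_lit 0, nat_lit 0, nat_lit 17, nat_lit 0, nat_lit 0, nat_lit 0, nat_lit 1, nat_lit 65, nat_lit 49, nat_lit 0, nat_lit 17, nat_lit 1, nat_lit 1, nat_lit 81, nat_lit 0, nat_lit 1, nat_lit 0, nat_lit 0, nat_lit 0, nat_lit 17, nat_lit 0, nat_lit 65, nat_lit 49, nat_lit 0, nat_lit 0, nat_lit 17, nat_lit 0, nat_lit 49, nat_lit 0, nat_lit 0, nat_lit 0, nat_lit 33, nat_lit 0, nat_lit 1, nat_lit 65, nat_lit 1, nat_lit 0, nat_lit 17, nat_lit 129, nat_lit 0, nat_lit 0, nat_lit 0, nat_lit 0, nat_lit 0, nat_lit 0, nat_lit 17, nat_lit 33, nat_lit 0, nat_lit 49, nat_lit 0, nat_lit 17, nat_lit 0, nat_lit 0, nat_lit 33, nat_lit 1, nat_lit 81, nat_lit 0, nat_lit 0, nat_lit 0, nat_lit 49, nat_lit 0, nat_lit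 17, nat_lit 1, nat_lit 0, nat_lit 97, nat_lit 0, nat_lit 0, nat_lit 0, nat_lit 1, nat_lit 33, nat_lit 1, nat_lit 49, nat_lit 0, nat_lit 0, nat_lit 17, nat_lit 1, nat_lit 49, nat_lit 1, nat_lit 65, nat_lit 1, nat_lit 1, nat_lit 0, nat_lit 1, nat_lit 113, nat_lit 0, nat_lit 0, nat_lit 0, nat_lit 0, nat_lit 0, nat_lit 33, nat_lit 0, nat_lit 1, nat_lit 33, nat_lit 49, nat_lit 0, nat_lit 17, nat_lit 0, nat_lit 17, nat_lit 0, nat_lit 1, nat_lit 97, nat_lit 0, nat_lit 0, nat_lit 0, nat_lit 17, nat_lit 1, nat_lit 65, nat_lit 0, nat_lit 0, nat_lit 1, nat_lit 1, nat_lit 65, nat_lit 0, nat_lit 1, nat_lit 33, nat_lit 81, nat_lit 0, nat_lit 0, nat_lit 0, nat_lit 0, nat_lit 33, nat_lit 1, nat_lit 0, nat_lit 0, nat_lit 97, nat_lit 0, nat_lit 0, nat_lit 0, nat_lit 17, nat_lit 1, nat_lit 1, nat_lit 65, nat_lit 1, nat_lit 0, nat_lit 0, nat_lit 33, nat_lit 65, nat_lit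 0, nat_lit 0, nat_lit 17, nat_lit 0, nat_lit 0, nat_lit 65, nat_lit 1, nat_lit 1, nat_lit 0, nat_lit 177, nat_lit 0, nat_lit 0, nat_lit 0, nat_lit 0, nat_lit 1, nat_lit 0, nat_lit 0, nat_lit 0, nat_lit 0, nat_lit 33, nat_lit 1, nat_lit 49, nat_lit 65, nat_lit 0, nat_lit 0, nat_lit 0, nat_lit 0, nat_lit 17, nat_lit 0, nat_lit 17, nat_lit 0, nat_lit 65, nat_lit 1, nat_lit 1, nat_lit 65, nat_lit 1, nat_lit 0, nat_lit 17, nat_lit 65, nat_lit 0, nat_lit 0, nat_lit 0, nat_lit 0, nat_lit 17, nat_lit 65, nat_lit 0, nat_lit 0, nat_lit 17, nat_lit 33, nat_lit 0, nat_lit 17, nat_lit 1, nat_lit 113, nat_lit 0, nat_lit 0, nat_lit 0, nat_lit 0, nat_lit 1, nat_lit 49, nat_lit 0, nat_lit 49, nat_lit 0, nat_lit 0, nat_lit 33, nat_lit 0, nat_lit 0, nat_lit 0, nat_lit 17, nat_lit 97, nat_lit 0, nat_lit 0, nat_lit 1, nat_lit 1, nat_lit 49, nat_lit 0, nat_lit 17, nat_lit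 0, nat_lit 0, nat_lit 81, nat_lit 0, nat_lit 0, nat_lit 1, nat_lit 1, nat_lit 1, nat_lit 65, nat_lit 1, nat_lit 49, nat_lit 0, nat_lit 1, nat_lit 0, nat_lit 0, nat_lit 65, nat_lit 0, nat_lit 17, nat_lit 0, nat_lit 17, nat_lit 129, nat_lit 0, nat_lit 0, nat_lit 0, nat_lit 1, nat_lit 33, nat_lit 0, nat_lit 0, nat_lit 0, nat_lit 1, nat_lit 0, nat_lit 49, nat_lit 1, nat_lit 49, nat_lit 33, nat_lit 0, nat_lit 0, nat_lit 1, nat_lit 49, nat_lit 65, nat_lit 0, nat_lit 0, nat_lit 0, nat_lit 33, nat_lit 0, nat_lit 17, nat_lit 0, nat_lit 17, nat_lit 65, nat_lit 0, nat_lit 0, nat_lit 1, nat_lit 1, nat_lit 65, nat_lit 0, nat_lit 17, nat_lit 0, nat_lit 0, nat_lit 17, nat_lit 113, nat_lit 0, nat_lit 0, nat_lit 0, nat_lit 0, nat_lit 17, nat_lit 0, nat_lit 0, nat_lit 81, nat_lit 0, nat_lit 0, nat_lit 1, nat_lit 1, nat_lit 49, nat_lit 0, nat_lit 0, nat_lit 65, nat_lit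 0, nat_lit 0, nat_lit 17, nat_lit 0, nat_lit 97, nat_lit 0, nat_lit 1, nat_lit 0, nat_lit 1, nat_lit 0, nat_lit 0, nat_lit 65, nat_lit 0, nat_lit 17, nat_lit 65, nat_lit 0, nat_lit 0, nat_lit 1, nat_lit 33, nat_lit 33, nat_lit 0, nat_lit 0, nat_lit 33, nat_lit 113, nat_lit 0, nat_lit 0, nat_lit 0, nat_lit 0, nat_lit 0, nat_lit 0, nat_lit 0, nat_lit 17, nat_lit 0, nat_lit 17, nat_lit 1, nat_lit 65, nat_lit 33, nat_lit 0, nat_lit 1, nat_lit 65, nat_lit 0, nat_lit 0, nat_lit 0, nat_lit 0, nat_lit 33, nat_lit 49, nat_lit 0, nat_lit 17, nat_lit 65, nat_lit 1, nat_lit 0, nat_lit 0, nat_lit 33, nat_lit 0, nat_lit 17, nat_lit 0, nat_lit 97, nat_lit 0, nat_lit 0, nat_lit 1, nat_lit 0, nat_lit 17, nat_lit 0, nat_lit 17, nat_lit 81, nat_lit 1, nat_lit 0, nat_lit 0, nat_lit 17, nat_lit 1, nat_lit 0, nat_lit 1, nat_lit 81, nat_lit 81, nat_lit 0, nat_lit 0,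 nat_lit 0, nat_lit 0, nat_lit 1, nat_lit 0, nat_lit 17, nat_lit 49, nat_lit 0, nat_lit 0, nat_lit 33, nat_lit 0, nat_lit 17, nat_lit 0, nat_lit 81, nat_lit 0, nat_lit 0, nat_lit 0, nat_lit 0, nat_lit 17, nat_lit 65, nat_lit 1, nat_lit 1, nat_lit 81, nat_lit 0, nat_lit 0, nat_lit 0, nat_lit 1, nat_lit 0, nat_lit 49, nat_lit 0, nat_lit 17, nat_lit 0, nat_lit 65, nat_lit 1, nat_lit 1, nat_lit 65, nat_lit 0, nat_lit 0, nat_lit 0, nat_lit 17, nat_lit 33, nat_lit 0, nat_lit 1, nat_lit 0, nat_lit 81, nat_lit 0, nat_lit 0, nat_lit 17, nat_lit 33, nat_lit 81, nat_lit 1, nat_lit 0, nat_lit 0, nat_lit 0, nat_lit 17, nat_lit 0, nat_lit 17, nat_lit 0, nat_lit 1, nat_lit 81, nat_lit 1, nat_lit 0, nat_lit 17, nat_lit 1, nat_lit 81, nat_lit 0, nat_lit 0, nat_lit 0, nat_lit 17, nat_lit 1]), (20001, [10558, 1250945, 15515712], [nat_lit 0, nat_lit 0, nat_lit 0, nat_lit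 0, nat_lit 0, nat_lit 0, nat_lit 1, nat_lit 0, nat_lit 0, nat_lit 17, nat_lit 0, nat_lit 49, nat_lit 49, nat_lit 0, nat_lit 0, nat_lit 17, nat_lit 33, nat_lit 1, nat_lit 65, nat_lit 0, nat_lit 0, nat_lit 0, nat_lit 1, nat_lit 33, nat_lit 1, nat_lit 49, nat_lit 0, nat_lit 1, nat_lit 0, nat_lit 49, nat_lit 0, nat_lit 17, nat_lit 65, nat_lit 0, nat_lit 0, nat_lit 0, nat_lit 0, nat_lit 33, nat_lit 1, nat_lit 49, nat_lit 0, nat_lit 17, nat_lit 1, nat_lit 1, nat_lit 129, nat_lit 0, nat_lit 1, nat_lit 0, nat_lit 0, nat_lit 1, nat_lit 1, nat_lit 97, nat_lit 0, nat_lit 0, nat_lit 0, nat_lit 0, nat_lit 17, nat_lit 33, nat_lit 33, nat_lit 0, nat_lit 1, nat_lit 33, nat_lit 1, nat_lit 65, nat_lit 0, nat_lit 0, nat_lit 0, nat_lit 1, nat_lit 33, nat_lit 33, nat_lit 0, nat_lit 49, nat_lit 0, nat_lit 17, nat_lit 1, nat_lit 1, nat_lit 0, nat_lit 145, nat_lit 0,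 nat_lit 0, nat_lit 0, nat_lit 0, nat_lit 0, nat_lit 1, nat_lit 49, nat_lit 1, nat_lit 49, nat_lit 1, nat_lit 0, nat_lit 17, nat_lit 1, nat_lit 81, nat_lit 0, nat_lit 0, nat_lit 0, nat_lit 0, nat_lit 33, nat_lit 33, nat_lit 1, nat_lit 1, nat_lit 65, nat_lit 0, nat_lit 0, nat_lit 1, nat_lit 1, nat_lit 49, nat_lit 33, nat_lit 0, nat_lit 17, nat_lit 1, nat_lit 129, nat_lit 0, nat_lit 0, nat_lit 0, nat_lit 0, nat_lit 0, nat_lit 0, nat_lit 1, nat_lit 33, nat_lit 33, nat_lit 0, nat_lit 1, nat_lit 0, nat_lit 49, nat_lit 1, nat_lit 0, nat_lit 1, nat_lit 97, nat_lit 0, nat_lit 0, nat_lit 0, nat_lit 49, nat_lit 0, nat_lit 0, nat_lit 33, nat_lit 0, nat_lit 1, nat_lit 97, nat_lit 0, nat_lit 0, nat_lit 17, nat_lit 33, nat_lit 0, nat_lit 17, nat_lit 0, nat_lit 1, nat_lit 97, nat_lit 0, nat_lit 0, nat_lit 0, nat_lit 0, nat_lit 0, nat_lit 49, nat_lit 0, nat_lit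 0, nat_lit 33, nat_lit 0, nat_lit 0, nat_lit 33, nat_lit 65, nat_lit 1, nat_lit 0, nat_lit 1, nat_lit 113, nat_lit 0, nat_lit 0, nat_lit 0, nat_lit 0, nat_lit 0, nat_lit 1, nat_lit 1, nat_lit 65, nat_lit 0, nat_lit 0, nat_lit 33, nat_lit 49, nat_lit 0, nat_lit 0, nat_lit 17, nat_lit 33, nat_lit 0, nat_lit 0, nat_lit 17, nat_lit 81, nat_lit 0, nat_lit 1, nat_lit 1, nat_lit 0, nat_lit 0, nat_lit 81, nat_lit 1, nat_lit 1, nat_lit 1, nat_lit 145, nat_lit 0, nat_lit 0, nat_lit 0, nat_lit 0, nat_lit 1, nat_lit 0, nat_lit 0, nat_lit 17, nat_lit 1, nat_lit 49, nat_lit 0, nat_lit 1, nat_lit 81, nat_lit 0, nat_lit 1, nat_lit 0, nat_lit 0, nat_lit 0, nat_lit 17, nat_lit 33, nat_lit 0, nat_lit 81, nat_lit 0, nat_lit 1, nat_lit 1, nat_lit 49, nat_lit 0, nat_lit 1, nat_lit 0, nat_lit 49, nat_lit 0, nat_lit 17, nat_lit 97, nat_lit 0, nat_lit 0, nat_lit 0, nat_lit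 1, nat_lit 33, nat_lit 0, nat_lit 17, nat_lit 1, nat_lit 65, nat_lit 0, nat_lit 0, nat_lit 0, nat_lit 49, nat_lit 1, nat_lit 65, nat_lit 0, nat_lit 0, nat_lit 1, nat_lit 33, nat_lit 0, nat_lit 1, nat_lit 33, nat_lit 0, nat_lit 65, nat_lit 0, nat_lit 1, nat_lit 33, nat_lit 0, nat_lit 97, nat_lit 0, nat_lit 0, nat_lit 0, nat_lit 0, nat_lit 17, nat_lit 0, nat_lit 49, nat_lit 0, nat_lit 0, nat_lit 17, nat_lit 0, nat_lit 17, nat_lit 81, nat_lit 0, nat_lit 0, nat_lit 0, nat_lit 0, nat_lit 17, nat_lit 0, nat_lit 49, nat_lit 0, nat_lit 17, nat_lit 49, nat_lit 1, nat_lit 49, nat_lit 49, nat_lit 0, nat_lit 0, nat_lit 0, nat_lit 0, nat_lit 17, nat_lit 33, nat_lit 0, nat_lit 17, nat_lit 49, nat_lit 0, nat_lit 0, nat_lit 0, nat_lit 49, nat_lit 1, nat_lit 65, nat_lit 0, nat_lit 0, nat_lit 0, nat_lit 1, nat_lit 33, nat_lit 33, nat_lit 33, nat_lit 0, nat_lit 0,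 nat_lit 0, nat_lit 49, nat_lit 1, nat_lit 113, nat_lit 0, nat_lit 0, nat_lit 0, nat_lit 0, nat_lit 1, nat_lit 0, nat_lit 17, nat_lit 0, nat_lit 65, nat_lit 0, nat_lit 1, nat_lit 33, nat_lit 0, nat_lit 1, nat_lit 33, nat_lit 65, nat_lit 0, nat_lit 0, nat_lit 0, nat_lit 33, nat_lit 0, nat_lit 0, nat_lit 65, nat_lit 0, nat_lit 0, nat_lit 17, nat_lit 33, nat_lit 1, nat_lit 0, nat_lit 1, nat_lit 113, nat_lit 0, nat_lit 1, nat_lit 0, nat_lit 1, nat_lit 0, nat_lit 81, nat_lit 0, nat_lit 0, nat_lit 0, nat_lit 0, nat_lit 33, nat_lit 1, nat_lit 1, nat_lit 65, nat_lit 1, nat_lit 0, nat_lit 1, nat_lit 33, nat_lit 65, nat_lit 0, nat_lit 0, nat_lit 0, nat_lit 17, nat_lit 49, nat_lit 1, nat_lit 1, nat_lit 1, nat_lit 129, nat_lit 0, nat_lit 0, nat_lit 0, nat_lit 1, nat_lit 0, nat_lit 49, nat_lit 0, nat_lit 0, nat_lit 0, nat_lit 49, nat_lit 49, nat_lit 0, nat_lit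 0, nat_lit 0, nat_lit 17, nat_lit 0, nat_lit 1, nat_lit 33, nat_lit 49, nat_lit 33, nat_lit 0, nat_lit 0, nat_lit 17, nat_lit 1, nat_lit 97, nat_lit 0, nat_lit 0, nat_lit 0, nat_lit 0, nat_lit 33, nat_lit 0, nat_lit 17, nat_lit 1, nat_lit 1, nat_lit 81, nat_lit 0, nat_lit 17, nat_lit 1, nat_lit 0, nat_lit 1, nat_lit 97, nat_lit 0, nat_lit 0, nat_lit 0, nat_lit 1, nat_lit 33, nat_lit 0, nat_lit 65, nat_lit 0, nat_lit 17])]

def bO_sext : List (ℕ × List ℕ × List ℕ) := [(20004, [15, 5264, 622848, 3416064, 4196928, 8536096], [nat_lit 0, nat_lit 0, nat_lit 1, nat_lit 0, nat_lit 0, nat_lit 0, nat_lit 1, nat_lit 0, nat_lit 65, nat_lit 0, nat_lit 0, nat_lit 65, nat_lit 0, nat_lit 1, nat_lit 33, nat_lit 81, nat_lit 0, nat_lit 1, nat_lit 0, nat_lit 0, nat_lit 0, nat_lit 17, nat_lit 0, nat_lit 65, nat_lit 0, nat_lit 0, nat_lit 81, nat_lit 0, nat_lit 1, nat_lit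 0, nat_lit 49, nat_lit 0, nat_lit 0, nat_lit 33]), (1050, [39, 45120, 786960, 1116288, 6292736, 8536072], [nat_lit 0, nat_lit 0, nat_lit 0, nat_lit 0, nat_lit 0, nat_lit 0, nat_lit 0, nat_lit 1, nat_lit 1, nat_lit 0, nat_lit 1, nat_lit 81, nat_lit 0, nat_lit 0, nat_lit 0, nat_lit 0, nat_lit 17, nat_lit 33, nat_lit 0, nat_lit 65, nat_lit 1, nat_lit 0, nat_lit 81, nat_lit 0, nat_lit 0, nat_lit 0, nat_lit 1, nat_lit 1, nat_lit 49, nat_lit 33, nat_lit 33, nat_lit 0, nat_lit 0, nat_lit 0, nat_lit 0, nat_lit 33, nat_lit 0, nat_lit 65, nat_lit 65, nat_lit 0, nat_lit 0, nat_lit 0, nat_lit 17, nat_lit 1, nat_lit 49, nat_lit 0, nat_lit 0, nat_lit 0, nat_lit 0, nat_lit 33, nat_lit 0, nat_lit 49, nat_lit 0, nat_lit 17, nat_lit 0, nat_lit 17, nat_lit 65, nat_lit 0, nat_lit 1, nat_lit 33, nat_lit 0, nat_lit 113, nat_lit 0, nat_lit 0, nat_lit 0, nat_lit 0, nat_lit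 33, nat_lit 0, nat_lit 0, nat_lit 1, nat_lit 0, nat_lit 17, nat_lit 65, nat_lit 0, nat_lit 17, nat_lit 65, nat_lit 0, nat_lit 1, nat_lit 1, nat_lit 1, nat_lit 0, nat_lit 81, nat_lit 0, nat_lit 17, nat_lit 0, nat_lit 1, nat_lit 0, nat_lit 17, nat_lit 49, nat_lit 81, nat_lit 0, nat_lit 1, nat_lit 0, nat_lit 0, nat_lit 0, nat_lit 1, nat_lit 33, nat_lit 0, nat_lit 0, nat_lit 81, nat_lit 0, nat_lit 1, nat_lit 81, nat_lit 0, nat_lit 0, nat_lit 0, nat_lit 0, nat_lit 1, nat_lit 33, nat_lit 0, nat_lit 49, nat_lit 1, nat_lit 1, nat_lit 65, nat_lit 0, nat_lit 49, nat_lit 0, nat_lit 0, nat_lit 1, nat_lit 0, nat_lit 65, nat_lit 0, nat_lit 113, nat_lit 0, nat_lit 0, nat_lit 0, nat_lit 0, nat_lit 1, nat_lit 0, nat_lit 0, nat_lit 65, nat_lit 0, nat_lit 0, nat_lit 0, nat_lit 17, nat_lit 0, nat_lit 17, nat_lit 1, nat_lit 0, nat_lit 81, nat_lit 1, nat_lit 0, nat_lit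 65, nat_lit 1, nat_lit 65, nat_lit 0, nat_lit 0, nat_lit 0, nat_lit 17, nat_lit 33, nat_lit 0, nat_lit 0, nat_lit 0, nat_lit 1, nat_lit 65, nat_lit 49, nat_lit 0, nat_lit 17, nat_lit 0, nat_lit 1, nat_lit 33, nat_lit 1, nat_lit 97, nat_lit 0, nat_lit 0, nat_lit 0, nat_lit 0, nat_lit 33, nat_lit 0, nat_lit 0, nat_lit 0, nat_lit 1, nat_lit 49, nat_lit 0, nat_lit 49, nat_lit 1, nat_lit 0, nat_lit 17, nat_lit 81, nat_lit 0, nat_lit 0, nat_lit 1, nat_lit 0, nat_lit 49, nat_lit 1, nat_lit 0, nat_lit 97, nat_lit 0, nat_lit 0, nat_lit 0, nat_lit 0, nat_lit 0, nat_lit 33, nat_lit 0, nat_lit 49, nat_lit 1, nat_lit 1, nat_lit 65, nat_lit 1, nat_lit 49, nat_lit 0, nat_lit 0, nat_lit 97, nat_lit 0, nat_lit 0, nat_lit 1, nat_lit 0, nat_lit 0, nat_lit 0, nat_lit 49, nat_lit 0, nat_lit 0, nat_lit 17, nat_lit 0, nat_lit 49, nat_lit 65, nat_lit 0, nat_lit 0, nat_lit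 0, nat_lit 1, nat_lit 33, nat_lit 0, nat_lit 1, nat_lit 33, nat_lit 65, nat_lit 1, nat_lit 0, nat_lit 1, nat_lit 0, nat_lit 49, nat_lit 81, nat_lit 0, nat_lit 0, nat_lit 0, nat_lit 0, nat_lit 0, nat_lit 1, nat_lit 0, nat_lit 0, nat_lit 81, nat_lit 0, nat_lit 0, nat_lit 65, nat_lit 0, nat_lit 0, nat_lit 0, nat_lit 33, nat_lit 33, nat_lit 1, nat_lit 0, nat_lit 81, nat_lit 0, nat_lit 1, nat_lit 0, nat_lit 0, nat_lit 0, nat_lit 17, nat_lit 81, nat_lit 1, nat_lit 0, nat_lit 17, nat_lit 81, nat_lit 0, nat_lit 0, nat_lit 0, nat_lit 1, nat_lit 33, nat_lit 1, nat_lit 0, nat_lit 17, nat_lit 0, nat_lit 81, nat_lit 1, nat_lit 1, nat_lit 0, nat_lit 81, nat_lit 0, nat_lit 0, nat_lit 0, nat_lit 17, nat_lit 0, nat_lit 49, nat_lit 0, nat_lit 17, nat_lit 1, nat_lit 161, nat_lit 0, nat_lit 0, nat_lit 0, nat_lit 0, nat_lit 0, nat_lit 0, nat_lit 0, nat_lit 17, nat_lit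 0, nat_lit 17, nat_lit 49, nat_lit 0, nat_lit 17, nat_lit 1, nat_lit 65, nat_lit 0, nat_lit 0, nat_lit 0, nat_lit 17, nat_lit 33, nat_lit 0, nat_lit 0, nat_lit 1, nat_lit 33, nat_lit 33, nat_lit 1, nat_lit 97, nat_lit 0, nat_lit 1, nat_lit 0, nat_lit 1, nat_lit 33, nat_lit 49, nat_lit 1, nat_lit 1, nat_lit 0, nat_lit 97, nat_lit 0, nat_lit 0, nat_lit 0, nat_lit 0, nat_lit 0, nat_lit 33, nat_lit 0, nat_lit 17, nat_lit 1, nat_lit 65, nat_lit 1, nat_lit 65, nat_lit 0, nat_lit 0, nat_lit 1, nat_lit 1, nat_lit 49, nat_lit 33, nat_lit 0, nat_lit 1, nat_lit 0, nat_lit 49, nat_lit 1, nat_lit 97, nat_lit 0, nat_lit 0, nat_lit 0, nat_lit 0, nat_lit 0, nat_lit 1, nat_lit 1, nat_lit 1, nat_lit 65, nat_lit 0, nat_lit 49, nat_lit 1, nat_lit 49, nat_lit 1, nat_lit 0, nat_lit 0, nat_lit 81, nat_lit 0, nat_lit 0, nat_lit 1, nat_lit 33, nat_lit 1, nat_lit 0, nat_lit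 1, nat_lit 81, nat_lit 0, nat_lit 1, nat_lit 0, nat_lit 17, nat_lit 49, nat_lit 1, nat_lit 1, nat_lit 1, nat_lit 113, nat_lit 0, nat_lit 0, nat_lit 0, nat_lit 0, nat_lit 1, nat_lit 33, nat_lit 33, nat_lit 1, nat_lit 0, nat_lit 1, nat_lit 81, nat_lit 0, nat_lit 1, nat_lit 0, nat_lit 17, nat_lit 49, nat_lit 0, nat_lit 0, nat_lit 33, nat_lit 1, nat_lit 129, nat_lit 0, nat_lit 0, nat_lit 0, nat_lit 0, nat_lit 0, nat_lit 0, nat_lit 33, nat_lit 1, nat_lit 0, nat_lit 1, nat_lit 81, nat_lit 0, nat_lit 1, nat_lit 1, nat_lit 49, nat_lit 0, nat_lit 17, nat_lit 65, nat_lit 0, nat_lit 0, nat_lit 0, nat_lit 0, nat_lit 17, nat_lit 65, nat_lit 0, nat_lit 0, nat_lit 33, nat_lit 0, nat_lit 17, nat_lit 1, nat_lit 97, nat_lit 0, nat_lit 1, nat_lit 0, nat_lit 0, nat_lit 1, nat_lit 33, nat_lit 0, nat_lit 0, nat_lit 33, nat_lit 81, nat_lit 0, nat_lit 1, nat_lit 33, nat_lit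 1, nat_lit 1, nat_lit 1, nat_lit 0, nat_lit 129, nat_lit 0, nat_lit 0, nat_lit 0, nat_lit 0, nat_lit 0, nat_lit 0, nat_lit 1, nat_lit 49, nat_lit 0, nat_lit 17, nat_lit 49, nat_lit 1, nat_lit 0, nat_lit 17, nat_lit 0, nat_lit 81, nat_lit 0, nat_lit 0, nat_lit 0, nat_lit 33, nat_lit 33, nat_lit 0, nat_lit 0, nat_lit 33, nat_lit 1, nat_lit 81, nat_lit 0, nat_lit 0, nat_lit 1, nat_lit 1, nat_lit 0, nat_lit 17, nat_lit 65, nat_lit 1, nat_lit 0, nat_lit 17, nat_lit 65, nat_lit 0, nat_lit 0, nat_lit 17, nat_lit 33, nat_lit 0, nat_lit 17, nat_lit 1, nat_lit 1, nat_lit 113, nat_lit 0, nat_lit 0, nat_lit 0, nat_lit 0, nat_lit 0, nat_lit 1, nat_lit 33, nat_lit 33, nat_lit 49, nat_lit 0, nat_lit 0, nat_lit 1, nat_lit 1, nat_lit 65, nat_lit 0, nat_lit 0, nat_lit 33, nat_lit 0, nat_lit 0, nat_lit 33, nat_lit 81, nat_lit 0, nat_lit 0, nat_lit 0, nat_lit 49,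 nat_lit 1, nat_lit 0, nat_lit 17, nat_lit 1, nat_lit 161, nat_lit 0, nat_lit 0, nat_lit 0, nat_lit 0, nat_lit 0, nat_lit 0, nat_lit 0, nat_lit 0, nat_lit 33, nat_lit 33, nat_lit 0, nat_lit 1, nat_lit 33, nat_lit 1, nat_lit 65, nat_lit 0, nat_lit 0, nat_lit 0, nat_lit 0, nat_lit 17, nat_lit 0, nat_lit 49, nat_lit 0, nat_lit 49, nat_lit 0, nat_lit 0, nat_lit 33, nat_lit 0, nat_lit 65, nat_lit 0, nat_lit 0, nat_lit 17, nat_lit 0, nat_lit 0, nat_lit 33, nat_lit 49, nat_lit 0, nat_lit 0, nat_lit 1, nat_lit 33, nat_lit 33, nat_lit 0, nat_lit 97, nat_lit 0, nat_lit 0, nat_lit 0, nat_lit 0, nat_lit 33, nat_lit 0, nat_lit 17, nat_lit 49, nat_lit 0, nat_lit 1, nat_lit 33, nat_lit 0, nat_lit 0, nat_lit 17, nat_lit 33, nat_lit 0, nat_lit 81, nat_lit 0, nat_lit 0, nat_lit 0, nat_lit 0, nat_lit 0, nat_lit 1, nat_lit 65, nat_lit 1, nat_lit 49, nat_lit 0, nat_lit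 0, nat_lit 17, nat_lit 1, nat_lit 49, nat_lit 49, nat_lit 0, nat_lit 0, nat_lit 0, nat_lit 17, nat_lit 49, nat_lit 0, nat_lit 0, nat_lit 33, nat_lit 97, nat_lit 0, nat_lit 0, nat_lit 0, nat_lit 33, nat_lit 0, nat_lit 0, nat_lit 0, nat_lit 1, nat_lit 49, nat_lit 1, nat_lit 0, nat_lit 0, nat_lit 17, nat_lit 0, nat_lit 49, nat_lit 0, nat_lit 81, nat_lit 1, nat_lit 1, nat_lit 0, nat_lit 97, nat_lit 0, nat_lit 0, nat_lit 1, nat_lit 0, nat_lit 17, nat_lit 1, nat_lit 65, nat_lit 1, nat_lit 1, nat_lit 0, nat_lit 0, nat_lit 97, nat_lit 0, nat_lit 0, nat_lit 0, nat_lit 0, nat_lit 1, nat_lit 49, nat_lit 0, nat_lit 17, nat_lit 49, nat_lit 0, nat_lit 17, nat_lit 49, nat_lit 0, nat_lit 0, nat_lit 17, nat_lit 33, nat_lit 0, nat_lit 0, nat_lit 33, nat_lit 0, nat_lit 129, nat_lit 0, nat_lit 0, nat_lit 0, nat_lit 0, nat_lit 1, nat_lit 0, nat_lit 49, nat_lit 1, nat_lit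 0, nat_lit 0, nat_lit 33, nat_lit 0, nat_lit 81, nat_lit 0, nat_lit 0, nat_lit 0, nat_lit 17, nat_lit 1, nat_lit 65, nat_lit 0, nat_lit 0, nat_lit 1, nat_lit 33, nat_lit 33, nat_lit 1, nat_lit 81, nat_lit 0, nat_lit 0, nat_lit 0, nat_lit 1, nat_lit 0, nat_lit 49, nat_lit 0, nat_lit 65, nat_lit 0, nat_lit 0, nat_lit 0, nat_lit 0, nat_lit 49, nat_lit 0, nat_lit 1, nat_lit 33, nat_lit 49, nat_lit 0, nat_lit 0, nat_lit 97, nat_lit 0, nat_lit 0, nat_lit 0, nat_lit 0, nat_lit 1, nat_lit 1, nat_lit 65, nat_lit 33, nat_lit 0, nat_lit 0, nat_lit 1, nat_lit 0, nat_lit 49, nat_lit 0, nat_lit 0, nat_lit 17, nat_lit 33, nat_lit 49, nat_lit 0, nat_lit 0, nat_lit 33, nat_lit 65, nat_lit 0, nat_lit 0, nat_lit 1, nat_lit 33, nat_lit 1, nat_lit 49, nat_lit 0, nat_lit 0, nat_lit 1, nat_lit 49, nat_lit 0, nat_lit 1, nat_lit 33, nat_lit 1, nat_lit 129, nat_lit 0, nat_lit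 0, nat_lit 0, nat_lit 0, nat_lit 0, nat_lit 0, nat_lit 17, nat_lit 0, nat_lit 1, nat_lit 81, nat_lit 0, nat_lit 0, nat_lit 0, nat_lit 17, nat_lit 0, nat_lit 17, nat_lit 49, nat_lit 1, nat_lit 0, nat_lit 65, nat_lit 0, nat_lit 0, nat_lit 33, nat_lit 0, nat_lit 1, nat_lit 97, nat_lit 0, nat_lit 0, nat_lit 17, nat_lit 0, nat_lit 1, nat_lit 33, nat_lit 49, nat_lit 0, nat_lit 1, nat_lit 33, nat_lit 0, nat_lit 0, nat_lit 1, nat_lit 49, nat_lit 0, nat_lit 0, nat_lit 113, nat_lit 0, nat_lit 0, nat_lit 0, nat_lit 0, nat_lit 0, nat_lit 0, nat_lit 17, nat_lit 33, nat_lit 0, nat_lit 17, nat_lit 49, nat_lit 0, nat_lit 1, nat_lit 65, nat_lit 0, nat_lit 0, nat_lit 17, nat_lit 0, nat_lit 81, nat_lit 0, nat_lit 1, nat_lit 1, nat_lit 0, nat_lit 65, nat_lit 0, nat_lit 0, nat_lit 113, nat_lit 0, nat_lit 0, nat_lit 0, nat_lit 0, nat_lit 1, nat_lit 0, nat_lit 1, nat_lit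 65, nat_lit 0, nat_lit 1, nat_lit 33, nat_lit 1, nat_lit 65, nat_lit 0, nat_lit 0, nat_lit 0, nat_lit 17, nat_lit 0, nat_lit 17, nat_lit 0, nat_lit 65, nat_lit 1, nat_lit 0, nat_lit 1, nat_lit 33, nat_lit 65, nat_lit 0, nat_lit 0, nat_lit 17, nat_lit 33, nat_lit 0, nat_lit 1, nat_lit 33, nat_lit 97, nat_lit 0, nat_lit 0, nat_lit 0, nat_lit 0, nat_lit 33, nat_lit 0, nat_lit 0, nat_lit 17, nat_lit 33, nat_lit 0, nat_lit 1, nat_lit 33, nat_lit 65, nat_lit 1, nat_lit 0, nat_lit 1, nat_lit 81, nat_lit 0, nat_lit 0, nat_lit 1, nat_lit 0, nat_lit 1, nat_lit 33, nat_lit 1, nat_lit 65, nat_lit 0, nat_lit 17, nat_lit 0, nat_lit 0, nat_lit 17, nat_lit 81, nat_lit 0, nat_lit 0, nat_lit 0, nat_lit 0, nat_lit 33, nat_lit 0, nat_lit 1, nat_lit 33, nat_lit 49, nat_lit 1, nat_lit 1, nat_lit 65]), (402, [99, 18048, 45060, 657664, 2162712, 13893632], [nat_lit 0,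 nat_lit 0, nat_lit 0, nat_lit 0, nat_lit 0, nat_lit 0, nat_lit 0, nat_lit 0, nat_lit 0, nat_lit 0, nat_lit 33, nat_lit 1, nat_lit 49, nat_lit 0, nat_lit 17, nat_lit 0, nat_lit 17, nat_lit 65, nat_lit 0, nat_lit 0, nat_lit 0, nat_lit 0, nat_lit 17, nat_lit 33, nat_lit 33, nat_lit 1, nat_lit 0, nat_lit 65, nat_lit 0, nat_lit 0, nat_lit 1, nat_lit 49, nat_lit 65, nat_lit 0, nat_lit 0, nat_lit 0, nat_lit 0, nat_lit 17, nat_lit 1, nat_lit 49, nat_lit 0, nat_lit 17, nat_lit 49, nat_lit 33, nat_lit 0, nat_lit 0, nat_lit 0, nat_lit 49, nat_lit 1, nat_lit 1, nat_lit 97, nat_lit 0, nat_lit 0, nat_lit 1, nat_lit 0, nat_lit 0, nat_lit 1, nat_lit 33, nat_lit 33, nat_lit 0, nat_lit 65, nat_lit 0, nat_lit 1, nat_lit 0, nat_lit 17, nat_lit 0, nat_lit 97, nat_lit 0, nat_lit 0, nat_lit 0, nat_lit 1, nat_lit 49, nat_lit 33, nat_lit 0, nat_lit 1, nat_lit 1, nat_lit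 49, nat_lit 0, nat_lit 1, nat_lit 0, nat_lit 49, nat_lit 97, nat_lit 0, nat_lit 0, nat_lit 0, nat_lit 1, nat_lit 0, nat_lit 0, nat_lit 0, nat_lit 17, nat_lit 33, nat_lit 33, nat_lit 0, nat_lit 17, nat_lit 0, nat_lit 81, nat_lit 0, nat_lit 0, nat_lit 1, nat_lit 49, nat_lit 1, nat_lit 0, nat_lit 81, nat_lit 0, nat_lit 0, nat_lit 0, nat_lit 0, nat_lit 0, nat_lit 49, nat_lit 0, nat_lit 0, nat_lit 65, nat_lit 0, nat_lit 0, nat_lit 17, nat_lit 65, nat_lit 0, nat_lit 1, nat_lit 0, nat_lit 1, nat_lit 33, nat_lit 0, nat_lit 65, nat_lit 1, nat_lit 81, nat_lit 0, nat_lit 0, nat_lit 0, nat_lit 0, nat_lit 1, nat_lit 33, nat_lit 0, nat_lit 49, nat_lit 1, nat_lit 0, nat_lit 65, nat_lit 0, nat_lit 0, nat_lit 1, nat_lit 1, nat_lit 97, nat_lit 0, nat_lit 0, nat_lit 0, nat_lit 17, nat_lit 49, nat_lit 0, nat_lit 0, nat_lit 1, nat_lit 1, nat_lit 65, nat_lit 0, nat_lit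 0, nat_lit 17, nat_lit 1, nat_lit 49, nat_lit 1, nat_lit 129, nat_lit 0, nat_lit 0, nat_lit 0, nat_lit 0, nat_lit 1, nat_lit 0, nat_lit 17, nat_lit 0, nat_lit 65, nat_lit 0, nat_lit 17, nat_lit 0, nat_lit 17, nat_lit 65, nat_lit 1, nat_lit 0, nat_lit 0, nat_lit 1, nat_lit 33, nat_lit 33, nat_lit 65, nat_lit 0, nat_lit 0, nat_lit 0, nat_lit 17, nat_lit 1, nat_lit 49, nat_lit 0, nat_lit 0, nat_lit 0, nat_lit 0, nat_lit 33, nat_lit 1, nat_lit 65, nat_lit 0, nat_lit 65, nat_lit 0, nat_lit 0, nat_lit 0, nat_lit 0, nat_lit 49, nat_lit 0, nat_lit 1, nat_lit 1, nat_lit 49, nat_lit 0, nat_lit 0, nat_lit 81, nat_lit 0, nat_lit 1, nat_lit 0, nat_lit 113, nat_lit 0, nat_lit 0, nat_lit 0, nat_lit 0, nat_lit 17, nat_lit 0, nat_lit 17, nat_lit 49, nat_lit 33, nat_lit 0, nat_lit 0, nat_lit 0, nat_lit 0, nat_lit 0, nat_lit 1, nat_lit 49, nat_lit 49, nat_lit 1,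 nat_lit 49, nat_lit 0, nat_lit 1, nat_lit 1, nat_lit 1, nat_lit 113, nat_lit 0, nat_lit 0, nat_lit 1, nat_lit 1, nat_lit 0, nat_lit 1, nat_lit 97, nat_lit 0, nat_lit 0, nat_lit 1, nat_lit 0, nat_lit 49, nat_lit 0, nat_lit 17, nat_lit 1, nat_lit 65, nat_lit 0, nat_lit 17, nat_lit 0, nat_lit 0, nat_lit 0, nat_lit 17, nat_lit 161, nat_lit 0, nat_lit 0, nat_lit 0, nat_lit 0, nat_lit 0, nat_lit 0, nat_lit 0, nat_lit 1, nat_lit 0, nat_lit 49, nat_lit 49, nat_lit 0, nat_lit 0, nat_lit 0, nat_lit 17, nat_lit 49, nat_lit 0, nat_lit 17, nat_lit 0, nat_lit 1, nat_lit 97, nat_lit 0, nat_lit 0, nat_lit 0, nat_lit 17, nat_lit 49, nat_lit 0, nat_lit 0, nat_lit 0, nat_lit 0, nat_lit 1, nat_lit 49, nat_lit 0, nat_lit 0, nat_lit 65, nat_lit 33, nat_lit 0, nat_lit 0, nat_lit 1, nat_lit 1, nat_lit 65, nat_lit 0, nat_lit 97, nat_lit 0, nat_lit 0, nat_lit 0, nat_lit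 1, nat_lit 1, nat_lit 49, nat_lit 1, nat_lit 0, nat_lit 0, nat_lit 17, nat_lit 81, nat_lit 0, nat_lit 17, nat_lit 0, nat_lit 0, nat_lit 17, nat_lit 33, nat_lit 1, nat_lit 81, nat_lit 0, nat_lit 0, nat_lit 17, nat_lit 0, nat_lit 0, nat_lit 17, nat_lit 65, nat_lit 0, nat_lit 0, nat_lit 33, nat_lit 0, nat_lit 17, nat_lit 1, nat_lit 0, nat_lit 17, nat_lit 129, nat_lit 0, nat_lit 0, nat_lit 0, nat_lit 0, nat_lit 33, nat_lit 0, nat_lit 0, nat_lit 0, nat_lit 17, nat_lit 33, nat_lit 0, nat_lit 17, nat_lit 49, nat_lit 0, nat_lit 0, nat_lit 17, nat_lit 1, nat_lit 49, nat_lit 1, nat_lit 81, nat_lit 1, nat_lit 0, nat_lit 0, nat_lit 0, nat_lit 33, nat_lit 1, nat_lit 97, nat_lit 0, nat_lit 0, nat_lit 0, nat_lit 0, nat_lit 1, nat_lit 49, nat_lit 1, nat_lit 0, nat_lit 65, nat_lit 0, nat_lit 1, nat_lit 33, nat_lit 0, nat_lit 0, nat_lit 17, nat_lit 33, nat_lit 1,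 nat_lit 81, nat_lit 0, nat_lit 0, nat_lit 1, nat_lit 33, nat_lit 0, nat_lit 1, nat_lit 1, nat_lit 1, nat_lit 65, nat_lit 1, nat_lit 65, nat_lit 0, nat_lit 0, nat_lit 17, nat_lit 33, nat_lit 1, nat_lit 1, nat_lit 1, nat_lit 145, nat_lit 0, nat_lit 0, nat_lit 1, nat_lit 0, nat_lit 0, nat_lit 0, nat_lit 0, nat_lit 0, nat_lit 33, nat_lit 0, nat_lit 49, nat_lit 33, nat_lit 0, nat_lit 81, nat_lit 0, nat_lit 0, nat_lit 0, nat_lit 17, nat_lit 0, nat_lit 17, nat_lit 1, nat_lit 65, nat_lit 1, nat_lit 49, nat_lit 0, nat_lit 0, nat_lit 0, nat_lit 1, nat_lit 33, nat_lit 33, nat_lit 0, nat_lit 49, nat_lit 0, nat_lit 0, nat_lit 0, nat_lit 1, nat_lit 33, nat_lit 113, nat_lit 0, nat_lit 0, nat_lit 0, nat_lit 0, nat_lit 1, nat_lit 0, nat_lit 17, nat_lit 49, nat_lit 0, nat_lit 1, nat_lit 33, nat_lit 65, nat_lit 0, nat_lit 0, nat_lit 0, nat_lit 1, nat_lit 0, nat_lit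 81, nat_lit 0, nat_lit 1, nat_lit 0, nat_lit 49, nat_lit 0, nat_lit 17, nat_lit 81, nat_lit 0, nat_lit 0, nat_lit 1, nat_lit 0, nat_lit 0, nat_lit 65, nat_lit 0, nat_lit 0, nat_lit 65, nat_lit 0, nat_lit 0, nat_lit 0, nat_lit 33, nat_lit 1, nat_lit 0, nat_lit 65, nat_lit 0, nat_lit 1, nat_lit 0, nat_lit 161, nat_lit 0, nat_lit 0, nat_lit 0, nat_lit 0, nat_lit 0, nat_lit 0, nat_lit 0, nat_lit 0, nat_lit 49, nat_lit 1, nat_lit 49, nat_lit 0, nat_lit 0, nat_lit 0, nat_lit 49, nat_lit 1, nat_lit 1, nat_lit 81, nat_lit 0, nat_lit 0, nat_lit 0, nat_lit 1, nat_lit 1, nat_lit 49, nat_lit 0, nat_lit 1, nat_lit 65, nat_lit 1, nat_lit 1, nat_lit 65, nat_lit 0, nat_lit 0, nat_lit 0, nat_lit 0, nat_lit 0, nat_lit 17, nat_lit 33, nat_lit 0, nat_lit 17, nat_lit 49, nat_lit 0, nat_lit 0, nat_lit 33, nat_lit 0, nat_lit 81, nat_lit 0, nat_lit 1, nat_lit 1, nat_lit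 49, nat_lit 0, nat_lit 17, nat_lit 97, nat_lit 0, nat_lit 0, nat_lit 0, nat_lit 0, nat_lit 0, nat_lit 0, nat_lit 49, nat_lit 33, nat_lit 0, nat_lit 0, nat_lit 65, nat_lit 0, nat_lit 0, nat_lit 0, nat_lit 17, nat_lit 33, nat_lit 1, nat_lit 0, nat_lit 0, nat_lit 0, nat_lit 97, nat_lit 0, nat_lit 0, nat_lit 0, nat_lit 33, nat_lit 0, nat_lit 17, nat_lit 0, nat_lit 1, nat_lit 81, nat_lit 0, nat_lit 17, nat_lit 113, nat_lit 0, nat_lit 0, nat_lit 0, nat_lit 0, nat_lit 33, nat_lit 0, nat_lit 0, nat_lit 0, nat_lit 0, nat_lit 33, nat_lit 0, nat_lit 49, nat_lit 0, nat_lit 49, nat_lit 0, nat_lit 17, nat_lit 65, nat_lit 1, nat_lit 0, nat_lit 1, nat_lit 0, nat_lit 17, nat_lit 49, nat_lit 1, nat_lit 0, nat_lit 1, nat_lit 0, nat_lit 49, nat_lit 97, nat_lit 0, nat_lit 0, nat_lit 0, nat_lit 0, nat_lit 0, nat_lit 1, nat_lit 1, nat_lit 49, nat_lit 0, nat_lit 1, nat_lit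 33, nat_lit 49, nat_lit 0, nat_lit 17, nat_lit 0, nat_lit 17, nat_lit 1, nat_lit 81, nat_lit 0, nat_lit 1, nat_lit 1, nat_lit 49, nat_lit 49, nat_lit 0, nat_lit 0, nat_lit 0, nat_lit 33, nat_lit 1, nat_lit 49, nat_lit 0, nat_lit 0, nat_lit 0, nat_lit 33, nat_lit 0, nat_lit 0, nat_lit 65, nat_lit 65, nat_lit 0, nat_lit 0, nat_lit 0, nat_lit 17, nat_lit 0, nat_lit 49, nat_lit 0, nat_lit 49, nat_lit 81, nat_lit 0, nat_lit 0, nat_lit 0, nat_lit 0, nat_lit 0, nat_lit 0, nat_lit 1, nat_lit 1, nat_lit 1, nat_lit 65, nat_lit 0, nat_lit 0, nat_lit 17, nat_lit 33, nat_lit 49, nat_lit 0, nat_lit 1, nat_lit 1, nat_lit 49, nat_lit 1, nat_lit 65, nat_lit 0, nat_lit 0, nat_lit 0, nat_lit 33, nat_lit 0, nat_lit 1, nat_lit 0, nat_lit 17, nat_lit 49, nat_lit 1, nat_lit 65, nat_lit 0, nat_lit 0, nat_lit 0, nat_lit 33, nat_lit 33, nat_lit 1, nat_lit 81, nat_lit 0,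 nat_lit 0, nat_lit 0, nat_lit 17, nat_lit 0, nat_lit 17, nat_lit 49, nat_lit 0, nat_lit 0, nat_lit 33, nat_lit 49, nat_lit 0, nat_lit 0, nat_lit 17, nat_lit 0, nat_lit 0, nat_lit 65, nat_lit 0, nat_lit 1, nat_lit 33, nat_lit 0, nat_lit 97, nat_lit 0, nat_lit 0, nat_lit 0, nat_lit 0, nat_lit 0, nat_lit 17, nat_lit 0, nat_lit 17, nat_lit 49, nat_lit 1, nat_lit 1, nat_lit 65, nat_lit 0, nat_lit 0, nat_lit 0, nat_lit 49, nat_lit 1, nat_lit 1, nat_lit 81, nat_lit 0, nat_lit 0, nat_lit 17, nat_lit 0, nat_lit 17, nat_lit 0, nat_lit 1, nat_lit 81, nat_lit 1, nat_lit 0, nat_lit 17, nat_lit 1, nat_lit 97, nat_lit 0, nat_lit 1, nat_lit 0, nat_lit 0, nat_lit 17, nat_lit 0, nat_lit 0, nat_lit 65, nat_lit 0, nat_lit 0, nat_lit 1, nat_lit 97, nat_lit 0, nat_lit 1, nat_lit 1, nat_lit 49, nat_lit 81, nat_lit 0, nat_lit 0, nat_lit 0, nat_lit 0, nat_lit 1, nat_lit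 0, nat_lit 0, nat_lit 33, nat_lit 0, nat_lit 1, nat_lit 97, nat_lit 0, nat_lit 0, nat_lit 0, nat_lit 0, nat_lit 33, nat_lit 0, nat_lit 17, nat_lit 49, nat_lit 33, nat_lit 0, nat_lit 0, nat_lit 17, nat_lit 81, nat_lit 0, nat_lit 0, nat_lit 0, nat_lit 1, nat_lit 0, nat_lit 65, nat_lit 1, nat_lit 1, nat_lit 0, nat_lit 17, nat_lit 0, nat_lit 97, nat_lit 0, nat_lit 0, nat_lit 0, nat_lit 33, nat_lit 33, nat_lit 0, nat_lit 0, nat_lit 0, nat_lit 0, nat_lit 33, nat_lit 49, nat_lit 81, nat_lit 0, nat_lit 0, nat_lit 1, nat_lit 1, nat_lit 0, nat_lit 65, nat_lit 0, nat_lit 0, nat_lit 0, nat_lit 17, nat_lit 33, nat_lit 1, nat_lit 1, nat_lit 97, nat_lit 0, nat_lit 0, nat_lit 0, nat_lit 0, nat_lit 1, nat_lit 33, nat_lit 33, nat_lit 0, nat_lit 0, nat_lit 33, nat_lit 49, nat_lit 0, nat_lit 1, nat_lit 1, nat_lit 81, nat_lit 0, nat_lit 0, nat_lit 1, nat_lit 0, nat_lit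 0, nat_lit 65, nat_lit 0, nat_lit 17, nat_lit 0, nat_lit 65])]


theorem bO_tabs_sub : ∀ l ∈ bO_tabs, l ∈ slpTabs bO_prog m24InitTabs := by decide +kernel

theorem bO_q0_incr : incrB bO_q0 = true := by decide +kernel

theorem bO_fix : bO_tabs.all (fun l => fixB l bO_q0) = true := by decide +kernel

theorem bO_good : GoodTabs (baseStab bO_q0) bO_tabs :=
  goodTabs_baseStab bO_q0_incr
    ((goodTabs_slp bO_prog _ (goodTabs_init M24 shift_mem projInv_mem cubeTwist_mem)).subset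
      bO_tabs_sub) bO_fix

theorem bO_trio_vals : (bO_trio.map (·.1)).Nodup := by decide +kernel

theorem bO_trio_reps : ∀ x ∈ bO_trio, x.2.1 ∈ trioData := by decide +kernel

theorem bO_trio_cover : coverCheck bO_q0 (bitmaps bO_tabs keyT bO_trio) keyT trioData = true := by
  decide +kernel

theorem bO_trio_lens : bO_trio.map (fun x => x.2.2.length + 1) = [15, 3360, 420] := by decide +kernel

theorem bO_sext_vals : (bO_sext.map (·.1)).Nodup := by decide +kernel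

theorem bO_sext_reps : ∀ x ∈ bO_sext, x.2.1 ∈ sextetData := by decide +kernel

theorem bO_sext_cover : coverCheck bO_q0 (bitmaps bO_tabs keyS bO_sext) keyS sextetData = true := by
  decide +kernel

theorem bO_sext_lens : bO_sext.map (fun x => x.2.2.length + 1) = [35, 896, 840] := by decide +kernel

end Cfsg.Agent.Helper92
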