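import Cfsg.Agent.Lib.Helper92.OrbitFams

/-!
# Orbit certificate data (generated)
-/

set_option autoImplicit false
set_option maxRecDepth 1000000

namespace Cfsg.Agent.Helper92
open Cfsg Cfsg.Agent.Helper7
open scoped Pointwise

def bS_q0 : List ℕ := [15, 5264, 622848, 3416064, 4196928, 8536096]

def bS_prog : List (ℕ × ℕ) := [(1, 3), (2, 1), (2, 2), (2, 6), (0, 7), (2, 8), (0, 5), (2, 5), (0, 10), (1, 11), (2, 12), (1, 13), (2, 15), (0, 16), (0, 9), (0, 19), (2, 20), (2, 14), (0, 21), (0, 22), (2, 23), (2, 25), (17, 4), (27, 3), (28, 3), (2, 26), (29, 30), (18, 3), (32, 4), (33, 4), (34, 4), (0, 24), (35, 36)]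

def bS_tabs : List (List ℕ) := [[19, 15, 16, 8, 11, 2, 17, 6, 20, 14, 9, 23, 22, 4, 1, 18, 13, 3, 7, 21, 10, 12, 5, 0], [3, 1, 0, 2, 6, 13, 14, 22, 12, 23, 11, 5, 9, 15, 18, 4, 7, 21, 8, 10, 19, 16, 17, 20]]

def bS_oct : List (ℕ × List ℕ × List ℕ) := [(20004, [5279], [nat_lit 0, nat_lit 0, nat_lit 1, nat_lit 1, nat_lit 49, nat_lit 1, nat_lit 49, nat_lit 0, nat_lit 0, nat_lit 17, nat_lit 0, nat_lit 0, nat_lit 65, nat_lit 0]), (1050, [10558], [nat_lit 0, nat_lit 0, nat_lit 0, nat_lit 0, nat_lit 0, nat_lit 0, nat_lit 0, nat_lit 0, nat_lit 0, nat_lit 17, nat_lit 33, nat_lit 33, nat_lit 1, nat_lit 1, nat_lit 1, nat_lit 81, nat_lit 0, nat_lit 0, nat_lit 17, nat_lit 0, nat_lit 17, nat_lit 49, nat_lit 0, nat_lit 17, nat_lit 0, nat_lit 81, nat_lit 0, nat_lit 0, nat_lit 1, nat_lit 1, nat_lit 0, nat_lit 81, nat_lit 0, nat_lit 1, nat_lit 81, nat_lit 0, nat_lit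 0, nat_lit 0, nat_lit 1, nat_lit 0, nat_lit 0, nat_lit 65, nat_lit 1, nat_lit 0, nat_lit 65, nat_lit 0, nat_lit 17, nat_lit 49, nat_lit 0, nat_lit 0, nat_lit 0, nat_lit 1, nat_lit 1, nat_lit 0, nat_lit 65, nat_lit 1, nat_lit 49, nat_lit 0, nat_lit 0, nat_lit 1, nat_lit 49, nat_lit 0, nat_lit 17, nat_lit 1, nat_lit 1, nat_lit 97, nat_lit 0, nat_lit 17, nat_lit 1, nat_lit 0, nat_lit 113, nat_lit 0, nat_lit 0, nat_lit 1, nat_lit 0, nat_lit 1, nat_lit 0, nat_lit 0, nat_lit 65, nat_lit 0, nat_lit 1, nat_lit 0, nat_lit 49, nat_lit 0, nat_lit 1, nat_lit 97, nat_lit 0, nat_lit 0, nat_lit 0, nat_lit 0, nat_lit 65, nat_lit 0, nat_lit 0, nat_lit 17, nat_lit 1, nat_lit 0, nat_lit 65, nat_lit 0, nat_lit 0, nat_lit 33, nat_lit 1, nat_lit 97, nat_lit 0, nat_lit 0, nat_lit 0, nat_lit 1, nat_lit 33, nat_lit 1, nat_lit 1, nat_lit 0, nat_lit 81, nat_lit 0, nat_lit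 0, nat_lit 17, nat_lit 0, nat_lit 1, nat_lit 33, nat_lit 1, nat_lit 65, nat_lit 49, nat_lit 0, nat_lit 0, nat_lit 0, nat_lit 0, nat_lit 17, nat_lit 33, nat_lit 49, nat_lit 0, nat_lit 97, nat_lit 0, nat_lit 0, nat_lit 0, nat_lit 1, nat_lit 0, nat_lit 0, nat_lit 17, nat_lit 0, nat_lit 1, nat_lit 33, nat_lit 49, nat_lit 1, nat_lit 65, nat_lit 0, nat_lit 0, nat_lit 1, nat_lit 1, nat_lit 49, nat_lit 0, nat_lit 1, nat_lit 33, nat_lit 1, nat_lit 65, nat_lit 1, nat_lit 0, nat_lit 0, nat_lit 97, nat_lit 0, nat_lit 0, nat_lit 0, nat_lit 0, nat_lit 0, nat_lit 1, nat_lit 49, nat_lit 0, nat_lit 17, nat_lit 49, nat_lit 0, nat_lit 1, nat_lit 65, nat_lit 0, nat_lit 0, nat_lit 17, nat_lit 33, nat_lit 0, nat_lit 0, nat_lit 0, nat_lit 49, nat_lit 0, nat_lit 113, nat_lit 0, nat_lit 0, nat_lit 0, nat_lit 1, nat_lit 1, nat_lit 1, nat_lit 65, nat_lit 0, nat_lit 1, nat_lit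 0, nat_lit 1, nat_lit 65, nat_lit 0, nat_lit 0, nat_lit 81, nat_lit 1, nat_lit 0, nat_lit 0, nat_lit 1, nat_lit 49, nat_lit 1, nat_lit 0, nat_lit 97, nat_lit 0, nat_lit 0, nat_lit 0, nat_lit 0, nat_lit 33, nat_lit 0, nat_lit 17, nat_lit 49, nat_lit 0, nat_lit 0, nat_lit 0, nat_lit 33, nat_lit 33, nat_lit 0, nat_lit 17, nat_lit 0, nat_lit 81, nat_lit 0, nat_lit 0, nat_lit 1, nat_lit 33, nat_lit 33, nat_lit 0, nat_lit 0, nat_lit 17, nat_lit 0, nat_lit 145, nat_lit 0, nat_lit 0, nat_lit 0, nat_lit 0, nat_lit 0, nat_lit 17, nat_lit 0, nat_lit 17, nat_lit 0, nat_lit 0, nat_lit 81, nat_lit 0, nat_lit 0, nat_lit 0, nat_lit 0, nat_lit 49, nat_lit 1, nat_lit 0, nat_lit 97, nat_lit 0, nat_lit 0, nat_lit 0, nat_lit 0, nat_lit 17, nat_lit 0, nat_lit 49, nat_lit 49, nat_lit 0, nat_lit 0, nat_lit 1, nat_lit 1, nat_lit 0, nat_lit 65, nat_lit 1, nat_lit 1, nat_lit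 65, nat_lit 0, nat_lit 1, nat_lit 0, nat_lit 49, nat_lit 0, nat_lit 17, nat_lit 97, nat_lit 0, nat_lit 0, nat_lit 0, nat_lit 17, nat_lit 0, nat_lit 0, nat_lit 1, nat_lit 49, nat_lit 0, nat_lit 65, nat_lit 0, nat_lit 0, nat_lit 0, nat_lit 81, nat_lit 0, nat_lit 0, nat_lit 0, nat_lit 1, nat_lit 49, nat_lit 1, nat_lit 49, nat_lit 0, nat_lit 0, nat_lit 0, nat_lit 17, nat_lit 0, nat_lit 49, nat_lit 0, nat_lit 17, nat_lit 49, nat_lit 1, nat_lit 0, nat_lit 0, nat_lit 1, nat_lit 33, nat_lit 129, nat_lit 0, nat_lit 0, nat_lit 0, nat_lit 0, nat_lit 17, nat_lit 0, nat_lit 17, nat_lit 0, nat_lit 17, nat_lit 1, nat_lit 81, nat_lit 0, nat_lit 0, nat_lit 0, nat_lit 0, nat_lit 17, nat_lit 33, nat_lit 0, nat_lit 17, nat_lit 0, nat_lit 65, nat_lit 0, nat_lit 0, nat_lit 33, nat_lit 49, nat_lit 1, nat_lit 1, nat_lit 81, nat_lit 0, nat_lit 1, nat_lit 0, nat_lit 0, nat_lit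 33, nat_lit 49, nat_lit 0, nat_lit 0, nat_lit 0, nat_lit 49, nat_lit 1, nat_lit 0, nat_lit 0, nat_lit 113, nat_lit 0, nat_lit 0, nat_lit 1, nat_lit 1, nat_lit 49, nat_lit 0, nat_lit 1, nat_lit 0, nat_lit 49, nat_lit 0, nat_lit 1, nat_lit 33, nat_lit 1, nat_lit 1, nat_lit 97, nat_lit 0, nat_lit 0, nat_lit 0, nat_lit 1, nat_lit 0, nat_lit 65, nat_lit 0, nat_lit 17, nat_lit 0, nat_lit 17, nat_lit 65, nat_lit 0, nat_lit 0, nat_lit 1, nat_lit 33, nat_lit 0, nat_lit 17, nat_lit 49]), (402, [18147], [nat_lit 0, nat_lit 0, nat_lit 0, nat_lit 0, nat_lit 0, nat_lit 0, nat_lit 0, nat_lit 1, nat_lit 33, nat_lit 1, nat_lit 0, nat_lit 65, nat_lit 0, nat_lit 0, nat_lit 0, nat_lit 0, nat_lit 97, nat_lit 0, nat_lit 0, nat_lit 0, nat_lit 1, nat_lit 1, nat_lit 49, nat_lit 0, nat_lit 0, nat_lit 33, nat_lit 0, nat_lit 65, nat_lit 0, nat_lit 0, nat_lit 0, nat_lit 81,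 nat_lit 1, nat_lit 0, nat_lit 0, nat_lit 33, nat_lit 0, nat_lit 17, nat_lit 0, nat_lit 17, nat_lit 113, nat_lit 0, nat_lit 0, nat_lit 0, nat_lit 0, nat_lit 0, nat_lit 0, nat_lit 33, nat_lit 33, nat_lit 0, nat_lit 17, nat_lit 0, nat_lit 65, nat_lit 0, nat_lit 0, nat_lit 17, nat_lit 0, nat_lit 49, nat_lit 0, nat_lit 65, nat_lit 0, nat_lit 0, nat_lit 1, nat_lit 0, nat_lit 65, nat_lit 1, nat_lit 65, nat_lit 0, nat_lit 0, nat_lit 0, nat_lit 0, nat_lit 33, nat_lit 49, nat_lit 0, nat_lit 0, nat_lit 97, nat_lit 0, nat_lit 0, nat_lit 0, nat_lit 1, nat_lit 0, nat_lit 0, nat_lit 0, nat_lit 49, nat_lit 49, nat_lit 0, nat_lit 0, nat_lit 0, nat_lit 0, nat_lit 65, nat_lit 0, nat_lit 1, nat_lit 81, nat_lit 0, nat_lit 0, nat_lit 0, nat_lit 1, nat_lit 33, nat_lit 0, nat_lit 17, nat_lit 49, nat_lit 0, nat_lit 81, nat_lit 0, nat_lit 0, nat_lit 0, nat_lit 0, nat_lit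 1, nat_lit 49, nat_lit 0, nat_lit 49, nat_lit 0, nat_lit 1, nat_lit 33, nat_lit 0, nat_lit 1, nat_lit 33, nat_lit 1, nat_lit 81, nat_lit 0, nat_lit 1, nat_lit 0, nat_lit 0, nat_lit 17, nat_lit 33, nat_lit 49, nat_lit 0, nat_lit 17, nat_lit 1, nat_lit 113, nat_lit 0, nat_lit 0, nat_lit 0, nat_lit 0, nat_lit 0, nat_lit 0, nat_lit 0, nat_lit 33, nat_lit 33, nat_lit 0, nat_lit 0, nat_lit 0, nat_lit 49, nat_lit 49, nat_lit 0, nat_lit 0, nat_lit 0, nat_lit 33, nat_lit 0, nat_lit 81, nat_lit 0, nat_lit 0, nat_lit 0, nat_lit 17, nat_lit 0, nat_lit 49, nat_lit 1, nat_lit 49, nat_lit 0, nat_lit 1, nat_lit 0, nat_lit 49, nat_lit 0, nat_lit 81, nat_lit 0, nat_lit 0, nat_lit 0, nat_lit 17, nat_lit 0, nat_lit 17, nat_lit 1, nat_lit 65, nat_lit 1, nat_lit 1, nat_lit 0, nat_lit 81, nat_lit 0, nat_lit 0, nat_lit 0, nat_lit 0, nat_lit 65, nat_lit 0, nat_lit 0, nat_lit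 17, nat_lit 1, nat_lit 49, nat_lit 81, nat_lit 0, nat_lit 0, nat_lit 0, nat_lit 17, nat_lit 1, nat_lit 0, nat_lit 81, nat_lit 0, nat_lit 0, nat_lit 0, nat_lit 1, nat_lit 33, nat_lit 1, nat_lit 49, nat_lit 0, nat_lit 1, nat_lit 0, nat_lit 49, nat_lit 0, nat_lit 1, nat_lit 33, nat_lit 0, nat_lit 81, nat_lit 1, nat_lit 0, nat_lit 1, nat_lit 1, nat_lit 1, nat_lit 161, nat_lit 0, nat_lit 0, nat_lit 0, nat_lit 0, nat_lit 1, nat_lit 1, nat_lit 0, nat_lit 17, nat_lit 0, nat_lit 81, nat_lit 0, nat_lit 1, nat_lit 33, nat_lit 1, nat_lit 0, nat_lit 1, nat_lit 33, nat_lit 81, nat_lit 0, nat_lit 0, nat_lit 1, nat_lit 1, nat_lit 49, nat_lit 0, nat_lit 49, nat_lit 0, nat_lit 0, nat_lit 0, nat_lit 17, nat_lit 1, nat_lit 113, nat_lit 0, nat_lit 0, nat_lit 0, nat_lit 0, nat_lit 1, nat_lit 33, nat_lit 33, nat_lit 0, nat_lit 0, nat_lit 33, nat_lit 0, nat_lit 17, nat_lit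 1, nat_lit 0, nat_lit 1, nat_lit 113, nat_lit 0, nat_lit 0, nat_lit 17, nat_lit 0, nat_lit 17, nat_lit 49, nat_lit 1, nat_lit 0, nat_lit 0, nat_lit 129, nat_lit 0, nat_lit 0, nat_lit 0, nat_lit 0, nat_lit 33, nat_lit 0, nat_lit 0, nat_lit 0, nat_lit 17, nat_lit 0, nat_lit 17, nat_lit 0, nat_lit 65, nat_lit 0, nat_lit 0, nat_lit 17, nat_lit 65, nat_lit 0, nat_lit 1, nat_lit 1, nat_lit 49, nat_lit 0, nat_lit 81, nat_lit 0, nat_lit 0, nat_lit 0, nat_lit 17, nat_lit 0, nat_lit 17, nat_lit 49, nat_lit 0, nat_lit 17, nat_lit 0, nat_lit 0, nat_lit 1, nat_lit 97, nat_lit 0, nat_lit 0, nat_lit 1, nat_lit 0, nat_lit 65, nat_lit 0, nat_lit 1, nat_lit 0, nat_lit 17, nat_lit 49, nat_lit 1, nat_lit 97, nat_lit 0, nat_lit 0, nat_lit 0, nat_lit 0, nat_lit 1, nat_lit 0, nat_lit 49, nat_lit 1, nat_lit 0, nat_lit 65, nat_lit 0, nat_lit 17, nat_lit 0, nat_lit 17, nat_lit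 0, nat_lit 81, nat_lit 1, nat_lit 49, nat_lit 0, nat_lit 0, nat_lit 0, nat_lit 0, nat_lit 17, nat_lit 1, nat_lit 49, nat_lit 0, nat_lit 49, nat_lit 1, nat_lit 0, nat_lit 1, nat_lit 33, nat_lit 0, nat_lit 17, nat_lit 1, nat_lit 97, nat_lit 0, nat_lit 0, nat_lit 0])]

def bS_trio : List (ℕ × List ℕ × List ℕ) := [(20808, [5279, 1009728, 15762208], [nat_lit 0, nat_lit 0, nat_lit 0, nat_lit 0, nat_lit 0, nat_lit 0, nat_lit 0, nat_lit 0, nat_lit 0, nat_lit 17, nat_lit 49, nat_lit 0, nat_lit 1, nat_lit 65, nat_lit 1, nat_lit 0, nat_lit 17, nat_lit 0, nat_lit 81, nat_lit 0, nat_lit 1, nat_lit 0, nat_lit 17, nat_lit 49, nat_lit 0, nat_lit 65, nat_lit 0, nat_lit 0, nat_lit 1, nat_lit 0, nat_lit 65, nat_lit 1, nat_lit 65, nat_lit 0, nat_lit 0, nat_lit 0, nat_lit 0, nat_lit 0, nat_lit 49, nat_lit 33, nat_lit 0, nat_lit 17, nat_lit 1, nat_lit 1, nat_lit 1, nat_lit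 97, nat_lit 1, nat_lit 0, nat_lit 1, nat_lit 33, nat_lit 0, nat_lit 97, nat_lit 0, nat_lit 0, nat_lit 0, nat_lit 0, nat_lit 0, nat_lit 33, nat_lit 1, nat_lit 0, nat_lit 65, nat_lit 1, nat_lit 49, nat_lit 0, nat_lit 1, nat_lit 0, nat_lit 0, nat_lit 1, nat_lit 49, nat_lit 1, nat_lit 65, nat_lit 0, nat_lit 0, nat_lit 17, nat_lit 33, nat_lit 0, nat_lit 0, nat_lit 17, nat_lit 1, nat_lit 49, nat_lit 81, nat_lit 0, nat_lit 0, nat_lit 0, nat_lit 0, nat_lit 17, nat_lit 33, nat_lit 0, nat_lit 0, nat_lit 33, nat_lit 1, nat_lit 65, nat_lit 0, nat_lit 1, nat_lit 65, nat_lit 65, nat_lit 0, nat_lit 0, nat_lit 0, nat_lit 0, nat_lit 0, nat_lit 0, nat_lit 1, nat_lit 49, nat_lit 0, nat_lit 0, nat_lit 65, nat_lit 0, nat_lit 1, nat_lit 0, nat_lit 17, nat_lit 81, nat_lit 0, nat_lit 1, nat_lit 1, nat_lit 0, nat_lit 17, nat_lit 65, nat_lit 0, nat_lit 0, nat_lit 33, nat_lit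 0, nat_lit 81, nat_lit 0, nat_lit 0, nat_lit 0, nat_lit 1, nat_lit 1, nat_lit 65, nat_lit 1, nat_lit 49, nat_lit 0, nat_lit 1, nat_lit 0, nat_lit 17, nat_lit 49, nat_lit 0, nat_lit 0, nat_lit 97, nat_lit 0, nat_lit 0, nat_lit 0, nat_lit 0, nat_lit 0, nat_lit 49, nat_lit 0, nat_lit 0, nat_lit 33, nat_lit 0, nat_lit 1, nat_lit 81, nat_lit 0, nat_lit 0, nat_lit 0, nat_lit 33, nat_lit 33, nat_lit 0, nat_lit 0, nat_lit 0, nat_lit 33, nat_lit 0, nat_lit 49, nat_lit 65, nat_lit 0, nat_lit 0, nat_lit 0, nat_lit 0, nat_lit 1, nat_lit 49, nat_lit 1, nat_lit 65, nat_lit 0, nat_lit 0, nat_lit 0, nat_lit 17, nat_lit 49, nat_lit 0, nat_lit 1, nat_lit 1]), (60012, [5279, 4038912, 12733024], [nat_lit 0, nat_lit 0, nat_lit 17, nat_lit 1, nat_lit 0, nat_lit 65, nat_lit 0, nat_lit 1, nat_lit 0, nat_lit 49, nat_lit 0, nat_lit 1, nat_lit 33, nat_lit 0]), (2502, [10558,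 902657, 15864000], [nat_lit 0, nat_lit 0, nat_lit 0, nat_lit 0, nat_lit 0, nat_lit 0, nat_lit 0, nat_lit 0, nat_lit 0, nat_lit 0, nat_lit 17, nat_lit 0, nat_lit 0, nat_lit 33, nat_lit 1, nat_lit 65, nat_lit 0, nat_lit 0, nat_lit 0, nat_lit 17, nat_lit 0, nat_lit 17, nat_lit 0, nat_lit 65, nat_lit 1, nat_lit 1, nat_lit 65, nat_lit 0, nat_lit 17, nat_lit 0, nat_lit 17, nat_lit 81, nat_lit 0, nat_lit 0, nat_lit 0, nat_lit 0, nat_lit 1, nat_lit 33, nat_lit 33, nat_lit 1, nat_lit 0, nat_lit 65, nat_lit 0, nat_lit 1, nat_lit 33, nat_lit 1, nat_lit 0, nat_lit 81, nat_lit 0, nat_lit 1, nat_lit 1, nat_lit 49, nat_lit 1, nat_lit 1, nat_lit 97, nat_lit 0, nat_lit 0, nat_lit 17, nat_lit 0, nat_lit 0, nat_lit 1, nat_lit 1, nat_lit 1, nat_lit 65, nat_lit 33, nat_lit 49, nat_lit 0, nat_lit 0, nat_lit 0, nat_lit 17, nat_lit 1, nat_lit 1, nat_lit 65, nat_lit 0,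 nat_lit 0, nat_lit 33, nat_lit 1, nat_lit 65, nat_lit 0, nat_lit 0, nat_lit 0, nat_lit 17, nat_lit 0, nat_lit 65, nat_lit 0, nat_lit 0, nat_lit 0, nat_lit 17, nat_lit 33, nat_lit 33, nat_lit 1, nat_lit 1, nat_lit 129, nat_lit 0, nat_lit 0, nat_lit 0, nat_lit 0, nat_lit 17, nat_lit 0, nat_lit 0, nat_lit 17, nat_lit 0, nat_lit 81, nat_lit 0, nat_lit 0, nat_lit 0, nat_lit 1, nat_lit 65, nat_lit 49, nat_lit 0, nat_lit 0, nat_lit 1, nat_lit 0, nat_lit 1, nat_lit 81, nat_lit 0, nat_lit 1, nat_lit 33, nat_lit 1, nat_lit 0, nat_lit 17, nat_lit 97, nat_lit 0, nat_lit 0, nat_lit 0, nat_lit 0, nat_lit 0, nat_lit 17, nat_lit 0, nat_lit 49, nat_lit 0, nat_lit 1, nat_lit 33, nat_lit 1, nat_lit 65, nat_lit 0, nat_lit 1, nat_lit 1, nat_lit 49, nat_lit 1, nat_lit 1, nat_lit 81, nat_lit 0, nat_lit 17, nat_lit 0, nat_lit 0, nat_lit 17, nat_lit 129, nat_lit 0, nat_lit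 0, nat_lit 0, nat_lit 0, nat_lit 1, nat_lit 0, nat_lit 17, nat_lit 1, nat_lit 0, nat_lit 97, nat_lit 0, nat_lit 0, nat_lit 0, nat_lit 33, nat_lit 0, nat_lit 17, nat_lit 49, nat_lit 0, nat_lit 0, nat_lit 1, nat_lit 0, nat_lit 49, nat_lit 0, nat_lit 0, nat_lit 113, nat_lit 0, nat_lit 0, nat_lit 0, nat_lit 1, nat_lit 0, nat_lit 65, nat_lit 0, nat_lit 0, nat_lit 1, nat_lit 33, nat_lit 1, nat_lit 49, nat_lit 0, nat_lit 17, nat_lit 0, nat_lit 81, nat_lit 0, nat_lit 0, nat_lit 0, nat_lit 17, nat_lit 0, nat_lit 0, nat_lit 33, nat_lit 1, nat_lit 65, nat_lit 1, nat_lit 0, nat_lit 1, nat_lit 81, nat_lit 1, nat_lit 1, nat_lit 0, nat_lit 0, nat_lit 33, nat_lit 0, nat_lit 129, nat_lit 0, nat_lit 0, nat_lit 0, nat_lit 0, nat_lit 0, nat_lit 0, nat_lit 17, nat_lit 33, nat_lit 33, nat_lit 33, nat_lit 0, nat_lit 17, nat_lit 0, nat_lit 0, nat_lit 1, nat_lit 33, nat_lit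 33, nat_lit 65, nat_lit 0, nat_lit 0, nat_lit 0, nat_lit 0, nat_lit 17, nat_lit 33, nat_lit 1, nat_lit 49, nat_lit 0, nat_lit 49, nat_lit 0, nat_lit 1, nat_lit 81, nat_lit 0, nat_lit 0, nat_lit 0, nat_lit 0, nat_lit 0, nat_lit 33, nat_lit 1, nat_lit 49, nat_lit 0, nat_lit 0, nat_lit 1, nat_lit 33, nat_lit 33, nat_lit 1, nat_lit 1, nat_lit 81, nat_lit 0, nat_lit 0, nat_lit 0, nat_lit 17, nat_lit 33, nat_lit 1, nat_lit 49, nat_lit 0, nat_lit 0, nat_lit 81, nat_lit 0, nat_lit 0, nat_lit 0, nat_lit 17, nat_lit 0, nat_lit 49, nat_lit 0, nat_lit 0, nat_lit 33, nat_lit 0, nat_lit 145, nat_lit 0, nat_lit 0, nat_lit 0, nat_lit 0, nat_lit 0, nat_lit 0, nat_lit 1, nat_lit 0, nat_lit 17, nat_lit 65, nat_lit 0, nat_lit 0, nat_lit 0, nat_lit 17, nat_lit 81, nat_lit 0, nat_lit 0, nat_lit 0, nat_lit 1, nat_lit 33, nat_lit 1, nat_lit 49, nat_lit 33, nat_lit 0, nat_lit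 17, nat_lit 0, nat_lit 0, nat_lit 1, nat_lit 33, nat_lit 33, nat_lit 81, nat_lit 1, nat_lit 0, nat_lit 1, nat_lit 1, nat_lit 0, nat_lit 0, nat_lit 33, nat_lit 0, nat_lit 17, nat_lit 129, nat_lit 0, nat_lit 0, nat_lit 0, nat_lit 0, nat_lit 0, nat_lit 0, nat_lit 1, nat_lit 33, nat_lit 0, nat_lit 49, nat_lit 0, nat_lit 0, nat_lit 65, nat_lit 0, nat_lit 1, nat_lit 0, nat_lit 49, nat_lit 0, nat_lit 17, nat_lit 0, nat_lit 81, nat_lit 0, nat_lit 0, nat_lit 17, nat_lit 0, nat_lit 49, nat_lit 1, nat_lit 0, nat_lit 1, nat_lit 113, nat_lit 0, nat_lit 0, nat_lit 0, nat_lit 0, nat_lit 0, nat_lit 0, nat_lit 33, nat_lit 33, nat_lit 0, nat_lit 0, nat_lit 0, nat_lit 81, nat_lit 0, nat_lit 1, nat_lit 33, nat_lit 49, nat_lit 0, nat_lit 1, nat_lit 1, nat_lit 1, nat_lit 65, nat_lit 0, nat_lit 17, nat_lit 65, nat_lit 0, nat_lit 0, nat_lit 0, nat_lit 17, nat_lit 0, nat_lit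 0, nat_lit 65, nat_lit 0, nat_lit 0, nat_lit 1, nat_lit 49, nat_lit 0, nat_lit 17, nat_lit 1, nat_lit 81, nat_lit 0, nat_lit 0, nat_lit 1, nat_lit 0, nat_lit 17, nat_lit 65, nat_lit 0, nat_lit 1, nat_lit 129, nat_lit 0, nat_lit 0, nat_lit 0, nat_lit 0, nat_lit 1, nat_lit 0, nat_lit 49, nat_lit 0, nat_lit 0, nat_lit 17, nat_lit 33, nat_lit 0, nat_lit 17, nat_lit 0, nat_lit 1, nat_lit 97, nat_lit 0, nat_lit 0, nat_lit 33, nat_lit 1, nat_lit 1, nat_lit 0, nat_lit 0, nat_lit 17, nat_lit 0, nat_lit 17, nat_lit 129, nat_lit 0, nat_lit 1, nat_lit 0, nat_lit 0, nat_lit 0, nat_lit 1, nat_lit 33, nat_lit 81, nat_lit 0, nat_lit 0, nat_lit 0, nat_lit 0, nat_lit 0, nat_lit 17, nat_lit 0, nat_lit 65, nat_lit 0, nat_lit 0, nat_lit 65, nat_lit 1, nat_lit 1, nat_lit 65, nat_lit 0, nat_lit 1, nat_lit 33, nat_lit 0, nat_lit 0, nat_lit 17, nat_lit 0, nat_lit 17, nat_lit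 49, nat_lit 97, nat_lit 0, nat_lit 0, nat_lit 0, nat_lit 0, nat_lit 0, nat_lit 1, nat_lit 1, nat_lit 49, nat_lit 33, nat_lit 0, nat_lit 0, nat_lit 33, nat_lit 49, nat_lit 0, nat_lit 0, nat_lit 1, nat_lit 1, nat_lit 0, nat_lit 81, nat_lit 0, nat_lit 81, nat_lit 1, nat_lit 0, nat_lit 0, nat_lit 0, nat_lit 0, nat_lit 49, nat_lit 0, nat_lit 0, nat_lit 0, nat_lit 49, nat_lit 1, nat_lit 1, nat_lit 177, nat_lit 0, nat_lit 0, nat_lit 0, nat_lit 0, nat_lit 0, nat_lit 0, nat_lit 0, nat_lit 0, nat_lit 0, nat_lit 1, nat_lit 65, nat_lit 0, nat_lit 17, nat_lit 1, nat_lit 65, nat_lit 0, nat_lit 0, nat_lit 17, nat_lit 1, nat_lit 49, nat_lit 0, nat_lit 0, nat_lit 1, nat_lit 49, nat_lit 1, nat_lit 1, nat_lit 97, nat_lit 0, nat_lit 0, nat_lit 1, nat_lit 0, nat_lit 17, nat_lit 49, nat_lit 0, nat_lit 17, nat_lit 0, nat_lit 65, nat_lit 0, nat_lit 0, nat_lit 1, nat_lit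 1, nat_lit 113, nat_lit 0, nat_lit 0, nat_lit 0, nat_lit 1, nat_lit 33, nat_lit 0, nat_lit 0, nat_lit 17, nat_lit 33, nat_lit 0, nat_lit 0, nat_lit 81, nat_lit 0, nat_lit 0, nat_lit 17, nat_lit 0, nat_lit 81, nat_lit 0, nat_lit 0, nat_lit 0, nat_lit 0, nat_lit 49, nat_lit 0, nat_lit 17, nat_lit 0, nat_lit 17, nat_lit 0, nat_lit 1, nat_lit 97, nat_lit 0, nat_lit 0, nat_lit 1, nat_lit 33, nat_lit 1, nat_lit 0, nat_lit 65, nat_lit 0, nat_lit 0, nat_lit 17, nat_lit 33, nat_lit 1, nat_lit 113, nat_lit 0, nat_lit 0, nat_lit 0, nat_lit 0, nat_lit 0, nat_lit 49, nat_lit 0, nat_lit 0, nat_lit 1, nat_lit 49, nat_lit 49, nat_lit 0, nat_lit 0, nat_lit 0, nat_lit 0, nat_lit 17, nat_lit 33, nat_lit 0, nat_lit 17, nat_lit 97, nat_lit 0, nat_lit 0, nat_lit 0, nat_lit 0, nat_lit 1, nat_lit 33, nat_lit 0, nat_lit 17, nat_lit 1, nat_lit 81, nat_lit 0, nat_lit 0, nat_lit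 17, nat_lit 1, nat_lit 49, nat_lit 0, nat_lit 1, nat_lit 81, nat_lit 0, nat_lit 0, nat_lit 0, nat_lit 17, nat_lit 1, nat_lit 49, nat_lit 0, nat_lit 0, nat_lit 1, nat_lit 33, nat_lit 33, nat_lit 0, nat_lit 17, nat_lit 65, nat_lit 1, nat_lit 0, nat_lit 0, nat_lit 129, nat_lit 0, nat_lit 0, nat_lit 0, nat_lit 0, nat_lit 1, nat_lit 0, nat_lit 17, nat_lit 0, nat_lit 1, nat_lit 81, nat_lit 0, nat_lit 0, nat_lit 1, nat_lit 49, nat_lit 0, nat_lit 0, nat_lit 81, nat_lit 0, nat_lit 0, nat_lit 0, nat_lit 33, nat_lit 0, nat_lit 0, nat_lit 17, nat_lit 33, nat_lit 1, nat_lit 0, nat_lit 17, nat_lit 81, nat_lit 1, nat_lit 65, nat_lit 0, nat_lit 0, nat_lit 0, nat_lit 0, nat_lit 0, nat_lit 33, nat_lit 33, nat_lit 0, nat_lit 0, nat_lit 33, nat_lit 49, nat_lit 0, nat_lit 0, nat_lit 33, nat_lit 0, nat_lit 0, nat_lit 33, nat_lit 0, nat_lit 81, nat_lit 0, nat_lit 0, nat_lit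 17, nat_lit 0, nat_lit 0, nat_lit 1, nat_lit 33, nat_lit 65, nat_lit 0, nat_lit 17, nat_lit 0, nat_lit 1, nat_lit 33, nat_lit 97, nat_lit 0, nat_lit 0, nat_lit 0, nat_lit 1, nat_lit 0, nat_lit 0, nat_lit 33, nat_lit 0, nat_lit 65, nat_lit 0, nat_lit 0, nat_lit 0, nat_lit 17, nat_lit 33, nat_lit 0, nat_lit 49, nat_lit 0, nat_lit 0, nat_lit 0, nat_lit 49, nat_lit 1, nat_lit 81, nat_lit 0, nat_lit 0, nat_lit 0, nat_lit 17, nat_lit 0, nat_lit 1, nat_lit 33, nat_lit 0, nat_lit 17, nat_lit 65, nat_lit 0, nat_lit 1, nat_lit 0, nat_lit 17, nat_lit 49, nat_lit 49, nat_lit 0, nat_lit 0, nat_lit 17, nat_lit 33, nat_lit 65, nat_lit 0, nat_lit 0, nat_lit 0, nat_lit 0, nat_lit 0, nat_lit 0, nat_lit 65, nat_lit 0, nat_lit 0, nat_lit 33, nat_lit 0, nat_lit 17, nat_lit 81, nat_lit 0, nat_lit 0, nat_lit 0, nat_lit 1, nat_lit 1, nat_lit 49, nat_lit 1, nat_lit 49,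 nat_lit 0, nat_lit 17, nat_lit 49, nat_lit 1, nat_lit 0, nat_lit 129, nat_lit 0, nat_lit 0, nat_lit 0, nat_lit 1, nat_lit 1, nat_lit 1, nat_lit 0, nat_lit 81, nat_lit 0, nat_lit 0, nat_lit 0, nat_lit 0, nat_lit 0, nat_lit 1, nat_lit 65, nat_lit 1, nat_lit 0, nat_lit 0, nat_lit 1, nat_lit 49, nat_lit 65, nat_lit 0, nat_lit 0, nat_lit 0, nat_lit 17, nat_lit 1, nat_lit 65, nat_lit 0, nat_lit 17, nat_lit 0, nat_lit 17, nat_lit 1, nat_lit 97, nat_lit 0, nat_lit 0, nat_lit 0, nat_lit 0, nat_lit 33, nat_lit 33, nat_lit 0, nat_lit 17, nat_lit 0, nat_lit 65, nat_lit 0, nat_lit 0, nat_lit 17, nat_lit 1, nat_lit 49, nat_lit 0, nat_lit 97, nat_lit 0, nat_lit 0, nat_lit 0, nat_lit 0, nat_lit 0, nat_lit 1, nat_lit 0, nat_lit 17, nat_lit 49, nat_lit 0, nat_lit 0, nat_lit 65, nat_lit 0, nat_lit 17, nat_lit 0, nat_lit 17, nat_lit 65, nat_lit 0, nat_lit 0, nat_lit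 17, nat_lit 1, nat_lit 81, nat_lit 0, nat_lit 0, nat_lit 0, nat_lit 33, nat_lit 0, nat_lit 0, nat_lit 65, nat_lit 1, nat_lit 0, nat_lit 0, nat_lit 17, nat_lit 33, nat_lit 0, nat_lit 97, nat_lit 0, nat_lit 0, nat_lit 1, nat_lit 1, nat_lit 0, nat_lit 65, nat_lit 0, nat_lit 0, nat_lit 0, nat_lit 49, nat_lit 0, nat_lit 0, nat_lit 33, nat_lit 1, nat_lit 1, nat_lit 97, nat_lit 0, nat_lit 0, nat_lit 0, nat_lit 17, nat_lit 1, nat_lit 49, nat_lit 0, nat_lit 17, nat_lit 49, nat_lit 0, nat_lit 0, nat_lit 1, nat_lit 1, nat_lit 65, nat_lit 0, nat_lit 0, nat_lit 33, nat_lit 0, nat_lit 1, nat_lit 0, nat_lit 161, nat_lit 0, nat_lit 0, nat_lit 0, nat_lit 0, nat_lit 17, nat_lit 0, nat_lit 1, nat_lit 33, nat_lit 0, nat_lit 0, nat_lit 33, nat_lit 65, nat_lit 0, nat_lit 0, nat_lit 0, nat_lit 0, nat_lit 17, nat_lit 49, nat_lit 0, nat_lit 17, nat_lit 1, nat_lit 65, nat_lit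 1, nat_lit 0, nat_lit 1, nat_lit 0, nat_lit 49, nat_lit 1, nat_lit 0, nat_lit 113, nat_lit 0, nat_lit 1, nat_lit 0, nat_lit 0, nat_lit 0, nat_lit 81, nat_lit 0, nat_lit 0, nat_lit 1, nat_lit 0, nat_lit 1, nat_lit 81, nat_lit 0, nat_lit 17, nat_lit 0, nat_lit 17, nat_lit 1, nat_lit 113, nat_lit 0, nat_lit 0, nat_lit 0, nat_lit 0, nat_lit 1, nat_lit 33, nat_lit 1, nat_lit 49, nat_lit 1, nat_lit 1, nat_lit 0, nat_lit 81, nat_lit 0, nat_lit 0, nat_lit 0, nat_lit 0, nat_lit 17, nat_lit 33, nat_lit 33, nat_lit 33, nat_lit 0, nat_lit 17, nat_lit 0, nat_lit 0, nat_lit 177, nat_lit 0, nat_lit 0, nat_lit 0, nat_lit 0, nat_lit 0, nat_lit 0, nat_lit 0, nat_lit 0, nat_lit 0, nat_lit 0, nat_lit 17, nat_lit 1, nat_lit 65, nat_lit 0, nat_lit 0, nat_lit 0, nat_lit 81, nat_lit 0, nat_lit 0, nat_lit 1, nat_lit 33, nat_lit 33, nat_lit 0, nat_lit 17, nat_lit 65, nat_lit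 0, nat_lit 0, nat_lit 0, nat_lit 17, nat_lit 0, nat_lit 65, nat_lit 0, nat_lit 0, nat_lit 1, nat_lit 49, nat_lit 0, nat_lit 0, nat_lit 17, nat_lit 97, nat_lit 0, nat_lit 0, nat_lit 0, nat_lit 0, nat_lit 0, nat_lit 1, nat_lit 33, nat_lit 0, nat_lit 49, nat_lit 0, nat_lit 1, nat_lit 81, nat_lit 0, nat_lit 0, nat_lit 0, nat_lit 0, nat_lit 33, nat_lit 49, nat_lit 1, nat_lit 65, nat_lit 0, nat_lit 0, nat_lit 1, nat_lit 1, nat_lit 65, nat_lit 0, nat_lit 0, nat_lit 33, nat_lit 0, nat_lit 0, nat_lit 33, nat_lit 1, nat_lit 113, nat_lit 0, nat_lit 0, nat_lit 1, nat_lit 0, nat_lit 0, nat_lit 0, nat_lit 33, nat_lit 0, nat_lit 81, nat_lit 0, nat_lit 0, nat_lit 1, nat_lit 33, nat_lit 0, nat_lit 0, nat_lit 17, nat_lit 33, nat_lit 0, nat_lit 65, nat_lit 1, nat_lit 0, nat_lit 17, nat_lit 1, nat_lit 1, nat_lit 1, nat_lit 129, nat_lit 0, nat_lit 1, nat_lit 0, nat_lit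 0, nat_lit 0, nat_lit 49, nat_lit 1, nat_lit 65, nat_lit 0, nat_lit 0, nat_lit 0, nat_lit 17, nat_lit 0, nat_lit 49, nat_lit 1, nat_lit 49, nat_lit 81, nat_lit 0, nat_lit 0, nat_lit 1, nat_lit 1, nat_lit 0, nat_lit 0, nat_lit 0, nat_lit 17, nat_lit 33, nat_lit 33, nat_lit 0, nat_lit 81, nat_lit 0, nat_lit 0, nat_lit 0, nat_lit 0, nat_lit 17, nat_lit 1, nat_lit 49, nat_lit 0, nat_lit 49, nat_lit 0, nat_lit 0, nat_lit 17, nat_lit 0, nat_lit 17, nat_lit 0, nat_lit 17, nat_lit 97, nat_lit 0, nat_lit 0, nat_lit 0, nat_lit 33, nat_lit 0, nat_lit 1, nat_lit 65, nat_lit 0, nat_lit 0, nat_lit 97, nat_lit 0, nat_lit 0, nat_lit 1, nat_lit 0, nat_lit 0, nat_lit 1, nat_lit 33, nat_lit 0, nat_lit 49, nat_lit 49, nat_lit 0, nat_lit 1, nat_lit 0, nat_lit 17, nat_lit 49, nat_lit 0, nat_lit 0, nat_lit 17, nat_lit 0, nat_lit 97, nat_lit 0, nat_lit 1, nat_lit 0, nat_lit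 1, nat_lit 65, nat_lit 0, nat_lit 0, nat_lit 0, nat_lit 1, nat_lit 1, nat_lit 49, nat_lit 1, nat_lit 49, nat_lit 1, nat_lit 0, nat_lit 65, nat_lit 0, nat_lit 0, nat_lit 17, nat_lit 1, nat_lit 49, nat_lit 1, nat_lit 0, nat_lit 17, nat_lit 145, nat_lit 0, nat_lit 0, nat_lit 0, nat_lit 1, nat_lit 0, nat_lit 0, nat_lit 17, nat_lit 0, nat_lit 17, nat_lit 0, nat_lit 65, nat_lit 0, nat_lit 1, nat_lit 0, nat_lit 49, nat_lit 65, nat_lit 0, nat_lit 0, nat_lit 0, nat_lit 1, nat_lit 1, nat_lit 49, nat_lit 1, nat_lit 0, nat_lit 1, nat_lit 33, nat_lit 65, nat_lit 0, nat_lit 17, nat_lit 0, nat_lit 0, nat_lit 81, nat_lit 0, nat_lit 1, nat_lit 0, nat_lit 49, nat_lit 0, nat_lit 0, nat_lit 0, nat_lit 17, nat_lit 113, nat_lit 0, nat_lit 0, nat_lit 1, nat_lit 0, nat_lit 1, nat_lit 0, nat_lit 49, nat_lit 49, nat_lit 0, nat_lit 0, nat_lit 0, nat_lit 1, nat_lit 0, nat_lit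 65, nat_lit 1, nat_lit 0, nat_lit 0, nat_lit 33, nat_lit 65, nat_lit 0, nat_lit 0, nat_lit 33, nat_lit 1, nat_lit 81, nat_lit 0, nat_lit 1, nat_lit 0, nat_lit 0, nat_lit 1, nat_lit 0, nat_lit 65, nat_lit 1, nat_lit 1, nat_lit 81, nat_lit 0, nat_lit 0, nat_lit 0, nat_lit 1, nat_lit 65, nat_lit 0, nat_lit 0, nat_lit 1, nat_lit 49, nat_lit 0, nat_lit 1, nat_lit 1, nat_lit 145, nat_lit 0, nat_lit 0, nat_lit 0, nat_lit 0, nat_lit 0, nat_lit 0, nat_lit 0, nat_lit 65, nat_lit 0, nat_lit 0, nat_lit 17, nat_lit 0, nat_lit 49, nat_lit 0, nat_lit 0, nat_lit 17, nat_lit 33, nat_lit 1, nat_lit 0, nat_lit 97, nat_lit 0, nat_lit 1, nat_lit 65, nat_lit 0, nat_lit 0, nat_lit 0, nat_lit 17, nat_lit 0, nat_lit 1, nat_lit 0, nat_lit 81, nat_lit 1, nat_lit 0, nat_lit 0, nat_lit 17, nat_lit 33, nat_lit 0, nat_lit 17, nat_lit 81, nat_lit 0, nat_lit 0, nat_lit 0, nat_lit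 1, nat_lit 33, nat_lit 33, nat_lit 0, nat_lit 1, nat_lit 1, nat_lit 49, nat_lit 0, nat_lit 65, nat_lit 0, nat_lit 1, nat_lit 1, nat_lit 49, nat_lit 81, nat_lit 0, nat_lit 0, nat_lit 0, nat_lit 0, nat_lit 0, nat_lit 33, nat_lit 1, nat_lit 0, nat_lit 1, nat_lit 81, nat_lit 0, nat_lit 0, nat_lit 33, nat_lit 49, nat_lit 0, nat_lit 0, nat_lit 1, nat_lit 0, nat_lit 49, nat_lit 0, nat_lit 0, nat_lit 33, nat_lit 0, nat_lit 1, nat_lit 33, nat_lit 65, nat_lit 0, nat_lit 0, nat_lit 33, nat_lit 65, nat_lit 0, nat_lit 0, nat_lit 0, nat_lit 0, nat_lit 33, nat_lit 33, nat_lit 0, nat_lit 0, nat_lit 1, nat_lit 1, nat_lit 65, nat_lit 1, nat_lit 1, nat_lit 81, nat_lit 0, nat_lit 0, nat_lit 1, nat_lit 145, nat_lit 1, nat_lit 0, nat_lit 0, nat_lit 0, nat_lit 0, nat_lit 0, nat_lit 1, nat_lit 0, nat_lit 1, nat_lit 33, nat_lit 1, nat_lit 65, nat_lit 33, nat_lit 0, nat_lit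 1, nat_lit 1, nat_lit 0, nat_lit 17, nat_lit 97, nat_lit 0, nat_lit 1, nat_lit 33, nat_lit 0, nat_lit 0, nat_lit 1, nat_lit 0, nat_lit 65, nat_lit 65, nat_lit 0, nat_lit 0, nat_lit 0, nat_lit 0, nat_lit 0, nat_lit 1, nat_lit 49, nat_lit 33, nat_lit 0, nat_lit 0, nat_lit 17, nat_lit 65, nat_lit 1, nat_lit 0, nat_lit 0, nat_lit 1, nat_lit 1, nat_lit 49, nat_lit 0, nat_lit 49, nat_lit 0, nat_lit 1, nat_lit 97, nat_lit 0, nat_lit 1, nat_lit 1, nat_lit 1, nat_lit 65, nat_lit 0, nat_lit 0, nat_lit 0, nat_lit 1, nat_lit 0, nat_lit 17, nat_lit 49, nat_lit 0, nat_lit 0, nat_lit 33, nat_lit 0, nat_lit 81, nat_lit 0, nat_lit 17, nat_lit 0, nat_lit 113, nat_lit 0, nat_lit 0, nat_lit 0, nat_lit 0, nat_lit 0, nat_lit 1, nat_lit 33, nat_lit 0, nat_lit 0, nat_lit 65, nat_lit 0, nat_lit 0, nat_lit 1, nat_lit 1, nat_lit 65, nat_lit 49, nat_lit 0, nat_lit 0, nat_lit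 0, nat_lit 17, nat_lit 1, nat_lit 0, nat_lit 65, nat_lit 0, nat_lit 17, nat_lit 1, nat_lit 97, nat_lit 0, nat_lit 0, nat_lit 17, nat_lit 0, nat_lit 1, nat_lit 33, nat_lit 1, nat_lit 1, nat_lit 113, nat_lit 0, nat_lit 0, nat_lit 0, nat_lit 1, nat_lit 0, nat_lit 0, nat_lit 33, nat_lit 1, nat_lit 81, nat_lit 0, nat_lit 1, nat_lit 0, nat_lit 17, nat_lit 0, nat_lit 65, nat_lit 0, nat_lit 1, nat_lit 0, nat_lit 49, nat_lit 1, nat_lit 1, nat_lit 193, nat_lit 0, nat_lit 0, nat_lit 0, nat_lit 0, nat_lit 0, nat_lit 0, nat_lit 0, nat_lit 0, nat_lit 0, nat_lit 0, nat_lit 1, nat_lit 0, nat_lit 65, nat_lit 0, nat_lit 49, nat_lit 0, nat_lit 17, nat_lit 1, nat_lit 1, nat_lit 0, nat_lit 97, nat_lit 0, nat_lit 0, nat_lit 33, nat_lit 0, nat_lit 1, nat_lit 0, nat_lit 49, nat_lit 1, nat_lit 1, nat_lit 97, nat_lit 0, nat_lit 0, nat_lit 0, nat_lit 0, nat_lit 1, nat_lit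 33, nat_lit 1, nat_lit 49, nat_lit 1, nat_lit 65, nat_lit 0, nat_lit 1, nat_lit 0, nat_lit 1, nat_lit 65, nat_lit 0, nat_lit 0, nat_lit 17, nat_lit 33, nat_lit 1, nat_lit 0, nat_lit 113, nat_lit 0, nat_lit 0, nat_lit 0, nat_lit 0, nat_lit 17, nat_lit 0, nat_lit 65, nat_lit 0, nat_lit 0, nat_lit 33, nat_lit 0, nat_lit 0, nat_lit 1, nat_lit 33, nat_lit 33, nat_lit 1, nat_lit 81, nat_lit 0, nat_lit 0, nat_lit 0, nat_lit 0, nat_lit 17, nat_lit 33, nat_lit 0, nat_lit 0, nat_lit 1, nat_lit 33, nat_lit 0, nat_lit 81, nat_lit 33, nat_lit 0, nat_lit 0, nat_lit 0, nat_lit 33, nat_lit 1, nat_lit 1, nat_lit 65, nat_lit 1, nat_lit 1, nat_lit 0, nat_lit 1, nat_lit 145, nat_lit 0, nat_lit 0, nat_lit 0, nat_lit 0, nat_lit 0, nat_lit 0, nat_lit 1, nat_lit 33, nat_lit 1, nat_lit 49, nat_lit 1, nat_lit 0, nat_lit 65, nat_lit 0, nat_lit 1, nat_lit 33, nat_lit 49, nat_lit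 0, nat_lit 0, nat_lit 1, nat_lit 1, nat_lit 0, nat_lit 65, nat_lit 1, nat_lit 49, nat_lit 0, nat_lit 65, nat_lit 0, nat_lit 17, nat_lit 0, nat_lit 0, nat_lit 0, nat_lit 1, nat_lit 33, nat_lit 0, nat_lit 0, nat_lit 33, nat_lit 49, nat_lit 1, nat_lit 0, nat_lit 1, nat_lit 129, nat_lit 0, nat_lit 0, nat_lit 0, nat_lit 0, nat_lit 0, nat_lit 0, nat_lit 33, nat_lit 0, nat_lit 17, nat_lit 0, nat_lit 65, nat_lit 0, nat_lit 0, nat_lit 1, nat_lit 49, nat_lit 49, nat_lit 0, nat_lit 0, nat_lit 0, nat_lit 81, nat_lit 0, nat_lit 49, nat_lit 0, nat_lit 0, nat_lit 0, nat_lit 1, nat_lit 33, nat_lit 33, nat_lit 0, nat_lit 17, nat_lit 0, nat_lit 65, nat_lit 0, nat_lit 0, nat_lit 0, nat_lit 33, nat_lit 1, nat_lit 0, nat_lit 0, nat_lit 33, nat_lit 0, nat_lit 81, nat_lit 0, nat_lit 1, nat_lit 0, nat_lit 49, nat_lit 0, nat_lit 1, nat_lit 145, nat_lit 0, nat_lit 0, nat_lit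 0, nat_lit 0, nat_lit 0, nat_lit 0, nat_lit 0, nat_lit 0, nat_lit 49, nat_lit 33, nat_lit 0, nat_lit 17, nat_lit 0, nat_lit 65, nat_lit 0, nat_lit 0, nat_lit 0, nat_lit 0, nat_lit 1, nat_lit 49, nat_lit 33, nat_lit 0, nat_lit 0, nat_lit 33, nat_lit 49, nat_lit 0, nat_lit 1, nat_lit 0, nat_lit 49, nat_lit 1, nat_lit 81, nat_lit 0, nat_lit 0, nat_lit 17, nat_lit 1, nat_lit 0, nat_lit 1, nat_lit 33, nat_lit 1, nat_lit 81, nat_lit 0, nat_lit 0, nat_lit 0, nat_lit 17, nat_lit 0, nat_lit 17, nat_lit 1, nat_lit 65, nat_lit 1, nat_lit 0, nat_lit 65, nat_lit 0, nat_lit 1, nat_lit 33, nat_lit 0, nat_lit 0, nat_lit 33, nat_lit 97, nat_lit 0, nat_lit 0, nat_lit 0, nat_lit 0, nat_lit 1, nat_lit 33, nat_lit 0, nat_lit 17, nat_lit 49, nat_lit 0, nat_lit 0, nat_lit 17, nat_lit 33, nat_lit 0, nat_lit 17, nat_lit 0, nat_lit 81, nat_lit 0, nat_lit 0, nat_lit 1, nat_lit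 33, nat_lit 0, nat_lit 0, nat_lit 17, nat_lit 33, nat_lit 49, nat_lit 0, nat_lit 0, nat_lit 33, nat_lit 0, nat_lit 81, nat_lit 0, nat_lit 0, nat_lit 1, nat_lit 33, nat_lit 0, nat_lit 0, nat_lit 17, nat_lit 33, nat_lit 0, nat_lit 0, nat_lit 81, nat_lit 0, nat_lit 0, nat_lit 0, nat_lit 33, nat_lit 1, nat_lit 113, nat_lit 0, nat_lit 0, nat_lit 1, nat_lit 1, nat_lit 0, nat_lit 0, nat_lit 1, nat_lit 33, nat_lit 33, nat_lit 0, nat_lit 0, nat_lit 17, nat_lit 97, nat_lit 0, nat_lit 0, nat_lit 0, nat_lit 0, nat_lit 0, nat_lit 65, nat_lit 0, nat_lit 0, nat_lit 0, nat_lit 0, nat_lit 49, nat_lit 33, nat_lit 0, nat_lit 17, nat_lit 0, nat_lit 81, nat_lit 0, nat_lit 1, nat_lit 33, nat_lit 1, nat_lit 1, nat_lit 0, nat_lit 113, nat_lit 0, nat_lit 0, nat_lit 0, nat_lit 0, nat_lit 0, nat_lit 33, nat_lit 0, nat_lit 49, nat_lit 0, nat_lit 0, nat_lit 33, nat_lit 0, nat_lit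 0, nat_lit 17, nat_lit 81, nat_lit 1, nat_lit 1, nat_lit 1, nat_lit 81, nat_lit 0, nat_lit 0, nat_lit 0, nat_lit 1, nat_lit 0, nat_lit 49, nat_lit 0, nat_lit 0, nat_lit 33, nat_lit 0, nat_lit 65, nat_lit 0, nat_lit 0, nat_lit 1, nat_lit 33, nat_lit 0, nat_lit 49, nat_lit 0, nat_lit 0, nat_lit 33, nat_lit 65, nat_lit 0, nat_lit 1, nat_lit 0, nat_lit 0, nat_lit 33, nat_lit 145, nat_lit 0, nat_lit 0, nat_lit 0, nat_lit 1, nat_lit 0, nat_lit 0, nat_lit 0, nat_lit 0, nat_lit 0, nat_lit 33, nat_lit 1, nat_lit 49, nat_lit 1, nat_lit 0, nat_lit 0, nat_lit 81, nat_lit 0, nat_lit 0, nat_lit 0, nat_lit 0, nat_lit 49, nat_lit 0, nat_lit 49, nat_lit 0, nat_lit 65, nat_lit 0, nat_lit 0, nat_lit 0, nat_lit 33, nat_lit 0, nat_lit 1, nat_lit 33, nat_lit 49, nat_lit 0, nat_lit 1, nat_lit 33, nat_lit 1, nat_lit 97, nat_lit 0, nat_lit 0, nat_lit 0, nat_lit 0, nat_lit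 0, nat_lit 17, nat_lit 0, nat_lit 0, nat_lit 33, nat_lit 65, nat_lit 0, nat_lit 17, nat_lit 0, nat_lit 17, nat_lit 0, nat_lit 81, nat_lit 0, nat_lit 0, nat_lit 0, nat_lit 33, nat_lit 0, nat_lit 49, nat_lit 0, nat_lit 1, nat_lit 81, nat_lit 0, nat_lit 1, nat_lit 0, nat_lit 0, nat_lit 0, nat_lit 49, nat_lit 49, nat_lit 0, nat_lit 0, nat_lit 0, nat_lit 1, nat_lit 33, nat_lit 0, nat_lit 0, nat_lit 17, nat_lit 33, nat_lit 49, nat_lit 1, nat_lit 113, nat_lit 0, nat_lit 0, nat_lit 0, nat_lit 0, nat_lit 1, nat_lit 1, nat_lit 49, nat_lit 0, nat_lit 17, nat_lit 49, nat_lit 0, nat_lit 1, nat_lit 0, nat_lit 17, nat_lit 49, nat_lit 1, nat_lit 0, nat_lit 17, nat_lit 81, nat_lit 0, nat_lit 0, nat_lit 0, nat_lit 0, nat_lit 1, nat_lit 1, nat_lit 49, nat_lit 33, nat_lit 33, nat_lit 0, nat_lit 1, nat_lit 0, nat_lit 17, nat_lit 49, nat_lit 49, nat_lit 0, nat_lit 1,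 nat_lit 1, nat_lit 0, nat_lit 65, nat_lit 0, nat_lit 0, nat_lit 0, nat_lit 17, nat_lit 0, nat_lit 65, nat_lit 0, nat_lit 97, nat_lit 0, nat_lit 0, nat_lit 0, nat_lit 17, nat_lit 1, nat_lit 0, nat_lit 0, nat_lit 33, nat_lit 1, nat_lit 81, nat_lit 0, nat_lit 1, nat_lit 0, nat_lit 0, nat_lit 0, nat_lit 33, nat_lit 0, nat_lit 81, nat_lit 0, nat_lit 0, nat_lit 33, nat_lit 0, nat_lit 81, nat_lit 0, nat_lit 0, nat_lit 0, nat_lit 0, nat_lit 1, nat_lit 33, nat_lit 33, nat_lit 0, nat_lit 17, nat_lit 65, nat_lit 0, nat_lit 0, nat_lit 0, nat_lit 17, nat_lit 1, nat_lit 49, nat_lit 1, nat_lit 1, nat_lit 0, nat_lit 81, nat_lit 0, nat_lit 1, nat_lit 33, nat_lit 0, nat_lit 17, nat_lit 129, nat_lit 0, nat_lit 0, nat_lit 0, nat_lit 0, nat_lit 0, nat_lit 0, nat_lit 17, nat_lit 0, nat_lit 0, nat_lit 33, nat_lit 49, nat_lit 1, nat_lit 0, nat_lit 17, nat_lit 1, nat_lit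 81, nat_lit 0, nat_lit 0, nat_lit 0, nat_lit 1, nat_lit 33, nat_lit 1, nat_lit 0, nat_lit 81, nat_lit 49, nat_lit 0, nat_lit 0, nat_lit 0, nat_lit 17, nat_lit 33, nat_lit 33, nat_lit 0, nat_lit 0, nat_lit 0, nat_lit 1, nat_lit 33, nat_lit 0, nat_lit 49, nat_lit 1, nat_lit 49, nat_lit 0, nat_lit 1, nat_lit 0, nat_lit 49, nat_lit 0, nat_lit 0, nat_lit 17, nat_lit 33, nat_lit 0, nat_lit 17, nat_lit 113, nat_lit 0, nat_lit 0, nat_lit 0, nat_lit 0, nat_lit 0, nat_lit 17, nat_lit 33, nat_lit 0, nat_lit 0, nat_lit 0, nat_lit 49, nat_lit 1, nat_lit 65, nat_lit 0, nat_lit 0, nat_lit 1, nat_lit 33, nat_lit 33, nat_lit 49, nat_lit 1, nat_lit 1, nat_lit 0, nat_lit 0, nat_lit 33, nat_lit 1, nat_lit 97, nat_lit 0, nat_lit 0, nat_lit 0, nat_lit 0, nat_lit 0, nat_lit 17, nat_lit 49, nat_lit 0, nat_lit 0, nat_lit 1, nat_lit 81, nat_lit 0, nat_lit 17, nat_lit 0,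 nat_lit 1, nat_lit 33, nat_lit 113, nat_lit 0, nat_lit 0, nat_lit 0, nat_lit 0, nat_lit 0, nat_lit 17, nat_lit 1, nat_lit 0, nat_lit 0, nat_lit 81, nat_lit 0, nat_lit 0, nat_lit 1, nat_lit 49, nat_lit 0, nat_lit 0, nat_lit 17, nat_lit 81, nat_lit 0, nat_lit 0, nat_lit 0, nat_lit 0, nat_lit 49, nat_lit 0, nat_lit 1, nat_lit 1, nat_lit 49, nat_lit 49, nat_lit 0, nat_lit 0, nat_lit 17, nat_lit 0, nat_lit 49, nat_lit 1, nat_lit 81, nat_lit 0, nat_lit 1, nat_lit 0, nat_lit 17, nat_lit 49, nat_lit 0, nat_lit 1, nat_lit 1, nat_lit 49, nat_lit 0, nat_lit 0, nat_lit 1, nat_lit 49, nat_lit 0, nat_lit 1, nat_lit 33, nat_lit 1, nat_lit 113, nat_lit 0, nat_lit 0, nat_lit 0, nat_lit 0, nat_lit 1, nat_lit 0, nat_lit 65, nat_lit 33, nat_lit 0, nat_lit 0, nat_lit 0, nat_lit 0, nat_lit 17, nat_lit 1, nat_lit 65, nat_lit 0, nat_lit 1, nat_lit 33, nat_lit 49, nat_lit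 0, nat_lit 1, nat_lit 81, nat_lit 0, nat_lit 0, nat_lit 0, nat_lit 33, nat_lit 0, nat_lit 49, nat_lit 1, nat_lit 1, nat_lit 0, nat_lit 161, nat_lit 0, nat_lit 0, nat_lit 0, nat_lit 0, nat_lit 0, nat_lit 0, nat_lit 0, nat_lit 0, nat_lit 0, nat_lit 0, nat_lit 33, nat_lit 33, nat_lit 0, nat_lit 1, nat_lit 81, nat_lit 0, nat_lit 17, nat_lit 0, nat_lit 0, nat_lit 0, nat_lit 0, nat_lit 49, nat_lit 0, nat_lit 17, nat_lit 0, nat_lit 65, nat_lit 0, nat_lit 17, nat_lit 81, nat_lit 0, nat_lit 1, nat_lit 0, nat_lit 0, nat_lit 1, nat_lit 0, nat_lit 49, nat_lit 0, nat_lit 49, nat_lit 0, nat_lit 65, nat_lit 0, nat_lit 0, nat_lit 0, nat_lit 0, nat_lit 33, nat_lit 49, nat_lit 0, nat_lit 0, nat_lit 0, nat_lit 1, nat_lit 129, nat_lit 0, nat_lit 0, nat_lit 0, nat_lit 0, nat_lit 0, nat_lit 1, nat_lit 49, nat_lit 0, nat_lit 0, nat_lit 65, nat_lit 0, nat_lit 0, nat_lit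 1, nat_lit 33, nat_lit 33, nat_lit 49, nat_lit 0, nat_lit 0, nat_lit 1, nat_lit 1, nat_lit 49, nat_lit 33, nat_lit 0, nat_lit 0, nat_lit 0, nat_lit 1, nat_lit 49, nat_lit 1, nat_lit 0, nat_lit 65, nat_lit 0, nat_lit 81, nat_lit 0, nat_lit 1, nat_lit 0, nat_lit 0, nat_lit 0, nat_lit 49, nat_lit 0, nat_lit 1, nat_lit 33, nat_lit 0, nat_lit 81, nat_lit 0, nat_lit 0, nat_lit 33, nat_lit 81, nat_lit 0, nat_lit 0, nat_lit 0, nat_lit 0, nat_lit 17, nat_lit 0, nat_lit 0, nat_lit 17, nat_lit 0, nat_lit 17, nat_lit 49, nat_lit 1, nat_lit 65, nat_lit 1, nat_lit 0, nat_lit 0, nat_lit 33, nat_lit 65, nat_lit 0, nat_lit 0, nat_lit 0, nat_lit 0, nat_lit 0, nat_lit 33, nat_lit 1, nat_lit 49, nat_lit 0, nat_lit 17, nat_lit 65, nat_lit 0, nat_lit 0, nat_lit 0, nat_lit 17, nat_lit 0, nat_lit 49, nat_lit 0, nat_lit 17, nat_lit 49, nat_lit 0, nat_lit 1, nat_lit 33,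 nat_lit 0, nat_lit 17, nat_lit 0, nat_lit 113, nat_lit 0, nat_lit 0, nat_lit 0, nat_lit 0, nat_lit 1, nat_lit 1, nat_lit 49, nat_lit 0, nat_lit 0, nat_lit 33, nat_lit 0, nat_lit 17, nat_lit 65, nat_lit 0, nat_lit 0, nat_lit 0, nat_lit 17, nat_lit 33, nat_lit 33, nat_lit 0, nat_lit 65, nat_lit 0, nat_lit 1, nat_lit 0, nat_lit 0, nat_lit 65, nat_lit 0, nat_lit 17, nat_lit 1, nat_lit 1, nat_lit 97, nat_lit 0, nat_lit 0, nat_lit 0, nat_lit 17, nat_lit 0, nat_lit 1, nat_lit 33, nat_lit 0, nat_lit 65, nat_lit 0, nat_lit 0, nat_lit 1, nat_lit 33, nat_lit 33, nat_lit 0, nat_lit 17, nat_lit 65, nat_lit 0, nat_lit 0, nat_lit 1, nat_lit 1, nat_lit 1, nat_lit 81, nat_lit 0, nat_lit 0, nat_lit 17, nat_lit 0, nat_lit 145, nat_lit 0, nat_lit 0, nat_lit 0, nat_lit 0, nat_lit 0, nat_lit 0, nat_lit 0, nat_lit 17, nat_lit 33, nat_lit 1, nat_lit 49, nat_lit 0, nat_lit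 17, nat_lit 0, nat_lit 17, nat_lit 65, nat_lit 1, nat_lit 0, nat_lit 0, nat_lit 1, nat_lit 49, nat_lit 0, nat_lit 81, nat_lit 0, nat_lit 0, nat_lit 0, nat_lit 0, nat_lit 33, nat_lit 49, nat_lit 0, nat_lit 0, nat_lit 1, nat_lit 0, nat_lit 49, nat_lit 1, nat_lit 49, nat_lit 0, nat_lit 81, nat_lit 0, nat_lit 0, nat_lit 0, nat_lit 0, nat_lit 65, nat_lit 0, nat_lit 1, nat_lit 0, nat_lit 1, nat_lit 0, nat_lit 17, nat_lit 0, nat_lit 65, nat_lit 0, nat_lit 65, nat_lit 0, nat_lit 0, nat_lit 0, nat_lit 0, nat_lit 1, nat_lit 65, nat_lit 1, nat_lit 49, nat_lit 0, nat_lit 1, nat_lit 1, nat_lit 49, nat_lit 0, nat_lit 17, nat_lit 1, nat_lit 129, nat_lit 0, nat_lit 0, nat_lit 0, nat_lit 1, nat_lit 33, nat_lit 0, nat_lit 0, nat_lit 0, nat_lit 1, nat_lit 33, nat_lit 0, nat_lit 0, nat_lit 33, nat_lit 49, nat_lit 0, nat_lit 49, nat_lit 49, nat_lit 0, nat_lit 17, nat_lit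 0, nat_lit 1, nat_lit 0, nat_lit 1, nat_lit 33, nat_lit 49, nat_lit 0, nat_lit 0, nat_lit 17, nat_lit 33, nat_lit 0, nat_lit 0, nat_lit 113, nat_lit 0, nat_lit 0, nat_lit 0, nat_lit 0, nat_lit 1, nat_lit 33, nat_lit 1, nat_lit 1, nat_lit 65, nat_lit 0, nat_lit 17, nat_lit 0, nat_lit 1, nat_lit 33, nat_lit 0, nat_lit 0, nat_lit 97, nat_lit 0, nat_lit 17, nat_lit 0, nat_lit 0, nat_lit 33, nat_lit 0, nat_lit 1, nat_lit 97, nat_lit 0, nat_lit 0, nat_lit 17, nat_lit 0, nat_lit 0, nat_lit 17, nat_lit 33, nat_lit 0, nat_lit 1, nat_lit 33, nat_lit 145, nat_lit 0, nat_lit 0, nat_lit 0, nat_lit 0, nat_lit 0, nat_lit 0, nat_lit 1, nat_lit 0, nat_lit 17, nat_lit 49, nat_lit 0, nat_lit 0, nat_lit 1, nat_lit 49, nat_lit 0, nat_lit 81, nat_lit 0, nat_lit 0, nat_lit 0, nat_lit 0, nat_lit 1, nat_lit 33, nat_lit 33, nat_lit 0, nat_lit 1, nat_lit 65, nat_lit 0, nat_lit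 1, nat_lit 0, nat_lit 49, nat_lit 49, nat_lit 0, nat_lit 0, nat_lit 0, nat_lit 17, nat_lit 33, nat_lit 1, nat_lit 1, nat_lit 0, nat_lit 81, nat_lit 0, nat_lit 1, nat_lit 1, nat_lit 113, nat_lit 0, nat_lit 0, nat_lit 0, nat_lit 17, nat_lit 0, nat_lit 1, nat_lit 0, nat_lit 0, nat_lit 65, nat_lit 1, nat_lit 0, nat_lit 81, nat_lit 0, nat_lit 0, nat_lit 33, nat_lit 0, nat_lit 0, nat_lit 0, nat_lit 17, nat_lit 33, nat_lit 33, nat_lit 65, nat_lit 0, nat_lit 0, nat_lit 1, nat_lit 1, nat_lit 65, nat_lit 0, nat_lit 0, nat_lit 0, nat_lit 1, nat_lit 49, nat_lit 0, nat_lit 1, nat_lit 1, nat_lit 81, nat_lit 81, nat_lit 0, nat_lit 0, nat_lit 0, nat_lit 1, nat_lit 0, nat_lit 1, nat_lit 0, nat_lit 0, nat_lit 33, nat_lit 49, nat_lit 0, nat_lit 1, nat_lit 1, nat_lit 49, nat_lit 0, nat_lit 0, nat_lit 33, nat_lit 81, nat_lit 0, nat_lit 0, nat_lit 1, nat_lit 33, nat_lit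 0, nat_lit 1, nat_lit 33, nat_lit 0, nat_lit 17, nat_lit 1, nat_lit 113, nat_lit 0, nat_lit 0, nat_lit 0, nat_lit 17, nat_lit 1, nat_lit 49, nat_lit 0, nat_lit 0, nat_lit 17, nat_lit 33, nat_lit 1, nat_lit 1, nat_lit 81, nat_lit 0, nat_lit 0, nat_lit 17, nat_lit 1, nat_lit 0, nat_lit 113, nat_lit 0, nat_lit 0, nat_lit 0, nat_lit 0, nat_lit 0, nat_lit 1, nat_lit 65, nat_lit 1, nat_lit 49, nat_lit 0, nat_lit 0, nat_lit 0, nat_lit 49, nat_lit 0, nat_lit 1, nat_lit 33, nat_lit 65, nat_lit 0, nat_lit 0, nat_lit 0, nat_lit 1, nat_lit 0, nat_lit 17, nat_lit 49, nat_lit 0, nat_lit 49, nat_lit 0, nat_lit 0, nat_lit 17, nat_lit 33, nat_lit 49, nat_lit 0, nat_lit 0, nat_lit 1, nat_lit 0, nat_lit 0, nat_lit 65, nat_lit 0, nat_lit 1, nat_lit 33, nat_lit 129, nat_lit 0, nat_lit 0, nat_lit 0, nat_lit 0, nat_lit 0, nat_lit 0, nat_lit 0, nat_lit 0, nat_lit 65, nat_lit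 0, nat_lit 0, nat_lit 0, nat_lit 33, nat_lit 0, nat_lit 0, nat_lit 97, nat_lit 0, nat_lit 1, nat_lit 1, nat_lit 0, nat_lit 65, nat_lit 0, nat_lit 1, nat_lit 0, nat_lit 17, nat_lit 1, nat_lit 65, nat_lit 1, nat_lit 1, nat_lit 0, nat_lit 113, nat_lit 1, nat_lit 0, nat_lit 0, nat_lit 0, nat_lit 33, nat_lit 0, nat_lit 49, nat_lit 65, nat_lit 0, nat_lit 0, nat_lit 0, nat_lit 0, nat_lit 17, nat_lit 0, nat_lit 17, nat_lit 1, nat_lit 65, nat_lit 0, nat_lit 0, nat_lit 33, nat_lit 0, nat_lit 65, nat_lit 0, nat_lit 17, nat_lit 1, nat_lit 0, nat_lit 0, nat_lit 17, nat_lit 33, nat_lit 0, nat_lit 97, nat_lit 0, nat_lit 0, nat_lit 1, nat_lit 1, nat_lit 65, nat_lit 0, nat_lit 0, nat_lit 1, nat_lit 1, nat_lit 65, nat_lit 0, nat_lit 0, nat_lit 0, nat_lit 33, nat_lit 1, nat_lit 49, nat_lit 97, nat_lit 0, nat_lit 0, nat_lit 0, nat_lit 0, nat_lit 1, nat_lit 0, nat_lit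 65, nat_lit 0, nat_lit 0, nat_lit 1, nat_lit 49, nat_lit 49, nat_lit 0, nat_lit 0, nat_lit 0, nat_lit 0, nat_lit 0, nat_lit 49, nat_lit 0, nat_lit 1, nat_lit 33, nat_lit 0, nat_lit 65, nat_lit 0, nat_lit 0, nat_lit 1, nat_lit 49, nat_lit 49, nat_lit 0, nat_lit 0, nat_lit 1, nat_lit 33, nat_lit 0, nat_lit 49, nat_lit 0, nat_lit 1, nat_lit 0, nat_lit 17, nat_lit 0, nat_lit 17, nat_lit 65, nat_lit 81, nat_lit 0, nat_lit 0, nat_lit 0, nat_lit 0, nat_lit 0, nat_lit 33, nat_lit 0, nat_lit 49, nat_lit 33, nat_lit 0, nat_lit 0, nat_lit 1, nat_lit 33, nat_lit 33, nat_lit 0, nat_lit 0, nat_lit 1, nat_lit 49, nat_lit 0, nat_lit 0, nat_lit 97, nat_lit 0, nat_lit 0, nat_lit 0, nat_lit 0, nat_lit 1, nat_lit 33, nat_lit 1, nat_lit 65, nat_lit 0, nat_lit 0, nat_lit 1, nat_lit 33, nat_lit 65, nat_lit 0, nat_lit 1, nat_lit 1, nat_lit 0]), (1206, [18147, 1839388,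 14919680], [nat_lit 0, nat_lit 0, nat_lit 0, nat_lit 0, nat_lit 0, nat_lit 0, nat_lit 0, nat_lit 0, nat_lit 1, nat_lit 0, nat_lit 49, nat_lit 0, nat_lit 17, nat_lit 49, nat_lit 0, nat_lit 17, nat_lit 0, nat_lit 0, nat_lit 0, nat_lit 0, nat_lit 49, nat_lit 0, nat_lit 49, nat_lit 0, nat_lit 17, nat_lit 97, nat_lit 0, nat_lit 0, nat_lit 0, nat_lit 0, nat_lit 1, nat_lit 33, nat_lit 1, nat_lit 1, nat_lit 65, nat_lit 0, nat_lit 0, nat_lit 17, nat_lit 33, nat_lit 0, nat_lit 0, nat_lit 81, nat_lit 0, nat_lit 0, nat_lit 0, nat_lit 33, nat_lit 0, nat_lit 49, nat_lit 0, nat_lit 17, nat_lit 1, nat_lit 81, nat_lit 0, nat_lit 0, nat_lit 0, nat_lit 0, nat_lit 17, nat_lit 1, nat_lit 49, nat_lit 49, nat_lit 0, nat_lit 0, nat_lit 0, nat_lit 0, nat_lit 33, nat_lit 1, nat_lit 65, nat_lit 0, nat_lit 0, nat_lit 33, nat_lit 0, nat_lit 0, nat_lit 17, nat_lit 33, nat_lit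 113, nat_lit 0, nat_lit 0, nat_lit 0, nat_lit 0, nat_lit 0, nat_lit 0, nat_lit 1, nat_lit 49, nat_lit 1, nat_lit 49, nat_lit 0, nat_lit 17, nat_lit 49, nat_lit 0, nat_lit 0, nat_lit 0, nat_lit 33, nat_lit 0, nat_lit 49, nat_lit 0, nat_lit 65, nat_lit 0, nat_lit 0, nat_lit 17, nat_lit 1, nat_lit 0, nat_lit 65, nat_lit 1, nat_lit 1, nat_lit 0, nat_lit 1, nat_lit 33, nat_lit 97, nat_lit 0, nat_lit 0, nat_lit 0, nat_lit 0, nat_lit 0, nat_lit 49, nat_lit 0, nat_lit 17, nat_lit 1, nat_lit 0, nat_lit 81, nat_lit 0, nat_lit 0, nat_lit 1, nat_lit 49, nat_lit 0, nat_lit 0, nat_lit 33, nat_lit 1, nat_lit 81, nat_lit 0, nat_lit 0, nat_lit 0, nat_lit 17, nat_lit 49, nat_lit 0, nat_lit 0, nat_lit 1, nat_lit 1, nat_lit 49, nat_lit 0, nat_lit 0, nat_lit 65, nat_lit 1, nat_lit 1, nat_lit 0, nat_lit 17, nat_lit 145, nat_lit 0, nat_lit 0, nat_lit 0, nat_lit 17, nat_lit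 0, nat_lit 1, nat_lit 1, nat_lit 1, nat_lit 1, nat_lit 81, nat_lit 0, nat_lit 0, nat_lit 1, nat_lit 1, nat_lit 49, nat_lit 1, nat_lit 0, nat_lit 113, nat_lit 0, nat_lit 0, nat_lit 0, nat_lit 0, nat_lit 33, nat_lit 33, nat_lit 1, nat_lit 1, nat_lit 0, nat_lit 0, nat_lit 97, nat_lit 0, nat_lit 1, nat_lit 0, nat_lit 0, nat_lit 0, nat_lit 17, nat_lit 33, nat_lit 33, nat_lit 0, nat_lit 17, nat_lit 0, nat_lit 81, nat_lit 0, nat_lit 0, nat_lit 17, nat_lit 0, nat_lit 49, nat_lit 1, nat_lit 1, nat_lit 0, nat_lit 129, nat_lit 0, nat_lit 0, nat_lit 0, nat_lit 1, nat_lit 1, nat_lit 0, nat_lit 65, nat_lit 0, nat_lit 1, nat_lit 0, nat_lit 17, nat_lit 49, nat_lit 1, nat_lit 0, nat_lit 81, nat_lit 0, nat_lit 0, nat_lit 0, nat_lit 0, nat_lit 0, nat_lit 65, nat_lit 0, nat_lit 0, nat_lit 33, nat_lit 49, nat_lit 1, nat_lit 1, nat_lit 1, nat_lit 97, nat_lit 0, nat_lit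 17, nat_lit 0, nat_lit 0, nat_lit 0, nat_lit 0, nat_lit 0, nat_lit 65, nat_lit 0, nat_lit 1, nat_lit 33, nat_lit 0, nat_lit 65, nat_lit 1, nat_lit 113, nat_lit 0, nat_lit 0, nat_lit 0, nat_lit 0, nat_lit 0, nat_lit 0, nat_lit 0, nat_lit 1, nat_lit 49, nat_lit 0, nat_lit 0, nat_lit 65, nat_lit 0, nat_lit 0, nat_lit 0, nat_lit 17, nat_lit 49, nat_lit 0, nat_lit 0, nat_lit 0, nat_lit 97, nat_lit 0, nat_lit 17, nat_lit 0, nat_lit 0, nat_lit 17, nat_lit 33, nat_lit 0, nat_lit 17, nat_lit 81, nat_lit 0, nat_lit 0, nat_lit 0, nat_lit 1, nat_lit 0, nat_lit 49, nat_lit 0, nat_lit 49, nat_lit 1, nat_lit 1, nat_lit 0, nat_lit 17, nat_lit 81, nat_lit 0, nat_lit 0, nat_lit 0, nat_lit 0, nat_lit 49, nat_lit 0, nat_lit 1, nat_lit 65, nat_lit 1, nat_lit 0, nat_lit 0, nat_lit 17, nat_lit 33, nat_lit 97, nat_lit 0, nat_lit 0, nat_lit 0, nat_lit 0, nat_lit 0, nat_lit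 49, nat_lit 0, nat_lit 17, nat_lit 0, nat_lit 17, nat_lit 0, nat_lit 0, nat_lit 33, nat_lit 81, nat_lit 0, nat_lit 0, nat_lit 1, nat_lit 1, nat_lit 49, nat_lit 0, nat_lit 0, nat_lit 33, nat_lit 1, nat_lit 1, nat_lit 81, nat_lit 1, nat_lit 1, nat_lit 81, nat_lit 0, nat_lit 0, nat_lit 1, nat_lit 0, nat_lit 1, nat_lit 33, nat_lit 65, nat_lit 0, nat_lit 0, nat_lit 0, nat_lit 33, nat_lit 0, nat_lit 17, nat_lit 1, nat_lit 65, nat_lit 0, nat_lit 0, nat_lit 33, nat_lit 0, nat_lit 0, nat_lit 1, nat_lit 33, nat_lit 0, nat_lit 17, nat_lit 49, nat_lit 113, nat_lit 0, nat_lit 0, nat_lit 0, nat_lit 1, nat_lit 0, nat_lit 1, nat_lit 0, nat_lit 49, nat_lit 0, nat_lit 0, nat_lit 17, nat_lit 33, nat_lit 0, nat_lit 0, nat_lit 97, nat_lit 1, nat_lit 0, nat_lit 0, nat_lit 33, nat_lit 0, nat_lit 1, nat_lit 97, nat_lit 0, nat_lit 0, nat_lit 0, nat_lit 1, nat_lit 33, nat_lit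 1, nat_lit 49, nat_lit 0, nat_lit 1, nat_lit 65, nat_lit 1, nat_lit 1, nat_lit 0, nat_lit 17, nat_lit 1, nat_lit 113, nat_lit 0, nat_lit 0, nat_lit 0, nat_lit 0, nat_lit 0, nat_lit 1, nat_lit 33, nat_lit 33, nat_lit 0, nat_lit 0, nat_lit 17, nat_lit 33, nat_lit 0, nat_lit 97, nat_lit 0, nat_lit 0, nat_lit 0, nat_lit 0, nat_lit 17, nat_lit 1, nat_lit 0, nat_lit 81, nat_lit 0, nat_lit 0, nat_lit 17, nat_lit 33, nat_lit 1, nat_lit 0, nat_lit 0, nat_lit 33, nat_lit 81, nat_lit 0, nat_lit 1, nat_lit 0, nat_lit 17, nat_lit 49, nat_lit 0, nat_lit 0, nat_lit 0, nat_lit 17, nat_lit 161, nat_lit 0, nat_lit 0, nat_lit 0, nat_lit 0, nat_lit 1, nat_lit 0, nat_lit 0, nat_lit 1, nat_lit 1, nat_lit 49, nat_lit 0, nat_lit 49, nat_lit 0, nat_lit 0, nat_lit 1, nat_lit 97, nat_lit 0, nat_lit 1, nat_lit 0, nat_lit 49, nat_lit 0, nat_lit 0, nat_lit 0, nat_lit 0, nat_lit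 1, nat_lit 33, nat_lit 49, nat_lit 33, nat_lit 0, nat_lit 0, nat_lit 0, nat_lit 1, nat_lit 49, nat_lit 33, nat_lit 0, nat_lit 0, nat_lit 0, nat_lit 33, nat_lit 113, nat_lit 0, nat_lit 0, nat_lit 0, nat_lit 1, nat_lit 0, nat_lit 17, nat_lit 49, nat_lit 0, nat_lit 0, nat_lit 17, nat_lit 0, nat_lit 49, nat_lit 1, nat_lit 65, nat_lit 0, nat_lit 0, nat_lit 0, nat_lit 17, nat_lit 0, nat_lit 49, nat_lit 1, nat_lit 1, nat_lit 129, nat_lit 0, nat_lit 0, nat_lit 0, nat_lit 0, nat_lit 0, nat_lit 1, nat_lit 49, nat_lit 0, nat_lit 0, nat_lit 0, nat_lit 17, nat_lit 33, nat_lit 1, nat_lit 1, nat_lit 97, nat_lit 0, nat_lit 0, nat_lit 0, nat_lit 17, nat_lit 33, nat_lit 0, nat_lit 1, nat_lit 1, nat_lit 49, nat_lit 1, nat_lit 65, nat_lit 0, nat_lit 1, nat_lit 0, nat_lit 49, nat_lit 1, nat_lit 0, nat_lit 17, nat_lit 97, nat_lit 0, nat_lit 0, nat_lit 0, nat_lit 0, nat_lit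 33, nat_lit 0, nat_lit 17, nat_lit 1, nat_lit 65, nat_lit 0, nat_lit 0, nat_lit 17, nat_lit 0, nat_lit 49, nat_lit 49, nat_lit 0, nat_lit 0, nat_lit 0, nat_lit 17, nat_lit 1, nat_lit 0, nat_lit 17, nat_lit 65, nat_lit 0, nat_lit 49, nat_lit 0, nat_lit 0, nat_lit 0, nat_lit 145, nat_lit 0, nat_lit 0, nat_lit 0, nat_lit 0, nat_lit 0, nat_lit 0, nat_lit 0, nat_lit 1, nat_lit 33, nat_lit 0, nat_lit 17, nat_lit 1, nat_lit 65, nat_lit 0, nat_lit 0, nat_lit 33, nat_lit 0, nat_lit 81, nat_lit 0, nat_lit 0, nat_lit 0, nat_lit 1, nat_lit 33, nat_lit 49, nat_lit 0, nat_lit 0, nat_lit 81, nat_lit 0, nat_lit 1, nat_lit 0, nat_lit 1, nat_lit 1, nat_lit 81, nat_lit 0, nat_lit 0, nat_lit 0, nat_lit 0, nat_lit 49, nat_lit 0, nat_lit 49, nat_lit 0, nat_lit 1, nat_lit 1, nat_lit 49, nat_lit 0, nat_lit 17, nat_lit 97, nat_lit 0, nat_lit 0, nat_lit 0, nat_lit 0, nat_lit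 1, nat_lit 33, nat_lit 33, nat_lit 1, nat_lit 1, nat_lit 65, nat_lit 0, nat_lit 0, nat_lit 0, nat_lit 17, nat_lit 49, nat_lit 1, nat_lit 97, nat_lit 0, nat_lit 0, nat_lit 0, nat_lit 0, nat_lit 0, nat_lit 0, nat_lit 1, nat_lit 65, nat_lit 0, nat_lit 0, nat_lit 1, nat_lit 33, nat_lit 0, nat_lit 0, nat_lit 65, nat_lit 0, nat_lit 1, nat_lit 81, nat_lit 0, nat_lit 0, nat_lit 0, nat_lit 0, nat_lit 17, nat_lit 49, nat_lit 0, nat_lit 17, nat_lit 49, nat_lit 0, nat_lit 0, nat_lit 1, nat_lit 33, nat_lit 33, nat_lit 0, nat_lit 0, nat_lit 97, nat_lit 0, nat_lit 1, nat_lit 1, nat_lit 0, nat_lit 0, nat_lit 81, nat_lit 1, nat_lit 0, nat_lit 0, nat_lit 33, nat_lit 1, nat_lit 0, nat_lit 113, nat_lit 0, nat_lit 0, nat_lit 0, nat_lit 0, nat_lit 33, nat_lit 0, nat_lit 17, nat_lit 0, nat_lit 17, nat_lit 65, nat_lit 0, nat_lit 0, nat_lit 1, nat_lit 1, nat_lit 65, nat_lit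 0, nat_lit 65, nat_lit 0, nat_lit 0, nat_lit 0, nat_lit 0, nat_lit 17, nat_lit 33, nat_lit 1, nat_lit 1, nat_lit 65, nat_lit 0, nat_lit 0, nat_lit 0, nat_lit 17, nat_lit 33, nat_lit 0, nat_lit 49, nat_lit 0, nat_lit 17, nat_lit 65, nat_lit 0, nat_lit 0, nat_lit 0, nat_lit 33, nat_lit 1, nat_lit 49, nat_lit 0, nat_lit 0, nat_lit 17, nat_lit 0, nat_lit 49, nat_lit 0, nat_lit 1, nat_lit 1, nat_lit 49, nat_lit 1])]


theorem bS_tabs_sub : ∀ l ∈ bS_tabs, l ∈ slpTabs bS_prog m24InitTabs := by decide +kernel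

theorem bS_q0_incr : incrB bS_q0 = true := by decide +kernel

theorem bS_fix : bS_tabs.all (fun l => fixB l bS_q0) = true := by decide +kernel

theorem bS_good : GoodTabs (baseStab bS_q0) bS_tabs :=
  goodTabs_baseStab bS_q0_incr
    ((goodTabs_slp bS_prog _ (goodTabs_init M24 shift_mem projInv_mem cubeTwist_mem)).subset
      bS_tabs_sub) bS_fix

theorem bS_oct_vals : (bS_oct.map (·.1)).Nodup := by decide +kernel

theorem bS_oct_reps : ∀ x ∈ bS_oct, x.2.1 ∈ octData := by decide +kernel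

theorem bS_oct_cover : coverCheck bS_q0 (bitmaps bS_tabs keyO bS_oct) keyO octData = true := by
  decide +kernel

theorem bS_oct_sum : bS_oct.map (fun x => (x.1, x.2.2.length + 1)) = [(20004, 15), (1050, 384), (402, 360)] := by decide +kernel

theorem bS_trio_vals : (bS_trio.map (·.1)).Nodup := by decide +kernel

theorem bS_trio_reps : ∀ x ∈ bS_trio, x.2.1 ∈ trioData := by decide +kernel

theorem bS_trio_cover : coverCheck bS_q0 (bitmaps bS_tabs keyT bS_trio) keyT trioData = true := by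
  decide +kernel

theorem bS_trio_sum : bS_trio.map (fun x => (x.1, x.2.2.length + 1)) = [(20808, 180), (60012, 15), (2502, 2880), (1206, 720)] := by decide +kernel

end Cfsg.Agent.Helper92
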