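import Cfsg.Agent.Lib.Helper92.OrbitFams

/-!
# Orbit certificates: the facts extracted for family targets and for octad targets
-/

set_option autoImplicit false

namespace Cfsg.Agent.Helper92
open Cfsg Cfsg.Agent.Helper7
open scoped Pointwise

/-- Facts about the classes of a coded family relative to a coded base family. -/
theorem fam_target_facts (Φ : Fam) {q0 : List ℕ} (hq0 : incrB q0 = true) {tabs : List (List ℕ)}
    (hT : GoodTabs (baseStab q0) tabs) {classes : List (ℕ × List ℕ × List ℕ)}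
    (hvals : (classes.map (·.1)).Nodup) (hreps : ∀ x ∈ classes, x.2.1 ∈ Φ.data)
    (hcov : coverCheck q0 (bitmaps tabs Φ.key classes) Φ.key Φ.data = true) :
    (∀ g ∈ M24, ∀ x ∈ Φ.F, g • x ∈ Φ.F) ∧
    (∀ g ∈ M24, g • dec q0 = dec q0 → ∀ x ∈ Φ.F, patF (dec q0) (g • x) = patF (dec q0) x) ∧
    (∀ x ∈ Φ.F, ∀ y ∈ Φ.F, patF (dec q0) x = patF (dec q0) y →
      ∃ g ∈ M24, g • dec q0 = dec q0 ∧ g • x = y) ∧
    (∀ X ∈ Φ.F, ∃ p ∈ classes.map (fun x => (x.1, x.2.2.length + 1)),
      p.1 = patF (dec q0) X) ∧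
    (∀ p ∈ classes.map (fun x => (x.1, x.2.2.length + 1)),
      {X | X ∈ Φ.F ∧ patF (dec q0) X = p.1}.ncard ≤ p.2) := by
  obtain ⟨h1, h2, h3⟩ := orbit_cert Φ hq0 hT hvals hreps hcov
  refine ⟨Φ.smul_mem, ?_, h2, ?_, ?_⟩
  · intro g _ hg x _
    exact patF_of_stab hg x
  · intro X hX
    obtain ⟨x, hx, hv⟩ := h1 X hX
    exact ⟨(x.1, x.2.2.length + 1), List.mem_map.mpr ⟨x, hx, rfl⟩, hv⟩
  · intro p hp
    obtain ⟨x, hx, rfl⟩ := List.mem_map.mp hp
    exact h3 x hx

theorem singleton_mem_octFams {o : Finset GolayPt} (ho : o ∈ octads) :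
    ({o} : Finset (Finset GolayPt)) ∈ octFams := ⟨o, ho, rfl⟩

/-- Facts about the classes of octads relative to a coded base family. -/
theorem oct_target_facts {q0 : List ℕ} (hq0 : incrB q0 = true) {tabs : List (List ℕ)}
    (hT : GoodTabs (baseStab q0) tabs) {classes : List (ℕ × List ℕ × List ℕ)}
    (hvals : (classes.map (·.1)).Nodup) (hreps : ∀ x ∈ classes, x.2.1 ∈ octData)
    (hcov : coverCheck q0 (bitmaps tabs keyO classes) keyO octData = true) :
    (∀ g ∈ M24, ∀ o ∈ octads, g • o ∈ octads) ∧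
    (∀ g ∈ M24, g • dec q0 = dec q0 → ∀ o ∈ octads,
      patF (dec q0) {g • o} = patF (dec q0) {o}) ∧
    (∀ o ∈ octads, ∀ o' ∈ octads, patF (dec q0) {o} = patF (dec q0) {o'} →
      ∃ g ∈ M24, g • dec q0 = dec q0 ∧ g • o = o') ∧
    (∀ o ∈ octads, ∃ p ∈ classes.map (fun x => (x.1, x.2.2.length + 1)),
      p.1 = patF (dec q0) {o}) ∧
    (∀ p ∈ classes.map (fun x => (x.1, x.2.2.length + 1)),
      {o | o ∈ octads ∧ patF (dec q0) {o} = p.1}.ncard ≤ p.2) := by
  obtain ⟨-, f2, f3, f4, f5⟩ := fam_target_facts famOct hq0 hT hvals hreps hcov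
  refine ⟨fun g hg o ho => smul_mem_octads hg ho, ?_, ?_, ?_, ?_⟩
  · intro g hgM hg o ho
    have := f2 g hgM hg {o} (singleton_mem_octFams ho)
    rwa [Finset.smul_finset_singleton] at this
  · intro o ho o' ho' h
    obtain ⟨g, hgM, hg, hgo⟩ := f3 {o} (singleton_mem_octFams ho) {o'} (singleton_mem_octFams ho') h
    rw [Finset.smul_finset_singleton, Finset.singleton_inj] at hgo
    exact ⟨g, hgM, hg, hgo⟩
  · intro o ho
    exact f4 {o} (singleton_mem_octFams ho)
  · intro p hp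
    refine le_trans ?_ (f5 p hp)
    have himg : (fun o : Finset GolayPt => ({o} : Finset (Finset GolayPt))) ''
        {o | o ∈ octads ∧ patF (dec q0) {o} = p.1} ⊆
        {X | X ∈ famOct.F ∧ patF (dec q0) X = p.1} := by
      rintro X ⟨o, ⟨ho, hv⟩, rfl⟩
      exact ⟨singleton_mem_octFams ho, hv⟩
    calc {o | o ∈ octads ∧ patF (dec q0) {o} = p.1}.ncard
        = ((fun o : Finset GolayPt => ({o} : Finset (Finset GolayPt))) ''
            {o | o ∈ octads ∧ patF (dec q0) {o} = p.1}).ncard :=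
          (Set.ncard_image_of_injective _ Finset.singleton_injective).symm
      _ ≤ _ := Set.ncard_le_ncard himg (Set.toFinite _)

end Cfsg.Agent.Helper92
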