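import Cfsg.Agent.Lib.Helper92.OrbM24
import Cfsg.Agent.Lib.Helper92.OrbitFacts

/-!
# `M24` is transitive on sextets and on trios
-/

set_option autoImplicit false

namespace Cfsg.Agent.Helper92
open Cfsg Cfsg.Agent.Helper7
open scoped Pointwise

theorem patF_empty (X : Finset (Finset GolayPt)) : patF (dec []) X = 0 := by
  simp [patF, dec]

theorem sextets_trans {S S' : Finset (Finset GolayPt)} (hS : S ∈ sextets) (hS' : S' ∈ sextets) :
    ∃ g ∈ M24, g • S = S' := by
  obtain ⟨-, -, f3, -, -⟩ := fam_target_facts famSext bM_q0_incr bM_good bM_sext_vals bM_sext_reps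
    bM_sext_cover
  obtain ⟨g, hg, -, h⟩ := f3 S hS S' hS' (by
    have : bM_q0 = [] := rfl
    rw [this, patF_empty, patF_empty])
  exact ⟨g, hg, h⟩

theorem trios_trans {T T' : Finset (Finset GolayPt)} (hT : T ∈ trios) (hT' : T' ∈ trios) :
    ∃ g ∈ M24, g • T = T' := by
  obtain ⟨-, -, f3, -, -⟩ := fam_target_facts famTrio bM_q0_incr bM_good bM_trio_vals bM_trio_reps
    bM_trio_cover
  obtain ⟨g, hg, -, h⟩ := f3 T hT T' hT' (by
    have : bM_q0 = [] := rfl
    rw [this, patF_empty, patF_empty])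
  exact ⟨g, hg, h⟩

end Cfsg.Agent.Helper92
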