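import Cfsg.Agent.Lib.Helper92.OrbitFams

/-!
# Orbit certificate data (generated)
-/

set_option autoImplicit false
set_option maxRecDepth 1000000

namespace Cfsg.Agent.Helper92
open Cfsg Cfsg.Agent.Helper7
open scoped Pointwise

def bT_q0 : List ℕ := [5279, 1009728, 15762208]

def bT_prog : List (ℕ × ℕ) := [(0, 0), (0, 5), (0, 6), (0, 7), (0, 8), (0, 9), (0, 10), (0, 11), (0, 12), (0, 13), (0, 14), (0, 15), (0, 16), (0, 17), (0, 18), (0, 19), (0, 20), (0, 21), (0, 22), (0, 23), (0, 1), (1, 3), (2, 25), (0, 27), (2, 27), (2, 26), (2, 28), (0, 29), (2, 3), (2, 30), (0, 31), (0, 32), (2, 34), (0, 35), (0, 38), (0, 33), (2, 36), (24, 4), (42, 4), (43, 3), (44, 3), (0, 40), (0, 41), (0, 46), (1, 39), (2, 47), (2, 48), (33, 3), (52, 3), (53, 3), (54, 4), (55, 3), (2, 51), (56, 57), (45, 3), (59, 1), (60, 4), (0, 50), (61, 62), (37, 3), (64, 4), (65, 3), (66, 3),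 (2, 49), (67, 68)]

def bT_tabs : List (List ℕ) := [[10, 0, 12, 1, 7, 5, 14, 3, 21, 8, 4, 17, 2, 18, 19, 20, 6, 16, 13, 11, 22, 9, 15, 23], [3, 7, 1, 0, 12, 17, 8, 4, 18, 14, 2, 21, 10, 5, 15, 16, 23, 20, 22, 9, 13, 19, 11, 6], [15, 23, 22, 9, 8, 1, 17, 5, 0, 10, 21, 19, 20, 14, 6, 4, 11, 13, 16, 18, 2, 3, 12, 7]]

def bT_oct : List (ℕ × List ℕ × List ℕ) := [(100000002, [5279], [nat_lit 2, nat_lit 1]), (10200, [10558], [nat_lit 0, nat_lit 0, nat_lit 0, nat_lit 0, nat_lit 0, nat_lit 1, nat_lit 18, nat_lit 33, nat_lit 0, nat_lit 1, nat_lit 18, nat_lit 33, nat_lit 2, nat_lit 2, nat_lit 50, nat_lit 0, nat_lit 0, nat_lit 33, nat_lit 18, nat_lit 50, nat_lit 0, nat_lit 0, nat_lit 17, nat_lit 1, nat_lit 18, nat_lit 34, nat_lit 33, nat_lit 1, nat_lit 34, nat_lit 1, nat_lit 18, nat_lit 1, nat_lit 81, nat_lit 0, nat_lit 0, nat_lit 2, nat_lit 0, nat_lit 65, nat_lit 0,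 nat_lit 0, nat_lit 18, nat_lit 33, nat_lit 0, nat_lit 17, nat_lit 2, nat_lit 66, nat_lit 0, nat_lit 2, nat_lit 1, nat_lit 18, nat_lit 49, nat_lit 0, nat_lit 17, nat_lit 18, nat_lit 0, nat_lit 50, nat_lit 2, nat_lit 0, nat_lit 82, nat_lit 0, nat_lit 0, nat_lit 1, nat_lit 33, nat_lit 0, nat_lit 17, nat_lit 2, nat_lit 34, nat_lit 34, nat_lit 33, nat_lit 0, nat_lit 1, nat_lit 1, nat_lit 49, nat_lit 1, nat_lit 18, nat_lit 34, nat_lit 0, nat_lit 0, nat_lit 66, nat_lit 0, nat_lit 0, nat_lit 33, nat_lit 0, nat_lit 0, nat_lit 18, nat_lit 50, nat_lit 1, nat_lit 81, nat_lit 0, nat_lit 0, nat_lit 1, nat_lit 18, nat_lit 33, nat_lit 0, nat_lit 17, nat_lit 1, nat_lit 1, nat_lit 50, nat_lit 1, nat_lit 50, nat_lit 0, nat_lit 1, nat_lit 33, nat_lit 18, nat_lit 2, nat_lit 65, nat_lit 1, nat_lit 1, nat_lit 0, nat_lit 18, nat_lit 34, nat_lit 34, nat_lit 1, nat_lit 18, nat_lit 2,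 nat_lit 66, nat_lit 0, nat_lit 0, nat_lit 0, nat_lit 17, nat_lit 1, nat_lit 49, nat_lit 1, nat_lit 2, nat_lit 50, nat_lit 2, nat_lit 50, nat_lit 1, nat_lit 0, nat_lit 17, nat_lit 82, nat_lit 0, nat_lit 0, nat_lit 0, nat_lit 1, nat_lit 18, nat_lit 33, nat_lit 0, nat_lit 17, nat_lit 18, nat_lit 2, nat_lit 50, nat_lit 1, nat_lit 49, nat_lit 0, nat_lit 18, nat_lit 0, nat_lit 17, nat_lit 18, nat_lit 50, nat_lit 0, nat_lit 17, nat_lit 1, nat_lit 18, nat_lit 65, nat_lit 0, nat_lit 0, nat_lit 2, nat_lit 1, nat_lit 18, nat_lit 49, nat_lit 0, nat_lit 0, nat_lit 33, nat_lit 34, nat_lit 0, nat_lit 1, nat_lit 33, nat_lit 49, nat_lit 0, nat_lit 0, nat_lit 17, nat_lit 33, nat_lit 18, nat_lit 2, nat_lit 50, nat_lit 2, nat_lit 0, nat_lit 17, nat_lit 18, nat_lit 66, nat_lit 1, nat_lit 0, nat_lit 0, nat_lit 17, nat_lit 18, nat_lit 33, nat_lit 0, nat_lit 17, nat_lit 34, nat_lit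 0, nat_lit 1, nat_lit 33, nat_lit 50, nat_lit 0, nat_lit 17, nat_lit 0, nat_lit 97, nat_lit 0, nat_lit 1, nat_lit 2, nat_lit 0, nat_lit 0, nat_lit 18, nat_lit 66, nat_lit 0, nat_lit 0, nat_lit 0, nat_lit 33, nat_lit 0, nat_lit 17, nat_lit 18, nat_lit 34, nat_lit 0, nat_lit 1, nat_lit 65, nat_lit 2, nat_lit 0, nat_lit 2, nat_lit 33, nat_lit 18, nat_lit 50, nat_lit 0, nat_lit 0, nat_lit 33, nat_lit 1, nat_lit 18, nat_lit 34, nat_lit 1, nat_lit 0, nat_lit 97, nat_lit 1, nat_lit 0, nat_lit 1, nat_lit 18, nat_lit 0, nat_lit 49, nat_lit 0, nat_lit 0, nat_lit 1, nat_lit 18, nat_lit 49, nat_lit 0, nat_lit 17, nat_lit 1, nat_lit 18, nat_lit 34, nat_lit 34, nat_lit 34, nat_lit 1, nat_lit 2, nat_lit 66, nat_lit 0, nat_lit 2, nat_lit 1, nat_lit 18, nat_lit 49, nat_lit 2, nat_lit 34, nat_lit 0, nat_lit 2, nat_lit 33, nat_lit 0, nat_lit 17, nat_lit 18, nat_lit 34, nat_lit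 66, nat_lit 1, nat_lit 0, nat_lit 0, nat_lit 2, nat_lit 49, nat_lit 1, nat_lit 1, nat_lit 34, nat_lit 34, nat_lit 2, nat_lit 50, nat_lit 0, nat_lit 0, nat_lit 2, nat_lit 33, nat_lit 34, nat_lit 1, nat_lit 1, nat_lit 18, nat_lit 98, nat_lit 0, nat_lit 0, nat_lit 0, nat_lit 1, nat_lit 1, nat_lit 18, nat_lit 34, nat_lit 0, nat_lit 49, nat_lit 2, nat_lit 1, nat_lit 65, nat_lit 0, nat_lit 0, nat_lit 1, nat_lit 18, nat_lit 34, nat_lit 2, nat_lit 2, nat_lit 65, nat_lit 1, nat_lit 18, nat_lit 0, nat_lit 17, nat_lit 50, nat_lit 0, nat_lit 1, nat_lit 33, nat_lit 0, nat_lit 66, nat_lit 0, nat_lit 0, nat_lit 0, nat_lit 18, nat_lit 33, nat_lit 1, nat_lit 18, nat_lit 49, nat_lit 0, nat_lit 0, nat_lit 0, nat_lit 18, nat_lit 49, nat_lit 2, nat_lit 50, nat_lit 0, nat_lit 1, nat_lit 33, nat_lit 18, nat_lit 65, nat_lit 0, nat_lit 0, nat_lit 0, nat_lit 17, nat_lit 2, nat_lit 34,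 nat_lit 1, nat_lit 49, nat_lit 0, nat_lit 17, nat_lit 0, nat_lit 18, nat_lit 50, nat_lit 0, nat_lit 17, nat_lit 1, nat_lit 65, nat_lit 0, nat_lit 0, nat_lit 17, nat_lit 18, nat_lit 33, nat_lit 0, nat_lit 2, nat_lit 34, nat_lit 2, nat_lit 1, nat_lit 66, nat_lit 1, nat_lit 50, nat_lit 0, nat_lit 0, nat_lit 66, nat_lit 0, nat_lit 0, nat_lit 1, nat_lit 33, nat_lit 1, nat_lit 2, nat_lit 65, nat_lit 0, nat_lit 1, nat_lit 1, nat_lit 49, nat_lit 0, nat_lit 2, nat_lit 33, nat_lit 50, nat_lit 0, nat_lit 0, nat_lit 1, nat_lit 33, nat_lit 2, nat_lit 0, nat_lit 50, nat_lit 0, nat_lit 17, nat_lit 18, nat_lit 49, nat_lit 0, nat_lit 17, nat_lit 18, nat_lit 0, nat_lit 17, nat_lit 114, nat_lit 0, nat_lit 0, nat_lit 0, nat_lit 0, nat_lit 1, nat_lit 0, nat_lit 17, nat_lit 34, nat_lit 33, nat_lit 0, nat_lit 1, nat_lit 33, nat_lit 18, nat_lit 34, nat_lit 33, nat_lit 0, nat_lit 0,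 nat_lit 0, nat_lit 34, nat_lit 33, nat_lit 2, nat_lit 0, nat_lit 50, nat_lit 0, nat_lit 0, nat_lit 17, nat_lit 33, nat_lit 1, nat_lit 66, nat_lit 0, nat_lit 1, nat_lit 0, nat_lit 34, nat_lit 34, nat_lit 1, nat_lit 0, nat_lit 34, nat_lit 65, nat_lit 0, nat_lit 0, nat_lit 1, nat_lit 33, nat_lit 0, nat_lit 17, nat_lit 34, nat_lit 1, nat_lit 1, nat_lit 34, nat_lit 50, nat_lit 0, nat_lit 0, nat_lit 0, nat_lit 17, nat_lit 49, nat_lit 0, nat_lit 17, nat_lit 0, nat_lit 18, nat_lit 34, nat_lit 2, nat_lit 50, nat_lit 50, nat_lit 0, nat_lit 0, nat_lit 0, nat_lit 17, nat_lit 2, nat_lit 34, nat_lit 0, nat_lit 50, nat_lit 1, nat_lit 49, nat_lit 0, nat_lit 0, nat_lit 0, nat_lit 34, nat_lit 33, nat_lit 0, nat_lit 17, nat_lit 0, nat_lit 50, nat_lit 0, nat_lit 1, nat_lit 34, nat_lit 2, nat_lit 66, nat_lit 0, nat_lit 1, nat_lit 33, nat_lit 0, nat_lit 2, nat_lit 33, nat_lit 18,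 nat_lit 1, nat_lit 1, nat_lit 66, nat_lit 0, nat_lit 0, nat_lit 18, nat_lit 33, nat_lit 81, nat_lit 0, nat_lit 0, nat_lit 0, nat_lit 0, nat_lit 1, nat_lit 33, nat_lit 2, nat_lit 34, nat_lit 33, nat_lit 0, nat_lit 17, nat_lit 2, nat_lit 65, nat_lit 0, nat_lit 1, nat_lit 0, nat_lit 34, nat_lit 33, nat_lit 0, nat_lit 17, nat_lit 34, nat_lit 0, nat_lit 0, nat_lit 18, nat_lit 34, nat_lit 50, nat_lit 0, nat_lit 18, nat_lit 0, nat_lit 0, nat_lit 33, nat_lit 65, nat_lit 0, nat_lit 0, nat_lit 1, nat_lit 1, nat_lit 49, nat_lit 0, nat_lit 17, nat_lit 18, nat_lit 34, nat_lit 0, nat_lit 17, nat_lit 0, nat_lit 65, nat_lit 0, nat_lit 18, nat_lit 1, nat_lit 1, nat_lit 66, nat_lit 0, nat_lit 1, nat_lit 18, nat_lit 33, nat_lit 0, nat_lit 17, nat_lit 0, nat_lit 34, nat_lit 0, nat_lit 82, nat_lit 0, nat_lit 0, nat_lit 0, nat_lit 18, nat_lit 2, nat_lit 49, nat_lit 0, nat_lit 34,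 nat_lit 0, nat_lit 1, nat_lit 34, nat_lit 2, nat_lit 65, nat_lit 0, nat_lit 1, nat_lit 33, nat_lit 1, nat_lit 18, nat_lit 1, nat_lit 50, nat_lit 0, nat_lit 18, nat_lit 2, nat_lit 66, nat_lit 0, nat_lit 0, nat_lit 17, nat_lit 18, nat_lit 33, nat_lit 0, nat_lit 34, nat_lit 66, nat_lit 0, nat_lit 0, nat_lit 1, nat_lit 0, nat_lit 0, nat_lit 17, nat_lit 34, nat_lit 0, nat_lit 18, nat_lit 50, nat_lit 1, nat_lit 1, nat_lit 65, nat_lit 0, nat_lit 1, nat_lit 18, nat_lit 1, nat_lit 18, nat_lit 49, nat_lit 1, nat_lit 0, nat_lit 34, nat_lit 34, nat_lit 34, nat_lit 0, nat_lit 0, nat_lit 17, nat_lit 0, nat_lit 17, nat_lit 49, nat_lit 0, nat_lit 17, nat_lit 34, nat_lit 1, nat_lit 18, nat_lit 1, nat_lit 81, nat_lit 1, nat_lit 0, nat_lit 1, nat_lit 18, nat_lit 2, nat_lit 49, nat_lit 1, nat_lit 2, nat_lit 50, nat_lit 2, nat_lit 0, nat_lit 66, nat_lit 0, nat_lit 0, nat_lit 17,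 nat_lit 33, nat_lit 1, nat_lit 34, nat_lit 2, nat_lit 66, nat_lit 0, nat_lit 1, nat_lit 0, nat_lit 17, nat_lit 34, nat_lit 0, nat_lit 0, nat_lit 65, nat_lit 0, nat_lit 0, nat_lit 1, nat_lit 34, nat_lit 33, nat_lit 0, nat_lit 1, nat_lit 33, nat_lit 0, nat_lit 50, nat_lit 2]), (20001, [90318], [nat_lit 0, nat_lit 0, nat_lit 0, nat_lit 1, nat_lit 0, nat_lit 49, nat_lit 0, nat_lit 2, nat_lit 33, nat_lit 0, nat_lit 0, nat_lit 33, nat_lit 50, nat_lit 0, nat_lit 0, nat_lit 0, nat_lit 33, nat_lit 18, nat_lit 33, nat_lit 1, nat_lit 65, nat_lit 0, nat_lit 0, nat_lit 1, nat_lit 18, nat_lit 1, nat_lit 49, nat_lit 2, nat_lit 34, nat_lit 33, nat_lit 1, nat_lit 34, nat_lit 1, nat_lit 0, nat_lit 66, nat_lit 0, nat_lit 1, nat_lit 18, nat_lit 34, nat_lit 1, nat_lit 0, nat_lit 18, nat_lit 34, nat_lit 0, nat_lit 81, nat_lit 0, nat_lit 0, nat_lit 2, nat_lit 33, nat_lit 0, nat_lit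 18, nat_lit 2, nat_lit 65, nat_lit 1, nat_lit 0, nat_lit 17, nat_lit 18, nat_lit 1, nat_lit 18, nat_lit 50, nat_lit 0, nat_lit 2, nat_lit 82, nat_lit 0, nat_lit 0, nat_lit 1, nat_lit 1, nat_lit 34, nat_lit 34, nat_lit 0, nat_lit 17, nat_lit 49, nat_lit 0, nat_lit 17, nat_lit 0, nat_lit 17, nat_lit 50, nat_lit 1, nat_lit 1, nat_lit 1, nat_lit 34, nat_lit 34, nat_lit 1])]

def bT_sext : List (ℕ × List ℕ × List ℕ) := [(20808, [15, 5264, 622848, 3416064, 4196928, 8536096], [nat_lit 0, nat_lit 0, nat_lit 1, nat_lit 0, nat_lit 0, nat_lit 18, nat_lit 33, nat_lit 0, nat_lit 2, nat_lit 34, nat_lit 50, nat_lit 0, nat_lit 1, nat_lit 18, nat_lit 33, nat_lit 1, nat_lit 65, nat_lit 0, nat_lit 0, nat_lit 17, nat_lit 2, nat_lit 34, nat_lit 0, nat_lit 49, nat_lit 2, nat_lit 1, nat_lit 18, nat_lit 66, nat_lit 0, nat_lit 1, nat_lit 0, nat_lit 34, nat_lit 1, nat_lit 18, nat_lit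 1, nat_lit 65, nat_lit 0, nat_lit 2, nat_lit 33, nat_lit 1, nat_lit 2, nat_lit 97, nat_lit 0, nat_lit 0, nat_lit 17, nat_lit 2, nat_lit 34, nat_lit 1, nat_lit 0, nat_lit 65, nat_lit 0, nat_lit 2, nat_lit 33, nat_lit 1, nat_lit 1, nat_lit 34, nat_lit 34, nat_lit 1, nat_lit 50, nat_lit 0, nat_lit 1, nat_lit 2, nat_lit 49, nat_lit 2, nat_lit 34, nat_lit 2, nat_lit 1, nat_lit 82, nat_lit 0, nat_lit 1, nat_lit 0, nat_lit 0, nat_lit 34, nat_lit 34, nat_lit 2, nat_lit 1, nat_lit 65, nat_lit 0, nat_lit 17, nat_lit 1, nat_lit 34, nat_lit 1, nat_lit 0]), (60012, [29, 5250, 346112, 663616, 5275680, 10486528], [nat_lit 1, nat_lit 0, nat_lit 34, nat_lit 0, nat_lit 0, nat_lit 34]), (2502, [39, 45120, 786960, 1116288, 6292736, 8536072], [nat_lit 0, nat_lit 0, nat_lit 0, nat_lit 0, nat_lit 0, nat_lit 1, nat_lit 2, nat_lit 2, nat_lit 65, nat_lit 0, nat_lit 2, nat_lit 1, nat_lit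 50, nat_lit 0, nat_lit 2, nat_lit 34, nat_lit 50, nat_lit 0, nat_lit 1, nat_lit 2, nat_lit 49, nat_lit 18, nat_lit 1, nat_lit 0, nat_lit 81, nat_lit 0, nat_lit 0, nat_lit 0, nat_lit 17, nat_lit 2, nat_lit 49, nat_lit 0, nat_lit 17, nat_lit 34, nat_lit 1, nat_lit 18, nat_lit 2, nat_lit 65, nat_lit 0, nat_lit 1, nat_lit 2, nat_lit 34, nat_lit 0, nat_lit 18, nat_lit 2, nat_lit 65, nat_lit 2, nat_lit 34, nat_lit 0, nat_lit 0, nat_lit 17, nat_lit 34, nat_lit 50, nat_lit 0, nat_lit 0, nat_lit 17, nat_lit 18, nat_lit 1, nat_lit 49, nat_lit 0, nat_lit 17, nat_lit 18, nat_lit 0, nat_lit 50, nat_lit 1, nat_lit 0, nat_lit 82, nat_lit 0, nat_lit 2, nat_lit 2, nat_lit 49, nat_lit 1, nat_lit 0, nat_lit 34, nat_lit 1, nat_lit 18, nat_lit 50, nat_lit 0, nat_lit 0, nat_lit 18, nat_lit 1, nat_lit 49, nat_lit 1, nat_lit 0, nat_lit 17, nat_lit 50, nat_lit 0, nat_lit 17, nat_lit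 81, nat_lit 0, nat_lit 0, nat_lit 0, nat_lit 0, nat_lit 18, nat_lit 0, nat_lit 18, nat_lit 50, nat_lit 0, nat_lit 17, nat_lit 18, nat_lit 0, nat_lit 66, nat_lit 0, nat_lit 1, nat_lit 33, nat_lit 0, nat_lit 18, nat_lit 0, nat_lit 81, nat_lit 0, nat_lit 1, nat_lit 0, nat_lit 0, nat_lit 34, nat_lit 34, nat_lit 0, nat_lit 0, nat_lit 34, nat_lit 0, nat_lit 18, nat_lit 65, nat_lit 0, nat_lit 0, nat_lit 17, nat_lit 18, nat_lit 33, nat_lit 2, nat_lit 1, nat_lit 50, nat_lit 0, nat_lit 17, nat_lit 50, nat_lit 0, nat_lit 0, nat_lit 2, nat_lit 33, nat_lit 2, nat_lit 49, nat_lit 0, nat_lit 0, nat_lit 34, nat_lit 34, nat_lit 50, nat_lit 0, nat_lit 0, nat_lit 0, nat_lit 17, nat_lit 33, nat_lit 1, nat_lit 2, nat_lit 65, nat_lit 0, nat_lit 0, nat_lit 18, nat_lit 33, nat_lit 0, nat_lit 2, nat_lit 33, nat_lit 1, nat_lit 34, nat_lit 34, nat_lit 0, nat_lit 2, nat_lit 34, nat_lit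 50, nat_lit 0, nat_lit 0, nat_lit 17, nat_lit 18, nat_lit 33, nat_lit 1, nat_lit 34, nat_lit 66, nat_lit 0, nat_lit 0, nat_lit 0, nat_lit 1, nat_lit 0, nat_lit 18, nat_lit 49, nat_lit 0, nat_lit 18, nat_lit 1, nat_lit 50, nat_lit 1, nat_lit 0, nat_lit 34, nat_lit 49, nat_lit 0, nat_lit 0, nat_lit 33, nat_lit 0, nat_lit 2, nat_lit 33, nat_lit 1, nat_lit 18, nat_lit 34, nat_lit 0, nat_lit 50, nat_lit 0, nat_lit 1, nat_lit 33, nat_lit 2, nat_lit 34, nat_lit 1, nat_lit 66, nat_lit 0, nat_lit 49, nat_lit 0, nat_lit 1, nat_lit 0, nat_lit 17, nat_lit 34, nat_lit 0, nat_lit 0, nat_lit 33, nat_lit 49, nat_lit 0, nat_lit 1, nat_lit 18, nat_lit 34, nat_lit 0, nat_lit 1, nat_lit 33, nat_lit 2, nat_lit 66, nat_lit 1, nat_lit 1, nat_lit 34, nat_lit 0, nat_lit 2, nat_lit 34, nat_lit 1, nat_lit 82, nat_lit 0, nat_lit 0, nat_lit 1, nat_lit 18, nat_lit 33, nat_lit 1, nat_lit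 1, nat_lit 34, nat_lit 49, nat_lit 1, nat_lit 34, nat_lit 0, nat_lit 2, nat_lit 33, nat_lit 0, nat_lit 17, nat_lit 0, nat_lit 17, nat_lit 34, nat_lit 97, nat_lit 0, nat_lit 0, nat_lit 1, nat_lit 0, nat_lit 1, nat_lit 33, nat_lit 1, nat_lit 34, nat_lit 34, nat_lit 0, nat_lit 1, nat_lit 2, nat_lit 34, nat_lit 33, nat_lit 18, nat_lit 1, nat_lit 65, nat_lit 1, nat_lit 0, nat_lit 0, nat_lit 18, nat_lit 0, nat_lit 49, nat_lit 1, nat_lit 18, nat_lit 34, nat_lit 0, nat_lit 0, nat_lit 17, nat_lit 33, nat_lit 0, nat_lit 18, nat_lit 66, nat_lit 0, nat_lit 17, nat_lit 1, nat_lit 18, nat_lit 34, nat_lit 0, nat_lit 17, nat_lit 18, nat_lit 66, nat_lit 0, nat_lit 0, nat_lit 17, nat_lit 1, nat_lit 18, nat_lit 0, nat_lit 18, nat_lit 50, nat_lit 0, nat_lit 18, nat_lit 49, nat_lit 0, nat_lit 0, nat_lit 33, nat_lit 2, nat_lit 34, nat_lit 2, nat_lit 0, nat_lit 66, nat_lit 0, nat_lit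 0, nat_lit 18, nat_lit 2, nat_lit 49, nat_lit 1, nat_lit 18, nat_lit 2, nat_lit 50, nat_lit 0, nat_lit 1, nat_lit 33, nat_lit 81, nat_lit 0, nat_lit 0, nat_lit 0, nat_lit 1, nat_lit 18, nat_lit 0, nat_lit 18, nat_lit 49, nat_lit 1, nat_lit 1, nat_lit 34, nat_lit 49, nat_lit 1, nat_lit 18, nat_lit 0, nat_lit 1, nat_lit 66, nat_lit 0, nat_lit 0, nat_lit 2, nat_lit 33, nat_lit 33, nat_lit 1, nat_lit 18, nat_lit 1, nat_lit 50, nat_lit 0, nat_lit 17, nat_lit 65, nat_lit 0, nat_lit 0, nat_lit 2, nat_lit 0, nat_lit 18, nat_lit 49, nat_lit 0, nat_lit 49, nat_lit 1, nat_lit 0, nat_lit 17, nat_lit 34, nat_lit 1, nat_lit 50, nat_lit 0, nat_lit 17, nat_lit 1, nat_lit 34, nat_lit 2, nat_lit 1, nat_lit 82, nat_lit 0, nat_lit 0, nat_lit 0, nat_lit 33, nat_lit 0, nat_lit 18, nat_lit 34, nat_lit 2, nat_lit 49, nat_lit 0, nat_lit 0, nat_lit 18, nat_lit 1, nat_lit 49, nat_lit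 1, nat_lit 1, nat_lit 18, nat_lit 34, nat_lit 34, nat_lit 0, nat_lit 50, nat_lit 0, nat_lit 0, nat_lit 17, nat_lit 33, nat_lit 0, nat_lit 17, nat_lit 18, nat_lit 34, nat_lit 0, nat_lit 82, nat_lit 0, nat_lit 1, nat_lit 0, nat_lit 1, nat_lit 0, nat_lit 34, nat_lit 1, nat_lit 18, nat_lit 49, nat_lit 34, nat_lit 1, nat_lit 0, nat_lit 34, nat_lit 1, nat_lit 65, nat_lit 1, nat_lit 0, nat_lit 1, nat_lit 1, nat_lit 34, nat_lit 33, nat_lit 1, nat_lit 0, nat_lit 34, nat_lit 0, nat_lit 2, nat_lit 66, nat_lit 0, nat_lit 0, nat_lit 33, nat_lit 18, nat_lit 0, nat_lit 66, nat_lit 0, nat_lit 0, nat_lit 17, nat_lit 18, nat_lit 34, nat_lit 0, nat_lit 1, nat_lit 34, nat_lit 66, nat_lit 0, nat_lit 0, nat_lit 1, nat_lit 18, nat_lit 33, nat_lit 1, nat_lit 34, nat_lit 1, nat_lit 49, nat_lit 0, nat_lit 0, nat_lit 33, nat_lit 1, nat_lit 34, nat_lit 1, nat_lit 18, nat_lit 50, nat_lit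 0, nat_lit 1, nat_lit 33, nat_lit 0, nat_lit 17, nat_lit 98, nat_lit 0, nat_lit 0, nat_lit 0, nat_lit 0, nat_lit 2, nat_lit 33, nat_lit 1, nat_lit 34, nat_lit 2, nat_lit 1, nat_lit 18, nat_lit 65, nat_lit 0, nat_lit 2, nat_lit 33, nat_lit 1, nat_lit 18, nat_lit 34, nat_lit 0, nat_lit 50, nat_lit 0, nat_lit 1, nat_lit 33, nat_lit 1, nat_lit 18, nat_lit 2, nat_lit 50, nat_lit 0, nat_lit 18, nat_lit 0, nat_lit 81, nat_lit 0, nat_lit 0, nat_lit 2, nat_lit 34, nat_lit 33, nat_lit 0, nat_lit 17, nat_lit 1, nat_lit 18, nat_lit 50, nat_lit 0, nat_lit 2, nat_lit 33, nat_lit 1, nat_lit 18, nat_lit 34, nat_lit 50, nat_lit 0, nat_lit 0, nat_lit 17, nat_lit 2, nat_lit 34, nat_lit 1, nat_lit 18, nat_lit 49, nat_lit 0, nat_lit 18, nat_lit 1, nat_lit 50, nat_lit 0, nat_lit 1, nat_lit 33, nat_lit 1, nat_lit 0, nat_lit 34, nat_lit 34, nat_lit 0, nat_lit 17, nat_lit 81, nat_lit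 0, nat_lit 0, nat_lit 0, nat_lit 0, nat_lit 18, nat_lit 33, nat_lit 2, nat_lit 34, nat_lit 1, nat_lit 18, nat_lit 49, nat_lit 0, nat_lit 17, nat_lit 34, nat_lit 0, nat_lit 0, nat_lit 33, nat_lit 0, nat_lit 34, nat_lit 2, nat_lit 65, nat_lit 0, nat_lit 0, nat_lit 1, nat_lit 18, nat_lit 33, nat_lit 0, nat_lit 18, nat_lit 0, nat_lit 17, nat_lit 50, nat_lit 1, nat_lit 49, nat_lit 0, nat_lit 0, nat_lit 17, nat_lit 0, nat_lit 49, nat_lit 1, nat_lit 34, nat_lit 1, nat_lit 2, nat_lit 66, nat_lit 0, nat_lit 0, nat_lit 18, nat_lit 33, nat_lit 1, nat_lit 0, nat_lit 34, nat_lit 34, nat_lit 2, nat_lit 66, nat_lit 0, nat_lit 0, nat_lit 0, nat_lit 18, nat_lit 33, nat_lit 18, nat_lit 33, nat_lit 0, nat_lit 2, nat_lit 50, nat_lit 0, nat_lit 2, nat_lit 33, nat_lit 2, nat_lit 34, nat_lit 66, nat_lit 0, nat_lit 0, nat_lit 1, nat_lit 33, nat_lit 1, nat_lit 34, nat_lit 0, nat_lit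 17, nat_lit 18, nat_lit 0, nat_lit 17, nat_lit 18, nat_lit 65, nat_lit 0, nat_lit 0, nat_lit 0, nat_lit 17, nat_lit 1, nat_lit 49, nat_lit 0, nat_lit 18, nat_lit 34, nat_lit 33, nat_lit 1, nat_lit 1, nat_lit 18, nat_lit 34, nat_lit 1, nat_lit 2, nat_lit 66, nat_lit 0, nat_lit 1, nat_lit 33, nat_lit 0, nat_lit 18, nat_lit 66, nat_lit 0, nat_lit 0, nat_lit 1, nat_lit 34, nat_lit 33, nat_lit 0, nat_lit 0, nat_lit 2, nat_lit 33, nat_lit 33, nat_lit 1, nat_lit 34, nat_lit 97, nat_lit 0, nat_lit 0, nat_lit 0, nat_lit 1, nat_lit 0, nat_lit 17, nat_lit 2, nat_lit 0, nat_lit 17, nat_lit 66, nat_lit 0, nat_lit 1, nat_lit 33, nat_lit 2, nat_lit 34, nat_lit 1, nat_lit 65, nat_lit 0, nat_lit 0, nat_lit 0, nat_lit 33, nat_lit 0, nat_lit 17, nat_lit 18, nat_lit 0, nat_lit 18, nat_lit 50, nat_lit 0, nat_lit 1, nat_lit 33, nat_lit 49, nat_lit 0, nat_lit 0, nat_lit 17, nat_lit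 33, nat_lit 18, nat_lit 0, nat_lit 17, nat_lit 50, nat_lit 1, nat_lit 2, nat_lit 34, nat_lit 0, nat_lit 1, nat_lit 33, nat_lit 18, nat_lit 66, nat_lit 0, nat_lit 0, nat_lit 1, nat_lit 18, nat_lit 34, nat_lit 33, nat_lit 0, nat_lit 0, nat_lit 33, nat_lit 1, nat_lit 34, nat_lit 34, nat_lit 0, nat_lit 2, nat_lit 1, nat_lit 50, nat_lit 0, nat_lit 17, nat_lit 81, nat_lit 0, nat_lit 0, nat_lit 0, nat_lit 18, nat_lit 1, nat_lit 65, nat_lit 1, nat_lit 0, nat_lit 0, nat_lit 17, nat_lit 33, nat_lit 0, nat_lit 17, nat_lit 50, nat_lit 0, nat_lit 0, nat_lit 17, nat_lit 33, nat_lit 0, nat_lit 17, nat_lit 18, nat_lit 66, nat_lit 0, nat_lit 0, nat_lit 17, nat_lit 0, nat_lit 49, nat_lit 0, nat_lit 0, nat_lit 18, nat_lit 34, nat_lit 2, nat_lit 50, nat_lit 2, nat_lit 66, nat_lit 0, nat_lit 0, nat_lit 1, nat_lit 0, nat_lit 17, nat_lit 1, nat_lit 65, nat_lit 1, nat_lit 2, nat_lit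 2, nat_lit 66, nat_lit 1, nat_lit 2, nat_lit 34, nat_lit 1, nat_lit 18, nat_lit 65, nat_lit 1, nat_lit 0, nat_lit 18, nat_lit 0, nat_lit 2, nat_lit 33, nat_lit 0, nat_lit 34, nat_lit 50, nat_lit 0, nat_lit 0, nat_lit 33, nat_lit 0, nat_lit 0, nat_lit 33, nat_lit 34, nat_lit 0, nat_lit 18, nat_lit 0, nat_lit 82, nat_lit 0, nat_lit 2, nat_lit 0, nat_lit 17, nat_lit 0, nat_lit 65, nat_lit 0, nat_lit 1, nat_lit 33, nat_lit 0, nat_lit 17, nat_lit 50, nat_lit 0, nat_lit 0, nat_lit 18, nat_lit 97, nat_lit 0, nat_lit 0, nat_lit 1, nat_lit 0, nat_lit 0, nat_lit 50, nat_lit 1, nat_lit 0, nat_lit 18, nat_lit 34, nat_lit 49, nat_lit 0, nat_lit 0, nat_lit 2, nat_lit 2, nat_lit 49, nat_lit 2, nat_lit 34, nat_lit 0, nat_lit 2, nat_lit 66, nat_lit 0, nat_lit 1, nat_lit 33, nat_lit 0, nat_lit 34, nat_lit 0, nat_lit 17, nat_lit 2, nat_lit 82, nat_lit 0, nat_lit 0, nat_lit 2,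 nat_lit 33, nat_lit 0, nat_lit 34, nat_lit 2, nat_lit 49, nat_lit 0, nat_lit 0, nat_lit 33, nat_lit 2, nat_lit 50, nat_lit 2, nat_lit 0, nat_lit 81, nat_lit 0, nat_lit 0, nat_lit 1, nat_lit 1, nat_lit 34, nat_lit 33, nat_lit 1, nat_lit 0, nat_lit 18, nat_lit 34, nat_lit 34, nat_lit 0, nat_lit 0, nat_lit 0, nat_lit 33, nat_lit 33, nat_lit 0, nat_lit 34, nat_lit 50, nat_lit 0, nat_lit 0, nat_lit 17, nat_lit 2, nat_lit 2, nat_lit 50, nat_lit 33, nat_lit 1, nat_lit 2, nat_lit 34, nat_lit 0, nat_lit 82, nat_lit 0, nat_lit 0, nat_lit 0, nat_lit 2, nat_lit 33, nat_lit 0, nat_lit 49, nat_lit 2, nat_lit 34, nat_lit 0, nat_lit 17, nat_lit 1, nat_lit 34, nat_lit 2, nat_lit 65, nat_lit 0, nat_lit 0, nat_lit 1, nat_lit 34, nat_lit 33, nat_lit 0, nat_lit 17, nat_lit 0, nat_lit 34, nat_lit 2, nat_lit 66, nat_lit 0, nat_lit 0, nat_lit 1, nat_lit 18, nat_lit 34, nat_lit 0,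 nat_lit 17, nat_lit 49, nat_lit 1, nat_lit 18, nat_lit 1, nat_lit 1, nat_lit 66, nat_lit 1, nat_lit 1, nat_lit 98, nat_lit 0, nat_lit 0, nat_lit 0, nat_lit 0, nat_lit 1, nat_lit 33, nat_lit 18, nat_lit 1, nat_lit 49, nat_lit 0, nat_lit 17, nat_lit 2, nat_lit 50, nat_lit 1, nat_lit 1, nat_lit 34, nat_lit 0, nat_lit 2, nat_lit 34, nat_lit 65, nat_lit 0, nat_lit 1, nat_lit 0, nat_lit 18, nat_lit 34, nat_lit 33, nat_lit 1, nat_lit 34, nat_lit 0, nat_lit 17, nat_lit 18, nat_lit 50, nat_lit 1, nat_lit 18, nat_lit 1, nat_lit 1, nat_lit 34, nat_lit 0, nat_lit 81, nat_lit 0, nat_lit 0, nat_lit 0, nat_lit 0, nat_lit 33, nat_lit 33, nat_lit 0, nat_lit 0, nat_lit 33, nat_lit 18, nat_lit 0, nat_lit 18, nat_lit 50, nat_lit 0, nat_lit 1, nat_lit 33, nat_lit 1, nat_lit 34, nat_lit 0, nat_lit 17, nat_lit 65, nat_lit 0, nat_lit 0, nat_lit 0, nat_lit 17, nat_lit 34, nat_lit 33,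 nat_lit 0, nat_lit 2, nat_lit 33, nat_lit 1, nat_lit 18, nat_lit 50, nat_lit 0, nat_lit 18, nat_lit 0, nat_lit 66, nat_lit 0, nat_lit 2, nat_lit 1, nat_lit 18, nat_lit 50, nat_lit 0, nat_lit 17, nat_lit 66, nat_lit 0, nat_lit 0, nat_lit 1, nat_lit 0, nat_lit 18, nat_lit 34, nat_lit 1, nat_lit 66, nat_lit 1, nat_lit 0, nat_lit 17, nat_lit 2, nat_lit 114, nat_lit 0, nat_lit 0, nat_lit 0, nat_lit 0, nat_lit 0, nat_lit 17, nat_lit 0, nat_lit 18, nat_lit 65, nat_lit 0, nat_lit 1, nat_lit 0, nat_lit 49, nat_lit 1, nat_lit 2, nat_lit 50, nat_lit 0, nat_lit 1, nat_lit 0, nat_lit 49, nat_lit 0, nat_lit 17, nat_lit 66, nat_lit 0, nat_lit 1, nat_lit 2, nat_lit 34, nat_lit 33, nat_lit 0, nat_lit 0, nat_lit 17, nat_lit 33, nat_lit 2, nat_lit 0, nat_lit 50, nat_lit 2, nat_lit 50, nat_lit 0, nat_lit 0, nat_lit 17, nat_lit 33, nat_lit 18, nat_lit 65, nat_lit 0, nat_lit 0,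 nat_lit 0, nat_lit 1, nat_lit 33, nat_lit 18, nat_lit 33, nat_lit 0, nat_lit 0, nat_lit 50, nat_lit 0, nat_lit 0, nat_lit 33, nat_lit 2, nat_lit 34, nat_lit 2, nat_lit 65, nat_lit 0, nat_lit 1, nat_lit 18, nat_lit 2, nat_lit 49, nat_lit 0, nat_lit 1, nat_lit 33, nat_lit 2, nat_lit 34, nat_lit 0, nat_lit 18, nat_lit 50, nat_lit 0, nat_lit 2, nat_lit 33, nat_lit 2, nat_lit 34, nat_lit 50, nat_lit 0, nat_lit 0, nat_lit 0, nat_lit 33, nat_lit 33, nat_lit 0, nat_lit 0, nat_lit 17, nat_lit 18, nat_lit 33, nat_lit 18, nat_lit 34, nat_lit 2, nat_lit 0, nat_lit 2, nat_lit 98, nat_lit 0, nat_lit 0, nat_lit 0, nat_lit 17, nat_lit 0, nat_lit 18, nat_lit 34, nat_lit 0, nat_lit 1, nat_lit 33, nat_lit 49, nat_lit 0, nat_lit 17, nat_lit 18, nat_lit 34, nat_lit 0, nat_lit 1, nat_lit 34, nat_lit 1, nat_lit 66, nat_lit 0, nat_lit 1, nat_lit 1, nat_lit 49, nat_lit 0, nat_lit 18,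 nat_lit 34, nat_lit 65, nat_lit 0, nat_lit 0, nat_lit 0, nat_lit 0, nat_lit 1, nat_lit 33, nat_lit 1, nat_lit 34, nat_lit 1, nat_lit 18, nat_lit 49, nat_lit 0, nat_lit 2, nat_lit 34, nat_lit 34, nat_lit 1, nat_lit 2, nat_lit 34, nat_lit 50, nat_lit 0, nat_lit 0, nat_lit 18, nat_lit 2, nat_lit 49, nat_lit 0, nat_lit 0, nat_lit 18, nat_lit 0, nat_lit 50, nat_lit 34, nat_lit 0, nat_lit 18, nat_lit 65, nat_lit 0, nat_lit 0, nat_lit 1, nat_lit 0, nat_lit 2, nat_lit 50, nat_lit 33, nat_lit 2, nat_lit 2, nat_lit 50, nat_lit 1, nat_lit 49, nat_lit 0, nat_lit 0, nat_lit 17, nat_lit 18, nat_lit 33, nat_lit 1, nat_lit 18, nat_lit 34, nat_lit 0, nat_lit 1, nat_lit 34, nat_lit 50, nat_lit 0, nat_lit 0, nat_lit 1, nat_lit 34, nat_lit 2, nat_lit 49, nat_lit 0, nat_lit 2, nat_lit 33, nat_lit 18, nat_lit 34, nat_lit 0, nat_lit 66, nat_lit 0, nat_lit 0, nat_lit 0, nat_lit 18,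 nat_lit 33, nat_lit 2, nat_lit 49, nat_lit 0, nat_lit 1, nat_lit 18, nat_lit 1, nat_lit 50, nat_lit 0, nat_lit 18, nat_lit 50, nat_lit 0, nat_lit 0, nat_lit 1, nat_lit 34, nat_lit 34, nat_lit 1, nat_lit 0, nat_lit 18, nat_lit 98, nat_lit 0, nat_lit 0, nat_lit 1, nat_lit 0, nat_lit 34, nat_lit 0, nat_lit 1, nat_lit 18, nat_lit 33, nat_lit 18, nat_lit 49, nat_lit 0, nat_lit 0, nat_lit 2, nat_lit 33, nat_lit 0, nat_lit 18, nat_lit 34, nat_lit 33, nat_lit 1, nat_lit 18, nat_lit 1, nat_lit 2, nat_lit 82, nat_lit 0, nat_lit 0, nat_lit 2, nat_lit 33, nat_lit 33, nat_lit 2, nat_lit 34, nat_lit 0, nat_lit 17, nat_lit 1, nat_lit 34, nat_lit 1, nat_lit 81, nat_lit 0, nat_lit 0, nat_lit 1, nat_lit 2, nat_lit 34, nat_lit 33, nat_lit 0, nat_lit 17, nat_lit 2, nat_lit 50, nat_lit 0, nat_lit 17, nat_lit 18, nat_lit 49, nat_lit 0, nat_lit 1, nat_lit 33, nat_lit 0, nat_lit 34,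 nat_lit 34, nat_lit 0, nat_lit 1, nat_lit 33, nat_lit 2, nat_lit 34, nat_lit 0, nat_lit 1, nat_lit 33, nat_lit 18, nat_lit 0, nat_lit 17, nat_lit 82, nat_lit 0, nat_lit 0, nat_lit 1, nat_lit 0, nat_lit 49, nat_lit 1, nat_lit 0, nat_lit 18, nat_lit 0, nat_lit 66, nat_lit 0, nat_lit 18, nat_lit 1, nat_lit 65, nat_lit 0, nat_lit 0, nat_lit 2, nat_lit 33, nat_lit 1, nat_lit 18, nat_lit 49, nat_lit 0, nat_lit 0, nat_lit 50, nat_lit 0]), (1206, [293, 51712, 200720, 262344, 6292482, 9969664], [nat_lit 0, nat_lit 0, nat_lit 0, nat_lit 0, nat_lit 0, nat_lit 1, nat_lit 2, nat_lit 34, nat_lit 33, nat_lit 0, nat_lit 2, nat_lit 50, nat_lit 0, nat_lit 17, nat_lit 18, nat_lit 50, nat_lit 0, nat_lit 0, nat_lit 17, nat_lit 65, nat_lit 0, nat_lit 0, nat_lit 1, nat_lit 2, nat_lit 34, nat_lit 33, nat_lit 1, nat_lit 34, nat_lit 0, nat_lit 49, nat_lit 0, nat_lit 0, nat_lit 17, nat_lit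 34, nat_lit 1, nat_lit 50, nat_lit 0, nat_lit 2, nat_lit 33, nat_lit 2, nat_lit 34, nat_lit 2, nat_lit 66, nat_lit 1, nat_lit 0, nat_lit 0, nat_lit 18, nat_lit 0, nat_lit 17, nat_lit 49, nat_lit 0, nat_lit 17, nat_lit 2, nat_lit 34, nat_lit 34, nat_lit 34, nat_lit 0, nat_lit 1, nat_lit 18, nat_lit 33, nat_lit 0, nat_lit 18, nat_lit 34, nat_lit 0, nat_lit 2, nat_lit 97, nat_lit 0, nat_lit 0, nat_lit 17, nat_lit 0, nat_lit 0, nat_lit 33, nat_lit 1, nat_lit 1, nat_lit 66, nat_lit 1, nat_lit 1, nat_lit 1, nat_lit 34, nat_lit 34, nat_lit 2, nat_lit 65, nat_lit 0, nat_lit 0, nat_lit 18, nat_lit 0, nat_lit 17, nat_lit 49, nat_lit 1, nat_lit 0, nat_lit 50, nat_lit 1, nat_lit 2, nat_lit 34, nat_lit 0, nat_lit 18, nat_lit 66, nat_lit 0, nat_lit 0, nat_lit 17, nat_lit 18, nat_lit 1, nat_lit 1, nat_lit 34, nat_lit 49, nat_lit 50, nat_lit 0, nat_lit 1, nat_lit 2, nat_lit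 1, nat_lit 50, nat_lit 0, nat_lit 49, nat_lit 0, nat_lit 0, nat_lit 2, nat_lit 33, nat_lit 1, nat_lit 18, nat_lit 34, nat_lit 33, nat_lit 0, nat_lit 1, nat_lit 33, nat_lit 0, nat_lit 17, nat_lit 34, nat_lit 34, nat_lit 0, nat_lit 17, nat_lit 2, nat_lit 34, nat_lit 50, nat_lit 0, nat_lit 0, nat_lit 17, nat_lit 18, nat_lit 1, nat_lit 1, nat_lit 34, nat_lit 1, nat_lit 65, nat_lit 2, nat_lit 34, nat_lit 1, nat_lit 0, nat_lit 1, nat_lit 34, nat_lit 97, nat_lit 0, nat_lit 0, nat_lit 0, nat_lit 0, nat_lit 2, nat_lit 34, nat_lit 0, nat_lit 49, nat_lit 0, nat_lit 1, nat_lit 33, nat_lit 0, nat_lit 34, nat_lit 2, nat_lit 0, nat_lit 66, nat_lit 0, nat_lit 0, nat_lit 33, nat_lit 49, nat_lit 0, nat_lit 1, nat_lit 34, nat_lit 0, nat_lit 17, nat_lit 1, nat_lit 1, nat_lit 50, nat_lit 0, nat_lit 66, nat_lit 1, nat_lit 0, nat_lit 0, nat_lit 17, nat_lit 33, nat_lit 18, nat_lit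 2, nat_lit 50, nat_lit 1, nat_lit 18, nat_lit 0, nat_lit 17, nat_lit 81, nat_lit 0, nat_lit 0, nat_lit 2, nat_lit 2, nat_lit 49, nat_lit 0, nat_lit 1, nat_lit 34, nat_lit 2, nat_lit 1, nat_lit 66, nat_lit 0, nat_lit 0, nat_lit 33, nat_lit 1, nat_lit 34, nat_lit 49, nat_lit 0, nat_lit 1, nat_lit 34, nat_lit 1, nat_lit 0, nat_lit 66, nat_lit 0, nat_lit 0, nat_lit 1, nat_lit 33, nat_lit 33, nat_lit 0, nat_lit 34, nat_lit 1, nat_lit 0, nat_lit 82, nat_lit 0, nat_lit 0, nat_lit 0, nat_lit 0, nat_lit 18, nat_lit 33, nat_lit 2, nat_lit 34, nat_lit 0, nat_lit 17, nat_lit 18, nat_lit 49, nat_lit 0, nat_lit 34, nat_lit 0, nat_lit 0, nat_lit 33, nat_lit 49, nat_lit 0, nat_lit 2, nat_lit 0, nat_lit 17, nat_lit 49, nat_lit 1, nat_lit 1, nat_lit 34, nat_lit 34, nat_lit 0, nat_lit 0, nat_lit 34, nat_lit 50, nat_lit 0, nat_lit 0, nat_lit 1, nat_lit 33, nat_lit 18, nat_lit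 34, nat_lit 0, nat_lit 0, nat_lit 98, nat_lit 0, nat_lit 0, nat_lit 0, nat_lit 17, nat_lit 0, nat_lit 0, nat_lit 34, nat_lit 2, nat_lit 65, nat_lit 0, nat_lit 0, nat_lit 33, nat_lit 2, nat_lit 34, nat_lit 1, nat_lit 18, nat_lit 50, nat_lit 0, nat_lit 2, nat_lit 33, nat_lit 2, nat_lit 0, nat_lit 50, nat_lit 49, nat_lit 0, nat_lit 0, nat_lit 1, nat_lit 33, nat_lit 18, nat_lit 0, nat_lit 17, nat_lit 18, nat_lit 0, nat_lit 65, nat_lit 0, nat_lit 0, nat_lit 18, nat_lit 33, nat_lit 0, nat_lit 17, nat_lit 18, nat_lit 1, nat_lit 18, nat_lit 50, nat_lit 1, nat_lit 18, nat_lit 50, nat_lit 0, nat_lit 1, nat_lit 1, nat_lit 49, nat_lit 0, nat_lit 17, nat_lit 2, nat_lit 82, nat_lit 0, nat_lit 0, nat_lit 1, nat_lit 34, nat_lit 1, nat_lit 49, nat_lit 0, nat_lit 1, nat_lit 18, nat_lit 33, nat_lit 34, nat_lit 0, nat_lit 1, nat_lit 33, nat_lit 1])]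


theorem bT_tabs_sub : ∀ l ∈ bT_tabs, l ∈ slpTabs bT_prog m24InitTabs := by decide +kernel

theorem bT_q0_incr : incrB bT_q0 = true := by decide +kernel

theorem bT_fix : bT_tabs.all (fun l => fixB l bT_q0) = true := by decide +kernel

theorem bT_good : GoodTabs (baseStab bT_q0) bT_tabs :=
  goodTabs_baseStab bT_q0_incr
    ((goodTabs_slp bT_prog _ (goodTabs_init M24 shift_mem projInv_mem cubeTwist_mem)).subset
      bT_tabs_sub) bT_fix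

theorem bT_oct_vals : (bT_oct.map (·.1)).Nodup := by decide +kernel

theorem bT_oct_reps : ∀ x ∈ bT_oct, x.2.1 ∈ octData := by decide +kernel

theorem bT_oct_cover : coverCheck bT_q0 (bitmaps bT_tabs keyO bT_oct) keyO octData = true := by
  decide +kernel

theorem bT_oct_sum : bT_oct.map (fun x => (x.1, x.2.2.length + 1)) = [(100000002, 3), (10200, 672), (20001, 84)] := by decide +kernel

theorem bT_sext_vals : (bT_sext.map (·.1)).Nodup := by decide +kernel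

theorem bT_sext_reps : ∀ x ∈ bT_sext, x.2.1 ∈ sextetData := by decide +kernel

theorem bT_sext_cover : coverCheck bT_q0 (bitmaps bT_tabs keyS bT_sext) keyS sextetData = true := by
  decide +kernel

theorem bT_sext_sum : bT_sext.map (fun x => (x.1, x.2.2.length + 1)) = [(20808, 84), (60012, 7), (2502, 1344), (1206, 336)] := by decide +kernel

end Cfsg.Agent.Helper92
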