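import Cfsg.Agent.Lib.Helper92.Counts
import Cfsg.Agent.Lib.Helper92.FastPop

/-!
# Orbit certificates for stabilisers in `M24` acting on coded families

A depth-first traversal certificate shows that all coded families with a given intersection
pattern relative to a base family lie in one orbit of the stabiliser of the base family.
-/

set_option autoImplicit false

namespace Cfsg.Agent.Helper92
open Cfsg Cfsg.Agent.Helper7
open scoped Pointwise

/-! ### Sorting small lists -/

def insB (a : ℕ) : List ℕ → List ℕ
  | [] => [a]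
  | b :: l => bif Nat.ble a b then a :: b :: l else b :: insB a l

theorem mem_insB {a x : ℕ} {l : List ℕ} : x ∈ insB a l ↔ x = a ∨ x ∈ l := by
  induction l with
  | nil => simp [insB]
  | cons b l ih =>
    rw [insB]
    cases Nat.ble a b
    · simp only [cond_false, List.mem_cons, ih]; tauto
    · simp only [cond_true, List.mem_cons]

def isortB : List ℕ → List ℕ
  | [] => []
  | a :: l => insB a (isortB l)

theorem mem_isortB {x : ℕ} {l : List ℕ} : x ∈ isortB l ↔ x ∈ l := by
  induction l with
  | nil => simp [isortB]
  | cons a l ih => rw [isortB, mem_insB, ih, List.mem_cons]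

theorem insB_pairwise {a : ℕ} {l : List ℕ} (hl : l.Pairwise (· < ·)) (ha : a ∉ l) :
    (insB a l).Pairwise (· < ·) := by
  induction l with
  | nil => simp [insB]
  | cons b t ih =>
    rw [insB]
    rw [List.pairwise_cons] at hl
    cases hb : Nat.ble a b
    · rw [cond_false]
      have hba : b < a := by
        have h1 : ¬ a ≤ b := by
          intro h
          rw [Nat.ble_eq_true_of_le h] at hb
          exact absurd hb (by decide)
        omega
      rw [List.pairwise_cons]
      refine ⟨?_, ih hl.2 (fun h => ha (List.mem_cons_of_mem _ h))⟩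
      intro x hx
      rcases mem_insB.mp hx with rfl | hx
      · exact hba
      · exact hl.1 x hx
    · rw [cond_true]
      have hab : a < b := by
        have h1 : a ≤ b := Nat.le_of_ble_eq_true hb
        have h2 : a ≠ b := fun h => ha (h ▸ List.mem_cons_self)
        omega
      rw [List.pairwise_cons]
      refine ⟨?_, List.pairwise_cons.mpr hl⟩
      intro x hx
      rcases List.mem_cons.mp hx with rfl | hx
      · exact hab
      · exact lt_trans hab (hl.1 x hx)

theorem isortB_pairwise {l : List ℕ} (h : l.Nodup) : (isortB l).Pairwise (· < ·) := by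
  induction l with
  | nil => simp [isortB]
  | cons a t ih =>
    rw [isortB]
    rw [List.nodup_cons] at h
    exact insB_pairwise (ih h.2) (fun hm => h.1 (mem_isortB.mp hm))

theorem incrB_of_pairwise : ∀ l : List ℕ, l.Pairwise (· < ·) → (∀ m ∈ l, m < 2 ^ 24) →
    incrB l = true
  | [], _, _ => rfl
  | [a], _, h => by
    simp only [incrB, Nat.blt_eq]
    exact h a List.mem_cons_self
  | a :: b :: t, hp, h => by
    rw [incrB, Bool.and_eq_true, Nat.blt_eq]
    rw [List.pairwise_cons] at hp
    exact ⟨hp.1 b List.mem_cons_self,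
      incrB_of_pairwise (b :: t) hp.2 (fun m hm => h m (List.mem_cons_of_mem _ hm))⟩

theorem incrB_isortB {l : List ℕ} (hnd : l.Nodup) (hlt : ∀ m ∈ l, m < 2 ^ 24) :
    incrB (isortB l) = true :=
  incrB_of_pairwise _ (isortB_pairwise hnd) (fun m hm => hlt m (mem_isortB.mp hm))

/-- The action of a table on a coded family. -/
def actL (l e : List ℕ) : List ℕ := isortB (e.map (pm l))

theorem mem_actL {l e : List ℕ} {x : ℕ} : x ∈ actL l e ↔ ∃ m ∈ e, pm l m = x := by
  rw [actL, mem_isortB, List.mem_map]

theorem dec_actL {σ : Equiv.Perm GolayPt} {l : List ℕ} (h : Tab σ l) (hlen : l.length = 24)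
    (e : List ℕ) : dec (actL l e) = σ • dec e := by
  rw [smul_dec h hlen]
  ext s
  rw [mem_dec, mem_dec]
  constructor
  · rintro ⟨m, hm, rfl⟩
    exact ⟨m, by rwa [actL, mem_isortB] at hm, rfl⟩
  · rintro ⟨m, hm, rfl⟩
    exact ⟨m, by rwa [actL, mem_isortB], rfl⟩

theorem incrB_actL {σ : Equiv.Perm GolayPt} {l : List ℕ} (h : Tab σ l) (hlen : l.length = 24)
    {e : List ℕ} (he : incrB e = true) : incrB (actL l e) = true := by
  apply incrB_isortB
  · rw [List.nodup_map_iff_inj_on (incrB_nodup he)]
    intro a ha b hb hab
    have h1 : σ • ofMask a = σ • ofMask b := by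
      rw [smul_ofMask h, smul_ofMask h, ← pm_eq l hlen, ← pm_eq l hlen, hab]
    exact ofMask_injOn a b ((incrB_spec e he).2 a ha) ((incrB_spec e he).2 b hb)
      (MulAction.injective σ h1)
  · intro m hm
    obtain ⟨m', _, rfl⟩ := List.mem_map.mp hm
    rw [pm_eq l hlen]; exact permMask_lt h _

/-! ### Reachability -/

/-- The coded family `e` is the image of the coded family `root` under an element of `H`. -/
def ReachL (H : Subgroup (Equiv.Perm GolayPt)) (root e : List ℕ) : Prop :=
  incrB e = true ∧ ∃ g ∈ H, g • dec root = dec e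

theorem ReachL.refl (H : Subgroup (Equiv.Perm GolayPt)) {root : List ℕ}
    (h : incrB root = true) : ReachL H root root :=
  ⟨h, 1, H.one_mem, one_smul _ _⟩

theorem ReachL.step {H : Subgroup (Equiv.Perm GolayPt)} {root e : List ℕ} (h : ReachL H root e)
    {σ : Equiv.Perm GolayPt} {l : List ℕ} (hσ : σ ∈ H) (ht : Tab σ l) (hlen : l.length = 24) :
    ReachL H root (actL l e) := by
  obtain ⟨hinc, g, hg, hge⟩ := h
  refine ⟨incrB_actL ht hlen hinc, σ * g, H.mul_mem hσ hg, ?_⟩
  rw [mul_smul, hge, dec_actL ht hlen]

/-- Depth-first traversal driven by a packed certificate: the entry `c` pops `c / 16` states off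
the stack and applies the generator number `c % 16` to the top of the stack. Returns all states
produced. -/
def dfsL (tabs : List (List ℕ)) (root : List ℕ) :
    List ℕ → List (List ℕ) → List (List ℕ) → List (List ℕ)
  | [], _, out => out
  | c :: cs, stack, out =>
    (fun (st : List (List ℕ)) (s : List ℕ) => dfsL tabs root cs (s :: st) (s :: out))
      (stack.drop (Nat.shiftRight c 4))
      (actL (tabs.getD (Nat.land c 15) idTab) ((stack.drop (Nat.shiftRight c 4)).headD root))

theorem dfsL_cons (tabs : List (List ℕ)) (root : List ℕ) (c : ℕ) (cs : List ℕ)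
    (stack out : List (List ℕ)) : dfsL tabs root (c :: cs) stack out =
      dfsL tabs root cs
        (actL (tabs.getD (Nat.land c 15) idTab) ((stack.drop (Nat.shiftRight c 4)).headD root) ::
          stack.drop (Nat.shiftRight c 4))
        (actL (tabs.getD (Nat.land c 15) idTab) ((stack.drop (Nat.shiftRight c 4)).headD root) ::
          out) := rfl

theorem dfsL_length (tabs : List (List ℕ)) (root : List ℕ) (cert : List ℕ)
    (stack out : List (List ℕ)) :
    (dfsL tabs root cert stack out).length = out.length + cert.length := by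
  induction cert generalizing stack out with
  | nil => simp [dfsL]
  | cons c cs ih =>
    rw [dfsL_cons, ih, List.length_cons, List.length_cons]
    omega

theorem dfsL_reach {H : Subgroup (Equiv.Perm GolayPt)} {tabs : List (List ℕ)}
    (hT : GoodTabs H tabs) (root : List ℕ) (hroot : incrB root = true) (cert : List ℕ)
    (stack out : List (List ℕ))
    (hs : ∀ e ∈ stack, ReachL H root e) (ho : ∀ e ∈ out, ReachL H root e) :
    ∀ e ∈ dfsL tabs root cert stack out, ReachL H root e := by
  induction cert generalizing stack out with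
  | nil => exact ho
  | cons c cs ih =>
    rw [dfsL_cons]
    obtain ⟨σ, hσ, ht, hlen⟩ := hT.getD (Nat.land c 15)
    have htop : ReachL H root ((stack.drop (Nat.shiftRight c 4)).headD root) := by
      cases hd : stack.drop (Nat.shiftRight c 4) with
      | nil => exact ReachL.refl H hroot
      | cons a as =>
        apply hs
        apply List.mem_of_mem_drop (i := Nat.shiftRight c 4)
        rw [hd]
        exact List.mem_cons_self
    have hnew := htop.step hσ ht hlen
    apply ih
    · intro m hm
      rcases List.mem_cons.mp hm with rfl | hm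
      · exact hnew
      · exact hs m (List.mem_of_mem_drop hm)
    · intro m hm
      rcases List.mem_cons.mp hm with rfl | hm
      · exact hnew
      · exact ho m hm

theorem dfsL_reach' {H : Subgroup (Equiv.Perm GolayPt)} {tabs : List (List ℕ)}
    (hT : GoodTabs H tabs) (root : List ℕ) (hroot : incrB root = true) (cert : List ℕ) :
    ∀ e ∈ dfsL tabs root cert [] [root], ReachL H root e := by
  apply dfsL_reach hT root hroot cert
  · intro e he; simp at he
  · intro e he
    rw [List.mem_singleton] at he
    rw [he]; exact ReachL.refl H hroot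

/-! ### Bitmaps -/

/-- The number whose set bits are the keys of the members of a list. -/
def bitmapL (key : List ℕ → ℕ) : List (List ℕ) → ℕ → ℕ
  | [], v => v
  | e :: es, v => bitmapL key es (Nat.lor v (Nat.shiftLeft 1 (key e)))

theorem testBit_bitmapL (key : List ℕ → ℕ) (l : List (List ℕ)) (v a : ℕ)
    (h : (bitmapL key l v).testBit a = true) : v.testBit a = true ∨ ∃ e ∈ l, key e = a := by
  induction l generalizing v with
  | nil => exact Or.inl h
  | cons m ms ih =>
    rw [bitmapL] at h
    rcases ih _ h with h | ⟨m', hm', hk⟩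
    · have h3 : Nat.lor v (Nat.shiftLeft 1 (key m)) = v ||| 2 ^ key m := by
        show v ||| 1 <<< key m = _
        rw [Nat.shiftLeft_eq, one_mul]
      rw [h3, Nat.testBit_lor, Bool.or_eq_true, Nat.testBit_two_pow] at h
      rcases h with h | h
      · exact Or.inl h
      · exact Or.inr ⟨m, List.mem_cons_self, by simpa using h⟩
    · exact Or.inr ⟨m', List.mem_cons_of_mem _ hm', hk⟩

/-- The keys of the members of a list are pairwise distinct (checked with a bitmap). -/
def nodupKeysAux (key : List ℕ → ℕ) : List (List ℕ) → ℕ → Bool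
  | [], _ => true
  | d :: ds, V => !(tb V (key d)) && nodupKeysAux key ds (Nat.lor V (Nat.shiftLeft 1 (key d)))

theorem nodupKeysAux_spec (key : List ℕ → ℕ) (l : List (List ℕ)) (V : ℕ)
    (h : nodupKeysAux key l V = true) :
    (∀ d ∈ l, V.testBit (key d) = false) ∧ (l.map key).Nodup := by
  induction l generalizing V with
  | nil => simp
  | cons d ds ih =>
    rw [nodupKeysAux, Bool.and_eq_true, Bool.not_eq_true', tb_eq] at h
    obtain ⟨h1, h2⟩ := ih _ h.2
    have h3 : Nat.lor V (Nat.shiftLeft 1 (key d)) = V ||| 2 ^ key d := by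
      show V ||| 1 <<< key d = _
      rw [Nat.shiftLeft_eq, one_mul]
    rw [h3] at h1
    constructor
    · intro d' hd'
      rcases List.mem_cons.mp hd' with rfl | hd'
      · exact h.1
      · have := h1 d' hd'
        rw [Nat.testBit_lor, Bool.or_eq_false_iff] at this
        exact this.1
    · rw [List.map_cons, List.nodup_cons]
      refine ⟨?_, h2⟩
      intro hmem
      obtain ⟨d', hd', hk⟩ := List.mem_map.mp hmem
      have := h1 d' hd'
      rw [Nat.testBit_lor, Bool.or_eq_false_iff, hk, Nat.testBit_two_pow_self] at this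
      exact absurd this.2 (by decide)

theorem nodupKeys_spec {key : List ℕ → ℕ} {l : List (List ℕ)}
    (h : nodupKeysAux key l 0 = true) : (l.map key).Nodup :=
  (nodupKeysAux_spec key l 0 h).2

/-! ### Intersection patterns -/

/-- The intersection pattern of a family `X` relative to a family `Q`. -/
def patF (Q X : Finset (Finset GolayPt)) : ℕ := ∑ x ∈ X, ∑ q ∈ Q, 10 ^ (x ∩ q).card

theorem patF_smul (g : Equiv.Perm GolayPt) (Q X : Finset (Finset GolayPt)) :
    patF (g • Q) (g • X) = patF Q X := by
  unfold patF
  have hinj : Function.Injective (fun s : Finset GolayPt => g • s) := MulAction.injective g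
  change ∑ x ∈ X.image (fun s => g • s), ∑ q ∈ Q.image (fun s => g • s), _ = _
  rw [Finset.sum_image (fun a _ b _ e => hinj e)]
  apply Finset.sum_congr rfl
  intro x _
  rw [Finset.sum_image (fun a _ b _ e => hinj e)]
  apply Finset.sum_congr rfl
  intro q _
  rw [← Finset.smul_finset_inter, Finset.card_smul_finset]

theorem patF_of_stab {g : Equiv.Perm GolayPt} {Q : Finset (Finset GolayPt)} (hg : g • Q = Q)
    (X : Finset (Finset GolayPt)) : patF Q (g • X) = patF Q X := by
  conv_lhs => rw [← hg]
  exact patF_smul g Q X

def patRow (a : ℕ) : List ℕ → ℕ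
  | [] => 0
  | b :: q => Nat.add (Nat.pow 10 (popT (Nat.land a b))) (patRow a q)

/-- Mask-level intersection pattern. -/
def patC (q : List ℕ) : List ℕ → ℕ
  | [] => 0
  | a :: x => Nat.add (patRow a q) (patC q x)

theorem land_lt {a : ℕ} (ha : a < 2 ^ 24) (b : ℕ) : Nat.land a b < 2 ^ 24 :=
  lt_of_le_of_lt Nat.and_le_left ha

theorem patRow_eq {a : ℕ} (ha : a < 2 ^ 24) (q : List ℕ) :
    patRow a q = (q.map fun b => 10 ^ (ofMask a ∩ ofMask b).card).sum := by
  induction q with
  | nil => rfl
  | cons b q ih =>
    rw [patRow, ih, List.map_cons, List.sum_cons, ← ofMask_land, card_ofMask',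
      popT_eq (land_lt ha b)]
    rfl

theorem patC_eq (q x : List ℕ) (hx : ∀ a ∈ x, a < 2 ^ 24) :
    patC q x = (x.map fun a => (q.map fun b => 10 ^ (ofMask a ∩ ofMask b).card).sum).sum := by
  induction x with
  | nil => rfl
  | cons a x ih =>
    rw [patC, ih (fun b hb => hx b (List.mem_cons_of_mem _ hb)),
      patRow_eq (hx a List.mem_cons_self), List.map_cons, List.sum_cons]
    rfl

theorem nodup_map_ofMask {e : List ℕ} (h : incrB e = true) : (e.map ofMask).Nodup := by
  rw [List.nodup_map_iff_inj_on (incrB_nodup h)]
  intro a ha b hb hab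
  exact ofMask_injOn a b ((incrB_spec e h).2 a ha) ((incrB_spec e h).2 b hb) hab

theorem patF_dec {q x : List ℕ} (hq : incrB q = true) (hx : incrB x = true) :
    patF (dec q) (dec x) = patC q x := by
  rw [patC_eq q x (incrB_spec x hx).2]
  unfold patF dec
  rw [List.sum_toFinset _ (nodup_map_ofMask hx), List.map_map]
  congr 1
  apply List.map_congr_left
  intro a _
  simp only [Function.comp]
  rw [List.sum_toFinset _ (nodup_map_ofMask hq), List.map_map]
  rfl

/-! ### The covering check -/

/-- Apply `f` to the bitmap stored with the value `p`. -/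
def withSel : List (ℕ × ℕ) → ℕ → (ℕ → Bool) → Bool
  | [], _, _ => false
  | x :: cs, p, f => bif Nat.beq x.1 p then f x.2 else withSel cs p f

theorem withSel_spec {cs : List (ℕ × ℕ)} {p : ℕ} {f : ℕ → Bool} (h : withSel cs p f = true) :
    ∃ x ∈ cs, x.1 = p ∧ f x.2 = true := by
  induction cs with
  | nil => simp [withSel] at h
  | cons x cs ih =>
    rw [withSel] at h
    cases hb : Nat.beq x.1 p
    · rw [hb, cond_false] at h
      obtain ⟨y, hy, h1, h2⟩ := ih h
      exact ⟨y, List.mem_cons_of_mem _ hy, h1, h2⟩
    · rw [hb, cond_true] at h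
      exact ⟨x, List.mem_cons_self, Nat.eq_of_beq_eq_true hb, h⟩

/-- Every coded family of the list has its key flagged in the bitmap of its pattern. -/
def coverCheck (q0 : List ℕ) (cls : List (ℕ × ℕ)) (key : List ℕ → ℕ) : List (List ℕ) → Bool
  | [] => true
  | d :: ds => withSel cls (patC q0 d) (fun V => tb V (key d)) && coverCheck q0 cls key ds

theorem coverCheck_spec {q0 : List ℕ} {cls : List (ℕ × ℕ)} {key : List ℕ → ℕ}
    {data : List (List ℕ)} (h : coverCheck q0 cls key data = true) :
    ∀ d ∈ data, ∃ x ∈ cls, x.1 = patC q0 d ∧ x.2.testBit (key d) = true := by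
  induction data with
  | nil => intro d hd; simp at hd
  | cons d0 ds ih =>
    rw [coverCheck, Bool.and_eq_true] at h
    intro d hd
    rcases List.mem_cons.mp hd with rfl | hd
    · obtain ⟨x, hx, h1, h2⟩ := withSel_spec h.1
      rw [tb_eq] at h2
      exact ⟨x, hx, h1, h2⟩
    · exact ih h.2 d hd

/-- The bitmaps of the traversals of the classes `(value, representative, certificate)`. -/
def bitmaps (tabs : List (List ℕ)) (key : List ℕ → ℕ) (classes : List (ℕ × List ℕ × List ℕ)) :
    List (ℕ × ℕ) :=
  classes.map fun x => (x.1, bitmapL key (dfsL tabs x.2.1 x.2.2 [] [x.2.1]) 0)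

theorem cover_spec {tabs : List (List ℕ)} {key : List ℕ → ℕ}
    {classes : List (ℕ × List ℕ × List ℕ)} {q0 : List ℕ} {data : List (List ℕ)}
    (h : coverCheck q0 (bitmaps tabs key classes) key data = true) :
    ∀ d ∈ data, ∃ x ∈ classes, x.1 = patC q0 d ∧
      ∃ e ∈ dfsL tabs x.2.1 x.2.2 [] [x.2.1], key e = key d := by
  intro d hd
  obtain ⟨y, hy, h1, h2⟩ := coverCheck_spec h d hd
  rw [bitmaps, List.mem_map] at hy
  obtain ⟨x, hx, rfl⟩ := hy
  refine ⟨x, hx, h1, ?_⟩
  rcases testBit_bitmapL _ _ _ _ h2 with h3 | h3
  · simp at h3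
  · exact h3

end Cfsg.Agent.Helper92
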