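import Cfsg.Agent.Lib.Helper92.OrbitCert

/-!
# Orbit certificates: coded families, the main certificate theorem and the final orbit statements
-/

set_option autoImplicit false

namespace Cfsg.Agent.Helper92
open Cfsg Cfsg.Agent.Helper7
open scoped Pointwise

/-- A family of families of subsets of the 24 points together with a complete list of codes. -/
structure Fam where
  F : Set (Finset (Finset GolayPt))
  data : List (List ℕ)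
  key : List ℕ → ℕ
  complete : ∀ X ∈ F, ∃ d ∈ data, dec d = X
  sound : ∀ d ∈ data, dec d ∈ F
  incr : ∀ d ∈ data, incrB d = true
  keyNodup : (data.map key).Nodup
  smul_mem : ∀ g ∈ M24, ∀ X ∈ F, g • X ∈ F

/-- The stabiliser in `M24` of a coded base family. -/
abbrev baseStab (q0 : List ℕ) : Subgroup (Equiv.Perm GolayPt) :=
  M24 ⊓ MulAction.stabilizer (Equiv.Perm GolayPt) (dec q0)

theorem mem_baseStab {q0 : List ℕ} {g : Equiv.Perm GolayPt} :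
    g ∈ baseStab q0 ↔ g ∈ M24 ∧ g • dec q0 = dec q0 := Iff.rfl

theorem goodTabs_baseStab {q0 : List ℕ} {tabs : List (List ℕ)} (hq0 : incrB q0 = true)
    (hT : GoodTabs M24 tabs) (hfix : tabs.all (fun l => fixB l q0) = true) :
    GoodTabs (baseStab q0) tabs := by
  intro l hl
  obtain ⟨σ, hσ, ht, hlen⟩ := hT l hl
  exact ⟨σ, mem_baseStab.mpr ⟨hσ, (fixB_spec ht hlen hq0).mp (List.all_eq_true.mp hfix l hl)⟩,
    ht, hlen⟩

/-- Every coded family is reached by the traversal of its class. -/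
theorem cert_item (Φ : Fam) {q0 : List ℕ} {tabs : List (List ℕ)}
    (hT : GoodTabs (baseStab q0) tabs) {classes : List (ℕ × List ℕ × List ℕ)}
    (hreps : ∀ x ∈ classes, x.2.1 ∈ Φ.data)
    (hcov : coverCheck q0 (bitmaps tabs Φ.key classes) Φ.key Φ.data = true)
    {d : List ℕ} (hd : d ∈ Φ.data) :
    ∃ x ∈ classes, x.1 = patC q0 d ∧ (∃ e ∈ dfsL tabs x.2.1 x.2.2 [] [x.2.1], dec e = dec d) ∧
      ∃ g ∈ baseStab q0, g • dec x.2.1 = dec d := by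
  obtain ⟨x, hx, hval, e, he, hkey⟩ := cover_spec hcov d hd
  have hroot : incrB x.2.1 = true := Φ.incr _ (hreps x hx)
  obtain ⟨hinc, g, hg, hge⟩ := dfsL_reach' hT x.2.1 hroot x.2.2 e he
  have hF : dec e ∈ Φ.F := by
    rw [← hge]
    exact Φ.smul_mem g (mem_baseStab.mp hg).1 _ (Φ.sound _ (hreps x hx))
  obtain ⟨d', hd', hdd'⟩ := Φ.complete _ hF
  have hed' : d' = e := dec_inj (Φ.incr d' hd') hinc hdd'
  subst hed'
  have heq : d' = d := List.inj_on_of_nodup_map Φ.keyNodup hd' hd hkey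
  subst heq
  exact ⟨x, hx, hval, ⟨d', he, rfl⟩, g, hg, hge⟩

theorem orbit_cert (Φ : Fam) {q0 : List ℕ} (hq0 : incrB q0 = true) {tabs : List (List ℕ)}
    (hT : GoodTabs (baseStab q0) tabs) {classes : List (ℕ × List ℕ × List ℕ)}
    (hvals : (classes.map (·.1)).Nodup)
    (hreps : ∀ x ∈ classes, x.2.1 ∈ Φ.data)
    (hcov : coverCheck q0 (bitmaps tabs Φ.key classes) Φ.key Φ.data = true) :
    (∀ X ∈ Φ.F, ∃ x ∈ classes, x.1 = patF (dec q0) X) ∧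
    (∀ X ∈ Φ.F, ∀ Y ∈ Φ.F, patF (dec q0) X = patF (dec q0) Y →
      ∃ g ∈ M24, g • dec q0 = dec q0 ∧ g • X = Y) ∧
    (∀ x ∈ classes, {X | X ∈ Φ.F ∧ patF (dec q0) X = x.1}.ncard ≤ x.2.2.length + 1) := by
  refine ⟨?_, ?_, ?_⟩
  · intro X hX
    obtain ⟨d, hd, rfl⟩ := Φ.complete X hX
    obtain ⟨x, hx, hval, -, -⟩ := cert_item Φ hT hreps hcov hd
    exact ⟨x, hx, by rw [hval, patF_dec hq0 (Φ.incr d hd)]⟩
  · intro X hX Y hY hXY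
    obtain ⟨d, hd, rfl⟩ := Φ.complete X hX
    obtain ⟨d', hd', rfl⟩ := Φ.complete Y hY
    obtain ⟨x, hx, hval, -, g, hg, hgd⟩ := cert_item Φ hT hreps hcov hd
    obtain ⟨x', hx', hval', -, g', hg', hgd'⟩ := cert_item Φ hT hreps hcov hd'
    rw [patF_dec hq0 (Φ.incr d hd), patF_dec hq0 (Φ.incr d' hd')] at hXY
    have hxx : x = x' := List.inj_on_of_nodup_map hvals hx hx' (by rw [hval, hval', hXY])
    subst hxx
    have hmem := (baseStab q0).mul_mem hg' ((baseStab q0).inv_mem hg)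
    refine ⟨g' * g⁻¹, (mem_baseStab.mp hmem).1, (mem_baseStab.mp hmem).2, ?_⟩
    rw [mul_smul, ← hgd, inv_smul_smul, hgd']
  · intro x hx
    have hsub : {X | X ∈ Φ.F ∧ patF (dec q0) X = x.1} ⊆
        (((dfsL tabs x.2.1 x.2.2 [] [x.2.1]).map dec).toFinset : Set _) := by
      rintro X ⟨hX, hpat⟩
      obtain ⟨d, hd, rfl⟩ := Φ.complete X hX
      obtain ⟨x', hx', hval', ⟨e, he, hed⟩, -⟩ := cert_item Φ hT hreps hcov hd
      rw [patF_dec hq0 (Φ.incr d hd)] at hpat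
      have hxx : x' = x := List.inj_on_of_nodup_map hvals hx' hx (by rw [hval', hpat])
      subst hxx
      rw [Finset.mem_coe, List.mem_toFinset, List.mem_map]
      exact ⟨e, he, hed⟩
    calc {X | X ∈ Φ.F ∧ patF (dec q0) X = x.1}.ncard
        ≤ (((dfsL tabs x.2.1 x.2.2 [] [x.2.1]).map dec).toFinset : Set _).ncard :=
          Set.ncard_le_ncard hsub (Finset.finite_toSet _)
      _ = ((dfsL tabs x.2.1 x.2.2 [] [x.2.1]).map dec).toFinset.card := Set.ncard_coe_finset _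
      _ ≤ ((dfsL tabs x.2.1 x.2.2 [] [x.2.1]).map dec).length := List.toFinset_card_le _
      _ = x.2.2.length + 1 := by rw [List.length_map, dfsL_length]; simp [add_comm]

/-! ### Counting classes -/

theorem counts3 {α : Type*} (F : Set α) (inv : α → ℕ) {v1 v2 v3 n1 n2 n3 N : ℕ}
    (hcls : ∀ x ∈ F, inv x = v1 ∨ inv x = v2 ∨ inv x = v3) (hfin : F.Finite) (hN : F.ncard = N)
    (l1 : {x | x ∈ F ∧ inv x = v1}.ncard ≤ n1) (l2 : {x | x ∈ F ∧ inv x = v2}.ncard ≤ n2)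
    (l3 : {x | x ∈ F ∧ inv x = v3}.ncard ≤ n3) (hsum : n1 + n2 + n3 = N) :
    {x | x ∈ F ∧ inv x = v1}.ncard = n1 ∧ {x | x ∈ F ∧ inv x = v2}.ncard = n2 ∧
      {x | x ∈ F ∧ inv x = v3}.ncard = n3 := by
  have hsub : F ⊆ {x | x ∈ F ∧ inv x = v1} ∪ {x | x ∈ F ∧ inv x = v2} ∪
      {x | x ∈ F ∧ inv x = v3} := by
    intro x hx
    rcases hcls x hx with h | h | h
    · exact Or.inl (Or.inl ⟨hx, h⟩)
    · exact Or.inl (Or.inr ⟨hx, h⟩)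
    · exact Or.inr ⟨hx, h⟩
  have hf : ∀ v, {x | x ∈ F ∧ inv x = v}.Finite := fun v => hfin.subset (fun x hx => hx.1)
  have h1 := Set.ncard_le_ncard hsub (((hf v1).union (hf v2)).union (hf v3))
  have h2 := Set.ncard_union_le ({x | x ∈ F ∧ inv x = v1} ∪ {x | x ∈ F ∧ inv x = v2})
    {x | x ∈ F ∧ inv x = v3}
  have h3 := Set.ncard_union_le {x | x ∈ F ∧ inv x = v1} {x | x ∈ F ∧ inv x = v2}
  omega

theorem counts4 {α : Type*} (F : Set α) (inv : α → ℕ) {v1 v2 v3 v4 n1 n2 n3 n4 N : ℕ}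
    (hcls : ∀ x ∈ F, inv x = v1 ∨ inv x = v2 ∨ inv x = v3 ∨ inv x = v4) (hfin : F.Finite)
    (hN : F.ncard = N)
    (l1 : {x | x ∈ F ∧ inv x = v1}.ncard ≤ n1) (l2 : {x | x ∈ F ∧ inv x = v2}.ncard ≤ n2)
    (l3 : {x | x ∈ F ∧ inv x = v3}.ncard ≤ n3) (l4 : {x | x ∈ F ∧ inv x = v4}.ncard ≤ n4)
    (hsum : n1 + n2 + n3 + n4 = N) :
    {x | x ∈ F ∧ inv x = v1}.ncard = n1 ∧ {x | x ∈ F ∧ inv x = v2}.ncard = n2 ∧
      {x | x ∈ F ∧ inv x = v3}.ncard = n3 ∧ {x | x ∈ F ∧ inv x = v4}.ncard = n4 := by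
  have hsub : F ⊆ {x | x ∈ F ∧ inv x = v1} ∪ {x | x ∈ F ∧ inv x = v2} ∪
      {x | x ∈ F ∧ inv x = v3} ∪ {x | x ∈ F ∧ inv x = v4} := by
    intro x hx
    rcases hcls x hx with h | h | h | h
    · exact Or.inl (Or.inl (Or.inl ⟨hx, h⟩))
    · exact Or.inl (Or.inl (Or.inr ⟨hx, h⟩))
    · exact Or.inl (Or.inr ⟨hx, h⟩)
    · exact Or.inr ⟨hx, h⟩
  have hf : ∀ v, {x | x ∈ F ∧ inv x = v}.Finite := fun v => hfin.subset (fun x hx => hx.1)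
  have h1 := Set.ncard_le_ncard hsub ((((hf v1).union (hf v2)).union (hf v3)).union (hf v4))
  have h2 := Set.ncard_union_le ({x | x ∈ F ∧ inv x = v1} ∪ {x | x ∈ F ∧ inv x = v2} ∪
    {x | x ∈ F ∧ inv x = v3}) {x | x ∈ F ∧ inv x = v4}
  have h3 := Set.ncard_union_le ({x | x ∈ F ∧ inv x = v1} ∪ {x | x ∈ F ∧ inv x = v2})
    {x | x ∈ F ∧ inv x = v3}
  have h4 := Set.ncard_union_le {x | x ∈ F ∧ inv x = v1} {x | x ∈ F ∧ inv x = v2}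
  omega

/-! ### Orbits of the stabiliser of a translated base -/

section Final
variable {α β : Type*} [MulAction (Equiv.Perm GolayPt) α] [MulAction (Equiv.Perm GolayPt) β]

theorem mem_orbit_stab (B : β) (x y : α) :
    y ∈ MulAction.orbit ↥(MulAction.stabilizer ↥M24 B) x ↔ ∃ g ∈ M24, g • B = B ∧ g • x = y := by
  constructor
  · rintro ⟨⟨⟨g, hg⟩, hk⟩, rfl⟩
    exact ⟨g, hg, hk, rfl⟩
  · rintro ⟨g, hg, hB, rfl⟩
    exact ⟨⟨⟨g, hg⟩, hB⟩, rfl⟩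

theorem orbit_stab_eq (B0 : β) (F : Set α) (inv0 : α → ℕ)
    (hFinv : ∀ g ∈ M24, ∀ x ∈ F, g • x ∈ F)
    (hinv : ∀ g ∈ M24, g • B0 = B0 → ∀ x ∈ F, inv0 (g • x) = inv0 x)
    (htrans : ∀ x ∈ F, ∀ y ∈ F, inv0 x = inv0 y → ∃ g ∈ M24, g • B0 = B0 ∧ g • x = y)
    {h : Equiv.Perm GolayPt} (hh : h ∈ M24) {x0 : α} (hx0 : x0 ∈ F) :
    MulAction.orbit ↥(MulAction.stabilizer ↥M24 (h • B0)) (h • x0) =
      (fun y => h • y) '' {y | y ∈ F ∧ inv0 y = inv0 x0} := by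
  ext z
  rw [mem_orbit_stab, Set.mem_image]
  constructor
  · rintro ⟨g, hg, hgB, rfl⟩
    have hg0 : h⁻¹ * g * h ∈ M24 := M24.mul_mem (M24.mul_mem (M24.inv_mem hh) hg) hh
    have hg0B : (h⁻¹ * g * h) • B0 = B0 := by
      rw [mul_smul, mul_smul, hgB, inv_smul_smul]
    refine ⟨(h⁻¹ * g * h) • x0, ⟨hFinv _ hg0 _ hx0, hinv _ hg0 hg0B _ hx0⟩, ?_⟩
    rw [mul_smul, mul_smul, smul_inv_smul]
  · rintro ⟨y, ⟨hy, hinvy⟩, rfl⟩
    obtain ⟨g0, hg0, hg0B, hg0x⟩ := htrans x0 hx0 y hy hinvy.symm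
    refine ⟨h * g0 * h⁻¹, M24.mul_mem (M24.mul_mem hh hg0) (M24.inv_mem hh), ?_, ?_⟩
    · rw [mul_smul, mul_smul, inv_smul_smul, hg0B]
    · rw [mul_smul, mul_smul, inv_smul_smul, hg0x]

theorem ncard_orbit_stab (B0 : β) (F : Set α) (inv0 : α → ℕ)
    (hFinv : ∀ g ∈ M24, ∀ x ∈ F, g • x ∈ F)
    (hinv : ∀ g ∈ M24, g • B0 = B0 → ∀ x ∈ F, inv0 (g • x) = inv0 x)
    (htrans : ∀ x ∈ F, ∀ y ∈ F, inv0 x = inv0 y → ∃ g ∈ M24, g • B0 = B0 ∧ g • x = y)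
    {h : Equiv.Perm GolayPt} (hh : h ∈ M24) {x0 : α} (hx0 : x0 ∈ F) :
    (MulAction.orbit ↥(MulAction.stabilizer ↥M24 (h • B0)) (h • x0)).ncard =
      {y | y ∈ F ∧ inv0 y = inv0 x0}.ncard := by
  rw [orbit_stab_eq B0 F inv0 hFinv hinv htrans hh hx0,
    Set.ncard_image_of_injective _ (MulAction.injective h)]

omit [MulAction (Equiv.Perm GolayPt) α] in
theorem exists_of_ncard_pos {F : Set α} {inv0 : α → ℕ} {v n : ℕ}
    (c : {x | x ∈ F ∧ inv0 x = v}.ncard = n) (hn : 0 < n) : ∃ x ∈ F, inv0 x = v := by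
  have : {x | x ∈ F ∧ inv0 x = v}.Nonempty := by
    apply Set.nonempty_of_ncard_ne_zero
    omega
  obtain ⟨x, hx, hv⟩ := this
  exact ⟨x, hx, hv⟩

theorem final3 (B0 : β) (F : Set α) (inv0 : α → ℕ)
    (hFinv : ∀ g ∈ M24, ∀ x ∈ F, g • x ∈ F)
    (hinv : ∀ g ∈ M24, g • B0 = B0 → ∀ x ∈ F, inv0 (g • x) = inv0 x)
    (htrans : ∀ x ∈ F, ∀ y ∈ F, inv0 x = inv0 y → ∃ g ∈ M24, g • B0 = B0 ∧ g • x = y)
    {v1 v2 v3 n1 n2 n3 : ℕ} (hcls : ∀ x ∈ F, inv0 x = v1 ∨ inv0 x = v2 ∨ inv0 x = v3)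
    (c1 : {x | x ∈ F ∧ inv0 x = v1}.ncard = n1) (c2 : {x | x ∈ F ∧ inv0 x = v2}.ncard = n2)
    (c3 : {x | x ∈ F ∧ inv0 x = v3}.ncard = n3) (hn1 : 0 < n1) (hn2 : 0 < n2) (hn3 : 0 < n3)
    {h : Equiv.Perm GolayPt} (hh : h ∈ M24) :
    ∃ X₁ ∈ F, ∃ X₂ ∈ F, ∃ X₃ ∈ F,
      (MulAction.orbit ↥(MulAction.stabilizer ↥M24 (h • B0)) X₁).ncard = n1 ∧
      (MulAction.orbit ↥(MulAction.stabilizer ↥M24 (h • B0)) X₂).ncard = n2 ∧
      (MulAction.orbit ↥(MulAction.stabilizer ↥M24 (h • B0)) X₃).ncard = n3 ∧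
      F = MulAction.orbit ↥(MulAction.stabilizer ↥M24 (h • B0)) X₁ ∪
        MulAction.orbit ↥(MulAction.stabilizer ↥M24 (h • B0)) X₂ ∪
        MulAction.orbit ↥(MulAction.stabilizer ↥M24 (h • B0)) X₃ := by
  obtain ⟨x1, hx1, e1⟩ := exists_of_ncard_pos c1 hn1
  obtain ⟨x2, hx2, e2⟩ := exists_of_ncard_pos c2 hn2
  obtain ⟨x3, hx3, e3⟩ := exists_of_ncard_pos c3 hn3
  refine ⟨h • x1, hFinv h hh _ hx1, h • x2, hFinv h hh _ hx2, h • x3, hFinv h hh _ hx3, ?_, ?_, ?_, ?_⟩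
  · rw [ncard_orbit_stab B0 F inv0 hFinv hinv htrans hh hx1, e1, c1]
  · rw [ncard_orbit_stab B0 F inv0 hFinv hinv htrans hh hx2, e2, c2]
  · rw [ncard_orbit_stab B0 F inv0 hFinv hinv htrans hh hx3, e3, c3]
  · rw [orbit_stab_eq B0 F inv0 hFinv hinv htrans hh hx1,
      orbit_stab_eq B0 F inv0 hFinv hinv htrans hh hx2,
      orbit_stab_eq B0 F inv0 hFinv hinv htrans hh hx3, e1, e2, e3]
    ext z
    simp only [Set.mem_union, Set.mem_image, Set.mem_ofPred_eq]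
    constructor
    · intro hz
      have hy : h⁻¹ • z ∈ F := hFinv _ (M24.inv_mem hh) _ hz
      rcases hcls _ hy with hv | hv | hv
      · exact Or.inl (Or.inl ⟨h⁻¹ • z, ⟨hy, hv⟩, smul_inv_smul h z⟩)
      · exact Or.inl (Or.inr ⟨h⁻¹ • z, ⟨hy, hv⟩, smul_inv_smul h z⟩)
      · exact Or.inr ⟨h⁻¹ • z, ⟨hy, hv⟩, smul_inv_smul h z⟩
    · rintro ((⟨y, ⟨hy, -⟩, rfl⟩ | ⟨y, ⟨hy, -⟩, rfl⟩) | ⟨y, ⟨hy, -⟩, rfl⟩) <;>
        exact hFinv h hh _ hy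

theorem final4 (B0 : β) (F : Set α) (inv0 : α → ℕ)
    (hFinv : ∀ g ∈ M24, ∀ x ∈ F, g • x ∈ F)
    (hinv : ∀ g ∈ M24, g • B0 = B0 → ∀ x ∈ F, inv0 (g • x) = inv0 x)
    (htrans : ∀ x ∈ F, ∀ y ∈ F, inv0 x = inv0 y → ∃ g ∈ M24, g • B0 = B0 ∧ g • x = y)
    {v1 v2 v3 v4 n1 n2 n3 n4 : ℕ}
    (hcls : ∀ x ∈ F, inv0 x = v1 ∨ inv0 x = v2 ∨ inv0 x = v3 ∨ inv0 x = v4)
    (c1 : {x | x ∈ F ∧ inv0 x = v1}.ncard = n1) (c2 : {x | x ∈ F ∧ inv0 x = v2}.ncard = n2)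
    (c3 : {x | x ∈ F ∧ inv0 x = v3}.ncard = n3) (c4 : {x | x ∈ F ∧ inv0 x = v4}.ncard = n4)
    (hn1 : 0 < n1) (hn2 : 0 < n2) (hn3 : 0 < n3) (hn4 : 0 < n4)
    {h : Equiv.Perm GolayPt} (hh : h ∈ M24) :
    ∃ X₁ ∈ F, ∃ X₂ ∈ F, ∃ X₃ ∈ F, ∃ X₄ ∈ F,
      (MulAction.orbit ↥(MulAction.stabilizer ↥M24 (h • B0)) X₁).ncard = n1 ∧
      (MulAction.orbit ↥(MulAction.stabilizer ↥M24 (h • B0)) X₂).ncard = n2 ∧
      (MulAction.orbit ↥(MulAction.stabilizer ↥M24 (h • B0)) X₃).ncard = n3 ∧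
      (MulAction.orbit ↥(MulAction.stabilizer ↥M24 (h • B0)) X₄).ncard = n4 ∧
      F = MulAction.orbit ↥(MulAction.stabilizer ↥M24 (h • B0)) X₁ ∪
        MulAction.orbit ↥(MulAction.stabilizer ↥M24 (h • B0)) X₂ ∪
        MulAction.orbit ↥(MulAction.stabilizer ↥M24 (h • B0)) X₃ ∪
        MulAction.orbit ↥(MulAction.stabilizer ↥M24 (h • B0)) X₄ := by
  obtain ⟨x1, hx1, e1⟩ := exists_of_ncard_pos c1 hn1
  obtain ⟨x2, hx2, e2⟩ := exists_of_ncard_pos c2 hn2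
  obtain ⟨x3, hx3, e3⟩ := exists_of_ncard_pos c3 hn3
  obtain ⟨x4, hx4, e4⟩ := exists_of_ncard_pos c4 hn4
  refine ⟨h • x1, hFinv h hh _ hx1, h • x2, hFinv h hh _ hx2, h • x3, hFinv h hh _ hx3,
    h • x4, hFinv h hh _ hx4, ?_, ?_, ?_, ?_, ?_⟩
  · rw [ncard_orbit_stab B0 F inv0 hFinv hinv htrans hh hx1, e1, c1]
  · rw [ncard_orbit_stab B0 F inv0 hFinv hinv htrans hh hx2, e2, c2]
  · rw [ncard_orbit_stab B0 F inv0 hFinv hinv htrans hh hx3, e3, c3]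
  · rw [ncard_orbit_stab B0 F inv0 hFinv hinv htrans hh hx4, e4, c4]
  · rw [orbit_stab_eq B0 F inv0 hFinv hinv htrans hh hx1,
      orbit_stab_eq B0 F inv0 hFinv hinv htrans hh hx2,
      orbit_stab_eq B0 F inv0 hFinv hinv htrans hh hx3,
      orbit_stab_eq B0 F inv0 hFinv hinv htrans hh hx4, e1, e2, e3, e4]
    ext z
    simp only [Set.mem_union, Set.mem_image, Set.mem_ofPred_eq]
    constructor
    · intro hz
      have hy : h⁻¹ • z ∈ F := hFinv _ (M24.inv_mem hh) _ hz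
      rcases hcls _ hy with hv | hv | hv | hv
      · exact Or.inl (Or.inl (Or.inl ⟨h⁻¹ • z, ⟨hy, hv⟩, smul_inv_smul h z⟩))
      · exact Or.inl (Or.inl (Or.inr ⟨h⁻¹ • z, ⟨hy, hv⟩, smul_inv_smul h z⟩))
      · exact Or.inl (Or.inr ⟨h⁻¹ • z, ⟨hy, hv⟩, smul_inv_smul h z⟩)
      · exact Or.inr ⟨h⁻¹ • z, ⟨hy, hv⟩, smul_inv_smul h z⟩
    · rintro (((⟨y, ⟨hy, -⟩, rfl⟩ | ⟨y, ⟨hy, -⟩, rfl⟩) | ⟨y, ⟨hy, -⟩, rfl⟩) |
        ⟨y, ⟨hy, -⟩, rfl⟩) <;> exact hFinv h hh _ hy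

end Final

end Cfsg.Agent.Helper92
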