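import Cfsg.Agent.Lib.Helper92.OrbitCert2
import Cfsg.Agent.Lib.Helper7.Count

/-!
# The coded families of octads, sextets and trios for orbit certificates
-/

set_option autoImplicit false

namespace Cfsg.Agent.Helper92
open Cfsg Cfsg.Agent.Helper7
open scoped Pointwise

/-- An octad mask below `2 ^ 24` is determined by its twelve information bits. -/
theorem mask_eq_of_key12 {x a : ℕ} (hx : x < 2 ^ 24) (ha : a < 2 ^ 24) (hox : ofMask x ∈ octads)
    (hoa : ofMask a ∈ octads) (hk : key12 x = key12 a) : x = a := by
  have h1 : encMask x = x := (ofMask_mem_iff x hx).mp ((mem_octads_iff _).mp hox).1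
  have h2 : encMask a = a := (ofMask_mem_iff a ha).mp ((mem_octads_iff _).mp hoa).1
  rw [← h1, ← h2, ← encMask_mod x, ← encMask_mod a, ← key12_eq, ← key12_eq, hk]

theorem dec_singleton (m : ℕ) : dec [m] = {ofMask m} := by
  ext s
  rw [mem_dec, Finset.mem_singleton]
  constructor
  · rintro ⟨m', hm', rfl⟩
    rw [List.mem_singleton.mp hm']
  · rintro rfl
    exact ⟨m, List.mem_singleton.mpr rfl, rfl⟩

/-! ### Octads (as singleton families) -/

def octData : List (List ℕ) := octL.map fun m => [m]

def keyO (e : List ℕ) : ℕ := key12 (e.headD 0)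

/-- The singleton families of octads. -/
def octFams : Set (Finset (Finset GolayPt)) := {X | ∃ o ∈ octads, X = {o}}

theorem octData_keys : nodupKeysAux keyO octData 0 = true := by decide +kernel

def famOct : Fam where
  F := octFams
  data := octData
  key := keyO
  complete := by
    rintro X ⟨o, ho, rfl⟩
    obtain ⟨m, hm, rfl⟩ := exists_octL_of_mem ho
    exact ⟨[m], List.mem_map.mpr ⟨m, hm, rfl⟩, dec_singleton m⟩
  sound := by
    intro d hd
    obtain ⟨m, hm, rfl⟩ := List.mem_map.mp hd
    exact ⟨ofMask m, ofMask_octL_mem hm, dec_singleton m⟩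
  incr := by
    intro d hd
    obtain ⟨m, hm, rfl⟩ := List.mem_map.mp hd
    simp only [incrB, Nat.blt_eq]
    exact octL_lt hm
  keyNodup := nodupKeys_spec octData_keys
  smul_mem := by
    rintro g hg X ⟨o, ho, rfl⟩
    exact ⟨g • o, smul_mem_octads hg ho, Finset.smul_finset_singleton o⟩

theorem ncard_octFams : octFams.ncard = 759 := by
  have : octFams = (fun o : Finset GolayPt => ({o} : Finset (Finset GolayPt))) '' octads := by
    ext X
    simp only [octFams, Set.mem_ofPred_eq, Set.mem_image]
    constructor
    · rintro ⟨o, ho, rfl⟩; exact ⟨o, ho, rfl⟩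
    · rintro ⟨o, ho, rfl⟩; exact ⟨o, ho, rfl⟩
  rw [this, Set.ncard_image_of_injective _ Finset.singleton_injective, ncard_octads]

/-! ### Sextets -/

def keyS (e : List ℕ) : ℕ := Nat.mod (oddMember e) 31907

theorem sextetData_keys : nodupKeysAux keyS sextetData 0 = true := by decide +kernel

def famSext : Fam where
  F := sextets
  data := sextetData
  key := keyS
  complete := fun _ hX => sextet_complete hX
  sound := fun _ hd => dec_mem_sextets hd
  incr := fun _ hd => sextetData_incr hd
  keyNodup := nodupKeys_spec sextetData_keys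
  smul_mem := fun _ hg _ hX => smul_mem_sextets hg hX

theorem sextetData_length : sextetData.length = 1771 := by decide +kernel

theorem ncard_sextets_total : sextets.ncard = 1771 := by
  have h := ncard_sextets (fun _ => True) (fun _ => true) (fun _ _ => by simp)
  have hs : {S | S ∈ sextets ∧ True} = sextets := by
    ext S; simp
  rw [hs] at h
  have h2 : (sextetData.filter fun _ => true).length = sextetData.length :=
    congrArg List.length (List.filter_eq_self.mpr (fun _ _ => rfl))
  exact h.trans (h2.trans sextetData_length)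

/-! ### Trios -/

def keyT (e : List ℕ) : ℕ :=
  Nat.mod (Nat.add (Nat.mul (e.headD 0) 16777216) (e.getD 1 0)) 501235

theorem trioData_keys : nodupKeysAux keyT trioData 0 = true := by decide +kernel

/-- A trio is determined by two of its members. -/
theorem trio_eq_triple {T : Finset (Finset GolayPt)} (hT : T ∈ trios) {a b : Finset GolayPt}
    (ha : a ∈ T) (hb : b ∈ T) (hab : a ≠ b) : T = {a, b, (a ∪ b)ᶜ} := by
  obtain ⟨h3, hoct, hdis⟩ := hT
  have hcard : ((T.erase a).erase b).card = 1 := by
    rw [Finset.card_erase_of_mem (Finset.mem_erase.mpr ⟨hab.symm, hb⟩),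
      Finset.card_erase_of_mem ha, h3]
  obtain ⟨c, hc⟩ := Finset.card_eq_one.mp hcard
  have hcm : c ∈ (T.erase a).erase b := by rw [hc]; exact Finset.mem_singleton_self c
  have hcb : c ≠ b := (Finset.mem_erase.mp hcm).1
  have hca : c ≠ a := (Finset.mem_erase.mp (Finset.mem_erase.mp hcm).2).1
  have hcT : c ∈ T := (Finset.mem_erase.mp (Finset.mem_erase.mp hcm).2).2
  have hdab := hdis a ha b hb hab
  have hdca := hdis c hcT a ha hca
  have hdcb := hdis c hcT b hb hcb
  have hceq : c = (a ∪ b)ᶜ := by
    apply Finset.eq_of_subset_of_card_le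
    · intro p hp
      rw [Finset.mem_compl, Finset.mem_union]
      rintro (h | h)
      · exact Finset.disjoint_left.mp hdca hp h
      · exact Finset.disjoint_left.mp hdcb hp h
    · rw [Finset.card_compl, Finset.card_union_of_disjoint hdab, (hoct a ha).2, (hoct b hb).2,
        (hoct c hcT).2]
      rfl
  rw [← hceq]
  symm
  apply Finset.eq_of_subset_of_card_le
  · intro x hx
    simp only [Finset.mem_insert, Finset.mem_singleton] at hx
    rcases hx with rfl | rfl | rfl
    · exact ha
    · exact hb
    · exact hcT
  · rw [h3, Finset.card_insert_of_notMem (by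
      simp only [Finset.mem_insert, Finset.mem_singleton, not_or]
      exact ⟨hab, hca.symm⟩), Finset.card_insert_of_notMem (by
      simp only [Finset.mem_singleton]; exact hcb.symm), Finset.card_singleton]

theorem trio_eq_of_two {T T' : Finset (Finset GolayPt)} (hT : T ∈ trios) (hT' : T' ∈ trios)
    {a b : Finset GolayPt} (ha : a ∈ T) (hb : b ∈ T) (ha' : a ∈ T') (hb' : b ∈ T')
    (hab : a ≠ b) : T = T' := by
  rw [trio_eq_triple hT ha hb hab, trio_eq_triple hT' ha' hb' hab]

theorem key12_lt (m : ℕ) : key12 m < 4096 := by
  rw [key12_eq]; exact Nat.mod_lt _ (by norm_num)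

def famTrio : Fam where
  F := trios
  data := trioData
  key := keyT
  complete := fun _ hX => trio_complete hX
  sound := fun _ hd => dec_mem_trios hd
  incr := fun _ hd => trio_incr hd
  keyNodup := nodupKeys_spec trioData_keys
  smul_mem := fun _ hg _ hX => smul_mem_trios hg hX

theorem ncard_trios_total : trios.ncard = 3795 := by
  have h := ncard_trios (fun _ => True) (fun _ => true) (fun _ _ => by simp)
  have hs : {S | S ∈ trios ∧ True} = trios := by
    ext S; simp
  rw [hs] at h
  have h2 : (trioData.filter fun _ => true).length = trioData.length :=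
    congrArg List.length (List.filter_eq_self.mpr (fun _ _ => rfl))
  exact h.trans (h2.trans trioData_length)

end Cfsg.Agent.Helper92
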