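import Cfsg.Agent.Lib.Helper92.Classes2
import Cfsg.Agent.Lib.Helper92.Counts
import Cfsg.Agent.Lib.Helper7.Chain2

/-!
# An element of order seven of `M24`, its centraliser and the normaliser of its subgroup
-/

set_option autoImplicit false

namespace Cfsg.Agent.Helper92
open Cfsg Cfsg.Agent.Helper7
open scoped Pointwise

def ord7Prog : List (ℕ × ℕ) := [(0, 0), (0, 5), (0, 6), (0, 7), (0, 8), (0, 9), (0, 10), (0, 11), (0, 12), (0, 1), (0, 14), (0, 15), (1, 15), (0, 17), (0, 18), (1, 19), (0, 20), (0, 21), (0, 22), (1, 23), (18, 3), (25, 1), (26, 3), (27, 3), (28, 3), (29, 1), (30, 3), (31, 1), (0, 16), (32, 33), (8, 34), (35, 35), (35, 36), (35, 37), (35, 38), (35, 39), (35, 40), (35, 41), (35, 42), (35, 43), (41, 2), (45, 45), (45, 46), (45, 47), (45, 0), (3, 49), (50, 43), (45, 51), (35, 52), (3, 48), (54, 0), (36, 55), (56, 48), (57, 50), (58, 48), (45, 59), (58, 60), (58, 61), (45, 62), (58, 62), (45, 64), (45, 65), (45, 66), (45, 67), (58,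 68), (45, 63), (55, 52), (45, 71), (72, 48), (73, 71), (74, 71), (75, 71), (76, 48), (77, 58), (78, 78), (75, 48), (58, 45), (80, 81), (82, 79), (78, 83), (78, 84), (82, 84), (78, 86), (82, 86), (78, 88), (78, 89), (82, 90), (78, 87), (92, 82), (93, 93), (48, 71), (95, 63), (78, 96), (97, 79), (98, 96), (99, 96), (100, 79), (101, 79), (102, 96), (97, 96), (78, 45), (47, 105), (103, 106), (94, 107), (108, 93), (94, 109), (110, 91), (78, 111), (82, 111), (110, 78), (104, 114), (94, 115), (108, 116), (116, 93), (94, 118), (119, 117), (108, 120), (116, 120), (110, 122), (77, 48), (124, 48), (57, 55), (126, 44), (127, 55), (128, 48), (78, 24), (25, 130), (13, 131), (129, 132), (125, 133), (70, 112), (135, 108), (1, 53), (137, 69), (138, 92), (139, 121), (14, 66), (141, 87), (142, 94), (143, 117), (0, 53), (145, 68), (146, 85), (147, 123), (112, 119)]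

def l7 : List ℕ := [0, 1, 3, 4, 22, 20, 9, 18, 6, 14, 17, 13, 8, 12, 11, 5, 21, 19, 10, 16, 2, 7, 15, 23]
def t7cA : List ℕ := [23, 1, 7, 18, 10, 16, 8, 5, 12, 6, 2, 14, 13, 11, 9, 19, 22, 3, 20, 4, 21, 15, 17, 0]
def t7cB : List ℕ := [23, 0, 7, 18, 10, 16, 20, 12, 5, 2, 6, 4, 15, 22, 3, 19, 11, 9, 8, 14, 21, 13, 17, 1]
def t7cS : List ℕ := [1, 0, 6, 9, 14, 12, 2, 7, 20, 3, 10, 22, 5, 15, 4, 13, 16, 17, 18, 19, 8, 21, 11, 23]
def t7nA : List ℕ := [0, 1, 2, 4, 15, 22, 6, 21, 12, 14, 17, 8, 11, 9, 13, 3, 10, 16, 18, 7, 5, 19, 20, 23]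
def t7nB : List ℕ := [0, 1, 2, 15, 3, 20, 6, 19, 11, 13, 16, 12, 8, 14, 9, 4, 17, 10, 18, 21, 22, 7, 5, 23]
def t7r22 : List ℕ := [0, 1, 2, 22, 11, 4, 5, 3, 20, 21, 6, 10, 9, 18, 16, 19, 12, 13, 15, 17, 7, 14, 8, 23]
def t7r5 : List ℕ := [0, 1, 2, 5, 13, 14, 18, 12, 20, 19, 6, 9, 15, 22, 3, 7, 16, 17, 10, 11, 21, 8, 4, 23]
def t7r20 : List ℕ := [0, 1, 2, 20, 13, 15, 11, 18, 19, 5, 3, 7, 21, 4, 10, 17, 22, 9, 6, 12, 14, 8, 16, 23]

def ord7Tabs : List (List ℕ) := [l7, t7cA, t7cB, t7cS, t7nA, t7nB, t7r22, t7r5, t7r20]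

theorem ord7Tabs_sub : ∀ l ∈ ord7Tabs, l ∈ slpTabs ord7Prog m24InitTabs := by decide +kernel

theorem goodTabs_ord7 : GoodTabs M24 ord7Tabs :=
  (goodTabs_slp ord7Prog _ (goodTabs_init M24 shift_mem projInv_mem cubeTwist_mem)).subset
    ord7Tabs_sub

theorem exists_x7 : ∃ σ ∈ M24, Tab σ l7 := by
  obtain ⟨σ, hσ, ht, -⟩ := goodTabs_ord7 l7 (by simp [ord7Tabs])
  exact ⟨σ, hσ, ht⟩

/-- The element of order seven. -/
noncomputable def x7 : Equiv.Perm GolayPt := Classical.choose exists_x7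

theorem x7_mem : x7 ∈ M24 := (Classical.choose_spec exists_x7).1
theorem x7_tab : Tab x7 l7 := (Classical.choose_spec exists_x7).2

/-- Tables of the powers of `x7`. -/
def pow7 : ℕ → List ℕ
  | 0 => idTab
  | k + 1 => mulTab l7 (pow7 k)

theorem pow7_length (k : ℕ) : (pow7 k).length = 24 := by
  cases k with
  | zero => rfl
  | succ k => rw [pow7, mulTab_length]; exact pow7_length k

theorem tab_pow7 (k : ℕ) : Tab (x7 ^ k) (pow7 k) := by
  induction k with
  | zero => rw [pow_zero]; exact tab_one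
  | succ k ih =>
    rw [pow_succ', pow7]
    exact x7_tab.mul ih (pow7_length k)

theorem pow7_seven : pow7 7 = idTab := by decide +kernel

theorem x7_pow_seven : x7 ^ 7 = 1 := by
  have := tab_pow7 7
  rw [pow7_seven] at this
  exact tab_id_eq_one this

theorem x7_ne_one : x7 ≠ 1 := by
  intro h
  have h1 := x7_tab
  rw [h] at h1
  have := tab_ext h1 tab_one rfl rfl
  revert this
  decide

theorem orderOf_x7 : orderOf x7 = 7 := by
  have : Fact (Nat.Prime 7) := ⟨by norm_num⟩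
  exact orderOf_eq_prime x7_pow_seven x7_ne_one

/-- A point or family fixed by a nontrivial power of `x7` is fixed by `x7`. -/
theorem fixed_of_pow_fixed {α : Type*} [MulAction (Equiv.Perm GolayPt) α] {k : ℕ} (hk0 : 0 < k)
    (hk : k < 7) (a : α) (h : (x7 ^ k) • a = a) : x7 • a = a := by
  have hmem : x7 ^ k ∈ MulAction.stabilizer (Equiv.Perm GolayPt) a := h
  have key : ∃ j, (x7 ^ k) ^ j = x7 := by
    have h7 := x7_pow_seven
    interval_cases k
    · exact ⟨1, by rw [pow_one, pow_one]⟩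
    · exact ⟨4, by rw [← pow_mul, show 2 * 4 = 7 * 1 + 1 from rfl, pow_add, pow_mul, h7, one_pow,
        one_mul, pow_one]⟩
    · exact ⟨5, by rw [← pow_mul, show 3 * 5 = 7 * 2 + 1 from rfl, pow_add, pow_mul, h7, one_pow,
        one_mul, pow_one]⟩
    · exact ⟨2, by rw [← pow_mul, show 4 * 2 = 7 * 1 + 1 from rfl, pow_add, pow_mul, h7, one_pow,
        one_mul, pow_one]⟩
    · exact ⟨3, by rw [← pow_mul, show 5 * 3 = 7 * 2 + 1 from rfl, pow_add, pow_mul, h7, one_pow,
        one_mul, pow_one]⟩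
    · exact ⟨6, by rw [← pow_mul, show 6 * 6 = 7 * 5 + 1 from rfl, pow_add, pow_mul, h7, one_pow,
        one_mul, pow_one]⟩
  obtain ⟨j, hj⟩ := key
  have := Subgroup.pow_mem _ hmem j
  rw [hj] at this
  exact this

/-! ### The invariant trio -/

def trio7 : List ℕ := [31554, 5275709, 11469952]

theorem filt_trio7 : (trioData.filter (fixB l7)) = [trio7] := by decide +kernel

theorem trio7_mem : trio7 ∈ trioData := by
  have : trio7 ∈ trioData.filter (fixB l7) := by rw [filt_trio7]; exact List.mem_singleton.mpr rfl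
  exact (List.mem_filter.mp this).1

theorem trio7_trio : dec trio7 ∈ trios := dec_mem_trios trio7_mem

theorem trio7_fix : x7 • dec trio7 = dec trio7 := by
  have : trio7 ∈ trioData.filter (fixB l7) := by rw [filt_trio7]; exact List.mem_singleton.mpr rfl
  exact (fixB_spec x7_tab rfl (trio_incr trio7_mem)).mp (List.mem_filter.mp this).2

theorem trio7_unique {T : Finset (Finset GolayPt)} (hT : T ∈ trios) (h : x7 • T = T) :
    T = dec trio7 := by
  obtain ⟨e, he, rfl⟩ := trio_complete hT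
  have : e ∈ trioData.filter (fixB l7) :=
    List.mem_filter.mpr ⟨he, (fixB_spec x7_tab rfl (trio_incr he)).mpr h⟩
  rw [filt_trio7, List.mem_singleton] at this
  rw [this]

end Cfsg.Agent.Helper92
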