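import Cfsg.Agent.Lib.Helper92.SixSets
import Cfsg.Agent.Lib.Helper7.M24Order

/-!
# Six-point subsets: normal form and stabilisers
-/

set_option autoImplicit false

namespace Cfsg.Agent.Helper92
open Cfsg Cfsg.Agent.Helper7
open scoped Pointwise

theorem smul_toFinset (g : Equiv.Perm GolayPt) (l : List GolayPt) :
    g • l.toFinset = (l.map g).toFinset := by
  rw [smul_finset_eq]
  ext p
  simp only [Finset.mem_image, List.mem_toFinset, List.mem_map]

/-- Every 6-set is a translate of one of the two representatives. -/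
theorem six_normal (E : Finset GolayPt) (hE : E.card = 6) :
    ∃ k ∈ M24, k • E = finL six1 ∨ k • E = finL six2 := by
  have hl : E.toList.length = 6 := by rw [Finset.length_toList, hE]
  have hnd := E.nodup_toList
  have hEq : E = E.toList.toFinset := (Finset.toList_toFinset E).symm
  match hm : E.toList, hl with
  | [e1, e2, e3, e4, e5, e6], _ =>
    rw [hm] at hnd hEq
    simp only [List.nodup_cons, List.mem_cons, List.not_mem_nil, or_false, not_or,
      List.nodup_nil, and_true, not_false_eq_true] at hnd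
    obtain ⟨⟨n12, n13, n14, n15, n16⟩, ⟨n23, n24, n25, n26⟩, ⟨n34, n35, n36⟩, ⟨n45, n46⟩, n56⟩ := hnd
    have hnd5 : [e1, e2, e3, e4, e5].Nodup := by
      simp only [List.nodup_cons, List.mem_cons, List.not_mem_nil, or_false, not_or,
        List.nodup_nil, and_true, not_false_eq_true]
      exact ⟨⟨n12, n13, n14, n15⟩, ⟨n23, n24, n25⟩, ⟨n34, n35⟩, n45⟩
    obtain ⟨h, hh, hmap⟩ := exists_to_base [e1, e2, e3, e4, e5] hnd5 rfl
    simp only [List.map_cons, List.map_nil, base5, List.cons.injEq, and_true] at hmap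
    obtain ⟨m1, m2, m3, m4, m5⟩ := hmap
    have hY : h e6 ∉ base5.map pt := by
      rw [mem_base_iff]
      rintro (hY | hY | hY | hY | hY)
      · exact n16 (h.injective (m1.trans hY.symm))
      · exact n26 (h.injective (m2.trans hY.symm))
      · exact n36 (h.injective (m3.trans hY.symm))
      · exact n46 (h.injective (m4.trans hY.symm))
      · exact n56 (h.injective (m5.trans hY.symm))
    obtain ⟨k', hk', hkY⟩ := g5_move hY
    have kfix := (mem_G5.mp hk').2
    refine ⟨k' * h, M24.mul_mem (mem_G5.mp hk').1 hh, ?_⟩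
    rw [hEq, smul_toFinset]
    simp only [List.map_cons, List.map_nil, Equiv.Perm.mul_apply]
    rw [m1, m2, m3, m4, m5, kfix 23 (by decide), kfix 0 (by decide), kfix 1 (by decide),
      kfix 2 (by decide), kfix 3 (by decide)]
    rcases hkY with hkY | hkY
    · left; rw [hkY]; rfl
    · right; rw [hkY]; rfl

/-! ### Pointwise stabilisers -/

theorem six_sub_G5 {L : List ℕ} (hL : ∀ b ∈ base5, b ∈ L) {g : Equiv.Perm GolayPt}
    (hg : g ∈ stabL M24 (L.map pt)) : g ∈ G5 := by
  rw [mem_stabL] at hg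
  exact mem_G5.mpr ⟨hg.1, fun b hb => hg.2 _ (List.mem_map.mpr ⟨b, hL b hb, rfl⟩)⟩

def orb4 : List ℕ := [4, 6, 7, 8, 9, 10, 11, 12, 13, 15, 16, 18, 19, 20, 21, 22]
def orb5 : List ℕ := [5, 14, 17]

theorem p1_lower : orb4.all (fun q => g5Tabs.any fun l =>
    Nat.beq (l.getD 5 0) 5 && Nat.beq (l.getD 4 0) q) = true := by decide +kernel
theorem p1_upper : g5Tabs.all (fun l => !(Nat.beq (l.getD 5 0) 5) ||
    orb4.contains (l.getD 4 0)) = true := by decide +kernel
theorem p2_lower : orb5.all (fun q => g5Tabs.any fun l =>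
    Nat.beq (l.getD 4 0) 4 && Nat.beq (l.getD 5 0) q) = true := by decide +kernel
theorem p2_upper : g5Tabs.all (fun l => !(Nat.beq (l.getD 4 0) 4) ||
    orb5.contains (l.getD 5 0)) = true := by decide +kernel

theorem card_finL {L : List ℕ} (hnd : L.Nodup) (hlt : ∀ c ∈ L, c < 24) :
    (finL L).card = L.length := by
  rw [finL, List.toFinset_card_of_nodup, List.length_map]
  rw [List.nodup_map_iff_inj_on hnd]
  intro a ha b hb hab
  exact pt_injOn (hlt a ha) (hlt b hb) hab

/-- One step of the chain: the stabiliser of six base points extended by a seventh. -/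
theorem card_ptStab (L : List ℕ) (hL : ∀ b ∈ base5, b ∈ L) (x y : ℕ) (hx : x < 24) (hy : y < 24)
    (hxL : x ∈ L) (orb : List ℕ) (hnd : orb.Nodup) (hlt : ∀ c ∈ orb, c < 24)
    (hlow : orb.all (fun q => g5Tabs.any fun l =>
      Nat.beq (l.getD x 0) x && Nat.beq (l.getD y 0) q) = true)
    (hup : g5Tabs.all (fun l => !(Nat.beq (l.getD x 0) x) || orb.contains (l.getD y 0)) = true)
    (hLx : ∀ c ∈ L, c ∈ base5 ∨ c = x)
    (hbot : stabIn (stabL M24 (L.map pt)) (pt y) = ⊥) :
    Nat.card ↥(stabL M24 (L.map pt)) = orb.length := by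
  have h := card_eq_mul_of_orbit (stabL M24 (L.map pt)) (pt y) (finL orb) (by
    intro q
    constructor
    · intro hq
      obtain ⟨a, ha, rfl⟩ := mem_finL.mp hq
      obtain ⟨l, hl, h2⟩ := List.any_eq_true.mp (List.all_eq_true.mp hlow a ha)
      rw [Bool.and_eq_true] at h2
      obtain ⟨g, hg, ht, hlen⟩ := goodTabs_g5 l hl
      refine ⟨g, mem_stabL.mpr ⟨(mem_G5.mp hg).1, ?_⟩, ?_⟩
      · intro b hb
        obtain ⟨c, hc, rfl⟩ := List.mem_map.mp hb
        rcases hLx c hc with hc5 | rfl
        · exact (mem_G5.mp hg).2 c hc5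
        · rw [tab_apply_idx ht, idx_pt c hx, Nat.eq_of_beq_eq_true h2.1]
      · rw [tab_apply_idx ht, idx_pt y hy, Nat.eq_of_beq_eq_true h2.2]
    · rintro ⟨g, hg, rfl⟩
      have hG5 := six_sub_G5 hL hg
      obtain ⟨l, hl, ht⟩ := g5_elem hG5
      have hgx : g (pt x) = pt x := (mem_stabL.mp hg).2 _ (List.mem_map.mpr ⟨x, hxL, rfl⟩)
      have h1 := List.all_eq_true.mp hup l hl
      rw [Bool.or_eq_true, (Nat.beq_eq).mpr (tab_getD_eq ht hx hx hgx)] at h1
      rcases h1 with h1 | h1
      · exact absurd h1 (by decide)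
      · rw [List.contains_iff_mem] at h1
        exact mem_finL.mpr ⟨_, h1, by rw [tab_apply_idx ht, idx_pt y hy]⟩)
  rw [h, hbot, Subgroup.card_bot, mul_one, card_finL hnd hlt]

theorem stab7_bot_of {L : List GolayPt} (hL : ∀ b ∈ [23, 0, 1, 2, 3, 5, 4].map pt, b ∈ L) :
    stabL M24 L = ⊥ := by
  rw [eq_bot_iff, ← m24_stab7]
  intro g hg
  rw [mem_stabL] at hg ⊢
  exact ⟨hg.1, fun b hb => hg.2 b (hL b hb)⟩

theorem card_P1 : Nat.card ↥(stabL M24 (six1.map pt)) = 16 :=
  card_ptStab six1 (by decide) 5 4 (by norm_num) (by norm_num) (by decide) orb4 (by decide)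
    (by decide) p1_lower p1_upper (by decide) (by
      rw [← stabL_append]
      exact stab7_bot_of (by decide))

theorem card_P2 : Nat.card ↥(stabL M24 (six2.map pt)) = 3 :=
  card_ptStab six2 (by decide) 4 5 (by norm_num) (by norm_num) (by decide) orb5 (by decide)
    (by decide) p2_lower p2_upper (by decide) (by
      rw [← stabL_append]
      exact stab7_bot_of (by decide))

/-! ### Setwise stabilisers -/

/-- The setwise stabiliser in `M24`, as a subgroup of the symmetric group. -/
def setStab (F : Finset GolayPt) : Subgroup (Equiv.Perm GolayPt) :=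
  M24 ⊓ MulAction.stabilizer (Equiv.Perm GolayPt) F

theorem mem_setStab {F : Finset GolayPt} {g : Equiv.Perm GolayPt} :
    g ∈ setStab F ↔ g ∈ M24 ∧ g • F = F := Iff.rfl

theorem smul_eq_of_maps {g : Equiv.Perm GolayPt} {F : Finset GolayPt}
    (h : ∀ p ∈ F, g p ∈ F) : g • F = F := by
  apply Finset.eq_of_subset_of_card_le
  · intro q hq
    obtain ⟨p, hp, rfl⟩ := Finset.mem_smul_finset.mp hq
    exact h p hp
  · rw [Finset.card_smul_finset]

theorem apply_mem_of_smul_eq {g : Equiv.Perm GolayPt} {F : Finset GolayPt} (h : g • F = F)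
    {p : GolayPt} (hp : p ∈ F) : g p ∈ F := by
  have := Finset.smul_mem_smul_finset (a := g) hp
  rwa [h, Equiv.Perm.smul_def] at this

/-- One step of the chain for the setwise stabiliser of the points of a list on which all
transpositions are induced. -/
theorem chain_step {L pre post : List ℕ} {b : ℕ} (hL : L = pre ++ b :: post) (hnd : L.Nodup)
    (hlt : ∀ c ∈ L, c < 24) {tabs : List (List ℕ)} (hT : GoodTabs M24 tabs)
    (hsw : swapsOK L tabs = true) :
    Nat.card ↥(stabL (setStab (finL L)) (pre.map pt)) =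
      (b :: post).length * Nat.card ↥(stabL (setStab (finL L)) ((pre ++ [b]).map pt)) := by
  have hbL : b ∈ L := by rw [hL]; simp
  have hpreL : ∀ c ∈ pre, c ∈ L := fun c hc => by rw [hL]; simp [hc]
  have hpostL : ∀ c ∈ b :: post, c ∈ L := fun c hc => by
    rw [hL]; exact List.mem_append_right _ hc
  have hnd' : (pre ++ b :: post).Nodup := hL ▸ hnd
  have hdisj : ∀ c ∈ pre, c ∉ b :: post := fun c hc hc' =>
    (List.disjoint_of_nodup_append hnd') hc hc'
  have hndpost : (b :: post).Nodup := (List.nodup_append.mp hnd').2.1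
  rw [List.map_append, List.map_singleton, stabL_append]
  have h := card_eq_mul_of_orbit (stabL (setStab (finL L)) (pre.map pt)) (pt b)
    (finL (b :: post)) (by
    intro q
    constructor
    · intro hq
      obtain ⟨c, hc, rfl⟩ := mem_finL.mp hq
      by_cases hcb : c = b
      · subst hcb
        exact ⟨1, Subgroup.one_mem _, rfl⟩
      · obtain ⟨t, ht, h1, h2, h3⟩ := swap_elt hT hlt hsw hbL (hpostL c hc) (Ne.symm hcb)
        refine ⟨t, mem_stabL.mpr ⟨mem_setStab.mpr ⟨ht, ?_⟩, ?_⟩, h1⟩
        · apply smul_eq_of_maps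
          intro p hp
          obtain ⟨d, hd, rfl⟩ := mem_finL.mp hp
          by_cases hdb : d = b
          · subst hdb; rw [h1]; exact mem_finL.mpr ⟨c, hpostL c hc, rfl⟩
          · by_cases hdc : d = c
            · subst hdc; rw [h2]; exact mem_finL.mpr ⟨b, hbL, rfl⟩
            · rw [h3 d hd hdb hdc]; exact mem_finL.mpr ⟨d, hd, rfl⟩
        · intro p hp
          obtain ⟨d, hd, rfl⟩ := List.mem_map.mp hp
          have hdb : d ≠ b := fun h => hdisj d hd (h ▸ List.mem_cons_self)
          have hdc : d ≠ c := fun h => hdisj d hd (h ▸ hc)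
          exact h3 d (hpreL d hd) hdb hdc
    · rintro ⟨g, hg, rfl⟩
      obtain ⟨hgs, hfix⟩ := mem_stabL.mp hg
      have hmem := apply_mem_of_smul_eq (mem_setStab.mp hgs).2 (mem_finL.mpr ⟨b, hbL, rfl⟩)
      obtain ⟨c, hc, hcg⟩ := mem_finL.mp hmem
      rw [hL, List.mem_append] at hc
      rcases hc with hc | hc
      · exfalso
        have h1 : g (pt c) = pt c := hfix _ (List.mem_map.mpr ⟨c, hc, rfl⟩)
        have h2 : pt b = pt c := g.injective (hcg.symm.trans h1.symm)
        have h3 : b = c := pt_injOn (hlt b hbL) (hlt c (hpreL c hc)) h2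
        exact hdisj c hc (h3 ▸ List.mem_cons_self)
      · exact mem_finL.mpr ⟨c, hc, hcg⟩)
  rw [h, card_finL hndpost (fun c hc => hlt c (hpostL c hc))]

theorem setStab_ptwise (L : List ℕ) :
    stabL (setStab (finL L)) (L.map pt) = stabL M24 (L.map pt) := by
  ext g
  rw [mem_stabL, mem_stabL, mem_setStab]
  constructor
  · rintro ⟨⟨h1, _⟩, h2⟩
    exact ⟨h1, h2⟩
  · rintro ⟨h1, h2⟩
    refine ⟨⟨h1, smul_eq_of_maps ?_⟩, h2⟩
    intro p hp
    obtain ⟨c, hc, rfl⟩ := mem_finL.mp hp
    rw [h2 _ (List.mem_map.mpr ⟨c, hc, rfl⟩)]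
    exact mem_finL.mpr ⟨c, hc, rfl⟩

theorem goodTabs_swaps2 : GoodTabs M24 swapTabs2 :=
  goodTabs_swaps.subset (fun _ hl => List.mem_append_right _ hl)

theorem goodTabs_swaps1 : GoodTabs M24 swapTabs1 :=
  goodTabs_swaps.subset (fun _ hl => List.mem_append_left _ hl)

theorem card_setStab2 : Nat.card ↥(setStab (finL six2)) = 2160 := by
  have hnd : six2.Nodup := by decide
  have hlt : ∀ c ∈ six2, c < 24 := by decide
  have s0 := chain_step (L := six2) (pre := []) (b := 23) (post := [0, 1, 2, 3, 4]) rfl hnd hlt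
    goodTabs_swaps2 swapsOK2
  have s1 := chain_step (L := six2) (pre := [23]) (b := 0) (post := [1, 2, 3, 4]) rfl hnd hlt
    goodTabs_swaps2 swapsOK2
  have s2 := chain_step (L := six2) (pre := [23, 0]) (b := 1) (post := [2, 3, 4]) rfl hnd hlt
    goodTabs_swaps2 swapsOK2
  have s3 := chain_step (L := six2) (pre := [23, 0, 1]) (b := 2) (post := [3, 4]) rfl hnd hlt
    goodTabs_swaps2 swapsOK2
  have s4 := chain_step (L := six2) (pre := [23, 0, 1, 2]) (b := 3) (post := [4]) rfl hnd hlt
    goodTabs_swaps2 swapsOK2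
  have s5 := chain_step (L := six2) (pre := [23, 0, 1, 2, 3]) (b := 4) (post := []) rfl hnd hlt
    goodTabs_swaps2 swapsOK2
  have s6 : Nat.card ↥(stabL (setStab (finL six2)) (([23, 0, 1, 2, 3] ++ [4]).map pt)) = 3 := by
    have : ([23, 0, 1, 2, 3] ++ [4] : List ℕ) = six2 := rfl
    rw [this, setStab_ptwise, card_P2]
  have e0 : stabL (setStab (finL six2)) (([] : List ℕ).map pt) = setStab (finL six2) := rfl
  rw [e0] at s0
  simp only [List.cons_append, List.nil_append, List.length_cons, List.length_nil] at s0 s1 s2 s3 s4 s5 s6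
  rw [s0, s1, s2, s3, s4, s5, s6]

/-! ### Octads through the representatives -/

theorem six1_sub : finL six1 ⊆ ofMask baseOct := by
  intro p hp
  obtain ⟨a, ha, rfl⟩ := mem_finL.mp hp
  rw [mem_ofMask']
  have : ∀ a ∈ six1, baseOct.testBit (idx (pt a)) = true := by decide
  exact this a ha

theorem six2_not_sub {o : Finset GolayPt} (ho : o ∈ octads) : ¬ finL six2 ⊆ o := by
  intro h
  have h5 : 5 ≤ (o ∩ ofMask baseOct).card := by
    have hsub : finL base5 ⊆ o ∩ ofMask baseOct := by
      intro p hp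
      obtain ⟨a, ha, rfl⟩ := mem_finL.mp hp
      rw [Finset.mem_inter]
      constructor
      · apply h
        have : ∀ a ∈ base5, a ∈ six2 := by decide
        exact mem_finL.mpr ⟨a, this a ha, rfl⟩
      · rw [mem_ofMask']
        have : ∀ a ∈ base5, baseOct.testBit (idx (pt a)) = true := by decide
        exact this a ha
    calc 5 = (finL base5).card := by rw [card_finL (by decide) (by decide)]; rfl
      _ ≤ _ := Finset.card_le_card hsub
  have heq := octad_eq_of_inter ho (isOct_spec baseOct_isOct) h5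
  have h4 : pt 4 ∈ o := h (mem_finL.mpr ⟨4, by decide, rfl⟩)
  rw [heq, mem_ofMask'] at h4
  revert h4
  decide

end Cfsg.Agent.Helper92
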