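import Cfsg.Agent.Lib.Helper92.Ord7
import Cfsg.Agent.Lib.Helper92.SixSets2

/-!
# The normaliser and the centraliser of the tabulated subgroup of order seven of `M24`
-/

set_option autoImplicit false

namespace Cfsg.Agent.Helper92
open Cfsg Cfsg.Agent.Helper7
open scoped Pointwise

/-- `n` lies in `M24` and normalises the subgroup generated by `x7`. -/
def NormP (n : Equiv.Perm GolayPt) : Prop :=
  n ∈ M24 ∧ ∃ k, 0 < k ∧ k < 7 ∧ n * x7 = x7 ^ k * n

/-- `n` lies in `M24` and commutes with `x7`. -/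
def CentP (n : Equiv.Perm GolayPt) : Prop := n ∈ M24 ∧ n * x7 = x7 * n

theorem CentP.normP {n : Equiv.Perm GolayPt} (h : CentP n) : NormP n :=
  ⟨h.1, 1, by norm_num, by norm_num, by rw [pow_one]; exact h.2⟩

/-- The element of order seven as an element of `M24`. -/
noncomputable def x7' : ↥M24 := ⟨x7, x7_mem⟩

/-- The tabulated subgroup of order seven. -/
noncomputable def S7 : Subgroup ↥M24 := Subgroup.zpowers x7'

/-- Its normaliser, as a subgroup of the symmetric group. -/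
noncomputable def N7 : Subgroup (Equiv.Perm GolayPt) :=
  (Subgroup.normalizer (S7 : Set ↥M24)).map M24.subtype

/-- Its centraliser, as a subgroup of the symmetric group. -/
noncomputable def C7 : Subgroup (Equiv.Perm GolayPt) :=
  (Subgroup.centralizer (S7 : Set ↥M24)).map M24.subtype

theorem x7'_pow (k : ℕ) : ((x7' ^ k : ↥M24) : Equiv.Perm GolayPt) = x7 ^ k := rfl

theorem orderOf_x7' : orderOf x7' = 7 := by
  rw [← orderOf_x7]
  exact (Subgroup.orderOf_coe x7').symm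

theorem card_S7 : Nat.card S7 = 7 := by
  rw [S7, Nat.card_zpowers, orderOf_x7']

theorem mem_S7_iff {h : ↥M24} : h ∈ S7 ↔ ∃ j : ℤ, x7' ^ j = h := Subgroup.mem_zpowers_iff

theorem mem_N7 {n : Equiv.Perm GolayPt} : n ∈ N7 ↔ NormP n := by
  constructor
  · rintro ⟨n', hn', rfl⟩
    refine ⟨n'.2, ?_⟩
    have h1 : n' * x7' * n'⁻¹ ∈ S7 :=
      (Subgroup.mem_normalizer_iff.mp hn' x7').mp (Subgroup.mem_zpowers x7')
    obtain ⟨j, hj⟩ := mem_S7_iff.mp h1
    have hj' : x7 ^ j = (n' : Equiv.Perm GolayPt) * x7 * (n' : Equiv.Perm GolayPt)⁻¹ := by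
      have := congrArg Subtype.val hj
      simpa [x7'] using this
    have hmod : x7 ^ (j % 7) = x7 ^ j := by
      have := zpow_mod_orderOf x7 j
      rwa [orderOf_x7] at this
    have hnn : 0 ≤ j % 7 := Int.emod_nonneg _ (by norm_num)
    have hlt : j % 7 < 7 := Int.emod_lt_of_pos _ (by norm_num)
    obtain ⟨k, hk⟩ := Int.eq_ofNat_of_zero_le hnn
    rw [hk, zpow_natCast] at hmod
    have hk7 : k < 7 := by omega
    have hkeq : (n' : Equiv.Perm GolayPt) * x7 = x7 ^ k * (n' : Equiv.Perm GolayPt) := by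
      rw [hmod, hj']; group
    refine ⟨k, ?_, hk7, hkeq⟩
    rcases Nat.eq_zero_or_pos k with rfl | hpos
    · exfalso
      rw [pow_zero, one_mul] at hkeq
      exact x7_ne_one (mul_left_cancel (hkeq.trans (mul_one _).symm))
    · exact hpos
  · rintro ⟨hM, k, -, -, hk⟩
    refine ⟨⟨n, hM⟩, ?_, rfl⟩
    apply Subgroup.mem_normalizer_fintype
    intro h hh
    obtain ⟨j, rfl⟩ := mem_S7_iff.mp hh
    have hc : (⟨n, hM⟩ : ↥M24) * x7' * (⟨n, hM⟩ : ↥M24)⁻¹ = x7' ^ k := by
      apply Subtype.ext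
      change n * x7 * n⁻¹ = x7 ^ k
      rw [hk]; group
    have : (⟨n, hM⟩ : ↥M24) * x7' ^ j * (⟨n, hM⟩ : ↥M24)⁻¹ = (x7' ^ k) ^ j := by
      rw [← hc, conj_zpow]
    rw [SetLike.mem_coe, this]
    exact Subgroup.zpow_mem _ (Subgroup.pow_mem _ (Subgroup.mem_zpowers _) k) j

theorem mem_C7 {n : Equiv.Perm GolayPt} : n ∈ C7 ↔ CentP n := by
  constructor
  · rintro ⟨c', hc', rfl⟩
    refine ⟨c'.2, ?_⟩
    have := Subgroup.mem_centralizer_iff.mp hc' x7' (Subgroup.mem_zpowers x7')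
    have h2 := congrArg Subtype.val this
    exact h2.symm
  · rintro ⟨hM, hc⟩
    refine ⟨⟨n, hM⟩, ?_, rfl⟩
    rw [SetLike.mem_coe, Subgroup.mem_centralizer_iff]
    intro h hh
    obtain ⟨j, rfl⟩ := mem_S7_iff.mp hh
    have hcomm : Commute x7' (⟨n, hM⟩ : ↥M24) := by
      apply Subtype.ext
      exact hc.symm
    exact (hcomm.zpow_left j).eq

theorem card_N7 : Nat.card ↥(Subgroup.normalizer (S7 : Set ↥M24)) = Nat.card ↥N7 :=
  (card_map_subtype M24 _).symm

theorem card_C7 : Nat.card ↥(Subgroup.centralizer (S7 : Set ↥M24)) = Nat.card ↥C7 :=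
  (card_map_subtype M24 _).symm

/-! ### Consequences of the normalising relation -/

theorem NormP.fixed {α : Type*} [MulAction (Equiv.Perm GolayPt) α] {n : Equiv.Perm GolayPt}
    (hn : NormP n) (a : α) (ha : x7 • a = a) : x7 • (n • a) = n • a := by
  obtain ⟨_, k, hk0, hk7, hk⟩ := hn
  apply fixed_of_pow_fixed hk0 hk7
  rw [← mul_smul, ← hk, mul_smul, ha]

theorem l7_fix : ∀ i < 24, l7.getD i 0 = i → i = 23 ∨ i = 0 ∨ i = 1 := by decide

theorem x7_fix_iff (p : GolayPt) : x7 p = p ↔ p = pt 23 ∨ p = pt 0 ∨ p = pt 1 := by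
  rw [tab_fix_iff x7_tab]
  constructor
  · intro h
    rcases l7_fix (idx p) (idx_lt p) h with h | h | h
    · left; rw [← h, pt_idx]
    · right; left; rw [← h, pt_idx]
    · right; right; rw [← h, pt_idx]
  · rintro (rfl | rfl | rfl) <;> decide

theorem NormP.fixpt {n : Equiv.Perm GolayPt} (hn : NormP n) {p : GolayPt} (hp : x7 p = p) :
    n p = pt 23 ∨ n p = pt 0 ∨ n p = pt 1 := by
  rw [← x7_fix_iff]
  exact hn.fixed (α := GolayPt) p hp

theorem x7_pt23 : x7 (pt 23) = pt 23 := (x7_fix_iff _).mpr (Or.inl rfl)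
theorem x7_pt0 : x7 (pt 0) = pt 0 := (x7_fix_iff _).mpr (Or.inr (Or.inl rfl))
theorem x7_pt1 : x7 (pt 1) = pt 1 := (x7_fix_iff _).mpr (Or.inr (Or.inr rfl))

theorem pt_ne {a b : ℕ} (ha : a < 24) (hb : b < 24) (hab : a ≠ b) : pt a ≠ pt b :=
  fun h => hab (pt_injOn ha hb h)

theorem up0 {n : Equiv.Perm GolayPt} (hn : NormP n) : ∃ q ∈ [23, 0, 1], n (pt 23) = pt q := by
  rcases hn.fixpt x7_pt23 with h | h | h
  · exact ⟨23, by simp, h⟩
  · exact ⟨0, by simp, h⟩
  · exact ⟨1, by simp, h⟩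

theorem up1 {n : Equiv.Perm GolayPt} (hn : NormP n) (h23 : n (pt 23) = pt 23) :
    ∃ q ∈ [0, 1], n (pt 0) = pt q := by
  rcases hn.fixpt x7_pt0 with h | h | h
  · exfalso
    exact pt_ne (by norm_num) (by norm_num) (by norm_num : (0 : ℕ) ≠ 23)
      (n.injective (h.trans h23.symm))
  · exact ⟨0, by simp, h⟩
  · exact ⟨1, by simp, h⟩

theorem fix1 {n : Equiv.Perm GolayPt} (hn : NormP n) (h23 : n (pt 23) = pt 23)
    (h0 : n (pt 0) = pt 0) : n (pt 1) = pt 1 := by
  rcases hn.fixpt x7_pt1 with h | h | h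
  · exfalso
    exact pt_ne (by norm_num) (by norm_num) (by norm_num : (1 : ℕ) ≠ 23)
      (n.injective (h.trans h23.symm))
  · exfalso
    exact pt_ne (by norm_num) (by norm_num) (by norm_num : (1 : ℕ) ≠ 0)
      (n.injective (h.trans h0.symm))
  · exact h

/-! ### The invariant trio and the third level -/

theorem NormP.trio {n : Equiv.Perm GolayPt} (hn : NormP n) : n • dec trio7 = dec trio7 :=
  trio7_unique (smul_mem_trios hn.1 trio7_trio) (hn.fixed _ trio7_fix)

theorem oct2_mem : ∀ i < 24, (5275709 : ℕ).testBit i = true →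
    i ∈ [0, 2, 3, 4, 22, 15, 5, 20] := by decide +kernel

theorem oct2_fix {n : Equiv.Perm GolayPt} (hn : NormP n) (h0 : n (pt 0) = pt 0) :
    n • ofMask 5275709 = ofMask 5275709 := by
  have hT := hn.trio
  have hmem : n • ofMask 5275709 ∈ n • dec trio7 :=
    Finset.smul_mem_smul_finset (mem_dec.mpr ⟨5275709, by decide, rfl⟩)
  rw [hT] at hmem
  obtain ⟨m, hm, hmeq⟩ := mem_dec.mp hmem
  have h0mem : (m : ℕ).testBit 0 = true := by
    have h1 : pt 0 ∈ ofMask 5275709 := by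
      rw [mem_ofMask', idx_pt 0 (by norm_num)]; decide +kernel
    have h2 := Finset.smul_mem_smul_finset (a := n) h1
    rw [Equiv.Perm.smul_def, h0, ← hmeq, mem_ofMask', idx_pt 0 (by norm_num)] at h2
    exact h2
  simp only [trio7, List.mem_cons, List.not_mem_nil, or_false] at hm
  rcases hm with rfl | rfl | rfl
  · exfalso; revert h0mem; decide +kernel
  · exact hmeq.symm
  · exfalso; revert h0mem; decide +kernel

theorem up2 {n : Equiv.Perm GolayPt} (hn : NormP n) (h0 : n (pt 0) = pt 0) :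
    ∃ q ∈ [2, 3, 4, 22, 15, 5, 20], n (pt 2) = pt q := by
  have h2 : pt 2 ∈ ofMask 5275709 := by
    rw [mem_ofMask', idx_pt 2 (by norm_num)]; decide +kernel
  have h3 := apply_mem_of_smul_eq (oct2_fix hn h0) h2
  rw [mem_ofMask'] at h3
  have h4 := oct2_mem _ (idx_lt _) h3
  refine ⟨idx (n (pt 2)), ?_, (pt_idx _).symm⟩
  rw [List.mem_cons] at h4
  rcases h4 with h4 | h4
  · exfalso
    have h5 : n (pt 2) = pt 0 := by rw [← pt_idx (n (pt 2)), h4]
    exact pt_ne (by norm_num) (by norm_num) (by norm_num : (2 : ℕ) ≠ 0)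
      (n.injective (h5.trans h0.symm))
  · exact h4

/-! ### Boolean tests on tables -/

/-- The table `lt` satisfies the normalising relation. -/
def normB (lt : List ℕ) : Bool :=
  (List.range 7).any fun k => eqTab (mulTab lt l7) (mulTab (pow7 k) lt)

theorem normB_def (lt : List ℕ) :
    normB lt = (List.range 7).any fun k => eqTab (mulTab lt l7) (mulTab (pow7 k) lt) := rfl

theorem normB_of {n : Equiv.Perm GolayPt} (hn : NormP n) {lt : List ℕ} (ht : Tab n lt)
    (hlen : lt.length = 24) : normB lt = true := by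
  obtain ⟨_, k, _, hk7, hk⟩ := hn
  rw [normB_def, List.any_eq_true]
  refine ⟨k, List.mem_range.mpr hk7, ?_⟩
  apply eqTab_of_eq
  have t1 := ht.mul x7_tab rfl
  rw [hk] at t1
  exact tab_ext t1 ((tab_pow7 k).mul ht hlen) (by rw [mulTab_length]; rfl)
    (by rw [mulTab_length, hlen])

theorem tab_uniq {σ τ : Equiv.Perm GolayPt} {l : List ℕ} (h : Tab σ l) (h' : Tab τ l) :
    σ = τ := by
  apply Equiv.ext
  intro p
  apply idx_injective
  rw [h p, h' p]

theorem comm_of_tabs7 {c : Equiv.Perm GolayPt} {l : List ℕ} (ht : Tab c l) (hlen : l.length = 24)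
    (h : eqTab (mulTab l l7) (mulTab l7 l) = true) : c * x7 = x7 * c := by
  have e := eq_of_eqTab (by rw [mulTab_length]; rfl) h
  have t1 := ht.mul x7_tab rfl
  rw [e] at t1
  exact tab_uniq t1 (x7_tab.mul ht hlen)

theorem norm_of_tabs7 {c : Equiv.Perm GolayPt} {l : List ℕ} (ht : Tab c l) (hlen : l.length = 24)
    (k : ℕ) (h : eqTab (mulTab l l7) (mulTab (pow7 k) l) = true) : c * x7 = x7 ^ k * c := by
  have e := eq_of_eqTab (by rw [mulTab_length]; rfl) h
  have t1 := ht.mul x7_tab rfl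
  rw [e] at t1
  exact tab_uniq t1 ((tab_pow7 k).mul ht hlen)

/-! ### Certified elements -/

def c7Tabs : List (List ℕ) :=
  [idTab, t7cA, t7cB, t7cS, pow7 1, pow7 2, pow7 3, pow7 4, pow7 5, pow7 6]

def n7Tabs : List (List ℕ) := t7nA :: t7nB :: c7Tabs

theorem x7_pow_centP (k : ℕ) : CentP (x7 ^ k) :=
  ⟨Subgroup.pow_mem _ x7_mem k, ((Commute.refl x7).pow_left k).eq⟩

theorem centP_of_tab {l : List ℕ} (hl : l ∈ ord7Tabs)
    (h : eqTab (mulTab l l7) (mulTab l7 l) = true) : ∃ σ ∈ C7, Tab σ l ∧ l.length = 24 := by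
  obtain ⟨σ, hσ, ht, hlen⟩ := goodTabs_ord7 l hl
  exact ⟨σ, mem_C7.mpr ⟨hσ, comm_of_tabs7 ht hlen h⟩, ht, hlen⟩

theorem goodTabs_c7 : GoodTabs C7 c7Tabs := by
  intro l hl
  simp only [c7Tabs, List.mem_cons, List.not_mem_nil, or_false] at hl
  rcases hl with rfl | rfl | rfl | rfl | rfl | rfl | rfl | rfl | rfl | rfl
  · exact ⟨1, C7.one_mem, tab_one, rfl⟩
  · exact centP_of_tab (by decide) (by decide +kernel)
  · exact centP_of_tab (by decide) (by decide +kernel)
  · exact centP_of_tab (by decide) (by decide +kernel)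
  · exact ⟨_, mem_C7.mpr (x7_pow_centP 1), tab_pow7 1, pow7_length 1⟩
  · exact ⟨_, mem_C7.mpr (x7_pow_centP 2), tab_pow7 2, pow7_length 2⟩
  · exact ⟨_, mem_C7.mpr (x7_pow_centP 3), tab_pow7 3, pow7_length 3⟩
  · exact ⟨_, mem_C7.mpr (x7_pow_centP 4), tab_pow7 4, pow7_length 4⟩
  · exact ⟨_, mem_C7.mpr (x7_pow_centP 5), tab_pow7 5, pow7_length 5⟩
  · exact ⟨_, mem_C7.mpr (x7_pow_centP 6), tab_pow7 6, pow7_length 6⟩

theorem C7_le_N7 : C7 ≤ N7 := fun _ h => mem_N7.mpr (mem_C7.mp h).normP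

theorem goodTabs_n7 : GoodTabs N7 n7Tabs := by
  intro l hl
  rw [n7Tabs, List.mem_cons, List.mem_cons] at hl
  rcases hl with rfl | rfl | hl
  · obtain ⟨σ, hσ, ht, hlen⟩ := goodTabs_ord7 t7nA (by decide)
    exact ⟨σ, mem_N7.mpr ⟨hσ, 2, by norm_num, by norm_num,
      norm_of_tabs7 ht hlen 2 (by decide +kernel)⟩, ht, hlen⟩
  · obtain ⟨σ, hσ, ht, hlen⟩ := goodTabs_ord7 t7nB (by decide)
    exact ⟨σ, mem_N7.mpr ⟨hσ, 4, by norm_num, by norm_num,
      norm_of_tabs7 ht hlen 4 (by decide +kernel)⟩, ht, hlen⟩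
  · exact (goodTabs_c7.mono C7_le_N7) l hl

/-- Some table of `tabs` fixes the points `fixed` and maps `b` to `q`. -/
def lookB (tabs : List (List ℕ)) (fixed : List ℕ) (b q : ℕ) : Bool :=
  tabs.any fun l => fixed.all (fun f => Nat.beq (l.getD f 0) f) && Nat.beq (l.getD b 0) q

theorem lookB_def (tabs : List (List ℕ)) (fixed : List ℕ) (b q : ℕ) : lookB tabs fixed b q =
    tabs.any fun l => fixed.all (fun f => Nat.beq (l.getD f 0) f) && Nat.beq (l.getD b 0) q := rfl

theorem look_spec {H : Subgroup (Equiv.Perm GolayPt)} {tabs : List (List ℕ)}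
    (hT : GoodTabs H tabs) {fixed : List ℕ} {b q : ℕ} (hb : b < 24)
    (hfixed : ∀ f ∈ fixed, f < 24) (h : lookB tabs fixed b q = true) :
    ∃ g ∈ stabL H (fixed.map pt), g (pt b) = pt q := by
  rw [lookB_def, List.any_eq_true] at h
  obtain ⟨l, hl, h⟩ := h
  rw [Bool.and_eq_true, List.all_eq_true] at h
  obtain ⟨c, hc, ht, hlen⟩ := hT l hl
  refine ⟨c, mem_stabL.mpr ⟨hc, ?_⟩, ?_⟩
  · intro p hp
    obtain ⟨f, hf, rfl⟩ := List.mem_map.mp hp
    have := h.1 f hf
    rw [Nat.beq_eq] at this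
    rw [tab_apply_idx ht, idx_pt f (hfixed f hf), this]
  · have := h.2
    rw [Nat.beq_eq] at this
    rw [tab_apply_idx ht, idx_pt b hb, this]

/-- One level of a stabiliser chain with a certified orbit. -/
theorem level {H : Subgroup (Equiv.Perm GolayPt)} {tabs : List (List ℕ)} (hT : GoodTabs H tabs)
    (pre : List ℕ) (b : ℕ) (orb : List ℕ) (hpre : ∀ f ∈ pre, f < 24) (hb : b < 24)
    (hnd : orb.Nodup) (hlt : ∀ c ∈ orb, c < 24)
    (hlow : orb.all (fun q => lookB tabs pre b q) = true)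
    (hup : ∀ g ∈ stabL H (pre.map pt), ∃ q ∈ orb, g (pt b) = pt q) :
    Nat.card ↥(stabL H (pre.map pt)) =
      orb.length * Nat.card ↥(stabL H ((pre ++ [b]).map pt)) := by
  rw [List.map_append, List.map_singleton, stabL_append]
  have h := card_eq_mul_of_orbit (stabL H (pre.map pt)) (pt b) (finL orb) (by
    intro q
    constructor
    · intro hq
      obtain ⟨a, ha, rfl⟩ := mem_finL.mp hq
      exact look_spec hT hb hpre (List.all_eq_true.mp hlow a ha)
    · rintro ⟨g, hg, rfl⟩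
      obtain ⟨q, hq, hgq⟩ := hup g hg
      exact mem_finL.mpr ⟨q, hq, hgq.symm⟩)
  rw [h, card_finL hnd hlt]

end Cfsg.Agent.Helper92
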