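import Cfsg.Agent.Lib.Helper92.Ord7b

/-!
# Orders of the normaliser and the centraliser of the subgroup of order seven
-/

set_option autoImplicit false

namespace Cfsg.Agent.Helper92
open Cfsg Cfsg.Agent.Helper7
open scoped Pointwise

theorem excl22 : g5Tabs.all (fun l => !(normB (mulTab t7r22 l))) = true := by decide +kernel
theorem excl5 : g5Tabs.all (fun l => !(normB (mulTab t7r5 l))) = true := by decide +kernel
theorem excl20 : g5Tabs.all (fun l => !(normB (mulTab t7r20 l))) = true := by decide +kernel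
theorem g5_norm : g5Tabs.all (fun l => !(normB l) || eqTab l idTab) = true := by decide +kernel

/-- No normalising element agrees on the base with a representative all of whose coset fails the
normalising test. -/
theorem excl {g : Equiv.Perm GolayPt} (hn : NormP g) {lr : List ℕ} (hlr : lr ∈ ord7Tabs)
    (hbase : ∀ b ∈ base5, g (pt b) = pt (lr.getD b 0))
    (hchk : g5Tabs.all (fun l => !(normB (mulTab lr l))) = true) : False := by
  obtain ⟨r, hr, htr, _⟩ := goodTabs_ord7 lr hlr
  have hb : ∀ b ∈ base5, g (pt b) = r (pt b) := by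
    intro b hb
    have hb24 : b < 24 := by
      simp only [base5, List.mem_cons, List.not_mem_nil, or_false] at hb
      omega
    rw [hbase b hb, htr.apply b hb24]
  obtain ⟨l, hl, ht⟩ := coset_elem hn.1 hr htr hb
  have h1 := normB_of hn ht (by rw [mulTab_length, g5_len hl])
  have h2 := List.all_eq_true.mp hchk l hl
  rw [h1] at h2
  exact absurd h2 (by decide)

theorem up3 {n : Equiv.Perm GolayPt} (hn : NormP n) (h23 : n (pt 23) = pt 23)
    (h0 : n (pt 0) = pt 0) (h2 : n (pt 2) = pt 2) : ∃ q ∈ [3, 4, 15], n (pt 3) = pt q := by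
  have h1 := fix1 hn h23 h0
  obtain ⟨k, hk0, hk7, hk⟩ := hn.2
  have e3 : pt 3 = x7 (pt 2) := by
    rw [x7_tab.apply 2 (by norm_num)]; rfl
  have hn3 : n (pt 3) = pt ((pow7 k).getD 2 0) := by
    rw [e3, ← Equiv.Perm.mul_apply, hk, Equiv.Perm.mul_apply, h2,
      (tab_pow7 k).apply 2 (by norm_num)]
  have hbase : ∀ q, n (pt 3) = pt q → ∀ lr : List ℕ, lr.getD 23 0 = 23 → lr.getD 0 0 = 0 →
      lr.getD 1 0 = 1 → lr.getD 2 0 = 2 → lr.getD 3 0 = q →
      ∀ b ∈ base5, n (pt b) = pt (lr.getD b 0) := by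
    intro q hq lr e23 e0 e1 e2 e3 b hb
    simp only [base5, List.mem_cons, List.not_mem_nil, or_false] at hb
    rcases hb with rfl | rfl | rfl | rfl | rfl
    · rw [e23, h23]
    · rw [e0, h0]
    · rw [e1, h1]
    · rw [e2, h2]
    · rw [e3, hq]
  interval_cases k
  · exact ⟨3, by simp, hn3⟩
  · exact ⟨4, by simp, hn3⟩
  · exfalso
    exact excl hn (lr := t7r22) (by decide) (hbase 22 hn3 t7r22 rfl rfl rfl rfl rfl) excl22
  · exact ⟨15, by simp, hn3⟩
  · exfalso
    exact excl hn (lr := t7r5) (by decide) (hbase 5 hn3 t7r5 rfl rfl rfl rfl rfl) excl5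
  · exfalso
    exact excl hn (lr := t7r20) (by decide) (hbase 20 hn3 t7r20 rfl rfl rfl rfl rfl) excl20

theorem bot4 {n : Equiv.Perm GolayPt} (hn : NormP n) (h23 : n (pt 23) = pt 23)
    (h0 : n (pt 0) = pt 0) (h2 : n (pt 2) = pt 2) (h3 : n (pt 3) = pt 3) : n = 1 := by
  have h1 := fix1 hn h23 h0
  have hG : n ∈ G5 := by
    rw [mem_G5]
    refine ⟨hn.1, ?_⟩
    intro b hb
    simp only [base5, List.mem_cons, List.not_mem_nil, or_false] at hb
    rcases hb with rfl | rfl | rfl | rfl | rfl
    · exact h23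
    · exact h0
    · exact h1
    · exact h2
    · exact h3
  obtain ⟨l, hl, ht⟩ := g5_elem hG
  have hlen := g5_len hl
  have hnb := normB_of hn ht hlen
  have hc := List.all_eq_true.mp g5_norm l hl
  rw [hnb] at hc
  have hid : l = idTab := eq_of_eqTab hlen (by simpa using hc)
  rw [hid] at ht
  exact tab_id_eq_one ht

/-! ### The chains -/

theorem stab_fix {H : Subgroup (Equiv.Perm GolayPt)} {L : List ℕ} {g : Equiv.Perm GolayPt}
    (hg : g ∈ stabL H (L.map pt)) {b : ℕ} (hb : b ∈ L) : g (pt b) = pt b :=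
  (mem_stabL.mp hg).2 _ (List.mem_map.mpr ⟨b, hb, rfl⟩)

theorem card_N7_eq : Nat.card ↥N7 = 126 := by
  have s0 := level goodTabs_n7 [] 23 [23, 0, 1] (by decide) (by norm_num) (by decide) (by decide)
    (by decide +kernel) (fun g hg => up0 (mem_N7.mp (mem_stabL.mp hg).1))
  have s1 := level goodTabs_n7 [23] 0 [0, 1] (by decide) (by norm_num) (by decide) (by decide)
    (by decide +kernel)
    (fun g hg => up1 (mem_N7.mp (mem_stabL.mp hg).1) (stab_fix hg (by decide)))
  have s2 := level goodTabs_n7 [23, 0] 2 [2, 3, 4, 22, 15, 5, 20] (by decide) (by norm_num)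
    (by decide) (by decide) (by decide +kernel)
    (fun g hg => up2 (mem_N7.mp (mem_stabL.mp hg).1) (stab_fix hg (by decide)))
  have s3 := level goodTabs_n7 [23, 0, 2] 3 [3, 4, 15] (by decide) (by norm_num)
    (by decide) (by decide) (by decide +kernel)
    (fun g hg => up3 (mem_N7.mp (mem_stabL.mp hg).1) (stab_fix hg (by decide))
      (stab_fix hg (by decide)) (stab_fix hg (by decide)))
  have s4 : stabL N7 (([23, 0, 2] ++ [3] : List ℕ).map pt) = ⊥ := by
    rw [eq_bot_iff]
    intro g hg
    rw [Subgroup.mem_bot]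
    exact bot4 (mem_N7.mp (mem_stabL.mp hg).1) (stab_fix hg (by decide))
      (stab_fix hg (by decide)) (stab_fix hg (by decide)) (stab_fix hg (by decide))
  have e0 : stabL N7 (([] : List ℕ).map pt) = N7 := rfl
  rw [e0] at s0
  rw [s4, Subgroup.card_bot] at s3
  simp only [List.cons_append, List.nil_append, List.length_cons, List.length_nil] at s0 s1 s2 s3
  rw [s0, s1, s2, s3]

theorem card_C7_eq : Nat.card ↥C7 = 42 := by
  have hN : ∀ {L : List ℕ} {g : Equiv.Perm GolayPt}, g ∈ stabL C7 (L.map pt) → NormP g :=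
    fun hg => (mem_C7.mp (mem_stabL.mp hg).1).normP
  have s0 := level goodTabs_c7 [] 23 [23, 0, 1] (by decide) (by norm_num) (by decide) (by decide)
    (by decide +kernel) (fun g hg => up0 (hN hg))
  have s1 := level goodTabs_c7 [23] 0 [0, 1] (by decide) (by norm_num) (by decide) (by decide)
    (by decide +kernel) (fun g hg => up1 (hN hg) (stab_fix hg (by decide)))
  have s2 := level goodTabs_c7 [23, 0] 2 [2, 3, 4, 22, 15, 5, 20] (by decide) (by norm_num)
    (by decide) (by decide) (by decide +kernel)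
    (fun g hg => up2 (hN hg) (stab_fix hg (by decide)))
  have s3 : stabL C7 (([23, 0] ++ [2] : List ℕ).map pt) = ⊥ := by
    rw [eq_bot_iff]
    intro g hg
    rw [Subgroup.mem_bot]
    have hc := mem_C7.mp (mem_stabL.mp hg).1
    have h2 : g (pt 2) = pt 2 := stab_fix hg (by decide)
    have e3 : pt 3 = x7 (pt 2) := by
      rw [x7_tab.apply 2 (by norm_num)]; rfl
    have h3 : g (pt 3) = pt 3 := by
      rw [e3, ← Equiv.Perm.mul_apply, hc.2, Equiv.Perm.mul_apply, h2]
    exact bot4 (hN hg) (stab_fix hg (by decide)) (stab_fix hg (by decide)) h2 h3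
  have e0 : stabL C7 (([] : List ℕ).map pt) = C7 := rfl
  rw [e0] at s0
  rw [s3, Subgroup.card_bot] at s2
  simp only [List.cons_append, List.nil_append, List.length_cons, List.length_nil] at s0 s1 s2
  rw [s0, s1, s2]

/-! ### Two non-commuting elements of the centraliser -/

theorem c7_noncomm : ∃ x ∈ C7, ∃ y ∈ C7, x * y ≠ y * x := by
  obtain ⟨a, ha, hta, hla⟩ := goodTabs_c7 t7cA (by simp [c7Tabs])
  obtain ⟨s, hs, hts, hls⟩ := goodTabs_c7 t7cS (by simp [c7Tabs])
  refine ⟨a, ha, s, hs, ?_⟩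
  intro h
  have t1 := hta.mul hts hls
  rw [h] at t1
  have := tab_ext t1 (hts.mul hta hla) (by rw [mulTab_length, hls]) (by rw [mulTab_length, hla])
  revert this
  decide

end Cfsg.Agent.Helper92
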