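import Cfsg.Agent.Lib.Helper92.Classes2
import Cfsg.Agent.Lib.Helper7.Chain2

/-!
# Six-point subsets of the 24 points under `M24`

Certified elements of `M24` inducing all transpositions on the two representative 6-sets
`{∞,0,1,2,3,5}` (inside an octad) and `{∞,0,1,2,3,4}` (in no octad).
-/

set_option autoImplicit false

namespace Cfsg.Agent.Helper92
open Cfsg Cfsg.Agent.Helper7
open scoped Pointwise

def sixProg : List (ℕ × ℕ) := [(0, 0), (0, 5), (0, 6), (0, 7), (0, 8), (0, 9), (0, 10), (0, 11), (0, 12), (0, 13), (0, 14), (0, 15), (0, 16), (0, 17), (0, 18), (0, 1), (0, 20), (0, 21), (1, 21), (0, 23), (0, 24), (1, 25), (0, 26), (0, 27), (0, 28), (1, 28), (1, 29), (0, 31), (1, 32), (1, 3), (34, 1), (24, 3), (36, 1), (37, 3), (38, 3), (39, 3), (40, 1), (41, 3), (42, 1), (0, 22), (43, 44), (8, 45), (46, 46), (46, 47), (46, 48), (46, 49), (46, 50), (46, 51), (46, 52), (46, 53), (52, 2), (55, 55), (55, 56),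 (55, 57), (55, 0), (3, 59), (60, 54), (55, 61), (46, 62), (60, 62), (46, 64), (60, 65), (55, 66), (60, 67), (46, 68), (46, 69), (3, 58), (71, 0), (47, 72), (73, 58), (74, 60), (75, 58), (55, 76), (55, 77), (75, 77), (75, 79), (55, 80), (75, 80), (55, 82), (55, 83), (75, 83), (55, 84), (55, 86), (75, 87), (55, 81), (55, 78), (72, 62), (55, 91), (92, 58), (93, 91), (94, 91), (95, 91), (96, 58), (97, 75), (98, 98), (95, 58), (75, 55), (100, 101), (102, 99), (98, 103), (98, 104), (102, 104), (98, 106), (102, 106), (98, 108), (98, 109), (102, 110), (98, 111), (102, 111), (98, 107), (114, 102), (115, 115), (58, 91), (117, 81), (98, 118), (119, 99), (120, 118), (121, 118), (122, 99), (123, 99), (124, 118), (119, 118), (115, 112), (98, 55), (57, 128), (125, 129), (116, 130), (131, 115), (116, 132), (133, 131), (133, 111), (98, 135), (133, 98), (126, 137), (116, 138), (139, 133), (131, 140), (131, 139), (139, 115),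 (116, 143), (144, 142), (133, 145), (139, 145), (133, 147), (131, 148), (139, 149), (1, 63), (151, 81), (152, 104), (153, 116), (35, 63), (155, 82), (156, 113), (157, 115), (21, 15), (159, 48), (160, 78), (161, 110), (22, 11), (163, 50), (164, 85), (165, 103), (166, 115), (30, 19), (168, 70), (169, 83), (170, 135), (0, 63), (172, 90), (173, 109), (5, 63), (175, 82), (176, 105), (6, 67), (178, 80), (179, 105), (8, 65), (181, 76), (182, 135), (183, 116), (53, 81), (185, 108), (186, 116), (54, 58), (188, 111), (189, 115), (64, 87), (191, 114), (192, 115), (89, 105), (194, 116), (88, 135), (196, 116), (154, 133), (158, 146), (162, 133), (167, 142), (33, 7), (202, 54), (203, 89), (204, 107), (205, 115), (206, 150), (174, 134), (177, 149), (7, 66), (210, 58), (211, 114), (212, 144), (187, 146), (190, 141), (50, 81), (216, 103), (217, 144), (85, 108), (219, 115), (220, 133), (136, 115), (222, 150)]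

def swapTabs1 : List (List ℕ) := [[23, 1, 2, 3, 20, 5, 13, 22, 6, 12, 8, 19, 7, 10, 17, 18, 15, 14, 21, 4, 11, 16, 9, 0], [0, 23, 2, 3, 15, 5, 6, 7, 8, 16, 13, 12, 11, 10, 17, 4, 9, 14, 18, 21, 22, 19, 20, 1], [0, 1, 23, 3, 7, 5, 22, 16, 11, 15, 9, 12, 18, 6, 17, 20, 19, 14, 8, 4, 10, 13, 21, 2], [0, 1, 2, 23, 15, 5, 4, 10, 11, 13, 20, 22, 9, 19, 17, 18, 8, 14, 6, 12, 21, 7, 16, 3], [0, 1, 2, 3, 10, 23, 6, 12, 16, 9, 4, 11, 7, 21, 17, 19, 8, 14, 20, 15, 18, 13, 22, 5], [1, 0, 2, 3, 20, 5, 12, 18, 22, 7, 21, 4, 13, 15, 17, 6, 9, 14, 16, 11, 19, 8, 10, 23], [2, 1, 0, 3, 19, 5, 20, 15, 22, 18, 8, 13, 16, 7, 17, 11, 6, 14, 4, 9, 12, 10, 21, 23], [3, 1, 2, 0, 4, 5, 16, 10, 9, 8, 7, 19, 12, 18, 17, 22, 6, 14, 13, 11, 20, 21, 15, 23], [5, 1, 2, 3, 13, 0, 19, 11, 21, 6, 8, 20, 4, 18, 17, 9, 7, 14, 12, 15, 16, 22, 10, 23], [0, 2, 1, 3, 6, 5, 18, 11, 10, 13, 22, 20, 9, 19, 17, 4, 7, 14, 15, 12, 16, 8, 21, 23],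 [0, 3, 2, 1, 8, 5, 20, 16, 11, 18, 19, 13, 15, 4, 17, 22, 9, 14, 7, 6, 10, 12, 21, 23], [0, 5, 2, 3, 10, 1, 15, 16, 19, 22, 9, 20, 13, 6, 17, 12, 11, 14, 8, 21, 7, 18, 4, 23], [0, 1, 3, 2, 4, 5, 18, 7, 8, 21, 12, 13, 10, 11, 17, 15, 19, 14, 6, 16, 22, 9, 20, 23], [0, 1, 5, 3, 18, 2, 21, 11, 12, 4, 15, 16, 10, 22, 17, 8, 20, 14, 19, 9, 7, 13, 6, 23], [0, 1, 2, 5, 4, 3, 21, 19, 11, 10, 9, 8, 18, 13, 17, 20, 16, 14, 12, 7, 15, 6, 22, 23]]

def swapTabs2 : List (List ℕ) := [[23, 1, 2, 3, 4, 5, 10, 15, 8, 21, 6, 11, 18, 13, 17, 7, 22, 14, 12, 20, 19, 9, 16, 0], [0, 23, 2, 3, 4, 5, 18, 8, 7, 10, 9, 19, 21, 16, 17, 15, 13, 14, 6, 11, 20, 12, 22, 1], [0, 1, 23, 3, 4, 5, 6, 19, 9, 8, 11, 10, 20, 22, 17, 18, 16, 14, 15, 7, 12, 21, 13, 2], [0, 1, 2, 23, 4, 5, 15, 16, 21, 9, 22, 20, 13, 12, 17, 6, 7, 14, 18, 19, 11, 8, 10, 3], [0, 1, 2, 3, 23, 7, 18, 5, 8, 21, 17, 20, 14, 22, 12, 15, 16, 10, 6, 19, 11, 9, 13, 4],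 [1, 0, 2, 3, 4, 5, 21, 7, 15, 18, 12, 20, 10, 22, 17, 8, 16, 14, 9, 19, 11, 6, 13, 23], [2, 1, 0, 3, 4, 5, 11, 12, 21, 9, 10, 6, 7, 16, 17, 20, 13, 14, 19, 18, 15, 8, 22, 23], [3, 1, 2, 0, 4, 5, 16, 10, 9, 8, 7, 19, 12, 18, 17, 22, 6, 14, 13, 11, 20, 21, 15, 23], [4, 1, 2, 3, 0, 6, 5, 12, 9, 8, 10, 11, 7, 22, 18, 17, 16, 15, 14, 20, 19, 21, 13, 23], [0, 2, 1, 3, 4, 5, 15, 10, 11, 19, 7, 8, 12, 13, 17, 6, 22, 14, 18, 9, 21, 20, 16, 23], [0, 3, 2, 1, 4, 5, 6, 12, 13, 22, 10, 11, 7, 8, 17, 18, 21, 14, 15, 20, 19, 16, 9, 23], [0, 4, 2, 3, 1, 8, 18, 7, 5, 14, 12, 11, 10, 13, 9, 15, 22, 21, 6, 20, 19, 17, 16, 23], [0, 1, 3, 2, 4, 5, 18, 7, 8, 21, 12, 13, 10, 11, 17, 15, 19, 14, 6, 16, 22, 9, 20, 23], [0, 1, 4, 3, 2, 11, 6, 12, 8, 21, 10, 5, 7, 13, 20, 18, 22, 19, 15, 17, 14, 9, 16, 23], [0, 1, 2, 4, 3, 13, 15, 10, 8, 21, 7, 11, 12, 5, 16, 6, 14, 22, 18, 20, 19, 9, 17, 23]]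


theorem swapTabs_sub : ∀ l ∈ swapTabs1 ++ swapTabs2, l ∈ slpTabs sixProg m24InitTabs := by
  decide +kernel

theorem goodTabs_swaps : GoodTabs M24 (swapTabs1 ++ swapTabs2) :=
  (goodTabs_slp sixProg _ (goodTabs_init M24 shift_mem projInv_mem cubeTwist_mem)).subset
    swapTabs_sub

def six1 : List ℕ := [23, 0, 1, 2, 3, 5]
def six2 : List ℕ := [23, 0, 1, 2, 3, 4]

/-- All transpositions of the points of the list are realised by tables. -/
def swapsOK (L : List ℕ) (tabs : List (List ℕ)) : Bool :=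
  L.all fun a => L.all fun b => Nat.beq a b || tabs.any fun l =>
    Nat.beq (l.getD a 0) b && Nat.beq (l.getD b 0) a &&
      L.all fun c => Nat.beq c a || Nat.beq c b || Nat.beq (l.getD c 0) c

theorem swapsOK1 : swapsOK six1 swapTabs1 = true := by decide +kernel
theorem swapsOK2 : swapsOK six2 swapTabs2 = true := by decide +kernel

theorem swap_elt {L : List ℕ} {tabs : List (List ℕ)} (hT : GoodTabs M24 tabs)
    (hL : ∀ c ∈ L, c < 24) (h : swapsOK L tabs = true) {a b : ℕ} (ha : a ∈ L) (hb : b ∈ L)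
    (hab : a ≠ b) :
    ∃ t ∈ M24, t (pt a) = pt b ∧ t (pt b) = pt a ∧
      ∀ c ∈ L, c ≠ a → c ≠ b → t (pt c) = pt c := by
  have h1 := List.all_eq_true.mp (List.all_eq_true.mp h a ha) b hb
  rw [Bool.or_eq_true] at h1
  rcases h1 with h1 | h1
  · exact absurd (Nat.eq_of_beq_eq_true h1) hab
  · obtain ⟨l, hl, h2⟩ := List.any_eq_true.mp h1
    simp only [Bool.and_eq_true] at h2
    obtain ⟨⟨h3, h4⟩, h5⟩ := h2
    obtain ⟨t, ht, htab, -⟩ := hT l hl
    refine ⟨t, ht, ?_, ?_, ?_⟩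
    · rw [tab_apply_idx htab, idx_pt a (hL a ha), Nat.eq_of_beq_eq_true h3]
    · rw [tab_apply_idx htab, idx_pt b (hL b hb), Nat.eq_of_beq_eq_true h4]
    · intro c hc hca hcb
      have h6 := List.all_eq_true.mp h5 c hc
      simp only [Bool.or_eq_true] at h6
      rcases h6 with (h6 | h6) | h6
      · exact absurd (Nat.eq_of_beq_eq_true h6) hca
      · exact absurd (Nat.eq_of_beq_eq_true h6) hcb
      · rw [tab_apply_idx htab, idx_pt c (hL c hc), Nat.eq_of_beq_eq_true h6]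

/-- The set of points with indices in a list. -/
def finL (L : List ℕ) : Finset GolayPt := (L.map pt).toFinset

theorem mem_finL {L : List ℕ} {p : GolayPt} : p ∈ finL L ↔ ∃ a ∈ L, pt a = p := by
  rw [finL, List.mem_toFinset, List.mem_map]

theorem pt_injOn {a b : ℕ} (ha : a < 24) (hb : b < 24) (h : pt a = pt b) : a = b := by
  rw [← idx_pt a ha, ← idx_pt b hb, h]

/-- Every transposition of the points of a translate of `finL L` is induced by `M24`. -/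
theorem swap_of_translate {L : List ℕ} {tabs : List (List ℕ)} (hT : GoodTabs M24 tabs)
    (hL : ∀ c ∈ L, c < 24) (h : swapsOK L tabs = true) {E : Finset GolayPt}
    {k : Equiv.Perm GolayPt} (hk : k ∈ M24) (hkE : k • E = finL L) :
    ∀ x ∈ E, ∀ y ∈ E, x ≠ y → ∃ t ∈ M24, t x = y ∧ t y = x ∧
      ∀ z ∈ E, z ≠ x → z ≠ y → t z = z := by
  have hmem : ∀ x ∈ E, ∃ a ∈ L, pt a = k x := by
    intro x hx
    have : k x ∈ k • E := by
      have := Finset.smul_mem_smul_finset (a := k) hx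
      rwa [Equiv.Perm.smul_def] at this
    rw [hkE] at this
    exact mem_finL.mp this
  intro x hx y hy hxy
  obtain ⟨a, ha, hax⟩ := hmem x hx
  obtain ⟨b, hb, hby⟩ := hmem y hy
  have hab : a ≠ b := by
    rintro rfl
    exact hxy (k.injective (hax.symm.trans hby))
  obtain ⟨t, ht, h1, h2, h3⟩ := swap_elt hT hL h ha hb hab
  refine ⟨k⁻¹ * t * k, M24.mul_mem (M24.mul_mem (M24.inv_mem hk) ht) hk, ?_, ?_, ?_⟩
  · simp only [Equiv.Perm.mul_apply]
    rw [← hax, h1, hby]; simp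
  · simp only [Equiv.Perm.mul_apply]
    rw [← hby, h2, hax]; simp
  · intro z hz hzx hzy
    obtain ⟨c, hc, hcz⟩ := hmem z hz
    have hca : c ≠ a := by
      rintro rfl
      exact hzx (k.injective (hcz.symm.trans hax))
    have hcb : c ≠ b := by
      rintro rfl
      exact hzy (k.injective (hcz.symm.trans hby))
    simp only [Equiv.Perm.mul_apply]
    rw [← hcz, h3 c hc hca hcb, hcz]; simp

/-- If all transpositions of a set are induced by `M24`, so is every permutation. -/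
theorem induce_all (E : Finset GolayPt)
    (hsw : ∀ x ∈ E, ∀ y ∈ E, x ≠ y → ∃ t ∈ M24, t x = y ∧ t y = x ∧
      ∀ z ∈ E, z ≠ x → z ≠ y → t z = z) :
    ∀ σ : Equiv.Perm ↥E, ∃ g ∈ M24, ∀ p : ↥E, g p = σ p := by
  intro σ
  induction σ using Equiv.Perm.swap_induction_on with
  | one => exact ⟨1, M24.one_mem, fun p => rfl⟩
  | swap_mul f x y hxy ih =>
    obtain ⟨g, hg, hgf⟩ := ih
    have hxy' : (x : GolayPt) ≠ y := fun h => hxy (Subtype.ext h)
    obtain ⟨t, ht, h1, h2, h3⟩ := hsw x x.2 y y.2 hxy'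
    refine ⟨t * g, M24.mul_mem ht hg, ?_⟩
    intro p
    rw [Equiv.Perm.mul_apply, hgf p, Equiv.Perm.mul_apply]
    by_cases hpx : f p = x
    · rw [hpx, Equiv.swap_apply_left, h1]
    · by_cases hpy : f p = y
      · rw [hpy, Equiv.swap_apply_right, h2]
      · rw [Equiv.swap_apply_of_ne_of_ne hpx hpy]
        exact h3 _ (f p).2 (fun h => hpx (Subtype.ext h)) (fun h => hpy (Subtype.ext h))

end Cfsg.Agent.Helper92
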