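import Cfsg.Agent.Lib.Helper92.U6Rel

/-!
# S1684: the relations of `H87` needed for perfectness
-/

set_option autoImplicit false
set_option maxRecDepth 1000000

namespace Cfsg.Agent.Helper92.U6R

open Cfsg.Spor.Fi22 (Gen)
open Cfsg.Agent.Helper27.Fi22

/-- abbreviation for a generator of the presented group -/
abbrev og (x : Gen) : Cfsg.Spor.Fi22 := PresentedGroup.of x

theorem t_sq : tEl * tEl = 1 := by
  have h := eW_pow_eq_one [none] 2 chk_tt
  simpa [eW, eO, pow_two] using h

theorem t_inv : tEl⁻¹ = tEl := inv_eq_of_mul_eq_one_left t_sq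

theorem w7_pow : (og .c * og .d * og .e * og .f * og .g * og .h * og .i) ^ 9 = 1 := by
  have h := eW_pow_eq_one _ 9 chk_w7
  simpa [eW, eO, mul_assoc] using h

theorem tf_pow : (tEl * og .f) ^ 3 = 1 := by
  have h := eW_pow_eq_one _ 3 chk_tf
  simpa [eW, eO] using h

theorem a_eq : og .a = tEl * og .c * og .e * og .h *
    ((og .d * og .h * og .e * og .d) * og .c * (og .d * og .h * og .e * og .d)⁻¹) *
    ((og .f * tEl * og .e * og .d * og .h * og .f * og .e * og .d) * og .c *
      (og .f * tEl * og .e * og .d * og .h * og .f * og .e * og .d)⁻¹) := by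
  have h := eW_eq_of_chk _ _ chk_ax
  simp only [eW, eO, List.map_cons, List.map_nil, List.prod_cons, List.prod_nil, mul_one] at h
  simp only [og, mul_inv_rev, Cfsg.Agent.Helper92.Fi22Perf.of_inv, t_inv, mul_assoc]
  exact h

theorem a_ne_one : og .a ≠ 1 := by
  intro h
  have h1 : phi (og .a) = 1 := by rw [h, map_one]
  rw [phi_of] at h1
  have h2 : (σ .a ⟨1, by norm_num⟩).val = 1 := by rw [h1]; rfl
  rw [σ_val] at h2
  have h3 := chk_a1
  rw [show F .a (nat_lit 1) = 1 from h2] at h3
  exact absurd h3 (by decide)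

end Cfsg.Agent.Helper92.U6R
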