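import Cfsg.Agent.Lib.Helper92.U6Inv
import Cfsg.Agent.Lib.Helper92.U6Rel2
import Cfsg.Agent.Lib.Helper92.U6Defs
import Cfsg.Agent.Lib.Helper90.U6RES

/-!
# S1684, assembly part 1: the permutation representation of `H87` on the 693 points
-/

set_option autoImplicit false
set_option maxRecDepth 100000

namespace Cfsg.Agent.Helper92.U6A

open Cfsg.Spor.Fi22 (Gen)
open Cfsg.Agent.Helper27.Fi22
open Cfsg.Agent.Helper92.U6
open Cfsg.Agent.Helper92.U6I (nth getD_eq_nth gen9 actT chk_gen chk_t chk_mono chk_last)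
open Cfsg.Agent.Helper92.U6R (tEl og)

theorem om_eq (i : ℕ) : om i = nth omL i := getD_eq_nth omL i

theorem actL_eq {k : ℕ} (hk : k < 9) : actL k = actT k := by
  interval_cases k <;> rfl

theorem act_eq {k : ℕ} (hk : k < 9) (i : ℕ) : act k i = nth (actT k) i := by
  show (actL k).getD i 0 = _
  rw [getD_eq_nth, actL_eq hk]

theorem om_step {i : ℕ} (hi : i < 692) : om i < om (i + 1) := by
  rw [om_eq, om_eq]
  exact Nat.le_of_ble_eq_true (allBelow_sound chk_mono i hi)

theorem om_mono : ∀ j, j < 693 → ∀ i, i < j → om i < om j := by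
  intro j
  induction j with
  | zero => intro _ i hi; omega
  | succ j ih =>
    intro hj i hi
    have hs : om j < om (j + 1) := om_step (by omega)
    rcases Nat.lt_succ_iff_lt_or_eq.1 hi with h | rfl
    · exact lt_trans (ih (by omega) i h) hs
    · exact hs

theorem om_lt {i : ℕ} (hi : i < 693) : om i < 3510 := by
  have hl : om 692 < 3510 := by
    rw [om_eq]
    exact Nat.le_of_ble_eq_true chk_last
  rcases Nat.lt_succ_iff_lt_or_eq.1 (show i < 692 + 1 from hi) with h | rfl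
  · exact lt_trans (om_mono 692 (by norm_num) i h) hl
  · exact hl

/-- the enumeration of the 693 points -/
def e (i : Fin 693) : Fin 3510 := ⟨om i.val, om_lt i.2⟩

theorem e_inj : Function.Injective e := by
  intro i j h
  have h' : om i.val = om j.val := congrArg Fin.val h
  apply Fin.ext
  rcases Nat.lt_trichotomy i.val j.val with hlt | heq | hgt
  · exact absurd h' (ne_of_lt (om_mono _ j.2 _ hlt))
  · exact heq
  · exact absurd h'.symm (ne_of_lt (om_mono _ i.2 _ hgt))

/-- the nine generators of `H87` as elements of the presented group -/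
noncomputable def gE (k : ℕ) : Cfsg.Spor.Fi22 := if k = 8 then tEl else og (gen9 k)

theorem mk_mem {w : FreeGroup Gen} (hw : w ∈ S87) : PresentedGroup.mk rels w ∈ H87 :=
  Subgroup.mem_map_of_mem _ (Subgroup.subset_closure hw)

theorem gE_mem {k : ℕ} (hk : k < 9) : gE k ∈ H87 := by
  interval_cases k
  · exact mk_mem (w := Cfsg.Spor.Fi22.a) (by simp)
  · exact mk_mem (w := Cfsg.Spor.Fi22.c) (by simp)
  · exact mk_mem (w := Cfsg.Spor.Fi22.d) (by simp)
  · exact mk_mem (w := Cfsg.Spor.Fi22.e) (by simp)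
  · exact mk_mem (w := Cfsg.Spor.Fi22.f) (by simp)
  · exact mk_mem (w := Cfsg.Spor.Fi22.g) (by simp)
  · exact mk_mem (w := Cfsg.Spor.Fi22.h) (by simp)
  · exact mk_mem (w := Cfsg.Spor.Fi22.i) (by simp)
  · exact mk_mem (w := (Cfsg.Spor.Fi22.a * Cfsg.Spor.Fi22.b * Cfsg.Spor.Fi22.c *
      Cfsg.Spor.Fi22.d * Cfsg.Spor.Fi22.e * Cfsg.Spor.Fi22.h) ^ 5) (by simp)

/-- the nine generators as elements of `↥H87` -/
noncomputable def gH (k : Fin 9) : ↥H87 := ⟨gE k.val, gE_mem k.2⟩

/-- the generating set of `↥H87` -/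
def Γ : Set ↥H87 := Set.range gH

theorem mem_closure_Γ : ∀ (w : FreeGroup Gen) (hw : w ∈ Subgroup.closure S87),
    (⟨PresentedGroup.mk rels w, Subgroup.mem_map_of_mem _ hw⟩ : ↥H87) ∈ Subgroup.closure Γ := by
  intro w hw
  induction hw using Subgroup.closure_induction with
  | mem s hs =>
    apply Subgroup.subset_closure
    simp only [Set.mem_insert_iff, Set.mem_singleton_iff] at hs
    rcases hs with rfl | rfl | rfl | rfl | rfl | rfl | rfl | rfl | rfl
    · exact ⟨0, Subtype.ext rfl⟩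
    · exact ⟨1, Subtype.ext rfl⟩
    · exact ⟨2, Subtype.ext rfl⟩
    · exact ⟨3, Subtype.ext rfl⟩
    · exact ⟨4, Subtype.ext rfl⟩
    · exact ⟨5, Subtype.ext rfl⟩
    · exact ⟨6, Subtype.ext rfl⟩
    · exact ⟨7, Subtype.ext rfl⟩
    · exact ⟨8, Subtype.ext rfl⟩
  | one =>
    have : (⟨PresentedGroup.mk rels 1, Subgroup.mem_map_of_mem _ (Subgroup.one_mem _)⟩ : ↥H87) = 1 :=
      Subtype.ext (map_one _)
    rw [this]
    exact Subgroup.one_mem _
  | mul a b ha hb iha ihb =>
    have : (⟨PresentedGroup.mk rels (a * b), Subgroup.mem_map_of_mem _ (Subgroup.mul_mem _ ha hb)⟩ : ↥H87) =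
        ⟨PresentedGroup.mk rels a, Subgroup.mem_map_of_mem _ ha⟩ *
          ⟨PresentedGroup.mk rels b, Subgroup.mem_map_of_mem _ hb⟩ :=
      Subtype.ext (map_mul _ _ _)
    rw [this]
    exact Subgroup.mul_mem _ iha ihb
  | inv a ha iha =>
    have : (⟨PresentedGroup.mk rels a⁻¹, Subgroup.mem_map_of_mem _ (Subgroup.inv_mem _ ha)⟩ : ↥H87) =
        (⟨PresentedGroup.mk rels a, Subgroup.mem_map_of_mem _ ha⟩ : ↥H87)⁻¹ :=
      Subtype.ext (map_inv _ _)
    rw [this]
    exact Subgroup.inv_mem _ iha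

theorem closure_Γ : Subgroup.closure Γ = ⊤ := by
  rw [eq_top_iff]
  rintro ⟨x, hx⟩ _
  obtain ⟨w, hw, hwx⟩ := Subgroup.mem_map.1 hx
  have := mem_closure_Γ w hw
  have h2 : (⟨PresentedGroup.mk rels w, Subgroup.mem_map_of_mem _ hw⟩ : ↥H87) = ⟨x, hx⟩ :=
    Subtype.ext hwx
  rw [h2] at this
  exact this

theorem act_lt {k i : ℕ} (hk : k < 9) (hi : i < 693) : act k i < 693 := by
  rw [act_eq hk]
  rcases Nat.lt_succ_iff_lt_or_eq.1 (show k < 8 + 1 from hk) with h | rfl
  · have := allBelow_sound (allBelow_sound chk_gen k h) i hi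
    exact Nat.le_of_ble_eq_true (andB_eq_true this).2
  · have := allBelow_sound chk_t i hi
    exact Nat.le_of_ble_eq_true (andB_eq_true this).2

theorem phi_gE {k i : ℕ} (hk : k < 9) (hi : i < 693) :
    ((phi (gE k)) ⟨om i, om_lt hi⟩).val = om (act k i) := by
  rcases Nat.lt_succ_iff_lt_or_eq.1 (show k < 8 + 1 from hk) with h | rfl
  · have h1 := allBelow_sound (allBelow_sound chk_gen k h) i hi
    have h2 := Nat.eq_of_beq_eq_true (andB_eq_true h1).1
    rw [← om_eq, ← act_eq hk, ← om_eq] at h2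
    have h3 : gE k = PresentedGroup.of (gen9 k) := by
      unfold gE
      rw [if_neg (by omega)]
    rw [h3, phi_of, σ_val]
    exact h2
  · have h1 := allBelow_sound chk_t i hi
    have h2 := Nat.eq_of_beq_eq_true (andB_eq_true h1).1
    have h4 : nth act8 i = act 8 i := (act_eq hk i).symm
    rw [← om_eq, h4, ← om_eq] at h2
    have h3 : gE 8 = tEl := by
      unfold gE
      rw [if_pos rfl]
    rw [h3, Cfsg.Agent.Helper92.U6R.tEl, phi_t, t_val]
    exact h2

/-- the permutation representation of `↥H87` on `Fin 3510` -/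
noncomputable def φH : ↥H87 →* Equiv.Perm (Fin 3510) := phi.comp H87.subtype

theorem hinv : ∀ γ ∈ Γ, ∀ i, ∃ j, φH γ (e i) = e j := by
  rintro γ ⟨k, rfl⟩ i
  refine ⟨⟨act k.val i.val, act_lt k.2 i.2⟩, ?_⟩
  apply Fin.ext
  exact phi_gE k.2 i.2

theorem exists_ρ : ∃ ρ : ↥H87 →* Equiv.Perm (Fin 693), ∀ h i, e (ρ h i) = φH h (e i) :=
  Cfsg.Agent.Helper90.U6.exists_restrict φH 693 e e_inj Γ closure_Γ hinv

/-- the permutation representation of `↥H87` on the 693 points -/
noncomputable def ρ : ↥H87 →* Equiv.Perm (Fin 693) := Classical.choose exists_ρ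

theorem ρ_spec (h : ↥H87) (i : Fin 693) : e (ρ h i) = phi h.val (e i) :=
  Classical.choose_spec exists_ρ h i

theorem ρ_gen (k : Fin 9) (i : Fin 693) : (ρ (gH k) i).val = act k.val i.val := by
  have h1 := ρ_spec (gH k) i
  have h2 : e (ρ (gH k) i) = e ⟨act k.val i.val, act_lt k.2 i.2⟩ := by
    rw [h1]
    apply Fin.ext
    exact phi_gE k.2 i.2
  exact congrArg Fin.val (e_inj h2)

end Cfsg.Agent.Helper92.U6A
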