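import Cfsg.Agent.Lib.Helper92.U6Defs

/-!
# S1684: the 693 vectors are non-zero
-/

set_option autoImplicit false
set_option maxRecDepth 1000000

namespace Cfsg.Agent.Helper92.U6

theorem vec_ne_zero : ∀ i < 693, ∃ k : Fin 6, vec i k ≠ 0 := by
  decide +kernel

end Cfsg.Agent.Helper92.U6
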