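import Cfsg.Agent.Lib.Helper92.U6Asm1
import Cfsg.Agent.Lib.Helper92.U6NZ
import Cfsg.Agent.Lib.Helper60.U6TV2
import Cfsg.Agent.Lib.Helper60.U6TV3
import Cfsg.Agent.Lib.Helper94.U6TV4
import Cfsg.Agent.Lib.Helper94.U6TV5
import Cfsg.Agent.Lib.Helper87.U6ISOV
import Cfsg.Agent.Lib.Helper87.U6TREE
import Cfsg.Agent.Lib.Helper71.U6EQV
import Cfsg.Agent.Lib.Helper71.U6COMP

/-!
# S1684, assembly part 2: the 693 unitary transvections and the hypotheses of the core lemma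
-/

set_option autoImplicit false
set_option maxRecDepth 100000

namespace Cfsg.Agent.Helper92.U6A

open Cfsg.Spor.Fi22 (Gen)
open Cfsg.Agent.Helper27.Fi22 (H87 H87_comm)
open Cfsg.Agent.Helper92.U6

/-- the matrix of an element of `SU6` -/
abbrev mat (g : ↥SU6) : Matrix (Fin 6) (Fin 6) F :=
  ((g : Matrix.SpecialLinearGroup (Fin 6) F) : Matrix (Fin 6) (Fin 6) F)

theorem mat_mul (g h : ↥SU6) : mat (g * h) = mat g * mat h := by
  simp [mat]

theorem mat_one : mat 1 = 1 := by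
  simp [mat]

theorem exists_τ (i : Fin 693) : ∃ s : ↥SU6, mat s = tv (vec i.val) :=
  Cfsg.Agent.Helper60.U6.exists_tvSU (vec i.val) (Cfsg.Agent.Helper87.U6.vec_isotropic i.val i.2)

/-- the unitary transvection number `i` -/
noncomputable def τ (i : Fin 693) : ↥SU6 := Classical.choose (exists_τ i)

theorem τ_mat (i : Fin 693) : mat (τ i) = tv (vec i.val) := Classical.choose_spec (exists_τ i)

theorem τ_inj : Function.Injective τ := by
  intro i j h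
  have : tv (vec i.val) = tv (vec j.val) := by rw [← τ_mat, ← τ_mat, h]
  exact Fin.ext (Cfsg.Agent.Helper94.U6.tv_vec_injective i.val i.2 j.val j.2 this)

theorem conj_τ (g : ↥SU6) (i j : Fin 693) (c : F) (hc : c ≠ 0)
    (h : (mat g).mulVec (vec i.val) = c • vec j.val) : g * τ i * g⁻¹ = τ j := by
  apply Cfsg.Agent.Helper60.U6.conj_tv g (τ i) (τ j) (vec i.val) (τ_mat i)
  show mat (τ j) = tv ((mat g).mulVec (vec i.val))
  rw [τ_mat, h, Cfsg.Agent.Helper94.U6.tv_smul c hc]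

theorem τ_mulVec (i : Fin 693) (x : Fin 6 → F) : (mat (τ i)).mulVec x = tvA (vec i.val) x := by
  rw [τ_mat, Cfsg.Agent.Helper60.U6.tv_mulVec]
  rfl

/-- the unitary matrices of the nine generators -/
noncomputable def mEl : ℕ → ↥SU6
  | 0 => 1
  | 1 => τ ⟨0, by norm_num⟩
  | 2 => τ ⟨2, by norm_num⟩
  | 3 => τ ⟨10, by norm_num⟩
  | 4 => τ ⟨31, by norm_num⟩
  | 5 => τ ⟨57, by norm_num⟩
  | 6 => τ ⟨13, by norm_num⟩
  | 7 => τ ⟨35, by norm_num⟩
  | _ => τ ⟨19, by norm_num⟩ * τ ⟨17, by norm_num⟩ * τ ⟨13, by norm_num⟩ * τ ⟨10, by norm_num⟩ *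
      τ ⟨0, by norm_num⟩

theorem mEl_mulVec {k : ℕ} (hk : k < 9) (x : Fin 6 → F) : (mat (mEl k)).mulVec x = genA k x := by
  interval_cases k
  · show (mat 1).mulVec x = x
    rw [mat_one, Matrix.one_mulVec]
  · exact τ_mulVec _ x
  · exact τ_mulVec _ x
  · exact τ_mulVec _ x
  · exact τ_mulVec _ x
  · exact τ_mulVec _ x
  · exact τ_mulVec _ x
  · exact τ_mulVec _ x
  · show (mat (τ ⟨19, by norm_num⟩ * τ ⟨17, by norm_num⟩ * τ ⟨13, by norm_num⟩ *
        τ ⟨10, by norm_num⟩ * τ ⟨0, by norm_num⟩)).mulVec x =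
      tvA (vec 19) (tvA (vec 17) (tvA (vec 13) (tvA (vec 10) (tvA (vec 0) x))))
    rw [mat_mul, mat_mul, mat_mul, mat_mul, ← Matrix.mulVec_mulVec, ← Matrix.mulVec_mulVec,
      ← Matrix.mulVec_mulVec, ← Matrix.mulVec_mulVec, τ_mulVec, τ_mulVec, τ_mulVec, τ_mulVec,
      τ_mulVec]

theorem fc_ne {l : ℕ} (h0 : l ≠ 0) (h4 : l < 4) : fc l ≠ 0 := by
  interval_cases l
  · exact absurd rfl h0
  · decide
  · decide
  · decide

theorem heq_gen (k : Fin 9) (i : Fin 693) :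
    τ (ρ (gH k) i) = mEl k.val * τ i * (mEl k.val)⁻¹ := by
  obtain ⟨h1, h2, h3, _⟩ := Cfsg.Agent.Helper71.U6.genA_vec k.val k.2 i.val i.2
  symm
  apply conj_τ (mEl k.val) i (ρ (gH k) i) (fc (lam k.val i.val)) (fc_ne h2 h3)
  rw [mEl_mulVec k.2, h1, ρ_gen]

theorem heq : ∀ γ ∈ Γ, ∃ m : ↥SU6, ∀ i, τ (ρ γ i) = m * τ i * m⁻¹ := by
  rintro γ ⟨k, rfl⟩
  exact ⟨mEl k.val, heq_gen k⟩

/-- the base index -/
def i0 : Fin 693 := ⟨0, by norm_num⟩

theorem reach : ∀ r j, ∀ hj : j < 693, treeR.getD j 0 ≤ r → ∃ h : ↥H87, ρ h i0 = ⟨j, hj⟩ := by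
  intro r
  induction r with
  | zero =>
    intro j hj hr
    by_cases hj0 : j = 0
    · subst hj0
      exact ⟨1, by rw [map_one]; rfl⟩
    · obtain ⟨_, _, _, h4⟩ := Cfsg.Agent.Helper87.U6.tree_ok j hj hj0
      omega
  | succ r ih =>
    intro j hj hr
    by_cases hj0 : j = 0
    · subst hj0
      exact ⟨1, by rw [map_one]; rfl⟩
    · obtain ⟨h1, h2, h3, h4⟩ := Cfsg.Agent.Helper87.U6.tree_ok j hj hj0
      obtain ⟨h, hh⟩ := ih (treeP.getD j 0) h2 (by omega)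
      refine ⟨gH ⟨treeG.getD j 0, h1⟩ * h, ?_⟩
      rw [map_mul, Equiv.Perm.mul_apply, hh]
      apply Fin.ext
      rw [ρ_gen]
      exact h3

theorem htrans : ∀ i j : Fin 693, ∃ h : ↥H87, ρ h i = j := by
  intro i j
  obtain ⟨hi, hhi⟩ := reach _ i.val i.2 le_rfl
  obtain ⟨hj, hhj⟩ := reach _ j.val j.2 le_rfl
  refine ⟨hj * hi⁻¹, ?_⟩
  rw [map_mul, map_inv, Equiv.Perm.mul_apply]
  have : (ρ hi)⁻¹ i = i0 := by
    rw [Equiv.Perm.inv_eq_iff_eq]
    exact hhi.symm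
  rw [this, hhj]

theorem h0 : ∀ i, τ (ρ (gH 1) i) = τ i0 * τ i * (τ i0)⁻¹ := fun i => heq_gen 1 i

theorem hclosed (s : ↥SU6) (i : Fin 693) : ∃ j, s * τ i * s⁻¹ = τ j := by
  have hiso : hf ((mat s).mulVec (vec i.val)) ((mat s).mulVec (vec i.val)) = 0 := by
    rw [Cfsg.Agent.Helper60.U6.su6_preserves]
    exact Cfsg.Agent.Helper87.U6.vec_isotropic i.val i.2
  have hw0 : (mat s).mulVec (vec i.val) ≠ 0 := by
    intro h0
    have h1 : (mat s⁻¹).mulVec ((mat s).mulVec (vec i.val)) = vec i.val := by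
      rw [Matrix.mulVec_mulVec, ← mat_mul, inv_mul_cancel, mat_one, Matrix.one_mulVec]
    rw [h0, Matrix.mulVec_zero] at h1
    obtain ⟨k, hk⟩ := vec_ne_zero i.val i.2
    exact hk (by rw [← h1]; rfl)
  obtain ⟨j, hj, c, hc, hwc⟩ := Cfsg.Agent.Helper71.U6.exists_smul_vec _ hw0 hiso
  exact ⟨⟨j, hj⟩, conj_τ s i ⟨j, hj⟩ c hc hwc⟩

theorem hnc : ∃ j, τ i0 * τ j ≠ τ j * τ i0 := by
  refine ⟨⟨2, by norm_num⟩, fun h => ?_⟩
  have h1 := h0 ⟨2, by norm_num⟩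
  rw [h, mul_inv_cancel_right] at h1
  have h3 := congrArg Fin.val (τ_inj h1)
  rw [ρ_gen] at h3
  exact absurd h3 (by decide)

/-- the central involution -/
noncomputable def aEl : ↥H87 := gH 0

theorem aEl_val : aEl.val = PresentedGroup.of Gen.a := by
  simp [aEl, gH, gE, Cfsg.Agent.Helper92.U6I.gen9]

theorem ha : aEl ∈ Subgroup.center ↥H87 := by
  rw [Subgroup.mem_center_iff]
  intro g
  apply Subtype.ext
  show g.val * aEl.val = aEl.val * g.val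
  rw [aEl_val]
  exact H87_comm g.val g.2

theorem ha1 : aEl ≠ 1 := by
  intro h
  have h1 := congrArg Subtype.val h
  rw [aEl_val] at h1
  exact Cfsg.Agent.Helper92.U6R.a_ne_one h1

theorem hρa : ρ aEl = 1 := by
  ext i
  have h1 := heq_gen 0 i
  have h2 : mEl (0 : Fin 9).val = 1 := rfl
  rw [h2, one_mul, inv_one, mul_one] at h1
  have h3 : ρ aEl i = i := τ_inj h1
  rw [h3]
  rfl

end Cfsg.Agent.Helper92.U6A
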