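import Cfsg.Agent.Lib.Helper27.Fi22.Simple
import Cfsg.Agent.S0283
import Cfsg.Agent.S0280
import Cfsg.Agent.Lib.Helper92.U6Defs

/-!
# S1684: the orders of `H87` and of `PSU(6, F4)`
-/

set_option autoImplicit false

namespace Cfsg.Agent.Helper92.U6C

open Cfsg.Agent.Helper92.U6
open Cfsg.Agent.Helper27.Fi22

theorem card_F : Fintype.card F = 2 ^ 2 := Cfsg.Agent.Helper72.F4.card_F4

theorem psu_simple : IsSimpleGroup (Cfsg.PSU 6 F 2) :=
  Cfsg.Agent.S0283.result card_F 6 (by norm_num) (by norm_num)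

theorem psu_card : Nat.card (Cfsg.PSU 6 F 2) = 9196830720 := by
  have h := Cfsg.Agent.S0280.result card_F 6 (by norm_num)
  have h6 : Nat.gcd 6 (2 + 1) = 3 := by norm_num
  rw [h6] at h
  have hp : (2 ^ (6 * (6 - 1) / 2) * ∏ i ∈ Finset.range 6,
      (if Even i then 2 ^ (i + 1) + 1 else 2 ^ (i + 1) - 1) : ℕ) = 3 * ((2 + 1) * 9196830720) := by
    decide
  rw [hp] at h
  omega

theorem psu_not_prime : ¬ (Nat.card (Cfsg.PSU 6 F 2)).Prime := by
  rw [psu_card]
  intro hp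
  have h2 : (2 : ℕ) ∣ 9196830720 := ⟨4598415360, by norm_num⟩
  have := (Nat.Prime.eq_one_or_self_of_dvd hp 2 h2)
  omega

theorem card_H87 : Nat.card ↥H87 = 2 * Nat.card (Cfsg.PSU 6 F 2) := by
  have h1 : H87.index = 3510 := Cfsg.Agent.S1687.result.1
  have h2 := Subgroup.card_mul_index H87
  rw [card_eq, h1] at h2
  rw [psu_card]
  generalize Nat.card ↥H87 = n at h2 ⊢
  omega

end Cfsg.Agent.Helper92.U6C
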