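import Cfsg.Agent.Lib.Helper92.U6Asm2
import Cfsg.Agent.Lib.Helper92.U6Card
import Cfsg.Agent.Lib.Helper4.U6CORE
import Cfsg.Agent.Lib.Helper76.U6NS
import Cfsg.Agent.Lib.Helper90.U6PERF

/-!
# S1684, assembly part 3: `H87` is a non-split double cover of `PSU(6, F4)`
-/

set_option autoImplicit false
set_option maxRecDepth 100000

namespace Cfsg.Agent.Helper92.U6A

open Cfsg.Spor.Fi22 (Gen)
open Cfsg.Agent.Helper27.Fi22 (H87 S87 rels lab_eq finite_Fi22)
open Cfsg.Agent.Helper92.U6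
open Cfsg.Agent.Helper92.U6R (tEl og t_sq w7_pow tf_pow a_eq)
open Cfsg.Agent.Helper92.Fi22Perf (of_mul_self of_pow_label)

theorem H87_eq : H87 = Subgroup.closure {og .a, og .c, og .d, og .e, og .f, og .g, og .h, og .i, tEl} := by
  show (Subgroup.closure S87).map (PresentedGroup.mk rels) = _
  rw [MonoidHom.map_closure]
  congr 1
  simp only [Set.image_insert_eq, Set.image_singleton]
  rfl

theorem cube (x y : Gen) (h : Cfsg.Agent.Helper27.Fi22.lab x y = 3) : (og x * og y) ^ 3 = 1 := by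
  have h1 := of_pow_label x y
  rw [lab_eq, h] at h1
  exact h1

theorem og_mem {k : ℕ} (hk : k < 8) : og (Cfsg.Agent.Helper92.U6I.gen9 k) ∈ H87 := by
  have h := gE_mem (k := k) (by omega)
  unfold gE at h
  rw [if_neg (by omega)] at h
  exact h

theorem tEl_mem : tEl ∈ H87 := by
  have h := gE_mem (k := 8) (by norm_num)
  unfold gE at h
  rw [if_pos rfl] at h
  exact h

theorem perfect : commutator ↥H87 = ⊤ := by
  have hd : og .d ∈ H87 := og_mem (k := 2) (by norm_num)
  have he : og .e ∈ H87 := og_mem (k := 3) (by norm_num)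
  have hf : og .f ∈ H87 := og_mem (k := 4) (by norm_num)
  have hh : og .h ∈ H87 := og_mem (k := 6) (by norm_num)
  have ht := tEl_mem
  exact Cfsg.Agent.Helper90.U6.perfect_of_relations (og .a) (og .c) (og .d) (og .e) (og .f)
    (og .g) (og .h) (og .i) tEl (og .d * og .h * og .e * og .d)
    (og .f * tEl * og .e * og .d * og .h * og .f * og .e * og .d) H87 H87_eq
    (of_mul_self .c) (of_mul_self .d) (of_mul_self .e) (of_mul_self .f) (of_mul_self .g)
    (of_mul_self .h) (of_mul_self .i) t_sq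
    (cube .c .d rfl) (cube .d .e rfl) (cube .e .f rfl) (cube .f .g rfl) (cube .d .h rfl)
    (cube .h .i rfl) w7_pow tf_pow
    (H87.mul_mem (H87.mul_mem (H87.mul_mem hd hh) he) hd)
    (H87.mul_mem (H87.mul_mem (H87.mul_mem (H87.mul_mem (H87.mul_mem (H87.mul_mem
      (H87.mul_mem hf ht) he) hd) hh) hf) he) hd)
    a_eq

theorem main : Cfsg.IsNonsplitDoubleCover ↥H87 (Cfsg.PSU 6 F 2) := by
  haveI := finite_Fi22
  haveI : Finite ↥H87 := inferInstance
  haveI : Finite ↥SU6 := inferInstance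
  have hc := Cfsg.Agent.Helper4.U6.core (H := ↥H87) (S := ↥SU6)
    Cfsg.Agent.Helper92.U6C.psu_simple Cfsg.Agent.Helper92.U6C.psu_not_prime
    Cfsg.Agent.Helper92.U6C.card_H87 aEl ha ha1 τ τ_inj ρ hρa Γ closure_Γ heq htrans i0 (gH 1) h0
    hclosed hnc
  exact ⟨hc.1, hc.2, Cfsg.Agent.Helper76.U6.nonsplit_of_perfect hc.1 perfect⟩

end Cfsg.Agent.Helper92.U6A
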