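import Cfsg.Agent.Lib.Helper27.Fi22.Simple
import Cfsg.Agent.Lib.Helper92.U6Data

/-!
# S1684: the 693 points of helper27's model of Fi22 are permuted by `H87` as the tables say;
the relations of `H87` needed for perfectness
-/

set_option autoImplicit false
set_option maxRecDepth 1000000

namespace Cfsg.Agent.Helper92.U6I

open Cfsg.Spor.Fi22 (Gen)
open Cfsg.Agent.Helper27.Fi22
open Cfsg.Agent.Helper92.U6

/-- structural list lookup -/
def nth : List ℕ → ℕ → ℕ
  | [], _ => 0
  | x :: _, 0 => x
  | _ :: l, n + 1 => nth l n

theorem getD_eq_nth (l : List ℕ) (i : ℕ) : l.getD i 0 = nth l i := by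
  induction l generalizing i with
  | nil => simp [nth]
  | cons x l ih =>
    cases i with
    | zero => simp [nth]
    | succ i =>
      have := ih i
      simpa [nth, List.getD] using this

/-- the Fi22 generator number `k < 8` -/
def gen9 : ℕ → Gen
  | 0 => .a | 1 => .c | 2 => .d | 3 => .e | 4 => .f | 5 => .g | 6 => .h | _ => .i

/-- the index tables -/
def actT : ℕ → List ℕ
  | 0 => act0 | 1 => act1 | 2 => act2 | 3 => act3 | 4 => act4 | 5 => act5 | 6 => act6
  | 7 => act7 | 8 => act8 | _ => []

/-- the action of `t = (abcdeh)^5` on points -/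
def tF (p : ℕ) : ℕ := iter (actW w6) (nat_lit 5) p

theorem chk_gen : allBelow (fun k => allBelow (fun i =>
    andB (Nat.beq (F (gen9 k) (nth omL i)) (nth omL (nth (actT k) i)))
      (Nat.blt (nth (actT k) i) (nat_lit 693))) (nat_lit 693)) (nat_lit 8) = true := by
  decide +kernel

theorem chk_t : allBelow (fun i =>
    andB (Nat.beq (tF (nth omL i)) (nth omL (nth act8 i)))
      (Nat.blt (nth act8 i) (nat_lit 693))) (nat_lit 693) = true := by
  decide +kernel

theorem chk_mono : allBelow (fun i => Nat.blt (nth omL i) (nth omL (Nat.succ i))) (nat_lit 692) = true := by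
  decide +kernel

theorem chk_last : Nat.blt (nth omL (nat_lit 692)) (nat_lit 3510) = true := by
  decide +kernel

end Cfsg.Agent.Helper92.U6I
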