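import Cfsg.Agent.Lib.Helper27.Fi22.Simple
import Cfsg.Agent.Lib.Helper92.Fi22Perf

/-!
# S1684: word identities in the presented Fi22 through helper27's faithful model on 3510 points
-/

set_option autoImplicit false
set_option maxRecDepth 1000000

namespace Cfsg.Agent.Helper92.U6R

open Cfsg.Spor.Fi22 (Gen)
open Cfsg.Agent.Helper27.Fi22

/-- the element `t = (abcdeh)^5` of the presented group -/
def tEl : Cfsg.Spor.Fi22 :=
  PresentedGroup.mk rels ((Cfsg.Spor.Fi22.a * Cfsg.Spor.Fi22.b * Cfsg.Spor.Fi22.c *
    Cfsg.Spor.Fi22.d * Cfsg.Spor.Fi22.e * Cfsg.Spor.Fi22.h) ^ 5)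

/-- the action of `t` on points -/
def tF (p : ℕ) : ℕ := iter (actW w6) (nat_lit 5) p

/-- letters: a generator or `t` -/
def sO : Option Gen → Equiv.Perm (Fin 3510)
  | some x => σ x
  | none => σW w6 ^ 5

/-- the action of a letter on points -/
def fO : Option Gen → ℕ → ℕ
  | some x => F x
  | none => tF

theorem sO_val (o : Option Gen) (p : Fin 3510) : (sO o p).val = fO o p.val := by
  cases o with
  | none => exact t_val p
  | some x => rfl

/-- the action of a word on points -/
def actO : List (Option Gen) → ℕ → ℕ
  | [], p => p
  | o :: w, p => fO o (actO w p)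

/-- the permutation of a word -/
def sW (w : List (Option Gen)) : Equiv.Perm (Fin 3510) := (w.map sO).prod

theorem sW_val (w : List (Option Gen)) (p : Fin 3510) : (sW w p).val = actO w p.val := by
  induction w generalizing p with
  | nil => rfl
  | cons x w ih =>
    show ((sO x * sW w) p).val = _
    rw [Equiv.Perm.mul_apply, sO_val, ih]
    rfl

/-- the group element of a letter -/
def eO : Option Gen → Cfsg.Spor.Fi22
  | some x => PresentedGroup.of x
  | none => tEl

/-- the group element of a word -/
def eW (w : List (Option Gen)) : Cfsg.Spor.Fi22 := (w.map eO).prod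

theorem phi_eO (o : Option Gen) : phi (eO o) = sO o := by
  cases o with
  | none => exact phi_t
  | some x => exact phi_of x

theorem phi_eW (w : List (Option Gen)) : phi (eW w) = sW w := by
  induction w with
  | nil => simp [eW, sW]
  | cons x w ih =>
    show phi (eO x * eW w) = sO x * sW w
    rw [map_mul, ih, phi_eO]

theorem eW_eq_of_chk (w1 w2 : List (Option Gen))
    (h : allBelow (fun p => Nat.beq (actO w1 p) (actO w2 p)) NP = true) : eW w1 = eW w2 := by
  apply phi_injective
  rw [phi_eW, phi_eW]
  ext p
  rw [sW_val, sW_val]
  exact Nat.eq_of_beq_eq_true (allBelow_sound h p.val p.2)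

theorem eW_pow_eq_one (w : List (Option Gen)) (n : ℕ)
    (h : allBelow (fun p => Nat.beq (iter (actO w) n p) p) NP = true) : eW w ^ n = 1 := by
  apply phi_injective
  rw [map_pow, map_one, phi_eW]
  exact pow_eq_one_of_iter _ (actO w) (sW_val w) n fun p hp =>
    Nat.eq_of_beq_eq_true (allBelow_sound h p hp)

theorem chk_tt : allBelow (fun p => Nat.beq (iter (actO [none]) (nat_lit 2) p) p) NP = true := by
  decide +kernel

theorem chk_w7 : allBelow (fun p => Nat.beq (iter (actO [some .c, some .d, some .e, some .f,
    some .g, some .h, some .i]) (nat_lit 9) p) p) NP = true := by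
  decide +kernel

theorem chk_tf : allBelow (fun p => Nat.beq (iter (actO [none, some .f]) (nat_lit 3) p) p) NP = true := by
  decide +kernel

theorem chk_ax : allBelow (fun p => Nat.beq (actO [some .a] p)
    (actO [none, some .c, some .e, some .h,
      some .d, some .h, some .e, some .d, some .c, some .d, some .e, some .h, some .d,
      some .f, none, some .e, some .d, some .h, some .f, some .e, some .d, some .c,
      some .d, some .e, some .f, some .h, some .d, some .e, none, some .f] p)) NP = true := by
  decide +kernel

theorem chk_a1 : Nat.beq (F .a (nat_lit 1)) (nat_lit 1) = false := by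
  decide +kernel

end Cfsg.Agent.Helper92.U6R
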